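import Mathlib

set_option autoImplicit false
universe u
open CategoryTheory AlgebraicGeometry Limits

namespace Groth.Agent.Lib.Helper59.SetRigid

/-- lft over locally noetherian is lfp -/
theorem lfp_of_lft {X S : Scheme.{u}} (g : X ⟶ S) [LocallyOfFiniteType g]
    [IsLocallyNoetherian S] : LocallyOfFinitePresentation g := by
  rw [HasRingHomProperty.iff_appLE (P := @LocallyOfFinitePresentation)]
  intro U V e
  have hft : (g.appLE U V e).hom.FiniteType :=
    (HasRingHomProperty.iff_appLE (P := @LocallyOfFiniteType)).1 ‹_› U V e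
  have : IsNoetherianRing Γ(S, U.1) := IsLocallyNoetherian.component_noetherian U
  algebraize [(g.appLE U V e).hom]
  exact Algebra.FinitePresentation.of_finiteType.1 hft

/-- A morphism from an integral scheme universally closed over a field to an affine scheme
is constant. -/
theorem const_of_isAffine (K : Type u) [Field K] {X' V : Scheme.{u}} (g : X' ⟶ Spec (.of K))
    [IsIntegral X'] [UniversallyClosed g] [IsAffine V] (h : X' ⟶ V) (x x' : X') :
    h x = h x' := by
  letI := (isField_of_universallyClosed K g).toField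
  have h1 : X'.toSpecΓ x = X'.toSpecΓ x' := Subsingleton.elim (α := PrimeSpectrum Γ(X', ⊤)) _ _
  have h2 : (h ≫ V.toSpecΓ) x = (h ≫ V.toSpecΓ) x' := by
    rw [Scheme.toSpecΓ_naturality]
    simp only [Scheme.Hom.comp_apply, h1]
  have hinj : Function.Injective V.toSpecΓ := by
    have : IsIso V.toSpecΓ := inferInstance
    exact (V.toSpecΓ.homeomorph).injective
  exact hinj (by simpa using h2)

theorem isIso_appTop_of_isAlgClosed (K : Type u) [Field K] [IsAlgClosed K] {X' : Scheme.{u}}
    (g : X' ⟶ Spec (.of K)) [IsIntegral X'] [UniversallyClosed g] : IsIso g.appTop := by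
  let F := (Scheme.ΓSpecIso (.of K)).inv ≫ g.appTop
  have hF : F.hom.IsIntegral := by
    apply RingHom.isIntegral_respectsIso.2 (e := (Scheme.ΓSpecIso _).symm.commRingCatIsoToRingEquiv)
    exact isIntegral_appTop_of_universallyClosed g
  letI := (isField_of_universallyClosed K g).toField
  algebraize [F.hom]
  have hint : Algebra.IsIntegral K Γ(X', ⊤) := ⟨hF⟩
  have hb : Function.Bijective (algebraMap K Γ(X', ⊤)) :=
    IsAlgClosed.algebraMap_bijective_of_isIntegral
  have hiso : IsIso F := (ConcreteCategory.isIso_iff_bijective F).2 hb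
  exact IsIso.of_isIso_comp_left (Scheme.ΓSpecIso (.of K)).inv g.appTop

/-- A morphism from an integral scheme universally closed over an algebraically closed field to
an affine scheme factors through the structure morphism. -/
theorem exists_factor (K : Type u) [Field K] [IsAlgClosed K] {X' V : Scheme.{u}}
    (g : X' ⟶ Spec (.of K)) [IsIntegral X'] [UniversallyClosed g] [IsAffine V] (h : X' ⟶ V) :
    ∃ h' : Spec (.of K) ⟶ V, h = g ≫ h' := by
  have := isIso_appTop_of_isAlgClosed K g
  refine ⟨(Spec (.of K)).toSpecΓ ≫ Spec.map (inv g.appTop) ≫ Spec.map h.appTop ≫ inv V.toSpecΓ, ?_⟩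
  rw [← cancel_mono V.toSpecΓ]
  simp only [Category.assoc, IsIso.inv_hom_id, Category.comp_id]
  rw [Scheme.toSpecΓ_naturality, Scheme.toSpecΓ_naturality_assoc g, ← Spec.map_comp_assoc,
    IsIso.inv_hom_id, Spec.map_id, Category.id_comp]


section main

variable {X Y S : Scheme.{u}} (ξ : X ⟶ S) (v : Y ⟶ S) (f : X ⟶ Y)

/-- the set of base points over whose fibre `f` is constant -/
def U : Set S := {s : ↥S | ∃ y : ↥Y, ∀ x : ↥X, ξ.base x = s → f.base x = y}

theorem isOpen_U [IsProper ξ] [GeometricallyIntegral ξ] : IsOpen (U ξ f) := by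
  rw [isOpen_iff_forall_mem_open]
  rintro s ⟨y, hy⟩
  obtain ⟨_, ⟨(V : Y.Opens), hV : IsAffineOpen V, rfl⟩, hyV, -⟩ :=
    Y.isBasis_affineOpens.exists_subset_of_mem_open (Set.mem_univ y) isOpen_univ
  have hcl : IsClosed (ξ '' ((f ⁻¹ᵁ V : X.Opens) : Set X)ᶜ) :=
    ξ.isClosedMap _ (f ⁻¹ᵁ V).isOpen.isClosed_compl
  refine ⟨(ξ '' ((f ⁻¹ᵁ V : X.Opens) : Set X)ᶜ)ᶜ, ?_, hcl.isOpen_compl, ?_⟩
  · intro s' hs'
    have hsub : Set.range (ξ.fiberι s' ≫ f) ⊆ Set.range V.ι := by
      rintro _ ⟨x, rfl⟩
      rw [Scheme.Opens.range_ι]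
      by_contra hc
      apply hs'
      refine ⟨ξ.fiberι s' x, ?_, ?_⟩
      · simpa using hc
      · have := (ξ.range_fiberι s').le ⟨x, rfl⟩
        simpa using this
    let h : ξ.fiber s' ⟶ V := IsOpenImmersion.lift V.ι (ξ.fiberι s' ≫ f) hsub
    have hh : h ≫ V.ι = ξ.fiberι s' ≫ f := IsOpenImmersion.lift_fac _ _ _
    have : IsAffine V := hV
    obtain ⟨x₀⟩ : Nonempty (ξ.fiber s') := inferInstance
    refine ⟨V.ι (h x₀), fun x hx => ?_⟩
    have hx' : x ∈ Set.range (ξ.fiberι s') := by
      rw [ξ.range_fiberι s']; exact hx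
    obtain ⟨x', rfl⟩ := hx'
    have : UniversallyClosed (ξ.fiberToSpecResidueField s') := by
      have : UniversallyClosed ξ := inferInstance
      exact MorphismProperty.pullback_snd (P := @UniversallyClosed) _ _ this
    have e1 := const_of_isAffine (S.residueField s') (ξ.fiberToSpecResidueField s') h x' x₀
    rw [← e1, ← Scheme.Hom.comp_apply, ← hh]
    rfl
  · rintro ⟨x, hx, rfl⟩
    apply hx
    change f x ∈ V
    rw [show f x = y from hy x rfl]
    exact hyV

/-- main step: over a point `s` with constant fibre image, every point of `X ×_S X` above `s`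
maps into the diagonal of `Y/S`. -/
theorem mem_range_diagonal [IsProper ξ] [GeometricallyIntegral ξ] (hf : f ≫ v = ξ)
    (s : S) (y : Y) (hy : ∀ x : X, ξ x = s → f x = y) (z : ↑(pullback ξ ξ))
    (hz : (pullback.fst ξ ξ ≫ ξ) z = s) :
    (pullback.map ξ ξ v v f f (𝟙 S) (by simp [hf]) (by simp [hf])) z ∈
      Set.range (pullback.diagonal v) := by
  let P := pullback ξ ξ
  let d : P ⟶ pullback v v := pullback.map ξ ξ v v f f (𝟙 S) (by simp [hf]) (by simp [hf])
  change d z ∈ _
  let K := AlgebraicClosure (P.residueField z)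
  let ζ : Spec (.of K) ⟶ P :=
    Spec.map (CommRingCat.ofHom (algebraMap (P.residueField z) K)) ≫ P.fromSpecResidueField z
  have hζ : ∀ p, ζ p = z := fun p => by
    simp only [ζ, Scheme.Hom.comp_apply]
    exact Scheme.fromSpecResidueField_apply _ _
  let t : Spec (.of K) ⟶ S := ζ ≫ pullback.fst ξ ξ ≫ ξ
  let a : Spec (.of K) ⟶ X := ζ ≫ pullback.fst ξ ξ
  let b : Spec (.of K) ⟶ X := ζ ≫ pullback.snd ξ ξ
  have ha : a ≫ ξ = t := by simp [a, t]
  have hb : b ≫ ξ = t := by simp [b, t, pullback.condition]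
  have hint : IsIntegral (pullback ξ t) :=
    GeometricallyIntegral.geometrically_isIntegral t _ _ (.of_hasPullback ξ t)
  let g : pullback ξ t ⟶ Spec (.of K) := pullback.snd ξ t
  have hg : UniversallyClosed g := by
    have : UniversallyClosed ξ := inferInstance
    exact MorphismProperty.pullback_snd (P := @UniversallyClosed) _ _ this
  obtain ⟨_, ⟨(V : Y.Opens), hV : IsAffineOpen V, rfl⟩, hyV, -⟩ :=
    Y.isBasis_affineOpens.exists_subset_of_mem_open (Set.mem_univ y) isOpen_univ
  have hsub : Set.range (pullback.fst ξ t ≫ f) ⊆ Set.range V.ι := by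
    rintro _ ⟨x', rfl⟩
    rw [Scheme.Opens.range_ι]
    have h1 : ξ (pullback.fst ξ t x') = s := by
      rw [← Scheme.Hom.comp_apply, pullback.condition, Scheme.Hom.comp_apply]
      simp only [t, Scheme.Hom.comp_apply, hζ]
      exact hz
    rw [Scheme.Hom.comp_apply, hy _ h1]
    exact hyV
  let h : pullback ξ t ⟶ V := IsOpenImmersion.lift V.ι (pullback.fst ξ t ≫ f) hsub
  have hh : h ≫ V.ι = pullback.fst ξ t ≫ f := IsOpenImmersion.lift_fac _ _ _
  have : IsAffine V := hV
  obtain ⟨h', hh'⟩ := exists_factor K g h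
  have haf : a ≫ f = h' ≫ V.ι := by
    calc a ≫ f = (pullback.lift a (𝟙 _) (by simpa using ha) ≫ pullback.fst ξ t) ≫ f := by
          rw [pullback.lift_fst]
      _ = pullback.lift a (𝟙 _) (by simpa using ha) ≫ h ≫ V.ι := by rw [Category.assoc, hh]
      _ = h' ≫ V.ι := by
          rw [hh']; simp only [g, Category.assoc, pullback.lift_snd_assoc, Category.id_comp]
  have hbf : b ≫ f = h' ≫ V.ι := by
    calc b ≫ f = (pullback.lift b (𝟙 _) (by simpa using hb) ≫ pullback.fst ξ t) ≫ f := by
          rw [pullback.lift_fst]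
      _ = pullback.lift b (𝟙 _) (by simpa using hb) ≫ h ≫ V.ι := by rw [Category.assoc, hh]
      _ = h' ≫ V.ι := by
          rw [hh']; simp only [g, Category.assoc, pullback.lift_snd_assoc, Category.id_comp]
  have hζd : ζ ≫ d = (a ≫ f) ≫ pullback.diagonal v := by
    apply pullback.hom_ext
    · have : d ≫ pullback.fst v v = pullback.fst ξ ξ ≫ f := pullback.lift_fst _ _ _
      simp only [Category.assoc, this, a, pullback.diagonal_fst, Category.comp_id]
    · have : d ≫ pullback.snd v v = pullback.snd ξ ξ ≫ f := pullback.lift_snd _ _ _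
      rw [haf, ← hbf]
      simp only [Category.assoc, this, b, pullback.diagonal_snd, Category.comp_id]
  have hp : (ζ ≫ d) (IsLocalRing.closedPoint K) = d z := by
    rw [Scheme.Hom.comp_apply, hζ]
  rw [← hp, hζd, Scheme.Hom.comp_apply]
  exact ⟨_, rfl⟩

theorem isClosed_U [IsLocallyNoetherian S] [IsProper ξ] [Flat ξ] [GeometricallyIntegral ξ]
    [IsSeparated v] (hf : f ≫ v = ξ) : IsClosed (U ξ f) := by
  have : LocallyOfFinitePresentation ξ := lfp_of_lft ξ
  let P := pullback ξ ξ
  let π : P ⟶ S := pullback.fst ξ ξ ≫ ξ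
  let d : P ⟶ pullback v v := pullback.map ξ ξ v v f f (𝟙 S) (by simp [hf]) (by simp [hf])
  let D : Set P := d ⁻¹' (Set.range (pullback.diagonal v))
  have hD : IsClosed D :=
    (pullback.diagonal v).isClosedEmbedding.isClosed_range.preimage d.continuous
  have hπ : IsOpenMap π := π.isOpenMap
  have hU : U ξ f = (π '' Dᶜ)ᶜ := by
    ext s
    constructor
    · rintro ⟨y, hy⟩ ⟨z, hz, rfl⟩
      exact hz (mem_range_diagonal ξ v f hf _ y hy z rfl)
    · intro hs
      obtain ⟨x₀, hx₀⟩ := ξ.surjective s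
      refine ⟨f x₀, fun x hx => ?_⟩
      obtain ⟨z, hz1, hz2⟩ := Scheme.Pullback.exists_preimage_pullback (f := ξ) (g := ξ) x x₀
        (hx.trans hx₀.symm)
      have hzD : z ∈ D := by
        by_contra hc
        exact hs ⟨z, hc, by simp only [π, Scheme.Hom.comp_apply, hz1]; exact hx⟩
      obtain ⟨y', hy'⟩ := hzD
      have e1 : f x = pullback.fst v v (d z) := by
        have : d ≫ pullback.fst v v = pullback.fst ξ ξ ≫ f := pullback.lift_fst _ _ _
        rw [← Scheme.Hom.comp_apply, ← hz1, ← Scheme.Hom.comp_apply, this]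
      have e2 : f x₀ = pullback.snd v v (d z) := by
        have : d ≫ pullback.snd v v = pullback.snd ξ ξ ≫ f := pullback.lift_snd _ _ _
        rw [← Scheme.Hom.comp_apply, ← hz2, ← Scheme.Hom.comp_apply, this]
      rw [e1, e2, ← hy', ← Scheme.Hom.comp_apply, ← Scheme.Hom.comp_apply]
      simp
  rw [hU]
  exact (hπ _ hD.isOpen_compl).isClosed_compl

end main

end Groth.Agent.Lib.Helper59.SetRigid
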