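import Mathlib
import Groth.Agent.Lib.Helper19.Cartier.AbVarPow
import Groth.Agent.Lib.Helper19.Sm.RelFiberGlobal

/-! The `n`-th power map of a flat, locally finitely presented group scheme with commutative
fibres is étale when `n` is invertible on the base (helper59); fibrewise reduction via
helper19's relative fibre criterion and helper19's Cartier/PowerMap. -/

set_option autoImplicit false
universe u
open CategoryTheory CategoryTheory.Limits AlgebraicGeometry MonoidalCategory
  CartesianMonoidalCategory MonObj

namespace Groth.Agent.Lib.Helper59.PowEtale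

open scoped Obj

variable {S : Scheme.{u}}

/-- the fibre group over a point -/
noncomputable abbrev fib (G : Over S) (s : S) : Over (Spec (S.residueField s)) :=
  (Over.pullback (S.fromSpecResidueField s)).obj G

lemma map_pow' (G : Over S) [GrpObj G] {T : Scheme.{u}} (i : T ⟶ S) (n : ℕ) :
    (Over.pullback i).map ((𝟙 G : G ⟶ G) ^ n) =
      (𝟙 ((Over.pullback i).obj G) : (Over.pullback i).obj G ⟶ (Over.pullback i).obj G) ^ n := by
  have := map_pow ((Over.pullback i).homMonoidHom (X := G) (M := G)) (𝟙 G) n
  simpa using this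

lemma isPullback_fib {G H : Over S} (u : G ⟶ H) {T : Scheme.{u}} (i : T ⟶ S) :
    IsPullback (pullback.fst G.hom i) ((Over.pullback i).map u).left u.left
      (pullback.fst H.hom i) := by
  refine IsPullback.of_bot ?_ ?_ (IsPullback.of_hasPullback H.hom i)
  · have e1 : ((Over.pullback i).map u).left ≫ pullback.snd H.hom i = pullback.snd G.hom i :=
      Over.w ((Over.pullback i).map u)
    rw [e1, Over.w u]
    exact IsPullback.of_hasPullback _ _
  · simp only [Over.pullback, Over.homMk_left]
    exact (pullback.lift_fst _ _ _).symm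

lemma etale_fiberMap_iff (G : Over S) (u : G ⟶ G) (s : S) :
    Etale (pullback.snd u.left (G.hom.fiberι s)) ↔
      Etale ((Over.pullback (S.fromSpecResidueField s)).map u).left := by
  have h := isPullback_fib u (S.fromSpecResidueField s)
  have e : h.isoPullback.hom ≫ pullback.snd u.left (G.hom.fiberι s) =
      ((Over.pullback (S.fromSpecResidueField s)).map u).left := h.isoPullback_hom_snd
  rw [← e]
  exact (MorphismProperty.cancel_left_of_respectsIso @Etale _ _).symm

theorem etale_pow_fib (G : Over S) [GrpObj G] [LocallyOfFiniteType G.hom] (s : S)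
    [IsCommMonObj (fib G s)] (n : ℕ) (hn : (n : S.residueField s) ≠ 0) :
    Etale ((𝟙 (fib G s) : fib G s ⟶ fib G s) ^ n).left := by
  haveI : LocallyOfFiniteType (fib G s).hom :=
    inferInstanceAs (LocallyOfFiniteType (pullback.snd G.hom (S.fromSpecResidueField s)))
  haveI : IsMonHom ((𝟙 (fib G s) : fib G s ⟶ fib G s) ^ n) :=
    Groth.Agent.Lib.Helper19.isMonHom_pow' _ n
  obtain ⟨U, hU, hE⟩ := Groth.Agent.Lib.Helper19.Cartier.exists_nhd_etale_pow
    (k := S.residueField s) (G := fib G s) n hn
  exact Groth.Agent.Lib.Helper19.etale_of_etale_nhd_unit (S.residueField s) (fib G s) (fib G s) _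
    (IsLocalRing.closedPoint (S.residueField s)) ⟨U, hU, hE⟩

/-- **Main**: the `n`-th power map is étale. -/
theorem etale_pow (G : Over S) [GrpObj G] [Flat G.hom] [LocallyOfFinitePresentation G.hom]
    (hcomm : ∀ s : S, IsCommMonObj (fib G s)) (n : ℕ)
    (hn : ∀ s : S, (n : S.residueField s) ≠ 0) :
    Etale ((𝟙 G : G ⟶ G) ^ n).left := by
  rw [Groth.Agent.Lib.Helper19.etale_iff_forall_etale_fiberMap_of_flat G.hom G.hom _ (Over.w _)]
  intro s
  rw [etale_fiberMap_iff, map_pow']
  haveI := hcomm s
  exact etale_pow_fib G s n (hn s)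

/-- a unit of `Γ(S, ⊤)` is nonzero in all residue fields -/
lemma natCast_ne_zero_of_isUnit (n : ℕ) (hn : IsUnit (n : Γ(S, ⊤))) (s : S) :
    (n : S.residueField s) ≠ 0 := by
  have h := hn.map (S.presheaf.germ ⊤ s trivial ≫ S.residue s).hom
  rw [map_natCast] at h
  exact h.ne_zero

end Groth.Agent.Lib.Helper59.PowEtale
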