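import Mathlib
import Groth.Agent.Lib.Helper59.AbSchPow

/-! Abelian schemes: étale unit-preserving endomorphisms are surjective; Kummer-type local
surjectivity of `[m]` (helper59). -/

set_option autoImplicit false
universe u
open CategoryTheory CategoryTheory.Limits AlgebraicGeometry MonoidalCategory
  CartesianMonoidalCategory MonObj

namespace Groth.Agent.Lib.Helper59.AbSchPow

variable {S : Scheme.{u}}

/-- an étale (hence open), proper (hence closed) unit-preserving endomorphism of a scheme with
connected fibres is surjective -/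
theorem surjective_of_etale_of_unit (A : Over S) [GrpObj A] [IsProper A.hom]
    [GeometricallyConnected A.hom] (u : A ⟶ A) (hu : η[A] ≫ u = η[A]) [Etale u.left] :
    Surjective u.left := by
  haveI : IsProper (u.left ≫ A.hom) := by rw [Over.w u]; infer_instance
  haveI : IsProper u.left := IsProper.of_comp u.left A.hom
  have hopen : IsOpen (Set.range u.left.base) := u.left.isOpenMap.isOpen_range
  have hclosed : IsClosed (Set.range u.left.base) := u.left.isClosedMap.isClosed_range
  refine ⟨fun x => ?_⟩
  set s : S := A.hom.base x with hs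
  have hconn := (A.hom.isConnected_preimage_singleton s).isPreconnected
  have hne : ((A.hom.base ⁻¹' {s}) ∩ Set.range u.left.base).Nonempty := by
    refine ⟨(η[A]).left.base s, ?_, ?_⟩
    · have h1 : (η[A]).left ≫ A.hom = 𝟙 _ := Over.w η[A]
      have h2 : ((η[A]).left ≫ A.hom).base s = s := by rw [h1]; rfl
      exact h2
    · refine ⟨(η[A]).left.base s, ?_⟩
      have h1 : (η[A]).left ≫ u.left = (η[A]).left := by
        rw [← Over.comp_left, hu]
      have h2 : ((η[A]).left ≫ u.left).base s = (η[A]).left.base s := by rw [h1]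
      exact h2
  exact hconn.subset_isClopen ⟨hclosed, hopen⟩ hne (by simp [hs])

lemma unit_comp_zpow (A : Over S) [GrpObj A] (m : ℤ) :
    η[A] ≫ (𝟙 A : A ⟶ A) ^ m = η[A] := by
  rw [GrpObj.comp_zpow, Category.comp_id, MonObj.one_eq_one, one_zpow]

/-- Kummer local surjectivity -/
theorem exists_etale_cover_zpow (A : Over S) [GrpObj A] [Smooth A.hom] [IsProper A.hom]
    [GeometricallyConnected A.hom] (m : ℤ) (hm : IsUnit (m : Γ(S, ⊤))) (T : Over S) (α : T ⟶ A) :
    ∃ (T' : Over S) (φ : T' ⟶ T) (β : T' ⟶ A),
      Etale φ.left ∧ Surjective φ.left ∧ β ≫ ((𝟙 A : A ⟶ A) ^ m) = φ ≫ α := by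
  obtain ⟨u, hudef⟩ : ∃ u : A ⟶ A, u = (𝟙 A : A ⟶ A) ^ m := ⟨_, rfl⟩
  rw [← hudef]
  haveI : Etale u.left := by rw [hudef]; exact etale_zpow_abSch A m hm
  haveI : Surjective u.left :=
    surjective_of_etale_of_unit A u (by rw [hudef]; exact unit_comp_zpow A m)
  refine ⟨Over.mk (pullback.fst α.left u.left ≫ T.hom), Over.homMk (pullback.fst α.left u.left) rfl,
    Over.homMk (pullback.snd α.left u.left) ?_, ?_, ?_, ?_⟩
  · dsimp
    rw [← Over.w u, ← Category.assoc, ← pullback.condition, Category.assoc, Over.w α]
  · change Etale (pullback.fst α.left u.left); infer_instance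
  · change Surjective (pullback.fst α.left u.left); infer_instance
  · ext
    dsimp
    exact pullback.condition.symm

end Groth.Agent.Lib.Helper59.AbSchPow
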