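import Mathlib
import Groth.Agent.Lib.Helper19.AbSch.RigidityLemma
import Groth.Agent.Lib.Helper19.Grp.SubgroupSet
import Groth.Agent.Lib.Helper59.MonoidUnits

/-!
# Descending group actions along proper morphisms with `f_* O_X = O_Y`
-/

set_option autoImplicit false
set_option linter.style.haveILetI false
universe u
open CategoryTheory CategoryTheory.Limits MonoidalCategory CartesianMonoidalCategory MonObj GrpObj
  AlgebraicGeometry TopologicalSpace Opposite

namespace Groth.Agent.Lib.Helper59.ActDescend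

section Basis

variable {X' T : Scheme.{u}} (ξ : X' ⟶ T)

lemma app_map_apply {U V : T.Opens} (h : V ≤ U) (s : Γ(T, U)) :
    (ξ.app V).hom ((T.presheaf.map (homOfLE h).op).hom s) =
      (X'.presheaf.map (homOfLE (ξ.preimage_mono h)).op).hom ((ξ.app U).hom s) := by
  have := ξ.naturality (homOfLE h).op
  exact congrArg (fun φ => φ.hom s) this

/-- injectivity of `ξ.app` on a basis implies injectivity on all opens -/
theorem injective_app_of_basis (B : Set T.Opens)
    (hB : ∀ (U : T.Opens) (t : T), t ∈ U → ∃ V ∈ B, t ∈ V ∧ V ≤ U)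
    (hinj : ∀ V ∈ B, Function.Injective (ξ.app V).hom) (U : T.Opens) :
    Function.Injective (ξ.app U).hom := by
  intro s s' h
  fapply TopCat.Sheaf.eq_of_locally_eq' T.sheaf
    (fun i : {V : T.Opens // V ∈ B ∧ V ≤ U} => i.1) U (fun i => homOfLE i.2.2)
  · intro t ht
    obtain ⟨V, hV, htV, hVU⟩ := hB U t ht
    exact Opens.mem_iSup.mpr ⟨⟨V, hV, hVU⟩, htV⟩
  · intro i
    apply hinj i.1 i.2.1
    have e1 := app_map_apply ξ i.2.2 s
    have e2 := app_map_apply ξ i.2.2 s'
    exact e1.trans ((congrArg _ h).trans e2.symm)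

/-- bijectivity of `ξ.app` on a basis implies bijectivity on all opens -/
theorem bijective_app_of_basis (B : Set T.Opens)
    (hB : ∀ (U : T.Opens) (t : T), t ∈ U → ∃ V ∈ B, t ∈ V ∧ V ≤ U)
    (hbij : ∀ V ∈ B, Function.Bijective (ξ.app V).hom) (U : T.Opens) :
    Function.Bijective (ξ.app U).hom := by
  have hinj := injective_app_of_basis ξ B hB (fun V hV => (hbij V hV).1)
  refine ⟨hinj U, fun t' => ?_⟩
  let J := {V : T.Opens // V ∈ B ∧ V ≤ U}
  have hcover : U ≤ iSup (fun i : J => i.1) := by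
    intro t ht
    obtain ⟨V, hV, htV, hVU⟩ := hB U t ht
    exact Opens.mem_iSup.mpr ⟨⟨V, hV, hVU⟩, htV⟩
  choose sf hsf using fun i : J =>
    (hbij i.1 i.2.1).2 ((X'.presheaf.map (homOfLE (ξ.preimage_mono i.2.2)).op).hom t')
  have hcompat : TopCat.Presheaf.IsCompatible T.presheaf (fun i : J => i.1) sf := by
    intro i j
    apply hinj (i.1 ⊓ j.1)
    have e1 := app_map_apply ξ (inf_le_left : i.1 ⊓ j.1 ≤ i.1) (sf i)
    have e2 := app_map_apply ξ (inf_le_right : i.1 ⊓ j.1 ≤ j.1) (sf j)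
    rw [hsf] at e1 e2
    refine e1.trans (Eq.trans ?_ e2.symm)
    rw [← CommRingCat.comp_apply, ← CommRingCat.comp_apply, ← Functor.map_comp,
      ← Functor.map_comp]
    rfl
  obtain ⟨s, hs, -⟩ := T.sheaf.existsUnique_gluing' (fun i : J => i.1) U
    (fun i => homOfLE i.2.2) hcover sf hcompat
  refine ⟨s, ?_⟩
  fapply TopCat.Sheaf.eq_of_locally_eq' X'.sheaf
    (fun i : J => ξ ⁻¹ᵁ i.1) (ξ ⁻¹ᵁ U) (fun i => homOfLE (ξ.preimage_mono i.2.2))
  · rintro x hx
    obtain ⟨V, hV, htV, hVU⟩ := hB U (ξ x) hx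
    exact Opens.mem_iSup.mpr ⟨⟨V, hV, hVU⟩, htV⟩
  · intro i
    have e1 := app_map_apply ξ i.2.2 s
    have e2 : (T.presheaf.map (homOfLE i.2.2).op).hom s = sf i := hs i
    rw [e2, hsf] at e1
    exact e1.symm

end Basis

/-- a closed map injective on sections is surjective -/
theorem surjective_of_app_injective {X Y : Scheme.{u}} (f : X ⟶ Y) (hcl : IsClosedMap f)
    (hinj : ∀ U : Y.Opens, Function.Injective (f.app U).hom) : Function.Surjective f := by
  intro y
  by_contra hy
  let V : Y.Opens := ⟨(Set.range f)ᶜ, hcl.isClosed_range.isOpen_compl⟩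
  have hyV : y ∈ V := hy
  have hbot : f ⁻¹ᵁ V = ⊥ := by
    rw [eq_bot_iff]
    intro x hx
    exact (hx ⟨x, rfl⟩).elim
  haveI : Subsingleton Γ(X, f ⁻¹ᵁ V) := by rw [hbot]; infer_instance
  have h10 : (1 : Γ(Y, V)) = 0 := hinj V (Subsingleton.elim _ _)
  have h1 : Y.basicOpen (1 : Γ(Y, V)) = V := Scheme.basicOpen_of_isUnit _ isUnit_one
  rw [h10, Scheme.basicOpen_zero] at h1
  rw [← h1] at hyV
  exact hyV

variable {k : Type u} [Field k]

section StepA

variable {X Y : Over (Spec (CommRingCat.of k))} (f : X ⟶ Y) (H : Over (Spec (CommRingCat.of k)))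

theorem isPullback_left : IsPullback (snd H X).left (H ◁ f).left f.left (snd H Y).left :=
  ((Groth.Agent.Lib.Helper19.isPullback_whiskerLeft_snd H f).map
    (Over.forget (Spec (CommRingCat.of k)))).flip

theorem isProper_whiskerLeft [IsProper f.left] : IsProper (H ◁ f).left :=
  MorphismProperty.of_isPullback (P := @IsProper) (isPullback_left f H) ‹_›

theorem flat_snd : Flat (snd H Y).left := by
  haveI : Flat H.hom := MonoidUnits.flat_over_field H.hom
  show Flat (pullback.snd H.hom Y.hom)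
  infer_instance

/-- flat base change of `O_Y ≅ f_* O_X` -/
theorem bijective_app_whiskerLeft [IsProper f.left]
    (hf : ∀ U : Y.left.Opens, IsIso (f.left.app U)) (U : (H ⊗ Y).left.Opens) :
    Function.Bijective ((H ◁ f).left.app U).hom := by
  haveI := flat_snd (Y := Y) H
  let B : Set (H ⊗ Y).left.Opens :=
    {UT | IsAffineOpen UT ∧ ∃ US : Y.left.Opens, IsAffineOpen US ∧ UT ≤ (snd H Y).left ⁻¹ᵁ US}
  refine bijective_app_of_basis (H ◁ f).left B ?_ ?_ U
  · intro U t ht
    obtain ⟨_, ⟨US, hUS, rfl⟩, htUS, -⟩ :=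
      Y.left.isBasis_affineOpens.exists_subset_of_mem_open
        (Set.mem_univ ((snd H Y).left t)) isOpen_univ
    obtain ⟨_, ⟨UT, hUT, rfl⟩, htUT, hsub⟩ :=
      (H ⊗ Y).left.isBasis_affineOpens.exists_subset_of_mem_open
        (show t ∈ (U ⊓ (snd H Y).left ⁻¹ᵁ US : (H ⊗ Y).left.Opens) from ⟨ht, htUS⟩)
        (U ⊓ (snd H Y).left ⁻¹ᵁ US).2
    exact ⟨UT, ⟨hUT, US, hUS, fun x hx => (hsub hx).2⟩, htUT, fun x hx => (hsub hx).1⟩
  · rintro UT ⟨hUT, US, hUS, hle⟩
    have sq := isPullback_left f H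
    have hUSX : f.left ⁻¹ᵁ US ≤ f.left ⁻¹ᵁ US := le_rfl
    have hUY : (H ◁ f).left ⁻¹ᵁ UT =
        (snd H X).left ⁻¹ᵁ (f.left ⁻¹ᵁ US) ⊓ (H ◁ f).left ⁻¹ᵁ UT := by
      refine (inf_eq_right.mpr ?_).symm
      intro x hx
      have h1 : (snd H Y).left ((H ◁ f).left x) ∈ US := hle hx
      have h2 : (snd H Y).left ((H ◁ f).left x) = f.left ((snd H X).left x) := by
        have := congrArg (fun φ => φ x) sq.w
        simpa only [Scheme.Hom.comp_apply] using this.symm
      rw [h2] at h1
      exact h1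
    have hcomp : IsCompact ((f.left ⁻¹ᵁ US : X.left.Opens) : Set X.left) :=
      Scheme.Hom.isCompact_preimage f.left hUS.isCompact
    have hqs : IsQuasiSeparated ((f.left ⁻¹ᵁ US : X.left.Opens) : Set X.left) :=
      Scheme.Hom.isQuasiSeparated_preimage f.left hUS.isQuasiSeparated
    haveI hiso := isIso_pushoutSection_of_isQuasiSeparated_of_flat_right sq hle hUSX hUY hUS hUT
      hcomp hqs
    haveI : IsIso (f.left.appLE US (f.left ⁻¹ᵁ US) hUSX) := by
      rw [← Scheme.Hom.app_eq_appLE]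
      exact hf US
    have hinr : pushout.inr (f.left.appLE US (f.left ⁻¹ᵁ US) hUSX)
        ((snd H Y).left.appLE US UT hle) ≫ pushoutSection sq hle hUSX hUY =
        (H ◁ f).left.appLE UT ((H ◁ f).left ⁻¹ᵁ UT) le_rfl :=
      pushout.inr_desc _ _ _
    have hiso2 : IsIso ((H ◁ f).left.app UT) := by
      rw [Scheme.Hom.app_eq_appLE, ← hinr]
      infer_instance
    exact ConcreteCategory.bijective_of_isIso ((H ◁ f).left.app UT)

theorem surjective_left [IsProper f.left] (hf : ∀ U : Y.left.Opens, IsIso (f.left.app U)) :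
    Function.Surjective f.left :=
  surjective_of_app_injective f.left f.left.isClosedMap
    (fun U => (ConcreteCategory.bijective_of_isIso (f.left.app U)).1)

theorem surjective_whiskerLeft [IsProper f.left]
    (hf : ∀ U : Y.left.Opens, IsIso (f.left.app U)) : Function.Surjective (H ◁ f).left := by
  haveI := isProper_whiskerLeft f H
  exact surjective_of_app_injective _ (H ◁ f).left.isClosedMap
    (fun U => (bijective_app_whiskerLeft f H hf U).1)

theorem epi_whiskerLeft [IsProper f.left]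
    (hf : ∀ U : Y.left.Opens, IsIso (f.left.app U)) : Epi (H ◁ f) := by
  haveI : Epi (H ◁ f).left :=
    Groth.Agent.Lib.Helper19.RigidityLemma.epi_of_surjective_of_app_injective _
      (surjective_whiskerLeft f H hf) (fun U => (bijective_app_whiskerLeft f H hf U).1)
  exact (Over.forget (Spec (CommRingCat.of k))).epi_of_epi_map ‹_›

theorem epi_of_proper [IsProper f.left]
    (hf : ∀ U : Y.left.Opens, IsIso (f.left.app U)) : Epi f := by
  haveI : Epi f.left :=
    Groth.Agent.Lib.Helper19.RigidityLemma.epi_of_surjective_of_app_injective _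
      (surjective_left f hf) (fun U => (ConcreteCategory.bijective_of_isIso (f.left.app U)).1)
  exact (Over.forget (Spec (CommRingCat.of k))).epi_of_epi_map ‹_›

end StepA

section StepB

variable {G X Y : Over (Spec (CommRingCat.of k))} [GrpObj G] (f : X ⟶ Y) [IsProper f.left]
  (hf : ∀ U : Y.left.Opens, IsIso (f.left.app U)) (a : AlgGrp.Action G X)

include hf in
/-- a factorization of `a.act ≫ f` through `G ◁ f` is an action -/
theorem exists_action_of_factor (r : G ⊗ Y ⟶ Y) (hr : (G ◁ f) ≫ r = a.act ≫ f) :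
    ∃ b : AlgGrp.Action G Y, b.act = r := by
  refine ⟨⟨r, ?_, ?_⟩, rfl⟩
  · haveI := epi_whiskerLeft f (𝟙_ _) hf
    rw [← cancel_epi ((𝟙_ (Over (Spec (CommRingCat.of k)))) ◁ f), ← Category.assoc,
      whisker_exchange, Category.assoc, hr, ← Category.assoc, a.one_act,
      leftUnitor_naturality]
  · haveI := epi_whiskerLeft f (G ⊗ G) hf
    rw [← cancel_epi ((G ⊗ G) ◁ f), ← Category.assoc, whisker_exchange, Category.assoc, hr,
      ← Category.assoc, a.mul_act, ← Category.assoc ((G ⊗ G) ◁ f),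
      associator_naturality_right]
    simp only [Category.assoc]
    rw [← Category.assoc (G ◁ G ◁ f), ← MonoidalCategory.whiskerLeft_comp, hr,
      MonoidalCategory.whiskerLeft_comp, Category.assoc, hr]

include hf in
theorem tfae :
    [∃ b : AlgGrp.Action G Y, (G ◁ f) ≫ b.act = a.act ≫ f,
      ∀ (T : Over (Spec (CommRingCat.of k))) (g : T ⟶ G) (x₁ x₂ : T ⟶ X),
        x₁ ≫ f = x₂ ≫ f → lift g x₁ ≫ a.act ≫ f = lift g x₂ ≫ a.act ≫ f,
      ∀ p q : ↥(G ⊗ X).left, (G ◁ f).left.base p = (G ◁ f).left.base q →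
        (a.act ≫ f).left.base p = (a.act ≫ f).left.base q].TFAE := by
  tfae_have 1 → 2 := by
    rintro ⟨b, hb⟩ T g x₁ x₂ h
    rw [← hb, ← Category.assoc, ← Category.assoc, lift_whiskerLeft, lift_whiskerLeft, h]
  tfae_have 2 → 3 := by
    intro h2 p q hpq
    let π₁ : pullback (G ◁ f) (G ◁ f) ⟶ G ⊗ X := pullback.fst _ _
    let π₂ : pullback (G ◁ f) (G ◁ f) ⟶ G ⊗ X := pullback.snd _ _
    have hc : π₁ ≫ (G ◁ f) = π₂ ≫ (G ◁ f) := pullback.condition
    have h1 : π₁ ≫ fst G X = π₂ ≫ fst G X := by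
      have := congrArg (· ≫ fst G Y) hc
      simpa only [Category.assoc, whiskerLeft_fst] using this
    have h2' : (π₁ ≫ snd G X) ≫ f = (π₂ ≫ snd G X) ≫ f := by
      have := congrArg (· ≫ snd G Y) hc
      simpa only [Category.assoc, whiskerLeft_snd] using this
    have key := h2 _ (π₁ ≫ fst G X) (π₁ ≫ snd G X) (π₂ ≫ snd G X) h2'
    have e1 : lift (π₁ ≫ fst G X) (π₁ ≫ snd G X) = π₁ := by
      apply CartesianMonoidalCategory.hom_ext <;> simp
    have e2 : lift (π₁ ≫ fst G X) (π₂ ≫ snd G X) = π₂ := by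
      apply CartesianMonoidalCategory.hom_ext
      · simp [h1]
      · simp
    rw [e1, e2] at key
    have sq := (IsPullback.of_hasPullback (G ◁ f) (G ◁ f)).map
      (Over.forget (Spec (CommRingCat.of k)))
    obtain ⟨w, hw1, hw2⟩ :=
      Groth.Agent.Lib.Helper19.exists_preimage_of_isPullback sq p q hpq
    have := congrArg (fun φ => φ.left w) key
    simp only [Over.comp_left, Scheme.Hom.comp_apply] at this
    have hw1' : π₁.left w = p := hw1
    have hw2' : π₂.left w = q := hw2
    rw [hw1', hw2'] at this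
    exact this
  tfae_have 3 → 1 := by
    intro h3
    haveI := isProper_whiskerLeft f G
    have hsurj := surjective_whiskerLeft f G hf
    obtain ⟨r₀, hr₀⟩ := Groth.Agent.Lib.Helper19.RigidityLemma.exists_factor (G ◁ f).left
      (G ◁ f).left.isClosedMap hsurj (bijective_app_whiskerLeft f G hf) (a.act ≫ f).left
      (fun s => by
        obtain ⟨x₀, hx₀⟩ := hsurj s
        exact ⟨(a.act ≫ f).left x₀, fun x hx => h3 x x₀ (hx.trans hx₀.symm)⟩)
    haveI : Epi (G ◁ f).left :=
      Groth.Agent.Lib.Helper19.RigidityLemma.epi_of_surjective_of_app_injective _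
        hsurj (fun U => (bijective_app_whiskerLeft f G hf U).1)
    have hw : r₀ ≫ Y.hom = (G ⊗ Y).hom := by
      rw [← cancel_epi (G ◁ f).left, ← Category.assoc, hr₀, Over.w, Over.w]
    let r : G ⊗ Y ⟶ Y := Over.homMk r₀ hw
    have hr : (G ◁ f) ≫ r = a.act ≫ f := by
      ext
      exact hr₀
    obtain ⟨b, hb⟩ := exists_action_of_factor f hf a r hr
    exact ⟨b, by rw [hb, hr]⟩
  tfae_finish

end StepB

end Groth.Agent.Lib.Helper59.ActDescend
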