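import Mathlib

/-!
# A basis of `ℤ^(r+1)` adapted to a vector: `d = gcd(d) • f 0`
-/

namespace Groth.Agent.Lib.Helper59.AdaptedBasis

open Module

theorem exists_adapted_basis (r' : ℕ) (d : Fin (r' + 1) → ℤ) :
    ∃ f : Module.Basis (Fin (r' + 1)) ℤ (Fin (r' + 1) → ℤ), d = (Finset.univ.gcd d) • f 0 := by
  classical
  by_cases hd : d = 0
  · refine ⟨Pi.basisFun ℤ _, ?_⟩
    subst hd
    have : Finset.univ.gcd (0 : Fin (r' + 1) → ℤ) = 0 := by
      rw [Finset.gcd_eq_zero_iff]; intro i _; rfl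
    rw [this, zero_smul]
  obtain ⟨n, snf⟩ := Submodule.smithNormalForm (Pi.basisFun ℤ (Fin (r' + 1))) (ℤ ∙ d)
  have hn : n = 1 := by
    have h1 : Module.finrank ℤ (ℤ ∙ d) = n := by
      rw [Module.finrank_eq_card_basis snf.bN]; simp
    have h2 : Module.finrank ℤ (ℤ ∙ d) = 1 := by
      rw [← (LinearEquiv.toSpanNonzeroSingleton ℤ _ d hd).finrank_eq]; simp
    omega
  subst hn
  set dN : (ℤ ∙ d) := ⟨d, Submodule.mem_span_singleton_self d⟩ with hdN
  have hc : dN = (snf.bN.repr dN 0) • snf.bN 0 := by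
    conv_lhs => rw [← snf.bN.sum_repr dN]
    simp
  set s := snf.bN.repr dN 0 * snf.a 0 with hs
  set w := snf.bM (snf.f 0) with hw
  have hdw : d = s • w := by
    have h := congrArg Subtype.val hc
    rw [Submodule.coe_smul, snf.snf, smul_smul] at h
    exact h
  set D := Finset.univ.gcd d with hD
  have h1 : s ∣ D := Finset.dvd_gcd (fun i _ => ⟨w i, by rw [hdw]; simp⟩)
  have h2 : D ∣ s := by
    have hdv : ∀ i, D ∣ d i := fun i => Finset.gcd_dvd (Finset.mem_univ i)
    choose d'' hd'' using hdv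
    have hdd : d = D • d'' := funext fun i => by simp [hd'' i]
    have h3 := congrArg (fun v => snf.bM.repr v (snf.f 0)) (hdw.symm.trans hdd)
    simp only [map_smul, Finsupp.smul_apply, smul_eq_mul, hw, Basis.repr_self,
      Finsupp.single_eq_same, mul_one] at h3
    exact ⟨_, h3⟩
  have hD0 : 0 ≤ D := by
    have := Finset.normalize_gcd (s := (Finset.univ : Finset (Fin (r' + 1)))) (f := d)
    exact Int.nonneg_of_normalize_eq_self this
  have hsD : s = D ∨ s = -D := by
    have := Int.natAbs_eq_of_dvd_dvd h1 h2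
    rcases Int.natAbs_eq_natAbs_iff.mp this with h | h
    · exact Or.inl h
    · exact Or.inr h
  rcases hsD with h | h
  · refine ⟨snf.bM.reindex (Equiv.swap (snf.f 0) 0), ?_⟩
    rw [Basis.reindex_apply, Equiv.symm_swap, Equiv.swap_apply_right, ← h]
    exact hdw
  · refine ⟨(snf.bM.unitsSMul (fun i => if i = snf.f 0 then -1 else 1)).reindex
      (Equiv.swap (snf.f 0) 0), ?_⟩
    rw [Basis.reindex_apply, Equiv.symm_swap, Equiv.swap_apply_right, Basis.unitsSMul_apply,
      if_pos rfl]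
    calc d = s • w := hdw
      _ = D • (-1 : ℤˣ) • snf.bM (snf.f 0) := by
        rw [h, hw, Units.smul_def]
        simp

end Groth.Agent.Lib.Helper59.AdaptedBasis
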