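import Mathlib
import Groth.Prelude.Def_BrSev2

universe u
open CategoryTheory AlgebraicGeometry Limits

namespace Groth.Agent.Lib.Helper59.AffinePoints

variable {k : Type u} [Field k] {X : Scheme.{u}} (p : X ⟶ Spec (CommRingCat.of k))

/-- The `k`-algebra structure on a ring `C` induced by a morphism `Spec C ⟶ X`. -/
@[reducible] noncomputable def algOf {C : Type u} [CommRing C] (h : Spec (CommRingCat.of C) ⟶ X) :
    Algebra k C :=
  RingHom.toAlgebra (Spec.preimage (h ≫ p)).hom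

/-- A morphism `Spec C ⟶ X` as a `C`-valued point for the induced algebra structure. -/
noncomputable def ptOf {C : Type u} [CommRing C] (h : Spec (CommRingCat.of C) ⟶ X) :
    @BrSev.Pts k _ X p C _ (algOf p h) :=
  letI := algOf p h
  ⟨h, by
    have : (CommRingCat.ofHom (algebraMap k C)) = Spec.preimage (h ≫ p) := rfl
    rw [this, Spec.map_preimage]⟩

@[simp] lemma ptOf_val {C : Type u} [CommRing C] (h : Spec (CommRingCat.of C) ⟶ X) :
    (ptOf p h).1 = h := rfl

section natural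

variable (τ : ∀ (R : Type u) [CommRing R] [Algebra k R], BrSev.Pts p R → BrSev.Pts p R)
  (hτ : ∀ (R S : Type u) [CommRing R] [Algebra k R] [CommRing S] [Algebra k S] (φ : R →ₐ[k] S)
    (g : BrSev.Pts p R), BrSev.Pts.map p φ (τ R g) = τ S (BrSev.Pts.map p φ g))

include hτ in
lemma nat_aux (R : Type u) [CommRing R] [Algebra k R] (g : BrSev.Pts p R) (C : Type u) [CommRing C]
    (ψ : R →+* C) :
    Spec.map (CommRingCat.ofHom ψ) ≫ (τ R g).1 =
      (@τ C _ (algOf p (Spec.map (CommRingCat.ofHom ψ) ≫ g.1))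
        (ptOf p (Spec.map (CommRingCat.ofHom ψ) ≫ g.1))).1 := by
  letI := algOf p (Spec.map (CommRingCat.ofHom ψ) ≫ g.1)
  have hcomm : ∀ c : k, ψ (algebraMap k R c) = algebraMap k C c := by
    intro c
    have h1 : (Spec.map (CommRingCat.ofHom ψ) ≫ g.1) ≫ p =
        Spec.map (CommRingCat.ofHom (algebraMap k R) ≫ CommRingCat.ofHom ψ) := by
      rw [Category.assoc, g.2, Spec.map_comp]
    have h2 : Spec.preimage ((Spec.map (CommRingCat.ofHom ψ) ≫ g.1) ≫ p) =
        CommRingCat.ofHom (algebraMap k R) ≫ CommRingCat.ofHom ψ := by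
      rw [h1, Spec.preimage_map]
    change _ = (Spec.preimage ((Spec.map (CommRingCat.ofHom ψ) ≫ g.1) ≫ p)).hom c
    rw [h2]
    rfl
  let ψ' : R →ₐ[k] C := { ψ with commutes' := hcomm }
  have := congrArg Subtype.val (hτ R C ψ' g)
  exact this

/-- The transformed point, for a morphism from an affine scheme. -/
noncomputable def t (C : CommRingCat.{u}) (h : Spec C ⟶ X) : Spec C ⟶ X :=
  (@τ C _ (algOf p h) (ptOf p h)).1

include hτ in
lemma t_nat (C D : CommRingCat.{u}) (a : Spec D ⟶ Spec C) (h : Spec C ⟶ X) :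
    a ≫ t p τ C h = t p τ D (a ≫ h) := by
  have := @nat_aux k _ X p τ hτ C _ (algOf p h) (ptOf p h) D _ (Spec.preimage a).hom
  rw [show CommRingCat.ofHom (Spec.preimage a).hom = Spec.preimage a from rfl, Spec.map_preimage]
    at this
  exact this

lemma t_p (C : CommRingCat.{u}) (h : Spec C ⟶ X) : t p τ C h ≫ p = h ≫ p := by
  letI := algOf p h
  have h1 := (τ C (ptOf p h)).2
  have h2 := (ptOf p h).2
  exact h1.trans h2.symm

include hτ in
lemma t_nat' {C D : CommRingCat.{u}} {Y : Scheme.{u}} (b : Spec D ⟶ Y) (a : Y ⟶ Spec C)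
    {C' : CommRingCat.{u}} (a'' : Y ⟶ Spec C') (h : Spec C ⟶ X) (h' : Spec C' ⟶ X)
    (e : a ≫ h = a'' ≫ h') :
    b ≫ a ≫ t p τ C h = b ≫ a'' ≫ t p τ C' h' := by
  rw [← Category.assoc, ← Category.assoc, t_nat p τ hτ, t_nat p τ hτ, Category.assoc,
    Category.assoc, e]

include hτ in
theorem exists_hom : ∃ T : X ⟶ X, T ≫ p = p ∧
    ∀ (C : CommRingCat.{u}) (h : Spec C ⟶ X), h ≫ T = t p τ C h := by
  let 𝒰 := X.affineCover
  have compat : ∀ i j, pullback.fst (𝒰.f i) (𝒰.f j) ≫ t p τ _ (𝒰.f i) =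
      pullback.snd (𝒰.f i) (𝒰.f j) ≫ t p τ _ (𝒰.f j) := by
    intro i j
    refine Scheme.Cover.hom_ext (pullback (𝒰.f i) (𝒰.f j)).affineCover _ _ fun w => ?_
    exact t_nat' p τ hτ _ _ _ _ _ pullback.condition
  let T := 𝒰.glueMorphisms (fun i => t p τ _ (𝒰.f i)) compat
  have hT : ∀ i, 𝒰.f i ≫ T = t p τ _ (𝒰.f i) := fun i => 𝒰.ι_glueMorphisms _ compat i
  refine ⟨T, ?_, ?_⟩
  · refine Scheme.Cover.hom_ext 𝒰 _ _ fun i => ?_
    have := t_p p τ _ (𝒰.f i)
    rw [← Category.assoc, hT]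
    exact this
  · intro C h
    refine Scheme.Cover.hom_ext (𝒰.pullback₁ h) _ _ fun (i : 𝒰.I₀) => ?_
    refine Scheme.Cover.hom_ext (pullback h (𝒰.f i)).affineCover _ _ fun w => ?_
    have e1 : pullback.fst h (𝒰.f i) ≫ h ≫ T = pullback.snd h (𝒰.f i) ≫ t p τ _ (𝒰.f i) := by
      rw [pullback.condition_assoc]
      exact congrArg (pullback.snd h (𝒰.f i) ≫ ·) (hT i)
    have e2 := t_nat' p τ hτ ((pullback h (𝒰.f i)).affineCover.f w) (pullback.snd h (𝒰.f i))
      (pullback.fst h (𝒰.f i)) (𝒰.f i) h pullback.condition.symm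
    change _ ≫ pullback.fst h (𝒰.f i) ≫ h ≫ T = _ ≫ pullback.fst h (𝒰.f i) ≫ t p τ C h
    rw [e1]
    exact e2

include hτ in
lemma t_eq (R : Type u) [CommRing R] [Algebra k R] (g : BrSev.Pts p R) :
    t p τ (CommRingCat.of R) g.1 = (τ R g).1 := by
  have h1 : Spec.map (CommRingCat.ofHom (RingHom.id R)) ≫ (τ R g).1 =
      t p τ (CommRingCat.of R) (Spec.map (CommRingCat.ofHom (RingHom.id R)) ≫ g.1) :=
    nat_aux p τ hτ R g R (RingHom.id R)
  have h2 : Spec.map (CommRingCat.ofHom (RingHom.id R)) = 𝟙 _ := by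
    rw [CommRingCat.ofHom_id, Spec.map_id]
  have h3 : t p τ (CommRingCat.of R) (Spec.map (CommRingCat.ofHom (RingHom.id R)) ≫ g.1) =
      t p τ (CommRingCat.of R) g.1 := by
    rw [h2, Category.id_comp]
  rw [h3, h2, Category.id_comp] at h1
  exact h1.symm

include hτ in
/-- Existence of the morphism attached to a natural transformation of the functor of points. -/
theorem exists_hom' : ∃ T : X ⟶ X, T ≫ p = p ∧
    ∀ (R : Type u) [CommRing R] [Algebra k R] (g : BrSev.Pts p R), g.1 ≫ T = (τ R g).1 := by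
  obtain ⟨T, hT1, hT2⟩ := exists_hom p τ hτ
  exact ⟨T, hT1, fun R _ _ g => (hT2 (CommRingCat.of R) g.1).trans (t_eq p τ hτ R g)⟩

end natural

/-- Morphisms `X ⟶ X` are determined by their action on affine points. -/
theorem hom_ext_pts (T T' : X ⟶ X)
    (h : ∀ (R : Type u) [CommRing R] [Algebra k R] (g : BrSev.Pts p R), g.1 ≫ T = g.1 ≫ T') :
    T = T' := by
  refine Scheme.Cover.hom_ext X.affineCover _ _ fun i => ?_
  letI := algOf p (X.affineCover.f i)
  exact h _ (ptOf p (X.affineCover.f i))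

end Groth.Agent.Lib.Helper59.AffinePoints
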