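import Mathlib

/-!
# Descent of `IsBaseChange` along a faithfully flat finite product
-/

namespace Groth.Agent.Lib.Helper59.BCDescent

open TensorProduct

universe u

section Pi

variable {S : Type u} [CommRing S] {ι : Type u} [Fintype ι] [DecidableEq ι]
  (T : ι → Type u) [∀ i, CommRing (T i)] [∀ i, Algebra S (T i)]

/-- `(Π T_i) ⊗ X ≃ Π (T_i ⊗ X)`. -/
noncomputable def piLeft (X : Type u) [AddCommGroup X] [Module S X] :
    (∀ i, T i) ⊗[S] X ≃ₗ[S] ∀ i, T i ⊗[S] X :=
  (TensorProduct.comm S (∀ i, T i) X) ≪≫ₗ TensorProduct.piRight S S X T ≪≫ₗ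
    LinearEquiv.piCongrRight (fun i => TensorProduct.comm S X (T i))

theorem piLeft_tmul (X : Type u) [AddCommGroup X] [Module S X] (t : ∀ i, T i) (x : X) :
    piLeft T X (t ⊗ₜ[S] x) = fun i => t i ⊗ₜ[S] x := by
  funext i
  simp [piLeft]

theorem lTensor_pi_bijective {X Y : Type u} [AddCommGroup X] [Module S X] [AddCommGroup Y]
    [Module S Y] (φ : X →ₗ[S] Y) (h : ∀ i, Function.Bijective (φ.lTensor (T i))) :
    Function.Bijective (φ.lTensor (∀ i, T i)) := by
  have key : (piLeft T Y).toLinearMap ∘ₗ φ.lTensor (∀ i, T i) =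
      (LinearMap.pi fun i => (φ.lTensor (T i)) ∘ₗ LinearMap.proj i) ∘ₗ
        (piLeft T X).toLinearMap := by
    apply TensorProduct.ext'
    intro t x
    simp only [LinearMap.coe_comp, LinearEquiv.coe_coe, Function.comp_apply,
      LinearMap.lTensor_tmul, piLeft_tmul]
    funext i
    simp
  have hb : Function.Bijective (LinearMap.pi fun i => (φ.lTensor (T i)) ∘ₗ
      (LinearMap.proj i : (∀ i, T i ⊗[S] X) →ₗ[S] T i ⊗[S] X)) := by
    constructor
    · intro a b hab
      funext i
      have := congrFun hab i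
      exact (h i).1 this
    · intro c
      choose a ha using fun i => (h i).2 (c i)
      exact ⟨a, funext ha⟩
  have hcomp : Function.Bijective ((piLeft T Y).toLinearMap ∘ₗ φ.lTensor (∀ i, T i)) := by
    rw [key]
    exact hb.comp (piLeft T X).bijective
  have : ⇑(φ.lTensor (∀ i, T i)) = (piLeft T Y).symm ∘
      ⇑((piLeft T Y).toLinearMap ∘ₗ φ.lTensor (∀ i, T i)) := by
    funext z
    simp
  rw [this]
  exact (piLeft T Y).symm.bijective.comp hcomp

end Pi

section Descent

variable {R S : Type u} [CommRing R] [CommRing S] [Algebra R S]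
  {M N : Type u} [AddCommGroup M] [AddCommGroup N] [Module R M] [Module R N] [Module S N]
  [IsScalarTower R S N] (f : M →ₗ[R] N)
  {ι : Type u} [Finite ι] (T : ι → Type u) (P : ι → Type u) [∀ i, CommRing (T i)]
  [∀ i, Algebra S (T i)] [∀ i, Algebra R (T i)] [∀ i, IsScalarTower R S (T i)]
  [∀ i, AddCommGroup (P i)] [∀ i, Module (T i) (P i)] [∀ i, Module S (P i)]
  [∀ i, Module R (P i)] [∀ i, IsScalarTower S (T i) (P i)] [∀ i, IsScalarTower R S (P i)]
  [∀ i, IsScalarTower R (T i) (P i)]

theorem lTensor_bijective_of_isBaseChange {X Y : Type u} [AddCommGroup X] [Module S X]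
    [AddCommGroup Y] [Module S Y] (φ : X →ₗ[S] Y) (i : ι) (g : Y →ₗ[S] P i)
    (hg : IsBaseChange (T i) g) (hg' : IsBaseChange (T i) (g ∘ₗ φ)) :
    Function.Bijective (φ.lTensor (T i)) := by
  have key : ⇑(φ.lTensor (T i)) = hg.equiv.symm ∘ hg'.equiv := by
    funext z
    rw [Function.comp_apply, LinearEquiv.eq_symm_apply]
    induction z using TensorProduct.induction_on with
    | zero => simp
    | add a b ha hb => rw [map_add, map_add, map_add, ha, hb]
    | tmul t x =>
      rw [LinearMap.lTensor_tmul, IsBaseChange.equiv_tmul, IsBaseChange.equiv_tmul]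
      rfl
  rw [key]
  exact hg.equiv.symm.bijective.comp hg'.equiv.bijective

theorem isBaseChange_of_pi (g : ∀ i, N →ₗ[S] P i) (hg : ∀ i, IsBaseChange (T i) (g i))
    (hgf : ∀ i, IsBaseChange (T i) ((g i).restrictScalars R ∘ₗ f))
    (hff : Module.FaithfullyFlat S (∀ i, T i)) : IsBaseChange S f := by
  classical
  haveI : Fintype ι := Fintype.ofFinite ι
  let φ : S ⊗[R] M →ₗ[S] N := LinearMap.liftBaseChange S f
  have hφ : ∀ m, φ (1 ⊗ₜ[R] m) = f m := fun m => by
    show LinearMap.liftBaseChange S f (1 ⊗ₜ[R] m) = f m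
    rw [LinearMap.liftBaseChange_tmul, one_smul]
  have h1 : ∀ i, IsBaseChange (T i) ((g i) ∘ₗ φ) := by
    intro i
    apply IsBaseChange.of_comp (TensorProduct.isBaseChange R M S)
    convert hgf i using 1
    ext m
    simp only [LinearMap.coe_comp, LinearMap.coe_restrictScalars, Function.comp_apply,
      TensorProduct.mk_apply]
    rw [hφ]
  have h2 : ∀ i, Function.Bijective (φ.lTensor (T i)) := fun i =>
    lTensor_bijective_of_isBaseChange T P φ i (g i) (hg i) (h1 i)
  have h3 : Function.Bijective (φ.lTensor (∀ i, T i)) := lTensor_pi_bijective T φ h2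
  have h4 : Function.Bijective φ :=
    (Module.FaithfullyFlat.lTensor_bijective_iff_bijective S (∀ i, T i) φ).mp h3
  exact IsBaseChange.of_equiv (LinearEquiv.ofBijective φ h4) hφ

end Descent

end Groth.Agent.Lib.Helper59.BCDescent
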