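import Mathlib
import Groth.Agent.Lib.Helper59.ActDescend
import Groth.Agent.Lib.Helper19.GC.Main
import Groth.Agent.Lib.Helper59.SetRigid

/-!
# Blanchard's lemma

Let `G` be a connected group scheme of finite type over a field `k`, `f : X ⟶ Y` a proper morphism
of separated `k`-schemes of finite type with `O_Y ≅ f_* O_X`. Then every action of `G` on `X`
descends uniquely to an action of `G` on `Y`.
-/

set_option autoImplicit false
set_option linter.style.haveILetI false
universe u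
open CategoryTheory CategoryTheory.Limits MonoidalCategory CartesianMonoidalCategory MonObj GrpObj
  AlgebraicGeometry

namespace Groth.Agent.Lib.Helper59.Blanchard

section General

variable {X' S Y' : Scheme.{u}} (ξ : X' ⟶ S) (φ : X' ⟶ Y')

/-- the locus of points of `S` whose `ξ`-fibre is contracted by `φ` -/
def contracted : Set S := {s | ∃ y : Y', ∀ x : X', ξ x = s → φ x = y}

theorem isOpen_contracted (hcl : IsClosedMap ξ)
    (h0 : ∀ U : S.Opens, Function.Bijective (ξ.app U).hom) :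
    IsOpen (contracted ξ φ) := by
  rw [isOpen_iff_forall_mem_open]
  rintro s ⟨y, hy⟩
  obtain ⟨W, hsW, -, r, hr⟩ :=
    Groth.Agent.Lib.Helper19.RigidityLemma.exists_local_factor ξ hcl h0 φ s y hy ⊤ trivial
  refine ⟨W, ?_, W.isOpen, hsW⟩
  intro s' hs'
  refine ⟨r ⟨s', hs'⟩, fun x hx ↦ ?_⟩
  have hxW : x ∈ ξ ⁻¹ᵁ W := by show ξ x ∈ W; rw [hx]; exact hs'
  have h1 := congr($hr ⟨x, hxW⟩)
  have h2 : (ξ ∣_ W) ⟨x, hxW⟩ = ⟨s', hs'⟩ := Subtype.ext (by
    rw [morphismRestrict_base_coe]; exact hx)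
  simp only [Scheme.Hom.comp_apply] at h1
  rw [h2] at h1
  exact h1.symm

variable {B : Scheme.{u}} (g : Y' ⟶ B) (h : S ⟶ B) (hφ : φ ≫ g = ξ ≫ h)

/-- the map `(φ ∘ π₁, φ ∘ π₂) : X' ×_S X' ⟶ Y' ×_B Y'` -/
noncomputable def delta : pullback ξ ξ ⟶ pullback g g :=
  pullback.lift (pullback.fst ξ ξ ≫ φ) (pullback.snd ξ ξ ≫ φ) (by
    rw [Category.assoc, Category.assoc, hφ, ← Category.assoc, ← Category.assoc,
      pullback.condition])

/-- the locus of pairs of points in a fibre of `ξ` separated by `φ` -/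
def badLocus : Set ↥(pullback ξ ξ) :=
  (delta ξ φ g h hφ) ⁻¹' (Set.range (pullback.diagonal g))ᶜ

theorem isOpen_badLocus [IsSeparated g] : IsOpen (badLocus ξ φ g h hφ) := by
  have hc : IsClosed (Set.range (pullback.diagonal g)) :=
    (pullback.diagonal g).isClosedEmbedding.isClosed_range
  exact hc.isOpen_compl.preimage (delta ξ φ g h hφ).continuous

theorem compl_contracted_subset (hsurj : Function.Surjective ξ) :
    (contracted ξ φ)ᶜ ⊆ (pullback.fst ξ ξ ≫ ξ) '' badLocus ξ φ g h hφ := by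
  intro s hs
  obtain ⟨x₀, hx₀⟩ := hsurj s
  have : ∃ x, ξ x = s ∧ φ x ≠ φ x₀ := by
    by_contra hcon
    push Not at hcon
    exact hs ⟨φ x₀, hcon⟩
  obtain ⟨x, hx, hne⟩ := this
  obtain ⟨w, hw1, hw2⟩ := Scheme.Pullback.exists_preimage_pullback (f := ξ) (g := ξ) x x₀
    (hx.trans hx₀.symm)
  refine ⟨w, ?_, ?_⟩
  · rintro ⟨y', hy'⟩
    apply hne
    have e1 : (delta ξ φ g h hφ ≫ pullback.fst g g) w = φ x := by
      rw [delta, pullback.lift_fst, Scheme.Hom.comp_apply, hw1]
    have e2 : (delta ξ φ g h hφ ≫ pullback.snd g g) w = φ x₀ := by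
      rw [delta, pullback.lift_snd, Scheme.Hom.comp_apply, hw2]
    rw [Scheme.Hom.comp_apply, ← hy', ← Scheme.Hom.comp_apply] at e1 e2
    rw [pullback.diagonal_fst] at e1
    rw [pullback.diagonal_snd] at e2
    rw [← e1, ← e2]
  · rw [Scheme.Hom.comp_apply, hw1, hx]

theorem image_badLocus_subset (hcl : IsClosedMap ξ)
    (h0 : ∀ U : S.Opens, Function.Bijective (ξ.app U).hom) :
    (pullback.fst ξ ξ ≫ ξ) '' badLocus ξ φ g h hφ ⊆ (contracted ξ φ)ᶜ := by
  rintro _ ⟨w, hw, rfl⟩ ⟨y, hy⟩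
  apply hw
  obtain ⟨W, hsW, -, r, hr⟩ :=
    Groth.Agent.Lib.Helper19.RigidityLemma.exists_local_factor ξ hcl h0 φ _ y hy ⊤ trivial
  let π₁ := pullback.fst ξ ξ
  let π₂ := pullback.snd ξ ξ
  have hc : π₁ ≫ ξ = π₂ ≫ ξ := pullback.condition
  let U : (pullback ξ ξ).Opens := (π₁ ≫ ξ) ⁻¹ᵁ W
  have hwU : w ∈ U := hsW
  let l₁ : U.toScheme ⟶ (ξ ⁻¹ᵁ W).toScheme :=
    IsOpenImmersion.lift (ξ ⁻¹ᵁ W).ι (U.ι ≫ π₁) (by
      rintro _ ⟨x, rfl⟩
      simp only [Scheme.Opens.range_ι]
      have : (π₁ ≫ ξ) x.1 ∈ W := x.2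
      rw [Scheme.Hom.comp_apply] at this
      rw [Scheme.Hom.comp_apply]
      exact this)
  let l₂ : U.toScheme ⟶ (ξ ⁻¹ᵁ W).toScheme :=
    IsOpenImmersion.lift (ξ ⁻¹ᵁ W).ι (U.ι ≫ π₂) (by
      rintro _ ⟨x, rfl⟩
      simp only [Scheme.Opens.range_ι]
      have : (π₁ ≫ ξ) x.1 ∈ W := x.2
      rw [hc, Scheme.Hom.comp_apply] at this
      rw [Scheme.Hom.comp_apply]
      exact this)
  have hl₁ : l₁ ≫ (ξ ⁻¹ᵁ W).ι = U.ι ≫ π₁ := IsOpenImmersion.lift_fac _ _ _
  have hl₂ : l₂ ≫ (ξ ⁻¹ᵁ W).ι = U.ι ≫ π₂ := IsOpenImmersion.lift_fac _ _ _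
  have hll : l₁ ≫ (ξ ∣_ W) = l₂ ≫ (ξ ∣_ W) := by
    rw [← cancel_mono W.ι, Category.assoc, Category.assoc, morphismRestrict_ι,
      ← Category.assoc, ← Category.assoc, hl₁, hl₂, Category.assoc, Category.assoc, hc]
  have key : U.ι ≫ π₁ ≫ φ = U.ι ≫ π₂ ≫ φ := by
    rw [← Category.assoc, ← hl₁, ← Category.assoc U.ι, ← hl₂, Category.assoc, Category.assoc,
      ← hr, ← Category.assoc, hll, Category.assoc]
  have hδ : U.ι ≫ delta ξ φ g h hφ = (U.ι ≫ π₁ ≫ φ) ≫ pullback.diagonal g := by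
    apply pullback.hom_ext
    · rw [Category.assoc, delta, pullback.lift_fst, Category.assoc, pullback.diagonal_fst,
        Category.comp_id]
    · rw [Category.assoc, delta, pullback.lift_snd, Category.assoc, pullback.diagonal_snd,
        Category.comp_id, key]
  have := congr($hδ ⟨w, hwU⟩)
  rw [Scheme.Hom.comp_apply, Scheme.Hom.comp_apply] at this
  exact ⟨_, this.symm⟩

end General

section Open

variable {X' S T' : Scheme.{u}} (ξ : X' ⟶ S) (j : T' ⟶ S)

/-- if the base change of `ξ` along `j` is universally open, then the preimage under `j` of the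
image of an open subset of `X' ×_S X'` is open -/
theorem isOpen_preimage_image [UniversallyOpen (pullback.snd ξ j)]
    (D : Set ↥(pullback ξ ξ)) (hD : IsOpen D) :
    IsOpen (j ⁻¹' ((pullback.fst ξ ξ ≫ ξ) '' D)) := by
  let π₁ := pullback.fst ξ ξ
  let π₂ := pullback.snd ξ ξ
  let e₁ := pullback.fst ξ j
  let e₂ := pullback.snd ξ j
  let prE := pullback.fst e₁ π₁
  let prR := pullback.snd e₁ π₁
  have sqA : IsPullback (prR ≫ π₂) prE ξ (e₁ ≫ ξ) :=
    (IsPullback.of_hasPullback e₁ π₁).flip.paste_horiz (IsPullback.of_hasPullback ξ ξ).flip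
  have hc : e₁ ≫ ξ = e₂ ≫ j := pullback.condition
  let l : pullback e₁ π₁ ⟶ pullback ξ j := pullback.lift (prR ≫ π₂) (prE ≫ e₂) (by
    rw [Category.assoc, Category.assoc, ← hc]; exact sqA.w)
  have hl1 : l ≫ e₁ = prR ≫ π₂ := pullback.lift_fst _ _ _
  have hl2 : l ≫ e₂ = prE ≫ e₂ := pullback.lift_snd _ _ _
  have sqB : IsPullback l prE e₂ e₂ := by
    refine IsPullback.of_right ?_ hl2 (IsPullback.of_hasPullback ξ j)
    rw [hl1, ← hc]
    exact sqA
  haveI : UniversallyOpen e₂ := ‹_›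
  haveI : UniversallyOpen prE := MorphismProperty.of_isPullback (P := @UniversallyOpen) sqB ‹_›
  have heq : j ⁻¹' ((π₁ ≫ ξ) '' D) = e₂ '' (prE '' (prR ⁻¹' D)) := by
    ext t
    constructor
    · rintro ⟨w, hwD, hw⟩
      rw [Scheme.Hom.comp_apply] at hw
      obtain ⟨e, he1, he2⟩ :=
        Scheme.Pullback.exists_preimage_pullback (f := ξ) (g := j) (π₁ w) t hw
      obtain ⟨z, hz1, hz2⟩ :=
        Scheme.Pullback.exists_preimage_pullback (f := e₁) (g := π₁) e w he1
      refine ⟨e, ⟨z, ?_, hz1⟩, he2⟩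
      show prR z ∈ D
      rw [show prR z = w from hz2]
      exact hwD
    · rintro ⟨_, ⟨z, hz, rfl⟩, rfl⟩
      refine ⟨prR z, hz, ?_⟩
      have h1 := congr($((IsPullback.of_hasPullback e₁ π₁).w) z)
      have h2 := congr($hc (prE z))
      simp only [Scheme.Hom.comp_apply] at h1 h2 ⊢
      rw [← h2, ← h1]
  rw [heq]
  exact e₂.isOpenMap _ (prE.isOpenMap _ (hD.preimage prR.continuous))

end Open

section Connected

variable {X' S Y' B T' : Scheme.{u}} (ξ : X' ⟶ S) (φ : X' ⟶ Y') (g : Y' ⟶ B) (h : S ⟶ B)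
  (hφ : φ ≫ g = ξ ≫ h)

include hφ in
/-- rigidity: if `T'` is connected, the base change of `ξ` to `T'` is universally open and one
fibre of `ξ` over a point of `T'` is contracted by `φ`, then all of them are -/
theorem contracted_of_connected [IsSeparated g] (hcl : IsClosedMap ξ)
    (hsurj : Function.Surjective ξ) (h0 : ∀ U : S.Opens, Function.Bijective (ξ.app U).hom)
    (j : T' ⟶ S) [UniversallyOpen (pullback.snd ξ j)] [PreconnectedSpace T']
    (t₀ : T') (ht₀ : j t₀ ∈ contracted ξ φ) (t : T') : j t ∈ contracted ξ φ := by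
  have hΩ := isOpen_contracted ξ φ hcl h0
  have hcompl : (contracted ξ φ)ᶜ = (pullback.fst ξ ξ ≫ ξ) '' badLocus ξ φ g h hφ :=
    Set.Subset.antisymm (compl_contracted_subset ξ φ g h hφ hsurj)
      (image_badLocus_subset ξ φ g h hφ hcl h0)
  have h1 : IsOpen (j ⁻¹' contracted ξ φ) := hΩ.preimage j.continuous
  have h2 : IsOpen (j ⁻¹' (contracted ξ φ)ᶜ) := by
    rw [hcompl]
    exact isOpen_preimage_image ξ j _ (isOpen_badLocus ξ φ g h hφ)
  have hclopen : IsClopen (j ⁻¹' contracted ξ φ) :=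
    ⟨by rw [← isOpen_compl_iff]; exact h2, h1⟩
  have := hclopen.eq_univ ⟨t₀, ht₀⟩
  exact (this ▸ Set.mem_univ t : t ∈ j ⁻¹' contracted ξ φ)

end Connected

section Apply

variable {k : Type u} [Field k] {G X Y : Over (Spec (CommRingCat.of k))} [GrpObj G]

/-- the unit section `Z ⟶ G ⊗ Z` -/
noncomputable def σ (G : Over (Spec (CommRingCat.of k))) [GrpObj G]
    (Z : Over (Spec (CommRingCat.of k))) : Z ⟶ G ⊗ Z := lift (toUnit Z ≫ η[G]) (𝟙 Z)

lemma σ_snd (Z : Over (Spec (CommRingCat.of k))) : σ G Z ≫ snd G Z = 𝟙 Z := by simp [σ]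

lemma σ_whiskerLeft (f : X ⟶ Y) : σ G X ≫ (G ◁ f) = f ≫ σ G Y := by
  apply CartesianMonoidalCategory.hom_ext <;> simp [σ]

lemma σ_act (a : AlgGrp.Action G X) : σ G X ≫ a.act = 𝟙 X := by
  have : σ G X = (λ_ X).inv ≫ (η[G] ▷ X) := by
    apply CartesianMonoidalCategory.hom_ext <;> simp [σ]
  rw [this, Category.assoc, a.one_act, Iso.inv_hom_id]

theorem isPullback_σ (f : X ⟶ Y) : IsPullback (σ G X) f (G ◁ f) (σ G Y) := by
  refine IsPullback.of_right ?_ (σ_whiskerLeft f)
    (Groth.Agent.Lib.Helper19.isPullback_whiskerLeft_snd G f).flip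
  rw [σ_snd, σ_snd]
  exact IsPullback.of_horiz_isIso ⟨by simp⟩

theorem contracted_unit (f : X ⟶ Y) (a : AlgGrp.Action G X) (y : Y.left) :
    (σ G Y).left y ∈ contracted (G ◁ f).left (a.act ≫ f).left := by
  refine ⟨y, fun x hx => ?_⟩
  have sq := (isPullback_σ (G := G) f).map (Over.forget (Spec (CommRingCat.of k)))
  obtain ⟨x', hx'1, hx'2⟩ := Groth.Agent.Lib.Helper19.exists_preimage_of_isPullback sq x y hx
  have hx1 : (σ G X).left x' = x := hx'1
  have hx2 : f.left x' = y := hx'2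
  have h1 : (σ G X ≫ a.act ≫ f).left = f.left := by
    rw [← Category.assoc, σ_act, Category.id_comp]
  rw [← hx1, ← hx2, ← Scheme.Hom.comp_apply, ← Over.comp_left, h1]

omit [GrpObj G] in
theorem universallyOpen_fiber (f : X ⟶ Y) [LocallyOfFiniteType f.left] (y : Y.left) :
    UniversallyOpen (pullback.snd (G ◁ f).left ((snd G Y).left.fiberι y)) := by
  let sndL := (snd G Y).left
  let j := sndL.fiberι y
  let t := sndL.fiberToSpecResidueField y
  let ξ := (G ◁ f).left
  let ιy := Y.left.fromSpecResidueField y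
  have hfac : j ≫ sndL = t ≫ ιy := sndL.fiber_fac y
  haveI : UniversallyOpen (f.left.fiberToSpecResidueField y) := by
    haveI : LocallyOfFiniteType (f.left.fiberToSpecResidueField y) :=
      MorphismProperty.pullback_snd _ _ ‹_›
    haveI : LocallyOfFinitePresentation (f.left.fiberToSpecResidueField y) :=
      SetRigid.lfp_of_lft _
    haveI : Flat (f.left.fiberToSpecResidueField y) :=
      MonoidUnits.flat_over_field (k := Y.left.residueField y) (f.left.fiberToSpecResidueField y)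
    infer_instance
  have sq1 := (IsPullback.of_hasPullback ξ j).flip
  have sq2 := (ActDescend.isPullback_left f G).flip
  have big := sq1.paste_vert sq2
  rw [hfac] at big
  let v : pullback ξ j ⟶ f.left.fiber y :=
    pullback.lift (pullback.fst ξ j ≫ (snd G X).left) (pullback.snd ξ j ≫ t) (by
      rw [Category.assoc _ t]
      exact big.w.symm)
  have hv1 : v ≫ f.left.fiberι y = pullback.fst ξ j ≫ (snd G X).left := pullback.lift_fst _ _ _
  have hv2 : v ≫ f.left.fiberToSpecResidueField y = pullback.snd ξ j ≫ t :=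
    pullback.lift_snd _ _ _
  rw [← hv1] at big
  have sq3 : IsPullback (pullback.snd ξ j) v t (f.left.fiberToSpecResidueField y) :=
    IsPullback.of_bot big hv2.symm (IsPullback.of_hasPullback f.left ιy).flip
  exact MorphismProperty.of_isPullback (P := @UniversallyOpen) sq3.flip ‹_›

theorem all_contracted [ConnectedSpace ↥G.left] [IsSeparated Y.hom] (f : X ⟶ Y) [IsProper f.left]
    (hf : ∀ U : Y.left.Opens, IsIso (f.left.app U)) (a : AlgGrp.Action G X)
    (s : ↥(G ⊗ Y).left) : s ∈ contracted (G ◁ f).left (a.act ≫ f).left := by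
  let sndL := (snd G Y).left
  haveI : GeometricallyConnected G.hom :=
    Groth.Agent.Lib.Helper19.geometricallyConnected_of_section G.hom η[G].left (Over.w η[G])
  haveI : GeometricallyConnected sndL := by
    show GeometricallyConnected (pullback.snd G.hom Y.hom)
    infer_instance
  haveI := ActDescend.isProper_whiskerLeft f G
  have hφ : (a.act ≫ f).left ≫ Y.hom = (G ◁ f).left ≫ (G ⊗ Y).hom := by
    rw [Over.w, Over.w]
  obtain ⟨y, hy⟩ : ∃ y, sndL s = y := ⟨_, rfl⟩
  haveI : ConnectedSpace ↥(sndL.fiber y) := inferInstance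
  haveI := universallyOpen_fiber (G := G) f y
  have hs : s ∈ Set.range (sndL.fiberι y) := by
    rw [sndL.range_fiberι y]
    exact hy
  obtain ⟨t, rfl⟩ := hs
  have h0 : (σ G Y).left y ∈ Set.range (sndL.fiberι y) := by
    rw [sndL.range_fiberι y]
    show sndL ((σ G Y).left y) = y
    rw [← Scheme.Hom.comp_apply, ← Over.comp_left, σ_snd]
    rfl
  obtain ⟨t₀, ht₀⟩ := h0
  exact contracted_of_connected (G ◁ f).left (a.act ≫ f).left Y.hom (G ⊗ Y).hom hφ
    (G ◁ f).left.isClosedMap (ActDescend.surjective_whiskerLeft f G hf)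
    (ActDescend.bijective_app_whiskerLeft f G hf) (sndL.fiberι y) t₀
    (ht₀ ▸ contracted_unit f a y) t

/-- **Blanchard's lemma** -/
theorem main [ConnectedSpace ↥G.left] [IsSeparated Y.hom] (f : X ⟶ Y) [IsProper f.left]
    (hf : ∀ U : Y.left.Opens, IsIso (f.left.app U)) (a : AlgGrp.Action G X) :
    ∃! b : AlgGrp.Action G Y, (G ◁ f) ≫ b.act = a.act ≫ f := by
  obtain ⟨b, hb⟩ := ((ActDescend.tfae f hf a).out 2 0).mp (by
    intro p q hpq
    obtain ⟨y, hy⟩ := all_contracted f hf a ((G ◁ f).left p)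
    exact (hy p rfl).trans (hy q hpq.symm).symm)
  refine ⟨b, hb, fun b' hb' => ?_⟩
  haveI := ActDescend.epi_whiskerLeft f G hf
  have hact : b'.act = b.act := by rw [← cancel_epi (G ◁ f), hb, hb']
  cases b
  cases b'
  simp only at hact
  subst hact
  rfl

end Apply

end Groth.Agent.Lib.Helper59.Blanchard
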