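import Mathlib

/-! A finite-dimensional commutative algebra over a field with non-degenerate trace form is
(formally) unramified (helper59): the separability element is `∑ eᵢ ⊗ eᵢ*`. -/

set_option autoImplicit false
open TensorProduct

universe u v

namespace Groth.Agent.Lib.Helper59.TraceUnram

variable (k : Type u) [Field k] (A : Type v) [CommRing A] [Algebra k A] [Module.Finite k A]

open LinearMap.BilinForm in
theorem formallyUnramified_of_nondegenerate (h : (Algebra.traceForm k A).Nondegenerate) :
    Algebra.FormallyUnramified k A := by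
  classical
  let ι := Module.Free.ChooseBasisIndex k A
  let b : Module.Basis ι k A := Module.Free.chooseBasis k A
  let B := Algebra.traceForm k A
  have hsym : B.IsSymm := Algebra.traceForm_isSymm k
  let d : Module.Basis ι k A := B.dualBasis h b
  -- expansions
  have exp_d : ∀ x : A, x = ∑ i, B x (b i) • d i := fun x => by
    conv_lhs => rw [← d.sum_repr x]
    refine Finset.sum_congr rfl fun i _ => ?_
    rw [dualBasis_repr_apply]
  have repr_b : ∀ (x : A) (j : ι), b.repr x j = B x (d j) := fun x j => by
    conv_rhs => rw [← b.sum_repr x]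
    rw [map_sum, LinearMap.sum_apply]
    simp only [map_smul, LinearMap.smul_apply, smul_eq_mul]
    rw [Finset.sum_eq_single j]
    · rw [apply_dualBasis_right h hsym]; simp
    · intro i _ hij
      rw [apply_dualBasis_right h hsym, if_neg hij, mul_zero]
    · simp
  have exp_b : ∀ x : A, x = ∑ j, B x (d j) • b j := fun x => by
    conv_lhs => rw [← b.sum_repr x]
    refine Finset.sum_congr rfl fun i _ => ?_
    rw [repr_b]
  rw [Algebra.FormallyUnramified.iff_exists_tensorProduct]
  refine ⟨∑ i, b i ⊗ₜ[k] d i, fun s => ?_, ?_⟩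
  · rw [sub_mul, sub_eq_zero, Finset.mul_sum, Finset.mul_sum]
    simp only [Algebra.TensorProduct.tmul_mul_tmul, one_mul]
    -- ∑ b i ⊗ s d i = ∑ s b i ⊗ d i
    have h1 : ∀ i, (s * b i) ⊗ₜ[k] d i = ∑ j, b j ⊗ₜ[k] (B (s * b i) (d j) • d i) := fun i => by
      conv_lhs => rw [exp_b (s * b i), sum_tmul]
      refine Finset.sum_congr rfl fun j _ => ?_
      rw [smul_tmul]
    have h2 : ∀ j, b j ⊗ₜ[k] (s * d j) = ∑ i, b j ⊗ₜ[k] (B (s * d j) (b i) • d i) := fun j => by
      conv_lhs => rw [exp_d (s * d j), tmul_sum]
    simp_rw [h1, h2]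
    rw [Finset.sum_comm]
    refine Finset.sum_congr rfl fun i _ => Finset.sum_congr rfl fun j _ => ?_
    congr 2
    simp only [B, Algebra.traceForm_apply]
    congr 1
    ring
  · rw [map_sum]
    simp only [Algebra.TensorProduct.lmul'_apply_tmul]
    -- u = ∑ b i * d i satisfies B (u - 1) s = 0
    have hu : ∀ s : A, B (∑ i, b i * d i) s = B 1 s := fun s => by
      rw [map_sum, LinearMap.sum_apply]
      simp only [B, Algebra.traceForm_apply, one_mul]
      rw [Algebra.trace_eq_matrix_trace b s, Matrix.trace]
      refine Finset.sum_congr rfl fun i _ => ?_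
      rw [Matrix.diag_apply, Algebra.leftMulMatrix_eq_repr_mul, repr_b]
      simp only [B, Algebra.traceForm_apply]
      congr 1
      ring
    have h0 : ∀ s : A, B ((∑ i, b i * d i) - 1) s = 0 := fun s => by
      rw [map_sub, LinearMap.sub_apply, hu, sub_self]
    have := h.1 _ h0
    exact sub_eq_zero.mp this

end Groth.Agent.Lib.Helper59.TraceUnram
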