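import Mathlib
import Groth.Agent.Lib.Helper27.Deligne
import Groth.Agent.Lib.Helper59.TraceUnram

/-! A finite-dimensional commutative Hopf algebra over a field whose dimension is invertible in the
field has non-degenerate trace form, hence is unramified (helper59). -/

set_option autoImplicit false
open TensorProduct

universe u v

namespace Groth.Agent.Lib.Helper59.HopfTrace

open Groth.Agent.Lib.Helper27.Deligne

variable (k : Type u) [Field k] (A : Type v) [CommRing A] [HopfAlgebra k A]

/-- the shear automorphism as an `A`-algebra automorphism (left structure) -/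
noncomputable def shearA : (A ⊗[k] A) ≃ₐ[A] (A ⊗[k] A) :=
  { shearEquiv k A with
    commutes' := fun a => by
      show (shear k A) (a ⊗ₜ 1) = a ⊗ₜ 1
      simp [shear] }

theorem shearA_apply (z : A ⊗[k] A) : shearA k A z = shear k A z := rfl

theorem shearA_one_tmul (a : A) : shearA k A (1 ⊗ₜ a) = Coalgebra.comul (R := k) a := by
  rw [shearA_apply]
  simp [shear, ← Algebra.TensorProduct.one_def]

section fin
variable [Module.Finite k A]

/-- the trace of `A ⊗ A` over the left factor -/
theorem trace_tmul (x y : A) :
    Algebra.trace A (A ⊗[k] A) (x ⊗ₜ y) = Algebra.trace k A y • x := by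
  rw [Algebra.trace_apply]
  have h1 : Algebra.lmul A (A ⊗[k] A) (x ⊗ₜ[k] y) =
      x • (LinearMap.baseChange A (Algebra.lmul k A y)) := by
    apply LinearMap.ext
    intro z
    induction z with
    | zero => simp
    | tmul u v =>
      simp only [LinearMap.smul_apply, LinearMap.baseChange_tmul]
      show (x ⊗ₜ[k] y) * (u ⊗ₜ[k] v) = x • u ⊗ₜ[k] (y * v)
      rw [Algebra.TensorProduct.tmul_mul_tmul, TensorProduct.smul_tmul', smul_eq_mul]
    | add z w hz hw => rw [map_add, map_add, hz, hw]
  rw [h1, map_smul, LinearMap.trace_baseChange, ← Algebra.trace_apply, smul_eq_mul,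
    Algebra.smul_def, mul_comm]

end fin

/-- membership in the radical of the trace form -/
def InK (a : A) : Prop := ∀ c : A, Algebra.trace k A (a * c) = 0

variable {k A}

theorem InK.mul_right {a : A} (h : InK k A a) (x : A) : InK k A (a * x) := fun c => by
  rw [mul_assoc]; exact h _

theorem InK.mul_left {a : A} (h : InK k A a) (x : A) : InK k A (x * a) := by
  rw [mul_comm]; exact h.mul_right x

theorem InK.add {a b : A} (ha : InK k A a) (hb : InK k A b) : InK k A (a + b) := fun c => by
  rw [add_mul, map_add, ha, hb, add_zero]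

theorem InK.zero : InK k A (0 : A) := fun c => by simp

theorem InK.sum {ι : Type*} (s : Finset ι) (f : ι → A) (h : ∀ i ∈ s, InK k A (f i)) :
    InK k A (∑ i ∈ s, f i) := by
  classical
  induction s using Finset.induction_on with
  | empty => simpa using InK.zero
  | insert i s hi ih =>
    rw [Finset.sum_insert hi]
    exact (h i (Finset.mem_insert_self i s)).add
      (ih fun j hj => h j (Finset.mem_insert_of_mem hj))

variable [Module.Finite k A]

/-- Lemma A' -/
theorem trace_one_tmul_mul {a : A} (h : InK k A a) (y : A ⊗[k] A) :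
    Algebra.trace A (A ⊗[k] A) ((1 ⊗ₜ a) * y) = 0 := by
  induction y with
  | zero => simp
  | tmul u v =>
    rw [Algebra.TensorProduct.tmul_mul_tmul, trace_tmul, h v, zero_smul]
  | add y z hy hz => rw [mul_add, map_add, hy, hz, add_zero]

/-- Lemma A'' -/
theorem trace_comul_mul {a : A} (h : InK k A a) (y : A ⊗[k] A) :
    Algebra.trace A (A ⊗[k] A) (Coalgebra.comul (R := k) a * y) = 0 := by
  have h1 : Coalgebra.comul (R := k) a * y =
      shearA k A ((1 ⊗ₜ a) * (shearA k A).symm y) := by
    rw [map_mul, shearA_one_tmul, AlgEquiv.apply_symm_apply]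
  rw [h1, Algebra.trace_eq_of_algEquiv (shearA k A)]
  exact trace_one_tmul_mul h _

omit [Module.Finite k A] in
/-- Lemma D (decomposition along a basis on the left) -/
theorem exists_decomp {ι : Type*} [Fintype ι] (b : Module.Basis ι k A) (z : A ⊗[k] A) :
    ∃ f : ι → A, z = ∑ i, b i ⊗ₜ[k] f i := by
  induction z with
  | zero => exact ⟨fun _ => 0, by simp⟩
  | tmul x y =>
    refine ⟨fun i => b.repr x i • y, ?_⟩
    conv_lhs => rw [← b.sum_repr x, sum_tmul]
    refine Finset.sum_congr rfl fun i _ => ?_
    rw [smul_tmul]
  | add z w hz hw =>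
    obtain ⟨f, hf⟩ := hz
    obtain ⟨g, hg⟩ := hw
    refine ⟨fun i => f i + g i, ?_⟩
    rw [hf, hg, ← Finset.sum_add_distrib]
    refine Finset.sum_congr rfl fun i _ => ?_
    rw [tmul_add]

theorem exists_decomp_inK {ι : Type*} [Fintype ι] (b : Module.Basis ι k A) {a : A}
    (h : InK k A a) :
    ∃ f : ι → A, (∀ i, InK k A (f i)) ∧ Coalgebra.comul (R := k) a = ∑ i, b i ⊗ₜ[k] f i := by
  obtain ⟨f, hf⟩ := exists_decomp b (Coalgebra.comul (R := k) a)
  refine ⟨f, fun i c => ?_, hf⟩
  have h1 := trace_comul_mul h (1 ⊗ₜ c)
  rw [hf, Finset.sum_mul, map_sum] at h1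
  simp only [Algebra.TensorProduct.tmul_mul_tmul, mul_one, trace_tmul] at h1
  exact Fintype.linearIndependent_iff.mp b.linearIndependent _ h1 i

theorem counit_eq_zero (hn : (Module.finrank k A : k) ≠ 0) {a : A} (h : InK k A a) :
    Coalgebra.counit (R := k) a = 0 := by
  classical
  let b := Module.Free.chooseBasis k A
  obtain ⟨f, hf, hd⟩ := exists_decomp_inK b h
  have h1 := HopfAlgebra.mul_antipode_rTensor_comul_apply (R := k) a
  rw [hd, map_sum, map_sum] at h1
  simp only [LinearMap.rTensor_tmul, LinearMap.mul'_apply] at h1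
  have h2 : InK k A (algebraMap k A (Coalgebra.counit (R := k) a)) := by
    rw [← h1]
    exact InK.sum _ _ fun i _ => (hf i).mul_left _
  have h3 := h2 1
  rw [mul_one, Algebra.trace_algebraMap, nsmul_eq_mul] at h3
  exact (mul_eq_zero.mp h3).resolve_left hn

theorem eq_zero_of_inK (hn : (Module.finrank k A : k) ≠ 0) {a : A} (h : InK k A a) : a = 0 := by
  classical
  let b := Module.Free.chooseBasis k A
  obtain ⟨f, hf, hd⟩ := exists_decomp_inK b h
  have h1 := Coalgebra.lTensor_counit_comul (R := k) a
  rw [hd, map_sum] at h1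
  simp only [LinearMap.lTensor_tmul, counit_eq_zero hn (hf _), tmul_zero,
    Finset.sum_const_zero] at h1
  have h2 := congrArg (TensorProduct.rid k A) h1
  simpa using h2.symm

variable (k A)

theorem traceForm_nondegenerate (hn : (Module.finrank k A : k) ≠ 0) :
    (Algebra.traceForm k A).Nondegenerate := by
  refine ⟨fun a ha => ?_, fun a ha => ?_⟩
  · exact eq_zero_of_inK hn fun c => by
      have := ha c
      rwa [Algebra.traceForm_apply] at this
  · exact eq_zero_of_inK hn fun c => by
      have := ha c
      rwa [Algebra.traceForm_apply, mul_comm] at this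

/-- a finite-dimensional commutative Hopf algebra whose dimension is invertible is unramified -/
theorem formallyUnramified (hn : (Module.finrank k A : k) ≠ 0) :
    Algebra.FormallyUnramified k A :=
  TraceUnram.formallyUnramified_of_nondegenerate k A (traceForm_nondegenerate k A hn)

end Groth.Agent.Lib.Helper59.HopfTrace
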