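import Mathlib
import Groth.Prelude.Def_CartDual
import Groth.Agent.Lib.Helper59.HopfTrace

/-! Finite commutative group schemes over a field of char p: étale with étale dual iff p ∤ order
(helper59). -/

set_option autoImplicit false
open TensorProduct

universe u

namespace Groth.Agent.Lib.Helper59.CartEtale

open Groth.Agent.Lib.Helper59.HopfTrace

variable (k : Type u) [Field k]

section idem
variable (H : Type u) [CommRing H] [Algebra k H] [Module.Finite k H] [IsReduced H]

/-- in a reduced finite-dimensional augmented algebra there is an idempotent "integral" -/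
theorem exists_idem (ε : H →ₐ[k] k) : ∃ e : H, (∀ x, x * e = ε x • e) ∧ ε e = 1 := by
  have : IsArtinianRing H := .of_finite k H
  have : IsSemisimpleRing H := IsArtinianRing.isSemisimpleRing_of_isReduced H
  obtain ⟨e', he', hI⟩ := IsSemisimpleRing.ideal_eq_span_idempotent (RingHom.ker ε.toRingHom)
  have he'ε : ε e' = 0 := by
    have : e' ∈ RingHom.ker ε.toRingHom := by
      rw [hI]; exact Ideal.mem_span_singleton_self e'
    exact this
  refine ⟨1 - e', fun x => ?_, ?_⟩
  · have hx : x - algebraMap k H (ε x) ∈ RingHom.ker ε.toRingHom := by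
      rw [RingHom.mem_ker]
      show ε (x - algebraMap k H (ε x)) = 0
      rw [map_sub, AlgHom.commutes]
      simp
    rw [hI, Ideal.mem_span_singleton'] at hx
    obtain ⟨y, hy⟩ := hx
    have h0 : (x - algebraMap k H (ε x)) * (1 - e') = 0 := by
      rw [← hy, mul_assoc, mul_sub, mul_one, he'.eq, sub_self, mul_zero]
    rw [sub_mul, sub_eq_zero] at h0
    rw [h0, Algebra.smul_def]
  · rw [map_sub, map_one, he'ε, sub_zero]

omit [IsReduced H] in
/-- the trace of such an idempotent is one -/
theorem trace_idem (ε : H →ₐ[k] k) (e : H) (h1 : ∀ x, x * e = ε x • e) (h2 : ε e = 1) :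
    Algebra.trace k H e = 1 := by
  rw [Algebra.trace_apply]
  have : Algebra.lmul k H e = (ε.toLinearMap).smulRight e := by
    apply LinearMap.ext
    intro x
    show e * x = ε x • e
    rw [mul_comm, h1]
  rw [this, LinearMap.trace_smulRight]
  exact h2

end idem

section main
variable (A : Type u) [CommRing A] [HopfAlgebra k A] [Module.Finite k A]

/-- invariance of the trace: `(id ⊗ tr) Δ b = tr b • 1` -/
theorem rid_lTensor_trace_comul (b : A) :
    TensorProduct.rid k A (LinearMap.lTensor A (Algebra.trace k A) (Coalgebra.comul (R := k) b)) =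
      Algebra.trace k A b • (1 : A) := by
  have h1 : ∀ t : A ⊗[k] A, TensorProduct.rid k A (LinearMap.lTensor A (Algebra.trace k A) t) =
      Algebra.trace A (A ⊗[k] A) t := by
    intro t
    induction t with
    | zero => simp
    | tmul x y => rw [trace_tmul]; simp
    | add t s ht hs => rw [map_add, map_add, ht, hs, map_add]
  rw [h1, ← shearA_one_tmul, Algebra.trace_eq_of_algEquiv (shearA k A), trace_tmul]

variable {k A}

/-- a left-invariant functional and the trace: `tr a = n * λ a` -/
theorem trace_eq_of_invariant [Coalgebra.IsCocomm k A] (l : A →ₗ[k] k)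
    (hl : ∀ a, TensorProduct.rid k A (LinearMap.lTensor A l (Coalgebra.comul (R := k) a)) =
      l a • (1 : A)) (hl1 : l 1 = 1) (a : A) :
    Algebra.trace k A a = (Module.finrank k A : k) * l a := by
  set τ := Algebra.trace k A with hτ
  -- P t = (l ⊗ τ) t
  let P : A ⊗[k] A →ₗ[k] k := LinearMap.mul' k k ∘ₗ TensorProduct.map l τ
  have hb : ∀ t : A ⊗[k] A, P t = l (TensorProduct.rid k A (LinearMap.lTensor A τ t)) := by
    intro t
    induction t with
    | zero => simp
    | tmul x y => simp [P, mul_comm]
    | add t s ht hs => rw [map_add, ht, hs, map_add, map_add, map_add]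
  have ha : ∀ t : A ⊗[k] A, P t = τ (TensorProduct.lid k A (LinearMap.rTensor A l t)) := by
    intro t
    induction t with
    | zero => simp
    | tmul x y => simp [P]
    | add t s ht hs => rw [map_add, ht, hs, map_add, map_add, map_add]
  have hc : ∀ t : A ⊗[k] A, TensorProduct.lid k A (LinearMap.rTensor A l (TensorProduct.comm k A A t)) =
      TensorProduct.rid k A (LinearMap.lTensor A l t) := by
    intro t
    induction t with
    | zero => simp
    | tmul x y => simp
    | add t s ht hs => rw [map_add, map_add, map_add, ht, hs, map_add, map_add]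
  have h1 := hb (Coalgebra.comul (R := k) a)
  rw [rid_lTensor_trace_comul, map_smul, hl1, smul_eq_mul, mul_one] at h1
  have h2 := ha (Coalgebra.comul (R := k) a)
  rw [← Coalgebra.comm_comul k a, hc, Coalgebra.comm_comul, hl, map_smul, smul_eq_mul] at h2
  rw [← h1, h2, hτ]
  have h3 : Algebra.trace k A (1 : A) = (Module.finrank k A : k) := by
    have := Algebra.trace_algebraMap (R := k) (S := A) (1 : k)
    rw [map_one, nsmul_eq_mul, mul_one] at this
    exact this
  rw [h3, mul_comm]

end main

section dual
variable {k}
variable (A : Type u) [CommRing A] [HopfAlgebra k A] [Module.Finite k A] [Coalgebra.IsCocomm k A]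

/-- if the dual Hopf algebra is reduced there is a normalised invariant functional -/
theorem exists_invariant [IsReduced (CartDual.D k A)] :
    ∃ l : A →ₗ[k] k, (∀ a, TensorProduct.rid k A
      (LinearMap.lTensor A l (Coalgebra.comul (R := k) a)) = l a • (1 : A)) ∧ l 1 = 1 := by
  obtain ⟨e, he1, he2⟩ := exists_idem k (CartDual.D k A) (Bialgebra.counitAlgHom k (CartDual.D k A))
  refine ⟨e.ofConv, fun a => ?_, ?_⟩
  · rw [← sub_eq_zero, ← Module.forall_dual_apply_eq_zero_iff k]
    intro φ
    rw [map_sub, sub_eq_zero]
    have h1 : ∀ t : A ⊗[k] A, φ (TensorProduct.rid k A (LinearMap.lTensor A e.ofConv t)) =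
        LinearMap.mul' k k (TensorProduct.map φ e.ofConv t) := by
      intro t
      induction t with
      | zero => simp
      | tmul x y => simp [mul_comm]
      | add t s ht hs => rw [map_add, map_add, map_add, ht, hs, map_add, map_add]
    rw [h1]
    have h2 := congrArg (fun z : CartDual.D k A => z a) (he1 (WithConv.toConv φ))
    simp only [LinearMap.convMul_apply] at h2
    rw [h2]
    simp [mul_comm]
  · exact he2

end dual

section final
variable (A : Type u) [CommRing A] [HopfAlgebra k A] [Coalgebra.IsCocomm k A]
  [FiniteDimensional k A]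

theorem etale_of_finrank_ne_zero (B : Type u) [CommRing B] [HopfAlgebra k B] [Module.Finite k B]
    (hn : (Module.finrank k B : k) ≠ 0) : Algebra.Etale k B := by
  have := HopfTrace.formallyUnramified k B hn
  have : Algebra.FormallyEtale k B := Algebra.FormallyEtale.of_formallyUnramified_of_field k B
  have : Algebra.FinitePresentation k B :=
    Algebra.FinitePresentation.of_finiteType.mp inferInstance
  exact ⟨inferInstance, inferInstance⟩

theorem main (p : ℕ) [Fact p.Prime] [CharP k p] :
    (Algebra.Etale k A ∧ Algebra.Etale k (CartDual.D k A)) ↔ ¬ p ∣ Module.finrank k A := by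
  constructor
  · rintro ⟨hA, hD⟩ hp
    have : IsReduced A := Algebra.FormallyUnramified.isReduced_of_field k A
    have : IsReduced (CartDual.D k A) := Algebra.FormallyUnramified.isReduced_of_field k _
    obtain ⟨l, hl, hl1⟩ := exists_invariant (k := k) A
    have hn : (Module.finrank k A : k) = 0 := (CharP.cast_eq_zero_iff k p _).mpr hp
    have htr : ∀ a, Algebra.trace k A a = 0 := fun a => by
      rw [trace_eq_of_invariant l hl hl1, hn, zero_mul]
    obtain ⟨e, he1, he2⟩ := exists_idem k A (Bialgebra.counitAlgHom k A)
    have h1 := trace_idem k A _ e he1 he2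
    rw [htr] at h1
    exact zero_ne_one h1
  · intro hp
    have hn : (Module.finrank k A : k) ≠ 0 := fun h => hp ((CharP.cast_eq_zero_iff k p _).mp h)
    refine ⟨etale_of_finrank_ne_zero k A hn, etale_of_finrank_ne_zero k (CartDual.D k A) ?_⟩
    have h1 : Module.finrank k (CartDual.D k A) = Module.finrank k A := by
      rw [(CartDual.toDual k A).finrank_eq, Subspace.dual_finrank_eq]
    rw [h1]
    exact hn

end final

end Groth.Agent.Lib.Helper59.CartEtale
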