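import Mathlib
import Groth.Prelude.Def_HopfRep

/-!
# Smallest subcomodule containing a submodule, by faithfully flat descent

`A` a commutative ring, `C` an `A`-coalgebra, `V` a `C`-comodule, `A'` a faithfully flat
`A`-algebra with `A' ⊗ C` projective over `A'`.  We construct the smallest subcomodule `hull M`
of `V` containing a given submodule `M`.
-/

open TensorProduct

namespace Groth.Agent.Lib.Helper59.ComodDescent

section Contr

variable {A : Type*} [CommRing A] {C : Type*} [AddCommGroup C] [Module A C]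
  {A' : Type*} [CommRing A'] [Algebra A A']

/-- contraction of the `C` factor along `φ : C → A'`. -/
noncomputable def contr (V : Type*) [AddCommGroup V] [Module A V] (φ : C →ₗ[A] A') :
    V ⊗[A] C →ₗ[A] A' ⊗[A] V :=
  (TensorProduct.comm A V A').toLinearMap ∘ₗ φ.lTensor V

@[simp] lemma contr_tmul {V : Type*} [AddCommGroup V] [Module A V] (φ : C →ₗ[A] A') (v : V)
    (c : C) : contr V φ (v ⊗ₜ c) = φ c ⊗ₜ v := by
  simp [contr]

lemma contr_rTensor {V₁ V₂ : Type*} [AddCommGroup V₁] [Module A V₁] [AddCommGroup V₂]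
    [Module A V₂] (f : V₁ →ₗ[A] V₂) (φ : C →ₗ[A] A') (z : V₁ ⊗[A] C) :
    contr V₂ φ (f.rTensor C z) = f.lTensor A' (contr V₁ φ z) := by
  induction z with
  | zero => simp
  | tmul v c => simp
  | add x y hx hy => simp [hx, hy]

variable (s : (A' ⊗[A] C) →ₗ[A'] ((A' ⊗[A] C) →₀ A'))

/-- `c ↦ s (1 ⊗ c)`. -/
noncomputable def s₁ : C →ₗ[A] ((A' ⊗[A] C) →₀ A') :=
  s.restrictScalars A ∘ₗ TensorProduct.mk A A' C 1

/-- the coordinate functionals of the "dual basis". -/
noncomputable def coord (j : A' ⊗[A] C) : C →ₗ[A] A' :=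
  (Finsupp.lapply (R := A') j).restrictScalars A ∘ₗ s₁ s

lemma coord_apply (j : A' ⊗[A] C) (c : C) : coord s j c = s (1 ⊗ₜ c) j := rfl

open scoped Classical in
/-- the finitely supported family of contractions. -/
noncomputable def Y (V : Type*) [AddCommGroup V] [Module A V] :
    V ⊗[A] C →ₗ[A] ((A' ⊗[A] C) →₀ A' ⊗[A] V) :=
  (TensorProduct.finsuppLeft A A A' V (A' ⊗[A] C)).toLinearMap ∘ₗ (s₁ s).rTensor V ∘ₗ
    (TensorProduct.comm A V C).toLinearMap

lemma Y_tmul {V : Type*} [AddCommGroup V] [Module A V] (v : V) (c : C) :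
    Y s V (v ⊗ₜ c) = (s (1 ⊗ₜ c)).sum fun j a => Finsupp.single j (a ⊗ₜ[A] v) := by
  simp [Y, s₁, TensorProduct.finsuppLeft_apply_tmul]

lemma Y_apply {V : Type*} [AddCommGroup V] [Module A V] (x : V ⊗[A] C) (j : A' ⊗[A] C) :
    Y s V x j = contr V (coord s j) x := by
  induction x with
  | zero => simp
  | tmul v c => simp [Y, s₁, coord_apply]
  | add x y hx hy => simp [hx, hy]

section Expand

variable {V : Type*} [AddCommGroup V] [Module A V]
  {N D P : Type*} [AddCommGroup N] [Module A' N] [Module A N] [IsScalarTower A A' N]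
  [AddCommGroup D] [Module A' D] [Module A D] [IsScalarTower A A' D]
  [AddCommGroup P] [Module A P]

/-- the `A`-linear map `v ⊗ c ↦ B (Ψ' (1 ⊗ c)) (δ (1 ⊗ v))`. -/
noncomputable def pairing (Ψ' : (A' ⊗[A] C) →ₗ[A'] N) (δ : A' ⊗[A] V →ₗ[A'] D)
    (B : N →ₗ[A] D →ₗ[A] P) : V ⊗[A] C →ₗ[A] P :=
  TensorProduct.lift ((B.compl₁₂ (Ψ'.restrictScalars A ∘ₗ TensorProduct.mk A A' C 1)
    (δ.restrictScalars A ∘ₗ TensorProduct.mk A A' V 1)).flip)

@[simp] lemma pairing_tmul (Ψ' : (A' ⊗[A] C) →ₗ[A'] N) (δ : A' ⊗[A] V →ₗ[A'] D)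
    (B : N →ₗ[A] D →ₗ[A] P) (v : V) (c : C) :
    pairing Ψ' δ B (v ⊗ₜ c) = B (Ψ' (1 ⊗ₜ c)) (δ (1 ⊗ₜ v)) := by
  simp [pairing]

theorem expand (hs : Finsupp.linearCombination A' id ∘ₗ s = .id)
    (Ψ' : (A' ⊗[A] C) →ₗ[A'] N) (δ : A' ⊗[A] V →ₗ[A'] D)
    (B : N →ₗ[A] D →ₗ[A] P) (hB : ∀ (a : A') (n : N) (d : D), B (a • n) d = B n (a • d))
    (x : V ⊗[A] C) :
    pairing Ψ' δ B x = (Y s V x).sum (fun j u => B (Ψ' j) (δ u)) := by
  induction x with
  | zero => simp
  | tmul v c =>
    rw [pairing_tmul, Y_tmul, Finsupp.sum_sum_index (by simp) (by simp)]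
    have h1 : (1 : A') ⊗ₜ[A] c = (s (1 ⊗ₜ c)).sum fun j a => a • j := by
      have := LinearMap.congr_fun hs (1 ⊗ₜ c)
      simpa [Finsupp.linearCombination_apply] using this.symm
    conv_lhs => rw [h1]
    have h2 : ∀ (j : A' ⊗[A] C) (a : A'),
        (Finsupp.single j (a ⊗ₜ[A] v)).sum (fun j u => B (Ψ' j) (δ u)) =
          B (Ψ' j) (δ (a ⊗ₜ v)) := fun j a => Finsupp.sum_single_index (by simp)
    simp only [h2]
    simp only [Finsupp.sum, map_sum, LinearMap.sum_apply]
    refine Finset.sum_congr rfl fun j _ => ?_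
    rw [map_smul, hB, ← map_smul, TensorProduct.smul_tmul', smul_eq_mul, mul_one]
  | add x y hx hy =>
    rw [map_add, map_add, Finsupp.sum_add_index' (by simp) (by simp), hx, hy]

theorem pairing_eq_zero (hs : Finsupp.linearCombination A' id ∘ₗ s = .id)
    (Ψ' : (A' ⊗[A] C) →ₗ[A'] N) (δ : A' ⊗[A] V →ₗ[A'] D)
    (B : N →ₗ[A] D →ₗ[A] P) (hB : ∀ (a : A') (n : N) (d : D), B (a • n) d = B n (a • d))
    (x : V ⊗[A] C) (hx : ∀ ψ : C →ₗ[A] A', δ (contr V ψ x) = 0) :
    pairing Ψ' δ B x = 0 := by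
  rw [expand s hs Ψ' δ B hB x]
  refine Finset.sum_eq_zero fun j _ => ?_
  simp only [Y_apply, hx, map_zero]

end Expand

section Twist

variable (Q' : Type*) [AddCommGroup Q'] [Module A Q'] [Module A' Q'] [IsScalarTower A A' Q']

/-- `b₁ ⊗ b₂ ↦ q ↦ b₂ ⊗ b₁ • q`. -/
noncomputable def twistB : A' ⊗[A] A' →ₗ[A] Q' →ₗ[A] A' ⊗[A] Q' :=
  TensorProduct.lift (((LinearMap.llcomp A Q' Q' (A' ⊗[A] Q')).flip).compl₁₂
    (Algebra.lsmul A A Q').toLinearMap (TensorProduct.mk A A' Q'))

variable {Q'}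

@[simp] lemma twistB_tmul (b₁ b₂ : A') (q : Q') :
    twistB (A := A) Q' (b₁ ⊗ₜ b₂) q = b₂ ⊗ₜ (b₁ • q) := by
  simp [twistB]

lemma twistB_smul (a : A') (n : A' ⊗[A] A') (q : Q') :
    twistB (A := A) Q' (a • n) q = twistB (A := A) Q' n (a • q) := by
  induction n with
  | zero => simp
  | tmul b₁ b₂ => simp [TensorProduct.smul_tmul', mul_smul, mul_comm a b₁]
  | add x y hx hy => simp [smul_add, hx, hy]

end Twist

section Distrib

variable (C) (Q : Type*) [AddCommGroup Q] [Module A Q]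

/-- `(a ⊗ c) ↦ (b ⊗ q) ↦ ba ⊗ (q ⊗ c)`. -/
noncomputable def distB : A' ⊗[A] C →ₗ[A] A' ⊗[A] Q →ₗ[A] A' ⊗[A] (Q ⊗[A] C) :=
  (((TensorProduct.mk A' (A' ⊗[A] Q) (A' ⊗[A] C)).flip).compr₂
    (AlgebraTensorModule.distribBaseChange A A' Q C).symm.toLinearMap).restrictScalars₁₂ A A

variable {C Q}

@[simp] lemma distB_tmul (a b : A') (q : Q) (c : C) :
    distB (A := A) C Q (a ⊗ₜ c) (b ⊗ₜ q) = (b * a) ⊗ₜ (q ⊗ₜ c) := by
  simp [distB]

lemma distB_smul (a : A') (n : A' ⊗[A] C) (d : A' ⊗[A] Q) :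
    distB (A := A) C Q (a • n) d = distB (A := A) C Q n (a • d) := by
  simp [distB, TensorProduct.smul_tmul]

end Distrib

end Contr

section Comod

variable {A : Type*} [CommRing A] {C : Type*} [AddCommGroup C] [Module A C] [Coalgebra A C]
  {V : Type*} [AddCommGroup V] [Module A V] [HopfRep.Comod A C V]
  (A' : Type*) [CommRing A'] [Algebra A A']

local notation "ρ" => HopfRep.Comod.coact (k := A) (A := C) (V := V)

variable (C) in
/-- the `A'`-span of all contractions of `ρ m`, `m ∈ M`. -/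
noncomputable def genSpan (M : Submodule A V) : Submodule A' (A' ⊗[A] V) :=
  Submodule.span A' {y | ∃ (φ : C →ₗ[A] A') (m : V), m ∈ M ∧ y = contr V φ (ρ m)}

variable (C) in
/-- `v ↦ [1 ⊗ v]` in `(A' ⊗ V) / genSpan`. -/
noncomputable def hullMap (M : Submodule A V) : V →ₗ[A] (A' ⊗[A] V) ⧸ genSpan C A' M :=
  (genSpan C A' M).mkQ.restrictScalars A ∘ₗ TensorProduct.mk A A' V 1

variable (C) in
/-- the candidate smallest subcomodule containing `M`. -/
noncomputable def hull (M : Submodule A V) : Submodule A V := LinearMap.ker (hullMap C A' M)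

lemma mem_hull {M : Submodule A V} {v : V} :
    v ∈ hull C A' M ↔ (1 : A') ⊗ₜ[A] v ∈ genSpan C A' M := by
  simp [hull, hullMap]

lemma contr_mem_genSpan {M : Submodule A V} (φ : C →ₗ[A] A') {m : V} (hm : m ∈ M) :
    contr V φ (ρ m) ∈ genSpan C A' M :=
  Submodule.subset_span ⟨φ, m, hm, rfl⟩

lemma le_hull (M : Submodule A V) : M ≤ hull C A' M := by
  intro m hm
  rw [mem_hull]
  have h1 : (1 : A') ⊗ₜ[A] m =
      contr V ((Algebra.linearMap A A') ∘ₗ (CoalgebraStruct.counit (R := A) (A := C))) (ρ m) := by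
    have h2 := LinearMap.congr_fun (HopfRep.Comod.counit_comp (k := A) (A := C) (V := V)) m
    simp only [LinearMap.coe_comp, Function.comp_apply, LinearMap.flip_apply,
      TensorProduct.mk_apply] at h2
    rw [contr, LinearMap.lTensor_comp, LinearMap.comp_apply, LinearMap.comp_apply, h2]
    simp
  rw [h1]
  exact contr_mem_genSpan A' _ hm

lemma genSpan_le_of_isSubcomod {M W₁ : Submodule A V}
    (hW₁ : HopfRep.IsSubcomod (k := A) (A := C) W₁) (hM : M ≤ W₁) :
    genSpan C A' M ≤ LinearMap.range (W₁.subtype.baseChange A') := by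
  refine Submodule.span_le.mpr ?_
  rintro _ ⟨φ, m, hm, rfl⟩
  obtain ⟨z, hz⟩ := hW₁ m (hM hm)
  rw [← hz, contr_rTensor]
  exact ⟨contr W₁ φ z, rfl⟩

lemma baseChange_mkQ_eq_zero_of_mem_range (W₁ : Submodule A V) {y : A' ⊗[A] V}
    (hy : y ∈ LinearMap.range (W₁.subtype.baseChange A')) : W₁.mkQ.baseChange A' y = 0 := by
  obtain ⟨z, rfl⟩ := hy
  rw [← LinearMap.comp_apply, ← LinearMap.baseChange_comp]
  have : W₁.mkQ ∘ₗ W₁.subtype = 0 := by ext; simp
  rw [this]
  simp

lemma hull_le [Module.FaithfullyFlat A A'] {M W₁ : Submodule A V}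
    (hW₁ : HopfRep.IsSubcomod (k := A) (A := C) W₁) (hM : M ≤ W₁) : hull C A' M ≤ W₁ := by
  intro v hv
  rw [mem_hull] at hv
  have h1 := baseChange_mkQ_eq_zero_of_mem_range A' W₁ (genSpan_le_of_isSubcomod A' hW₁ hM hv)
  rw [LinearMap.baseChange_tmul] at h1
  have h2 := Module.FaithfullyFlat.tensorProduct_mk_injective (A := A) (B := A') (V ⧸ W₁)
    (a₁ := W₁.mkQ v) (a₂ := 0) (by simpa using h1)
  simpa using h2

theorem genSpan_le_range [Module.Flat A A']
    (s : (A' ⊗[A] C) →ₗ[A'] ((A' ⊗[A] C) →₀ A'))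
    (hs : Finsupp.linearCombination A' id ∘ₗ s = .id) (M : Submodule A V) :
    genSpan C A' M ≤ LinearMap.range ((hull C A' M).subtype.baseChange A') := by
  have hker := Module.Flat.ker_lTensor_eq (R := A) A' A' (hullMap C A' M)
  refine Submodule.span_le.mpr ?_
  rintro _ ⟨φ, m, hm, rfl⟩
  show _ ∈ LinearMap.range (AlgebraTensorModule.lTensor A' A'
    (LinearMap.ker (hullMap C A' M)).subtype)
  rw [← hker, LinearMap.mem_ker]
  have key := pairing_eq_zero s hs (φ.baseChange A') (genSpan C A' M).mkQ (twistB _)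
    twistB_smul (ρ m) (fun ψ => by
      rw [Submodule.mkQ_apply, Submodule.Quotient.mk_eq_zero]
      exact contr_mem_genSpan A' ψ hm)
  have h3 : pairing (φ.baseChange A') (genSpan C A' M).mkQ
      (twistB ((A' ⊗[A] V) ⧸ genSpan C A' M)) = (hullMap C A' M).lTensor A' ∘ₗ contr V φ := by
    ext v c
    simp [hullMap]
  rw [h3] at key
  exact key

lemma step4_key (φ : C →ₗ[A] A') (W : Submodule A V) (v : V) (t : C ⊗[A] C) :
    distB (A := A) C (V ⧸ W) ((TensorProduct.comm A C A') (φ.lTensor C t)) (1 ⊗ₜ W.mkQ v) =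
      (W.mkQ.rTensor C).lTensor A'
        (contr (V ⊗[A] C) φ ((TensorProduct.assoc A V C C).symm (v ⊗ₜ t))) := by
  induction t with
  | zero => simp
  | tmul c₁ c₂ => simp
  | add x y hx hy => simp only [TensorProduct.tmul_add, map_add, LinearMap.add_apply, hx, hy]

theorem isSubcomod_hull [Module.FaithfullyFlat A A']
    (s : (A' ⊗[A] C) →ₗ[A'] ((A' ⊗[A] C) →₀ A'))
    (hs : Finsupp.linearCombination A' id ∘ₗ s = .id) (M : Submodule A V) :
    HopfRep.IsSubcomod (k := A) (A := C) (hull C A' M) := by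
  set W := hull C A' M with hW
  let h : V →ₗ[A] (V ⧸ W) ⊗[A] C := W.mkQ.rTensor C ∘ₗ ρ
  have hgen : genSpan C A' M ≤ LinearMap.ker (h.baseChange A') := by
    refine Submodule.span_le.mpr ?_
    rintro _ ⟨φ, m, hm, rfl⟩
    rw [SetLike.mem_coe, LinearMap.mem_ker]
    let Ψ : C →ₗ[A] A' ⊗[A] C :=
      (TensorProduct.comm A C A').toLinearMap ∘ₗ φ.lTensor C ∘ₗ Coalgebra.comul
    have key := pairing_eq_zero s hs (Ψ.liftBaseChange A') (W.mkQ.baseChange A')
      (distB C (V ⧸ W)) distB_smul (ρ m) (fun ψ =>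
        baseChange_mkQ_eq_zero_of_mem_range A' W
          (genSpan_le_range A' s hs M (contr_mem_genSpan A' ψ hm)))
    have h3 : ∀ x : V ⊗[A] C, pairing (Ψ.liftBaseChange A') (W.mkQ.baseChange A')
        (distB C (V ⧸ W)) x = (W.mkQ.rTensor C).lTensor A' (contr (V ⊗[A] C) φ
          ((TensorProduct.assoc A V C C).symm (Coalgebra.comul.lTensor V x))) := by
      intro x
      induction x with
      | zero => simp
      | tmul v c =>
        rw [pairing_tmul, LinearMap.lTensor_tmul, ← step4_key, LinearMap.liftBaseChange_tmul,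
          one_smul, LinearMap.baseChange_tmul]
        rfl
      | add x y hx hy => simp only [map_add, hx, hy]
    rw [h3] at key
    have hco := LinearMap.congr_fun (HopfRep.Comod.coassoc (k := A) (A := C) (V := V)) m
    simp only [LinearMap.coe_comp, LinearEquiv.coe_coe, Function.comp_apply] at hco
    rw [← hco, LinearEquiv.symm_apply_apply, contr_rTensor] at key
    rw [LinearMap.baseChange_comp, LinearMap.comp_apply, LinearMap.baseChange_eq_ltensor,
      LinearMap.baseChange_eq_ltensor]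
    exact key
  intro w hw
  have h1 : h.baseChange A' (1 ⊗ₜ w) = 0 := hgen ((mem_hull A').mp hw)
  rw [LinearMap.baseChange_tmul] at h1
  have h2 : h w = 0 := Module.FaithfullyFlat.tensorProduct_mk_injective (A := A) (B := A') _
    (a₁ := h w) (a₂ := 0) (by simpa using h1)
  have hex := rTensor_exact C (LinearMap.exact_subtype_mkQ W) (Submodule.mkQ_surjective W)
  exact (hex (ρ w)).mp h2

theorem genSpan_fg (s : (A' ⊗[A] C) →ₗ[A'] ((A' ⊗[A] C) →₀ A'))
    (hs : Finsupp.linearCombination A' id ∘ₗ s = .id) {M : Submodule A V} (hM : M.FG) :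
    (genSpan C A' M).FG := by
  classical
  obtain ⟨S, hS⟩ := hM
  let G : Finset (A' ⊗[A] V) := S.biUnion (fun m =>
    (Y s V (ρ m)).support.image (fun j => contr V (coord s j) (ρ m)))
  refine ⟨G, le_antisymm ?_ ?_⟩
  · refine Submodule.span_le.mpr ?_
    intro y hy
    simp only [G, Finset.coe_biUnion, Finset.coe_image, Set.mem_iUnion, Set.mem_image] at hy
    obtain ⟨m, hm, j, -, rfl⟩ := hy
    exact contr_mem_genSpan A' _ (hS ▸ Submodule.subset_span hm)
  · refine Submodule.span_le.mpr ?_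
    rintro _ ⟨φ, m, hm, rfl⟩
    have hle : M ≤ Submodule.comap (contr V φ ∘ₗ ρ)
        ((Submodule.span A' (G : Set (A' ⊗[A] V))).restrictScalars A) := by
      rw [← hS]
      refine Submodule.span_le.mpr ?_
      intro m hm
      have hB : ∀ (a : A') (n : A') (d : A' ⊗[A] V),
          ((LinearMap.lsmul A' (A' ⊗[A] V)).restrictScalars₁₂ A A) (a • n) d =
            ((LinearMap.lsmul A' (A' ⊗[A] V)).restrictScalars₁₂ A A) n (a • d) := by
        intro a n d
        simp [mul_smul, smul_comm a n d]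
      have hexp := expand (V := V) s hs (φ.liftBaseChange A') LinearMap.id
        ((LinearMap.lsmul A' (A' ⊗[A] V)).restrictScalars₁₂ A A) hB (ρ m)
      have h3 : pairing (φ.liftBaseChange A') (LinearMap.id (R := A') (M := A' ⊗[A] V))
          ((LinearMap.lsmul A' (A' ⊗[A] V)).restrictScalars₁₂ A A) = contr V φ := by
        ext v c
        simp [TensorProduct.smul_tmul']
      rw [h3] at hexp
      simp only [SetLike.mem_coe, Submodule.mem_comap, LinearMap.coe_comp, Function.comp_apply,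
        Submodule.restrictScalars_mem, hexp]
      refine Submodule.sum_mem _ fun j hj => ?_
      refine Submodule.smul_mem _ _ (Submodule.subset_span ?_)
      simp only [G, Finset.coe_biUnion, Finset.coe_image, Set.mem_iUnion, Set.mem_image]
      exact ⟨m, hm, j, hj, (Y_apply s _ j).symm⟩
    exact hle hm

theorem range_baseChange_hull [Module.Flat A A']
    (s : (A' ⊗[A] C) →ₗ[A'] ((A' ⊗[A] C) →₀ A'))
    (hs : Finsupp.linearCombination A' id ∘ₗ s = .id) (M : Submodule A V) :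
    LinearMap.range ((hull C A' M).subtype.baseChange A') = genSpan C A' M := by
  refine le_antisymm ?_ (genSpan_le_range A' s hs M)
  rintro _ ⟨z, rfl⟩
  induction z with
  | zero => simp
  | tmul a w =>
    have : (hull C A' M).subtype.baseChange A' (a ⊗ₜ w) = a • ((1 : A') ⊗ₜ[A] (w : V)) := by
      simp [TensorProduct.smul_tmul']
    rw [this]
    exact Submodule.smul_mem _ _ ((mem_hull A').mp w.2)
  | add x y hx hy =>
    rw [map_add]
    exact Submodule.add_mem _ hx hy

theorem hull_fg [Module.FaithfullyFlat A A']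
    (s : (A' ⊗[A] C) →ₗ[A'] ((A' ⊗[A] C) →₀ A'))
    (hs : Finsupp.linearCombination A' id ∘ₗ s = .id) {M : Submodule A V} (hM : M.FG) :
    (hull C A' M).FG := by
  have h1 := genSpan_fg A' s hs hM
  have hrange := range_baseChange_hull A' s hs M
  have hinj : Function.Injective ((hull C A' M).subtype.baseChange A') :=
    Module.Flat.lTensor_preserves_injective_linearMap _ (hull C A' M).injective_subtype
  let e : A' ⊗[A] (hull C A' M) ≃ₗ[A'] genSpan C A' M :=
    (LinearEquiv.ofInjective _ hinj).trans (LinearEquiv.ofEq _ _ hrange)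
  haveI : Module.Finite A' (A' ⊗[A] (hull C A' M)) := by
    rw [Module.Finite.equiv_iff e, Module.Finite.iff_fg]
    exact h1
  have := Module.Finite.of_finite_tensorProduct_of_faithfullyFlat (R := A) A'
    (M := hull C A' M)
  exact Module.Finite.iff_fg.mp this

end Comod

end Groth.Agent.Lib.Helper59.ComodDescent
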