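import Mathlib
import Groth.Prelude.Def_CurvBase
import Groth.Agent.Lib.Helper19.Grp.Homogeneity
import Groth.Agent.Lib.Helper19.UnramifiedLocus
import Groth.Agent.Lib.Helper19.RingHomProp

/-!
# Group schemes with trivial cotangent space at the unit (over an algebraically closed field)
-/

set_option autoImplicit false
universe u

open CategoryTheory CategoryTheory.Limits AlgebraicGeometry MonoidalCategory
  CartesianMonoidalCategory MonObj GrpObj

namespace Groth.Agent.Lib.Helper59.CotZero

open Groth.Agent.Lib.Helper19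

section field

variable (k : Type u) [Field k]

lemma isField_gamma : IsField Γ(Spec (CommRingCat.of k), ⊤) :=
  MulEquiv.isField (Field.toIsField k)
    (Scheme.ΓSpecIso (CommRingCat.of k)).commRingCatIsoToRingEquiv.toMulEquiv

/-- The germ map at a point of the spectrum of a field is bijective. -/
lemma germ_top_bijective (y : Spec (CommRingCat.of k)) :
    Function.Bijective ((Spec (CommRingCat.of k)).presheaf.germ ⊤ y trivial).hom := by
  let A := Γ(Spec (CommRingCat.of k), ⊤)
  have hA : IsField A := isField_gamma k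
  let yy : ((⊤ : (Spec (CommRingCat.of k)).Opens) : Type u) := ⟨y, trivial⟩
  letI := (Spec (CommRingCat.of k)).presheaf.algebra_section_stalk yy
  have loc := (isAffineOpen_top (Spec (CommRingCat.of k))).isLocalization_stalk yy
  have hunits : ∀ m ∈ ((isAffineOpen_top (Spec (CommRingCat.of k))).primeIdealOf
      yy).asIdeal.primeCompl, IsUnit m := by
    intro m hm
    have hm0 : m ≠ 0 := by
      rintro rfl
      exact hm (Ideal.zero_mem _)
    obtain ⟨b, hb⟩ := hA.mul_inv_cancel hm0
    exact IsUnit.of_mul_eq_one b hb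
  let e : A ≃ₐ[A] ((Spec (CommRingCat.of k)).presheaf.stalk y) :=
    IsLocalization.atUnits A ((isAffineOpen_top (Spec (CommRingCat.of k))).primeIdealOf
      yy).asIdeal.primeCompl (S := (Spec (CommRingCat.of k)).presheaf.stalk y) hunits
  have he : ∀ a : A, e a = algebraMap A _ a := fun a => by
    have := e.commutes a
    simpa using this
  have hb := e.bijective
  have : (⇑e : A → _) = ⇑((Spec (CommRingCat.of k)).presheaf.germ ⊤ y trivial).hom := by
    funext a
    rw [he a]
    rfl
  rw [← this]
  exact hb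

end field

section unram

/-- If the base ring surjects onto the local ring at a point, the morphism is unramified near
that point. -/
theorem exists_nhd_unramified_of_surjective {X S : Scheme.{u}} (f : X ⟶ S)
    [LocallyOfFiniteType f] (x : X) {V : S.Opens} (hV : IsAffineOpen V) (hxV : f x ∈ V)
    (hsurj : Function.Surjective (f.app V ≫ X.presheaf.germ (f ⁻¹ᵁ V) x hxV).hom) :
    ∃ U : X.Opens, x ∈ U ∧ FormallyUnramified (U.ι ≫ f) := by
  have hresp := formallyUnramified_respectsRight_isOpenImmersion.{u}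
  obtain ⟨U₀, hU₀, hxU₀, hU₀V⟩ := exists_isAffineOpen_mem_and_subset (x := x)
    (U := f ⁻¹ᵁ V) hxV
  have hU₀V' : U₀ ≤ f ⁻¹ᵁ V := hU₀V
  let _ : Algebra Γ(S, V) Γ(X, U₀) := (f.appLE V U₀ hU₀V').hom.toAlgebra
  letI := X.presheaf.algebra_section_stalk ⟨x, hxU₀⟩
  let _ : Algebra Γ(S, V) (X.presheaf.stalk x) :=
    ((X.presheaf.germ U₀ x hxU₀).hom.comp (f.appLE V U₀ hU₀V').hom).toAlgebra
  have : IsScalarTower Γ(S, V) Γ(X, U₀) (X.presheaf.stalk x) := .of_algebraMap_eq' rfl
  have loc := hU₀.isLocalization_stalk ⟨x, hxU₀⟩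
  have hft : Algebra.FiniteType Γ(S, V) Γ(X, U₀) := f.finiteType_appLE hV hU₀ hU₀V'
  have hsurj' : Function.Surjective (algebraMap Γ(S, V) (X.presheaf.stalk x)) := by
    have : (f.app V ≫ X.presheaf.germ (f ⁻¹ᵁ V) x hxV) =
        f.appLE V U₀ hU₀V' ≫ X.presheaf.germ U₀ x hxU₀ := by
      rw [Scheme.Hom.appLE, Category.assoc, X.presheaf.germ_res]
    rw [this] at hsurj
    exact hsurj
  have h1 : Algebra.FormallyUnramified Γ(S, V) (X.presheaf.stalk x) :=
    Algebra.FormallyUnramified.of_surjective (Algebra.ofId _ _) hsurj'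
  set P := hU₀.primeIdealOf ⟨x, hxU₀⟩ with hP
  let e : Localization.AtPrime P.asIdeal ≃ₐ[Γ(S, V)] X.presheaf.stalk x :=
    (IsLocalization.algEquiv P.asIdeal.primeCompl (Localization.AtPrime P.asIdeal)
      (X.presheaf.stalk x)).restrictScalars Γ(S, V)
  have : Algebra.IsUnramifiedAt Γ(S, V) P.asIdeal := Algebra.FormallyUnramified.of_equiv e.symm
  obtain ⟨b, hbP, hb⟩ :=
    Algebra.exists_formallyUnramified_of_isUnramifiedAt (R := Γ(S, V)) P.asIdeal
  refine ⟨X.basicOpen b, (mem_basicOpen_iff_notMem_primeIdealOf hU₀ x hxU₀ b).mpr hbP, ?_⟩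
  rw [ι_comp_iff_appLE @FormallyUnramified f hV (hU₀.basicOpen b)
    ((X.basicOpen_le b).trans hU₀V'),
    ← f.appLE_map hU₀V' (homOfLE (X.basicOpen_le b)).op]
  exact (formallyUnramified_basicOpen_iff hU₀ b).mpr hb

instance lqf_of_unramified {X Y : Scheme.{u}} (f : X ⟶ Y) [FormallyUnramified f]
    [LocallyOfFiniteType f] : LocallyQuasiFinite f := by
  refine ⟨fun {U} hU {V} hV e => ?_⟩
  have h1 : (f.appLE U V e).hom.FormallyUnramified :=
    HasRingHomProperty.appLE (P := @FormallyUnramified) _ inferInstance ⟨U, hU⟩ ⟨V, hV⟩ e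
  have h2 : (f.appLE U V e).hom.FiniteType := f.finiteType_appLE hU hV e
  algebraize [(f.appLE U V e).hom]
  have : Algebra.EssFiniteType Γ(Y, U) Γ(X, V) := inferInstance
  exact (inferInstance : Algebra.QuasiFinite Γ(Y, U) Γ(X, V))

end unram

section main

variable (k : Type u) [Field k]

/-- The canonical map from `k` to the local ring of a point of `Spec k`. -/
noncomputable def kappa (y : Spec (CommRingCat.of k)) :
    k →+* (Spec (CommRingCat.of k)).presheaf.stalk y :=
  ((Spec (CommRingCat.of k)).presheaf.germ ⊤ y trivial).hom.comp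
    (Scheme.ΓSpecIso (CommRingCat.of k)).inv.hom

lemma kappa_bijective (y : Spec (CommRingCat.of k)) : Function.Bijective (kappa k y) := by
  refine (germ_top_bijective k y).comp ?_
  exact (Scheme.ΓSpecIso (CommRingCat.of k)).symm.commRingCatIsoToRingEquiv.bijective

lemma stalkMap_eq (X : Scheme.{u}) [X.Over (Spec (CommRingCat.of k))] (x : X) :
    Curv2.stalkMap k X x = ((X ↘ Spec (CommRingCat.of k)).stalkMap x).hom.comp
      (kappa k ((X ↘ Spec (CommRingCat.of k)) x)) := by
  ext a
  simp only [Curv2.stalkMap, Coh.toGlobal, kappa, RingHom.comp_apply]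
  erw [Scheme.Hom.germ_stalkMap_apply]
  rfl

/-- injectivity of a ring hom out of a field-like ring -/
lemma injective_of_isField {A B : Type*} [CommRing A] [CommRing B] [Nontrivial B]
    (hA : IsField A) (φ : A →+* B) : Function.Injective φ := by
  rw [injective_iff_map_eq_zero]
  intro a ha
  by_contra hne
  obtain ⟨b, hb⟩ := hA.mul_inv_cancel hne
  have := congrArg φ hb
  rw [map_mul, ha, zero_mul, map_one] at this
  exact zero_ne_one this

lemma id_surj (g : Spec (CommRingCat.of k) ⟶ Spec (CommRingCat.of k)) (hg : g = 𝟙 _)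
    (pt : Spec (CommRingCat.of k)) :
    Function.Surjective (g.app ⊤ ≫ (Spec (CommRingCat.of k)).presheaf.germ (g ⁻¹ᵁ ⊤) pt
      trivial).hom := by
  subst hg
  have : ((𝟙 (Spec (CommRingCat.of k)) : Spec (CommRingCat.of k) ⟶ _).app ⊤ ≫
      (Spec (CommRingCat.of k)).presheaf.germ
        ((𝟙 (Spec (CommRingCat.of k)) : Spec (CommRingCat.of k) ⟶ _) ⁻¹ᵁ ⊤) pt trivial) =
      (Spec (CommRingCat.of k)).presheaf.germ ⊤ pt trivial := by
    simp
  rw [this]
  exact (germ_top_bijective k pt).surjective

/-- surjectivity of `Γ(Spec k) → O_{X,e}` at a rational point with field local ring. -/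
lemma surj_of_section {X : Scheme.{u}} (f : X ⟶ Spec (CommRingCat.of k))
    (η₀ : Spec (CommRingCat.of k) ⟶ X) (hη : η₀ ≫ f = 𝟙 _) (pt : Spec (CommRingCat.of k))
    (hfield : IsField (X.presheaf.stalk (η₀ pt))) :
    Function.Surjective (f.app ⊤ ≫ X.presheaf.germ (f ⁻¹ᵁ ⊤) (η₀ pt) trivial).hom := by
  have hinj : Function.Injective (η₀.stalkMap pt).hom := injective_of_isField hfield _
  have hcomp : (f.app ⊤ ≫ X.presheaf.germ (f ⁻¹ᵁ ⊤) (η₀ pt) trivial) ≫ η₀.stalkMap pt =
      (η₀ ≫ f).app ⊤ ≫ (Spec (CommRingCat.of k)).presheaf.germ ((η₀ ≫ f) ⁻¹ᵁ ⊤) pt trivial := by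
    rw [Category.assoc, Scheme.Hom.germ_stalkMap, Scheme.Hom.comp_app]
    exact (Category.assoc _ _ _).symm
  intro x
  obtain ⟨r, hr⟩ := id_surj k (η₀ ≫ f) hη pt ((η₀.stalkMap pt).hom x)
  refine ⟨r, hinj ?_⟩
  rw [← hr, ← hcomp]
  rfl

end main

section final

variable (k : Type u) [Field k]

theorem main_iff [IsAlgClosed k] (G : Over (Spec (CommRingCat.of k))) [GrpObj G]
    [LocallyOfFiniteType G.hom] [QuasiCompact G.hom]
    (e : G.left) (he : e ∈ Set.range (η[G]).left.base) :
    letI : G.left.Over (Spec (CommRingCat.of k)) := ⟨G.hom⟩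
    Subsingleton (IsLocalRing.CotangentSpace (G.left.presheaf.stalk e)) ↔
      (Finite G.left ∧ DiscreteTopology G.left ∧
        ∀ g : G.left, Function.Bijective (Curv2.stalkMap k G.left g)) := by
  letI : G.left.Over (Spec (CommRingCat.of k)) := ⟨G.hom⟩
  have hG : IsLocallyNoetherian G.left := LocallyOfFiniteType.isLocallyNoetherian G.hom
  obtain ⟨pt, rfl⟩ := he
  constructor
  · intro h
    have hfield : IsField (G.left.presheaf.stalk (η[G].left.base pt)) :=
      IsLocalRing.subsingleton_cotangentSpace_iff.mp h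
    have hη : η[G].left ≫ G.hom = 𝟙 _ := by
      have := Over.w η[G]
      simpa using this
    have hs := surj_of_section k G.hom η[G].left hη pt hfield
    obtain ⟨U, hU, hUu⟩ := exists_nhd_unramified_of_surjective G.hom (η[G].left pt)
      (isAffineOpen_top _) trivial hs
    have hlft1 : LocallyOfFiniteType (𝟙_ (Over (Spec (CommRingCat.of k)))).hom :=
      inferInstanceAs (LocallyOfFiniteType (𝟙 (Spec (CommRingCat.of k))))
    have key : FormallyUnramified (toUnit G).left := by
      refine formallyUnramified_of_unit k G (𝟙_ _) (toUnit G) pt ⟨U, hU, ?_⟩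
      rw [toUnit_left_eq]
      exact hUu
    rw [toUnit_left_eq] at key
    haveI := key
    have hsub : Subsingleton (Spec (CommRingCat.of k)) :=
      inferInstanceAs (Subsingleton (PrimeSpectrum k))
    have huniv : G.hom ⁻¹' {G.hom (η[G].left pt)} = Set.univ := by
      ext x
      simp only [Set.mem_preimage, Set.mem_singleton_iff, Set.mem_univ, iff_true]
      exact Subsingleton.elim _ _
    refine ⟨?_, ?_, ?_⟩
    · have := G.hom.finite_preimage_singleton (G.hom (η[G].left pt))
      rw [huniv] at this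
      exact Set.finite_univ_iff.mp this
    · have := G.hom.isDiscrete_preimage_singleton (G.hom (η[G].left pt))
      rw [huniv] at this
      exact isDiscrete_univ_iff.mp this
    · intro g
      rw [stalkMap_eq]
      change Function.Bijective ((G.hom.stalkMap g).hom.comp (kappa k (G.hom g)))
      have h1 : ((G.hom.stalkMap g).hom.comp (kappa k (G.hom g))).FormallyUnramified :=
        (RingHom.FormallyUnramified.of_surjective (kappa_bijective k _).surjective).comp
          (FormallyUnramified.stalkMap G.hom g)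
      have h2 : ((G.hom.stalkMap g).hom.comp (kappa k (G.hom g))).EssFiniteType :=
        ((RingHom.FiniteType.of_surjective _ (kappa_bijective k _).surjective).essFiniteType).comp
          (LocallyOfFiniteType.stalkMap G.hom g)
      letI := ((G.hom.stalkMap g).hom.comp (kappa k (G.hom g))).toAlgebra
      have : Algebra.FormallyUnramified k (G.left.presheaf.stalk g) := h1
      have : Algebra.EssFiniteType k (G.left.presheaf.stalk g) := h2
      exact Algebra.FormallyUnramified.bijective_of_isAlgClosed_of_isLocalRing k _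
  · rintro ⟨-, -, h3⟩
    have hb := h3 (η[G].left pt)
    have : IsField (G.left.presheaf.stalk (η[G].left.base pt)) :=
      MulEquiv.isField (Field.toIsField k) (RingEquiv.ofBijective _ hb).symm.toMulEquiv
    exact IsLocalRing.subsingleton_cotangentSpace_iff.mpr this

end final

end Groth.Agent.Lib.Helper59.CotZero
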