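import Mathlib

/-!
# Divided powers on an ideal of a torsion-free ring
-/

set_option autoImplicit false
universe u
open Nat Finset

namespace Groth.Agent.Lib.Helper59.DPTorsionFree

variable {A : Type u} [CommRing A] [IsAddTorsionFree A]

lemma cancel {n : ℕ} (hn : n ≠ 0) {a b : A} (h : (n : A) * a = (n : A) * b) : a = b := by
  apply IsAddTorsionFree.nsmul_right_injective hn
  simpa [nsmul_eq_mul] using h

lemma cancel_fact {n : ℕ} {a b : A} (h : (n ! : A) * a = (n ! : A) * b) : a = b :=
  cancel (Nat.factorial_ne_zero n) h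

variable (I : Ideal A)

theorem subsingleton : Subsingleton (DividedPowers I) := by
  refine ⟨fun h h' => ?_⟩
  apply DividedPowers.ext
  intro n x hx
  apply cancel_fact (n := n)
  rw [h.factorial_mul_dpow_eq_pow hx, h'.factorial_mul_dpow_eq_pow hx]

/-- the divisibility hypothesis on all of `I` -/
def Good : Prop := ∀ x ∈ I, ∀ n : ℕ, 1 ≤ n → ∃ y ∈ I, (n ! : A) * y = x ^ n

variable {I}

open Classical in
/-- the divided power function -/
noncomputable def d (H : Good I) : ℕ → A → A := fun n x =>
  if hx : x ∈ I then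
    (if hn : n = 0 then 1 else Classical.choose (H x hx n (Nat.one_le_iff_ne_zero.2 hn)))
  else 0

lemma d_spec (H : Good I) {x : A} (hx : x ∈ I) (n : ℕ) : (n ! : A) * d H n x = x ^ n := by
  unfold d
  rw [dif_pos hx]
  split_ifs with hn
  · subst hn
    simp
  · exact (Classical.choose_spec (H x hx n (Nat.one_le_iff_ne_zero.2 hn))).2

lemma d_mem (H : Good I) {x : A} (hx : x ∈ I) {n : ℕ} (hn : n ≠ 0) : d H n x ∈ I := by
  unfold d
  rw [dif_pos hx, dif_neg hn]
  exact (Classical.choose_spec (H x hx n (Nat.one_le_iff_ne_zero.2 hn))).1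

lemma d_null (H : Good I) {x : A} (hx : x ∉ I) (n : ℕ) : d H n x = 0 := by
  unfold d
  rw [dif_neg hx]

/-- the divided power structure -/
noncomputable def dp (H : Good I) : DividedPowers I where
  dpow := d H
  dpow_null hx := d_null H hx _
  dpow_zero hx := by
    have := d_spec H hx 0
    simpa using this
  dpow_one hx := by
    have := d_spec H hx 1
    simpa using this
  dpow_mem hn hx := d_mem H hx hn
  dpow_add {n x y} hx hy := by
    apply cancel_fact (n := n)
    rw [d_spec H (I.add_mem hx hy), (Commute.all x y).add_pow', Finset.mul_sum]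
    refine Finset.sum_congr rfl fun kl hkl => ?_
    rw [Finset.HasAntidiagonal.mem_antidiagonal] at hkl
    have hfac : (n ! : A) = (n.choose kl.1 : A) * (kl.1 ! : A) * (kl.2 ! : A) := by
      rw [← hkl, Nat.choose_symm_add]
      have := congrArg (fun t : ℕ => (t : A))
        (Nat.add_choose_mul_factorial_mul_factorial kl.1 kl.2).symm
      push_cast at this
      exact this
    rw [hfac, nsmul_eq_mul, ← d_spec H hx kl.1, ← d_spec H hy kl.2]
    ring
  dpow_mul {n a x} hx := by
    apply cancel_fact (n := n)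
    rw [d_spec H (I.mul_mem_left a hx), mul_pow, ← d_spec H hx n]
    ring
  mul_dpow {m n x} hx := by
    apply cancel_fact (n := m)
    apply cancel_fact (n := n)
    have h1 : (n ! : A) * ((m ! : A) * (d H m x * d H n x)) =
        ((m ! : A) * d H m x) * ((n ! : A) * d H n x) := by ring
    have h2 : (n ! : A) * ((m ! : A) * (((m + n).choose m : A) * d H (m + n) x)) =
        ((m + n) ! : A) * d H (m + n) x := by
      have hf : (((m + n) ! : ℕ) : A) = ((m + n).choose m : A) * (m ! : A) * (n ! : A) := by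
        rw [Nat.choose_symm_add]
        have := congrArg (fun t : ℕ => (t : A))
          (Nat.add_choose_mul_factorial_mul_factorial m n).symm
        push_cast at this
        exact this
      rw [hf]
      ring
    rw [h1, h2, d_spec H hx, d_spec H hx, d_spec H hx, pow_add]
  dpow_comp {m n x} hn hx := by
    apply cancel_fact (n := m)
    apply cancel (n := n ! ^ m) (pow_ne_zero _ (Nat.factorial_ne_zero n))
    have hmem := d_mem H hx hn
    have h1 : ((n ! ^ m : ℕ) : A) * ((m ! : A) * d H m (d H n x)) = x ^ (m * n) := by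
      rw [d_spec H hmem m]
      push_cast
      rw [← mul_pow, d_spec H hx n, ← pow_mul, mul_comm]
    have h2 : ((n ! ^ m : ℕ) : A) * ((m ! : A) * ((Nat.uniformBell m n : A) * d H (m * n) x)) =
        x ^ (m * n) := by
      rw [← d_spec H hx (m * n), ← Nat.uniformBell_mul_eq m hn]
      push_cast
      ring
    rw [h1, h2]

/-- the set of good elements is closed under addition -/
lemma good_of_span {S : Set A} (hS : Ideal.span S = I)
    (h : ∀ x ∈ S, ∀ n : ℕ, 1 ≤ n → x ^ n ∈ Ideal.span {(Nat.factorial n : A)} * I) : Good I := by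
  -- P x : x ∈ I and all powers divisible
  have key : ∀ x ∈ Ideal.span S, x ∈ I ∧ ∀ n : ℕ, 1 ≤ n → ∃ y ∈ I, (n ! : A) * y = x ^ n := by
    intro x hx
    induction hx using Submodule.span_induction with
    | mem x hxS =>
      refine ⟨hS ▸ Ideal.subset_span hxS, fun n hn => ?_⟩
      exact Ideal.mem_span_singleton_mul.1 (h x hxS n hn)
    | zero =>
      refine ⟨I.zero_mem, fun n hn => ⟨0, I.zero_mem, ?_⟩⟩
      rw [mul_zero, zero_pow (by omega)]
    | add x y _ _ hx hy =>
      obtain ⟨hxI, hx⟩ := hx
      obtain ⟨hyI, hy⟩ := hy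
      refine ⟨I.add_mem hxI hyI, fun n hn => ?_⟩
      -- choose divided powers
      have hx' : ∀ k, ∃ a, (k ≠ 0 → a ∈ I) ∧ (k ! : A) * a = x ^ k := by
        intro k
        rcases Nat.eq_zero_or_pos k with rfl | hk
        · exact ⟨1, fun h => absurd rfl h, by simp⟩
        · obtain ⟨a, ha, hak⟩ := hx k hk
          exact ⟨a, fun _ => ha, hak⟩
      have hy' : ∀ k, ∃ a, (k ≠ 0 → a ∈ I) ∧ (k ! : A) * a = y ^ k := by
        intro k
        rcases Nat.eq_zero_or_pos k with rfl | hk
        · exact ⟨1, fun h => absurd rfl h, by simp⟩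
        · obtain ⟨a, ha, hak⟩ := hy k hk
          exact ⟨a, fun _ => ha, hak⟩
      choose a ha1 ha2 using hx'
      choose b hb1 hb2 using hy'
      refine ⟨∑ kl ∈ antidiagonal n, a kl.1 * b kl.2, ?_, ?_⟩
      · refine I.sum_mem fun kl hkl => ?_
        rw [Finset.HasAntidiagonal.mem_antidiagonal] at hkl
        by_cases hk : kl.1 = 0
        · have : kl.2 ≠ 0 := by omega
          exact I.mul_mem_left _ (hb1 _ this)
        · exact I.mul_mem_right _ (ha1 _ hk)
      · rw [(Commute.all x y).add_pow', Finset.mul_sum]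
        refine Finset.sum_congr rfl fun kl hkl => ?_
        rw [Finset.HasAntidiagonal.mem_antidiagonal] at hkl
        have hfac : (n ! : A) = (n.choose kl.1 : A) * (kl.1 ! : A) * (kl.2 ! : A) := by
          rw [← hkl, Nat.choose_symm_add]
          have := congrArg (fun t : ℕ => (t : A))
            (Nat.add_choose_mul_factorial_mul_factorial kl.1 kl.2).symm
          push_cast at this
          exact this
        rw [hfac, nsmul_eq_mul, ← ha2 kl.1, ← hb2 kl.2]
        ring
    | smul c x _ hx =>
      obtain ⟨hxI, hx⟩ := hx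
      refine ⟨I.mul_mem_left c hxI, fun n hn => ?_⟩
      obtain ⟨y, hy, hyn⟩ := hx n hn
      refine ⟨c ^ n * y, I.mul_mem_left _ hy, ?_⟩
      rw [smul_eq_mul, mul_pow, ← hyn]
      ring
  intro x hx n hn
  exact (key x (hS ▸ hx)).2 n hn

variable (I)

theorem main : Subsingleton (DividedPowers I) ∧
    (Nonempty (DividedPowers I) ↔ ∃ S : Set A, Ideal.span S = I ∧
      ∀ x ∈ S, ∀ n : ℕ, 1 ≤ n → x ^ n ∈ Ideal.span {(Nat.factorial n : A)} * I) := by
  refine ⟨subsingleton I, ?_, ?_⟩
  · rintro ⟨h⟩
    refine ⟨(I : Set A), Ideal.span_eq I, fun x hx n hn => ?_⟩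
    rw [Ideal.mem_span_singleton_mul]
    exact ⟨h.dpow n x, h.dpow_mem (by omega) hx, h.factorial_mul_dpow_eq_pow hx⟩
  · rintro ⟨S, hS, h⟩
    exact ⟨dp (good_of_span hS h)⟩

end Groth.Agent.Lib.Helper59.DPTorsionFree
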