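import Mathlib
import Groth.Prelude.Def_DeRham

/-!
# Base change of exterior powers (helper59)

For a ring map `A → B` and an `A`-module `M`, the natural `B`-linear map
`B ⊗[A] ⋀[A]^p M → ⋀[B]^p (B ⊗[A] M)` is bijective.  The inverse direction is built through
the exterior algebra: `ExteriorAlgebra B (B ⊗[A] M) →ₐ[B] B ⊗[A] ExteriorAlgebra A M`
(the universal property only needs a linear map with square zero), followed by the graded projection.
-/

namespace Groth.Agent.Lib.Helper59.ExtPowBC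

open TensorProduct

section General

variable (A B M : Type*) [CommRing A] [CommRing B] [Algebra A B] [AddCommGroup M] [Module A M]

/-- base-changed `ι` -/
noncomputable def ιB : B ⊗[A] M →ₗ[B] B ⊗[A] ExteriorAlgebra A M :=
  (ExteriorAlgebra.ι A : M →ₗ[A] ExteriorAlgebra A M).baseChange B

lemma ιB_tmul (b : B) (m : M) : ιB A B M (b ⊗ₜ m) = b ⊗ₜ ExteriorAlgebra.ι A m :=
  LinearMap.baseChange_tmul ..

lemma ιB_mul_swap (x y : B ⊗[A] M) :
    ιB A B M x * ιB A B M y + ιB A B M y * ιB A B M x = 0 := by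
  induction x with
  | zero => simp
  | add x₁ x₂ h₁ h₂ => rw [map_add, add_mul, mul_add, add_add_add_comm, h₁, h₂, add_zero]
  | tmul b m =>
    induction y with
    | zero => simp
    | add y₁ y₂ h₁ h₂ => rw [map_add, add_mul, mul_add, add_add_add_comm, h₁, h₂, add_zero]
    | tmul b' m' =>
      rw [ιB_tmul, ιB_tmul, Algebra.TensorProduct.tmul_mul_tmul,
        Algebra.TensorProduct.tmul_mul_tmul, mul_comm b' b, ← tmul_add,
        ExteriorAlgebra.ι_add_mul_swap, tmul_zero]

lemma ιB_sq (x : B ⊗[A] M) : ιB A B M x * ιB A B M x = 0 := by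
  induction x with
  | zero => simp
  | tmul b m =>
    rw [ιB_tmul, Algebra.TensorProduct.tmul_mul_tmul, ExteriorAlgebra.ι_sq_zero, tmul_zero]
  | add x y hx hy =>
    rw [map_add, add_mul, mul_add, mul_add, hx, hy, zero_add, add_zero, ιB_mul_swap]

/-- the comparison map of exterior algebras -/
noncomputable def β : ExteriorAlgebra B (B ⊗[A] M) →ₐ[B] B ⊗[A] ExteriorAlgebra A M :=
  ExteriorAlgebra.lift B ⟨ιB A B M, ιB_sq A B M⟩

lemma β_ι (x : B ⊗[A] M) : β A B M (ExteriorAlgebra.ι B x) = ιB A B M x :=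
  ExteriorAlgebra.lift_ι_apply ..

lemma β_ιMulti (p : ℕ) (m : Fin p → M) :
    β A B M (ExteriorAlgebra.ιMulti B p (fun i => (1 : B) ⊗ₜ[A] m i)) =
      (1 : B) ⊗ₜ[A] ExteriorAlgebra.ιMulti A p m := by
  rw [ExteriorAlgebra.ιMulti_apply, ExteriorAlgebra.ιMulti_apply, map_list_prod, List.map_ofFn]
  have h := map_list_prod
    (Algebra.TensorProduct.includeRight : ExteriorAlgebra A M →ₐ[A] B ⊗[A] ExteriorAlgebra A M)
    (List.ofFn fun i => ExteriorAlgebra.ι A (m i))
  rw [Algebra.TensorProduct.includeRight_apply, List.map_ofFn] at h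
  rw [h]
  congr 2
  funext i
  simp only [Function.comp_apply, β_ι, ιB_tmul, Algebra.TensorProduct.includeRight_apply]

/-- graded projection -/
noncomputable def proj (p : ℕ) : ExteriorAlgebra A M →ₗ[A] ↥(⋀[A]^p M) :=
  (DirectSum.component A ℕ (fun i => ↥(⋀[A]^i M)) p) ∘ₗ
    (DirectSum.decomposeLinearEquiv (fun i : ℕ => ⋀[A]^i M)).toLinearMap

lemma proj_coe (p : ℕ) (x : ↥(⋀[A]^p M)) : proj A M p (x : ExteriorAlgebra A M) = x := by
  simp only [proj, LinearMap.coe_comp, LinearEquiv.coe_coe, Function.comp_apply,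
    DirectSum.decomposeLinearEquiv_apply_coe, DirectSum.component.lof_self]

/-- the alternating map `m ↦ (1 ⊗ m₁) ∧ … ∧ (1 ⊗ m_p)` -/
noncomputable def altBC (p : ℕ) : M [⋀^Fin p]→ₗ[A] ↥(⋀[B]^p (B ⊗[A] M)) :=
  { toFun := fun m => exteriorPower.ιMulti B p (fun i => (1 : B) ⊗ₜ[A] m i)
    map_update_add' := by
      intro _ m i x y
      have h : ∀ z, (fun j => (1 : B) ⊗ₜ[A] (Function.update m i z j)) =
          Function.update (fun j => (1 : B) ⊗ₜ[A] (m j)) i ((1 : B) ⊗ₜ[A] z) := by
        intro z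
        ext j
        by_cases hj : j = i
        · subst hj; simp
        · simp [Function.update_of_ne hj]
      simp only [h, tmul_add]
      exact (exteriorPower.ιMulti B p).map_update_add _ i _ _
    map_update_smul' := by
      intro _ m i a x
      have h : ∀ z, (fun j => (1 : B) ⊗ₜ[A] (Function.update m i z j)) =
          Function.update (fun j => (1 : B) ⊗ₜ[A] (m j)) i ((1 : B) ⊗ₜ[A] z) := by
        intro z
        ext j
        by_cases hj : j = i
        · subst hj; simp
        · simp [Function.update_of_ne hj]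
      simp only [h, tmul_smul]
      rw [← algebraMap_smul B a ((1 : B) ⊗ₜ[A] x),
        (exteriorPower.ιMulti B p).map_update_smul, algebraMap_smul]
    map_eq_zero_of_eq' := by
      intro m i j hij hne
      exact (exteriorPower.ιMulti B p).map_eq_zero_of_eq _ (by simp [hij]) hne }

lemma altBC_apply (p : ℕ) (m : Fin p → M) :
    altBC A B M p m = exteriorPower.ιMulti B p (fun i => (1 : B) ⊗ₜ[A] m i) := rfl

/-- the natural comparison map -/
noncomputable def T (p : ℕ) : B ⊗[A] ↥(⋀[A]^p M) →ₗ[B] ↥(⋀[B]^p (B ⊗[A] M)) :=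
  LinearMap.liftBaseChange B (exteriorPower.alternatingMapLinearEquiv (altBC A B M p))

lemma T_tmul_ιMulti (p : ℕ) (b : B) (m : Fin p → M) :
    T A B M p (b ⊗ₜ exteriorPower.ιMulti A p m) =
      b • exteriorPower.ιMulti B p (fun i => (1 : B) ⊗ₜ[A] m i) := by
  rw [T, LinearMap.liftBaseChange_tmul, exteriorPower.alternatingMapLinearEquiv_apply_ιMulti,
    altBC_apply]

/-- the retraction -/
noncomputable def G (p : ℕ) : ↥(⋀[B]^p (B ⊗[A] M)) →ₗ[B] B ⊗[A] ↥(⋀[A]^p M) :=
  ((proj A M p).baseChange B) ∘ₗ (β A B M).toLinearMap ∘ₗ (⋀[B]^p (B ⊗[A] M)).subtype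

lemma G_ιMulti (p : ℕ) (m : Fin p → M) :
    G A B M p (exteriorPower.ιMulti B p (fun i => (1 : B) ⊗ₜ[A] m i)) =
      (1 : B) ⊗ₜ[A] exteriorPower.ιMulti A p m := by
  simp only [G, LinearMap.coe_comp, Function.comp_apply, Submodule.subtype_apply,
    exteriorPower.ιMulti_apply_coe, AlgHom.toLinearMap_apply, β_ιMulti,
    LinearMap.baseChange_tmul]
  rw [← exteriorPower.ιMulti_apply_coe, proj_coe]

lemma G_T_one (p : ℕ) (y : ↥(⋀[A]^p M)) : G A B M p (T A B M p ((1 : B) ⊗ₜ y)) = (1 : B) ⊗ₜ y := by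
  have h : ((G A B M p).restrictScalars A ∘ₗ (T A B M p).restrictScalars A ∘ₗ
      (TensorProduct.mk A B _ 1)) = TensorProduct.mk A B _ 1 := by
    apply exteriorPower.linearMap_ext
    ext m
    simp only [LinearMap.compAlternatingMap_apply, LinearMap.coe_comp, Function.comp_apply,
      LinearMap.coe_restrictScalars, TensorProduct.mk_apply, T_tmul_ιMulti, one_smul, G_ιMulti]
  exact LinearMap.congr_fun h y

lemma G_T (p : ℕ) (x : B ⊗[A] ↥(⋀[A]^p M)) : G A B M p (T A B M p x) = x := by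
  induction x with
  | zero => simp
  | add x y hx hy => rw [map_add, map_add, hx, hy]
  | tmul b y =>
    have : b ⊗ₜ[A] y = b • ((1 : B) ⊗ₜ[A] y) := by rw [smul_tmul', smul_eq_mul, mul_one]
    rw [this, map_smul, map_smul, G_T_one]

lemma T_injective (p : ℕ) : Function.Injective (T A B M p) :=
  Function.LeftInverse.injective (G_T A B M p)

lemma span_one_tmul : Submodule.span B (Set.range fun m : M => (1 : B) ⊗ₜ[A] m) = ⊤ := by
  rw [eq_top_iff]
  intro x hx
  clear hx
  induction x with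
  | zero => exact Submodule.zero_mem _
  | add x y hx hy => exact Submodule.add_mem _ hx hy
  | tmul b m =>
    have : b ⊗ₜ[A] m = b • ((1 : B) ⊗ₜ[A] m) := by rw [smul_tmul', smul_eq_mul, mul_one]
    rw [this]
    exact Submodule.smul_mem _ _ (Submodule.subset_span ⟨m, rfl⟩)

lemma T_surjective (p : ℕ) : Function.Surjective (T A B M p) := by
  rw [← LinearMap.range_eq_top, eq_top_iff,
    ← exteriorPower.ιMulti_span_of_span B p (B ⊗[A] M) (span_one_tmul A B M), Submodule.span_le]
  rintro _ ⟨a, ha, rfl⟩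
  have : ∀ i, ∃ m : M, (1 : B) ⊗ₜ[A] m = a i := fun i => ha ⟨i, rfl⟩
  choose m hm using this
  refine ⟨(1 : B) ⊗ₜ exteriorPower.ιMulti A p m, ?_⟩
  rw [T_tmul_ιMulti, one_smul]
  congr 1
  funext i
  exact hm i

lemma T_bijective (p : ℕ) : Function.Bijective (T A B M p) :=
  ⟨T_injective A B M p, T_surjective A B M p⟩

end General

section MapEquiv

variable {B N N' : Type*} [CommRing B] [AddCommGroup N] [Module B N] [AddCommGroup N'] [Module B N']

lemma map_equiv_bijective (p : ℕ) (e : N ≃ₗ[B] N') :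
    Function.Bijective (exteriorPower.map p e.toLinearMap) := by
  have h1 : (exteriorPower.map p e.symm.toLinearMap) ∘ₗ (exteriorPower.map p e.toLinearMap) =
      LinearMap.id := by
    rw [← exteriorPower.map_comp]
    simp
  have h2 : (exteriorPower.map p e.toLinearMap) ∘ₗ (exteriorPower.map p e.symm.toLinearMap) =
      LinearMap.id := by
    rw [← exteriorPower.map_comp]
    simp
  refine ⟨Function.LeftInverse.injective (g := exteriorPower.map p e.symm.toLinearMap)
    (fun x => LinearMap.congr_fun h1 x), Function.RightInverse.surjective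
    (g := exteriorPower.map p e.symm.toLinearMap) (fun x => LinearMap.congr_fun h2 x)⟩

end MapEquiv

section Gen

open exteriorPower

universe v u

variable {R : Type v} {A M : Type u} [CommRing R] [CommRing A] [Algebra R A]
  [AddCommGroup M] [Module A M] [Module R M]

/-- (as in helper64's S19630 file) the elements `gen` generate the exterior power additively. -/
theorem closure_gen_eq_top (δ : Derivation R A M)
    (hδ : Submodule.span A (Set.range δ) = ⊤) (p : ℕ) :
    AddSubgroup.closure {x : ↥(⋀[A]^p M) | ∃ b₀ b, x = DeRham.gen δ p b₀ b} = ⊤ := by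
  set G := AddSubgroup.closure {x : ↥(⋀[A]^p M) | ∃ b₀ b, x = DeRham.gen δ p b₀ b} with hG
  have hsmul : ∀ (c : A) (x : ↥(⋀[A]^p M)), x ∈ G → c • x ∈ G := by
    intro c x hx
    induction hx using AddSubgroup.closure_induction with
    | mem y hy =>
      obtain ⟨b₀, b, rfl⟩ := hy
      have : c • DeRham.gen δ p b₀ b = DeRham.gen δ p (c * b₀) b := by
        unfold DeRham.gen
        rw [smul_smul]
      rw [this]
      exact AddSubgroup.subset_closure ⟨_, _, rfl⟩
    | zero => rw [smul_zero]; exact G.zero_mem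
    | add y z _ _ hy hz => rw [smul_add]; exact G.add_mem hy hz
    | neg y _ hy => rw [smul_neg]; exact G.neg_mem hy
  rw [eq_top_iff]
  intro x hxtop
  clear hxtop
  have hx : x ∈ Submodule.span A (ιMulti A p '' {a : Fin p → M | Set.range a ⊆ Set.range δ}) := by
    rw [ιMulti_span_of_span A p M hδ]; trivial
  induction hx using Submodule.span_induction with
  | mem y hy =>
    obtain ⟨a, ha, rfl⟩ := hy
    have : ∀ i, ∃ b, δ b = a i := fun i => ha ⟨i, rfl⟩
    choose b hb using this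
    apply AddSubgroup.subset_closure
    refine ⟨1, b, ?_⟩
    unfold DeRham.gen
    rw [one_smul]
    congr 1
    funext i
    exact (hb i).symm
  | zero => exact G.zero_mem
  | add y z _ _ hy hz => exact G.add_mem hy hz
  | smul c y _ hy => exact hsmul c y hy

end Gen

section Kaehler

universe u

variable (R S A B : Type u) [CommRing R] [CommRing S] [CommRing A] [CommRing B]
  [Algebra R S] [Algebra R A] [Algebra R B] [Algebra A B] [Algebra S B]
  [IsScalarTower R A B] [IsScalarTower R S B] [Algebra.IsPushout R S A B]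

open KaehlerDifferential

lemma tensorKaehlerEquiv_one_tmul (x : Ω[A⁄R]) :
    tensorKaehlerEquiv R S A B ((1 : B) ⊗ₜ[A] x) = KaehlerDifferential.map R S A B x := by
  have hx : x ∈ Submodule.span A (Set.range (D R A)) := by
    rw [KaehlerDifferential.span_range_derivation]; trivial
  induction hx using Submodule.span_induction with
  | mem y hy =>
    obtain ⟨a, rfl⟩ := hy
    rw [tensorKaehlerEquiv_tmul_D, one_smul, KaehlerDifferential.map_D]
  | zero => simp
  | add y z _ _ hy hz => rw [tmul_add, map_add, map_add, hy, hz]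
  | smul c y _ hy =>
    rw [tmul_smul, ← algebraMap_smul B c ((1 : B) ⊗ₜ[A] y), map_smul, hy, algebraMap_smul,
      map_smul]

/-- The composite `B ⊗[A] ⋀^p Ω[A/R] → ⋀^p_B (B ⊗[A] Ω[A/R]) → ⋀^p_B Ω[B/S]`. -/
noncomputable def Ψ (p : ℕ) : B ⊗[A] ↥(⋀[A]^p (Ω[A⁄R])) →ₗ[B] ↥(⋀[B]^p (Ω[B⁄S])) :=
  (exteriorPower.map p (tensorKaehlerEquiv R S A B).toLinearMap) ∘ₗ T A B (Ω[A⁄R]) p

lemma Ψ_bijective (p : ℕ) : Function.Bijective (Ψ R S A B p) := by
  rw [Ψ, LinearMap.coe_comp]
  exact (map_equiv_bijective p (tensorKaehlerEquiv R S A B)).comp (T_bijective A B (Ω[A⁄R]) p)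

lemma Ψ_tmul_gen (p : ℕ) (b : B) (b₀ : A) (a : Fin p → A) :
    Ψ R S A B p (b ⊗ₜ DeRham.gen (D R A) p b₀ a) =
      b • DeRham.gen (D S B) p (algebraMap A B b₀) (fun i => algebraMap A B (a i)) := by
  have h1 : b ⊗ₜ[A] DeRham.gen (D R A) p b₀ a =
      (b * algebraMap A B b₀) ⊗ₜ[A] exteriorPower.ιMulti A p (fun i => D R A (a i)) := by
    rw [DeRham.gen, tmul_smul, smul_tmul', Algebra.smul_def, mul_comm]
  rw [h1, Ψ, LinearMap.coe_comp, Function.comp_apply, T_tmul_ιMulti, map_smul,
    exteriorPower.map_apply_ιMulti, DeRham.gen, smul_smul]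
  congr 2
  funext i
  simp only [Function.comp_apply, LinearEquiv.coe_coe, tensorKaehlerEquiv_one_tmul,
    KaehlerDifferential.map_D]

/-- An additive family pinned on the generators agrees with `Ψ`. -/
lemma Ψ_tmul_eq (p : ℕ) (ψ : ↥(⋀[A]^p (Ω[A⁄R])) →+ ↥(⋀[B]^p (Ω[B⁄S])))
    (hψ : ∀ (b₀ : A) (a : Fin p → A), ψ (DeRham.gen (D R A) p b₀ a) =
      DeRham.gen (D S B) p (algebraMap A B b₀) (fun i => algebraMap A B (a i)))
    (b : B) (x : ↥(⋀[A]^p (Ω[A⁄R]))) : Ψ R S A B p (b ⊗ₜ x) = b • ψ x := by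
  have hx : x ∈ AddSubgroup.closure
      {x : ↥(⋀[A]^p (Ω[A⁄R])) | ∃ b₀ b, x = DeRham.gen (D R A) p b₀ b} := by
    rw [closure_gen_eq_top (D R A) (KaehlerDifferential.span_range_derivation R A) p]; trivial
  induction hx using AddSubgroup.closure_induction with
  | mem y hy =>
    obtain ⟨b₀, a, rfl⟩ := hy
    rw [Ψ_tmul_gen, hψ]
  | zero => simp
  | add y z _ _ hy hz => rw [tmul_add, map_add, map_add, smul_add, hy, hz]
  | neg y _ hy => rw [tmul_neg, map_neg, map_neg, smul_neg, hy]

/-- The main theorem: degreewise base change for de Rham complexes. -/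
theorem baseChange_bijective (p : ℕ) (ψ : ↥(⋀[A]^p (Ω[A⁄R])) →+ ↥(⋀[B]^p (Ω[B⁄S])))
    (hψ : ∀ (b₀ : A) (a : Fin p → A), ψ (DeRham.gen (D R A) p b₀ a) =
      DeRham.gen (D S B) p (algebraMap A B b₀) (fun i => algebraMap A B (a i)))
    (Φ : S ⊗[R] ↥(⋀[A]^p (Ω[A⁄R])) →+ ↥(⋀[B]^p (Ω[B⁄S])))
    (hΦ : ∀ (s : S) (x : ↥(⋀[A]^p (Ω[A⁄R]))), Φ (s ⊗ₜ[R] x) = s • ψ x) :
    Function.Bijective Φ := by
  have key : ∀ z, Φ z = Ψ R S A B p
      ((Algebra.IsPushout.cancelBaseChange R S A B ↥(⋀[A]^p (Ω[A⁄R]))).symm z) := by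
    intro z
    induction z with
    | zero => simp
    | add x y hx hy => rw [map_add, map_add, map_add, hx, hy]
    | tmul s x =>
      rw [hΦ, Algebra.IsPushout.cancelBaseChange_symm_tmul, Ψ_tmul_eq R S A B p ψ hψ,
        algebraMap_smul]
  have : (Φ : _ → _) = (Ψ R S A B p) ∘
      (Algebra.IsPushout.cancelBaseChange R S A B ↥(⋀[A]^p (Ω[A⁄R]))).symm := funext key
  rw [this]
  exact (Ψ_bijective R S A B p).comp (LinearEquiv.bijective _)

end Kaehler

end Groth.Agent.Lib.Helper59.ExtPowBC
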