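import Mathlib
import Groth.Prelude.Def_DeRham
import Groth.Agent.Lib.Helper59.ExtPowBC

/-!
# Flat base change for closed and exact forms (helper59)
-/

namespace Groth.Agent.Lib.Helper59.DeRhamBC

open TensorProduct KaehlerDifferential Groth.Agent.Lib.Helper59.ExtPowBC

lemma exists_of_lTensor_eq_zero {R S N N' : Type*} [CommRing R] [CommRing S] [Algebra R S]
    [Module.Flat R S] [AddCommGroup N] [Module R N] [AddCommGroup N'] [Module R N']
    (f : N →ₗ[R] N') (w : S ⊗[R] N) (hw : f.lTensor S w = 0) :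
    ∃ v : S ⊗[R] (LinearMap.ker f), (LinearMap.ker f).subtype.lTensor S v = w := by
  have hex : Function.Exact ((LinearMap.ker f).subtype.lTensor S) (f.lTensor S) :=
    Module.Flat.lTensor_exact S (LinearMap.exact_subtype_ker_map f)
  exact (hex w).1 hw

universe u

variable (R S A B : Type u) [CommRing R] [CommRing S] [CommRing A] [CommRing B]
  [Algebra R S] [Algebra R A] [Algebra R B] [Algebra A B] [Algebra S B]
  [IsScalarTower R A B] [IsScalarTower R S B] [Algebra.IsPushout R S A B]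

/-- the `S`-linear comparison map `S ⊗[R] ⋀^p Ω[A/R] → ⋀^p Ω[B/S]` -/
noncomputable def ΦL (p : ℕ) : S ⊗[R] ↥(⋀[A]^p (Ω[A⁄R])) →ₗ[S] ↥(⋀[B]^p (Ω[B⁄S])) :=
  (Ψ R S A B p).restrictScalars S ∘ₗ
    (Algebra.IsPushout.cancelBaseChange R S A B ↥(⋀[A]^p (Ω[A⁄R]))).symm.toLinearMap

lemma ΦL_bijective (p : ℕ) : Function.Bijective (ΦL R S A B p) := by
  rw [ΦL, LinearMap.coe_comp]
  exact (Ψ_bijective R S A B p).comp (LinearEquiv.bijective _)

variable {R S A B}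

lemma ΦL_tmul (p : ℕ) (ψ : ↥(⋀[A]^p (Ω[A⁄R])) →+ ↥(⋀[B]^p (Ω[B⁄S])))
    (hψ : ∀ (b₀ : A) (a : Fin p → A), ψ (DeRham.gen (D R A) p b₀ a) =
      DeRham.gen (D S B) p (algebraMap A B b₀) (fun i => algebraMap A B (a i)))
    (s : S) (x : ↥(⋀[A]^p (Ω[A⁄R]))) : ΦL R S A B p (s ⊗ₜ x) = s • ψ x := by
  rw [ΦL, LinearMap.coe_comp, Function.comp_apply, LinearEquiv.coe_coe,
    Algebra.IsPushout.cancelBaseChange_symm_tmul, LinearMap.coe_restrictScalars,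
    Ψ_tmul_eq R S A B p ψ hψ, algebraMap_smul]

variable (d : ∀ p : ℕ, ↥(⋀[A]^p (Ω[A⁄R])) →ₗ[R] ↥(⋀[A]^(p + 1) (Ω[A⁄R])))
  (d' : ∀ p : ℕ, ↥(⋀[B]^p (Ω[B⁄S])) →ₗ[S] ↥(⋀[B]^(p + 1) (Ω[B⁄S])))
  (ψ : ∀ p : ℕ, ↥(⋀[A]^p (Ω[A⁄R])) →+ ↥(⋀[B]^p (Ω[B⁄S])))
  (hψ : DeRham.IsCxMap (D R A) (D S B) (algebraMap A B) ψ)
  (hcomm : ∀ (p : ℕ) (x : ↥(⋀[A]^p (Ω[A⁄R]))), ψ (p + 1) (d p x) = d' p (ψ p x))

include hψ hcomm

lemma d'_ΦL (p : ℕ) (w : S ⊗[R] ↥(⋀[A]^p (Ω[A⁄R]))) :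
    d' p (ΦL R S A B p w) = ΦL R S A B (p + 1) ((d p).lTensor S w) := by
  induction w with
  | zero => simp
  | add x y hx hy => rw [map_add, map_add, map_add, map_add, hx, hy]
  | tmul s x =>
    rw [ΦL_tmul p (ψ p) (hψ p), LinearMap.lTensor_tmul, ΦL_tmul (p + 1) (ψ (p + 1)) (hψ (p + 1)),
      map_smul, hcomm]

theorem span_range (p : ℕ) :
    Submodule.span S (ψ (p + 1) '' (LinearMap.range (d p) : Set ↥(⋀[A]^(p + 1) (Ω[A⁄R])))) =
      LinearMap.range (d' p) := by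
  apply le_antisymm
  · rw [Submodule.span_le]
    rintro _ ⟨_, ⟨x, rfl⟩, rfl⟩
    exact ⟨ψ p x, (hcomm p x).symm⟩
  · rintro _ ⟨y, rfl⟩
    obtain ⟨w, rfl⟩ := (ΦL_bijective R S A B p).2 y
    induction w with
    | zero => simp
    | add x y hx hy => rw [map_add, map_add]; exact Submodule.add_mem _ hx hy
    | tmul s x =>
      rw [ΦL_tmul p (ψ p) (hψ p), map_smul, ← hcomm]
      exact Submodule.smul_mem _ _ (Submodule.subset_span ⟨_, ⟨x, rfl⟩, rfl⟩)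

theorem span_ker [Module.Flat R S] (p : ℕ) :
    Submodule.span S (ψ p '' (LinearMap.ker (d p) : Set ↥(⋀[A]^p (Ω[A⁄R])))) =
      LinearMap.ker (d' p) := by
  apply le_antisymm
  · rw [Submodule.span_le]
    rintro _ ⟨x, hx, rfl⟩
    have hx' : d p x = 0 := hx
    change d' p (ψ p x) = 0
    rw [← hcomm, hx', map_zero]
  · intro y hy
    have hy' : d' p y = 0 := hy
    obtain ⟨w, rfl⟩ := (ΦL_bijective R S A B p).2 y
    rw [d'_ΦL d d' ψ hψ hcomm] at hy'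
    have hw : (d p).lTensor S w = 0 :=
      (ΦL_bijective R S A B (p + 1)).1 (by rw [hy', map_zero])
    obtain ⟨v, rfl⟩ := exists_of_lTensor_eq_zero (d p) w hw
    clear hw hy' hy
    induction v with
    | zero => simp
    | add x y hx hy => rw [map_add, map_add]; exact Submodule.add_mem _ hx hy
    | tmul s x =>
      rw [LinearMap.lTensor_tmul, ΦL_tmul p (ψ p) (hψ p)]
      exact Submodule.smul_mem _ _ (Submodule.subset_span ⟨_, x.2, rfl⟩)

end Groth.Agent.Lib.Helper59.DeRhamBC
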