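/-
Helper library (helper59): central division algebras of dimension `p ^ 2` in characteristic `p`
(Albert's `p`-algebras).  Elementary tools:

* `PA.finrank_subalgebra_dvd`: the dimension of a subalgebra of a f.d. division algebra divides
  the dimension of the algebra (tower law);
* `PA.adjoin_pair_eq_top`, `PA.mem_range_of_commute_pair`: in a central division algebra of
  dimension `p ^ 2`, two non-commuting elements generate, and what commutes with both is central;
* `PA.ad`, `PA.ad_pow_char`: inner derivations and `(ad X) ^ p = ad (X ^ p)` in characteristic `p`;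
* `PA.prod_X_sub_C_zmod`: `∏ c : ZMod p, (X - c) = X ^ p - X`;
* `PA.exists_eigenvector_of_pow_eq`: an endomorphism with `D ^ p = D ≠ 0` has an eigenvector with
  non-zero eigenvalue;
* `PA.exists_apply_ne_zero_of_isNilpotent`: a non-zero nilpotent endomorphism `N` has a vector `t`
  with `N t ≠ 0`, `N (N t) = 0`;
* `PA.not_isSeparable_of_pow_mem`: `y ∉ K`, `y ^ p ∈ K` implies `y` is not separable.
-/
import Mathlib

open Module Polynomial

namespace PA

section tower

variable {K : Type*} [Field K] {A : Type*} [DivisionRing A] [Algebra K A] [FiniteDimensional K A]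

/-- A subalgebra of a finite-dimensional division algebra is a division ring. -/
@[reducible] noncomputable def divisionRingSubalgebra (D : Subalgebra K A) : DivisionRing D :=
  DivisionRing.ofIsUnitOrEqZero (fun a => by
    by_cases h : a = 0
    · exact Or.inr h
    · left
      have hinv : ((a : A))⁻¹ ∈ D := Algebra.IsIntegral.inv_mem a.2
      have ha : (a : A) ≠ 0 := fun h0 => h (Subtype.ext h0)
      refine ⟨⟨a, ⟨_, hinv⟩, ?_, ?_⟩, rfl⟩
      · apply Subtype.ext; simp [mul_inv_cancel₀ ha]
      · apply Subtype.ext; simp [inv_mul_cancel₀ ha])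

theorem finrank_subalgebra_dvd (D : Subalgebra K A) : finrank K D ∣ finrank K A := by
  let _ := divisionRingSubalgebra D
  exact Module.finrank_dvd_finrank_right K D A

/-- In a central division algebra of dimension `p ^ 2` with `p` prime, two non-commuting elements
generate the whole algebra. -/
theorem adjoin_pair_eq_top {p : ℕ} (hp : p.Prime) (hA : finrank K A = p ^ 2) (s t : A)
    (hst : s * t ≠ t * s) : Algebra.adjoin K {s, t} = ⊤ := by
  set B := Algebra.adjoin K ({s, t} : Set A) with hB
  set C := Algebra.adjoin K ({s} : Set A) with hC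
  have hCB : C ≤ B := Algebra.adjoin_mono (by simp)
  have hsC : s ∈ C := Algebra.subset_adjoin rfl
  have htB : t ∈ B := Algebra.subset_adjoin (by simp)
  have hd1 : finrank K C ∣ p ^ 2 := hA ▸ finrank_subalgebra_dvd C
  have hd2 : finrank K B ∣ p ^ 2 := hA ▸ finrank_subalgebra_dvd B
  obtain ⟨k1, hk1, e1⟩ := (Nat.dvd_prime_pow hp).mp hd1
  obtain ⟨k2, hk2, e2⟩ := (Nat.dvd_prime_pow hp).mp hd2
  have hle : finrank K C ≤ finrank K B :=
    Submodule.finrank_mono (show C.toSubmodule ≤ B.toSubmodule from hCB)
  have hk1' : k1 ≠ 0 := by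
    rintro rfl
    rw [pow_zero] at e1
    have : C = ⊥ := Subalgebra.finrank_eq_one_iff.mp e1
    rw [this, Algebra.mem_bot] at hsC
    obtain ⟨a, rfl⟩ := hsC
    exact hst (Algebra.commutes a t)
  have hk12 : k1 ≤ k2 := by
    rw [e1, e2] at hle
    exact (Nat.pow_le_pow_iff_right hp.one_lt).mp hle
  by_cases h2 : k2 = 2
  · apply Algebra.toSubmodule_eq_top.1
    apply Submodule.eq_top_of_finrank_eq
    change finrank K B = finrank K A
    rw [e2, h2, hA]
  · exfalso
    have hk : k1 = k2 := by omega
    have hCBeq : C = B := by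
      apply Subalgebra.toSubmodule_injective
      exact Submodule.eq_of_le_of_finrank_eq (show C.toSubmodule ≤ B.toSubmodule from hCB)
        (by change finrank K C = finrank K B; rw [e1, e2, hk])
    rw [← hCBeq] at htB
    exact hst (Algebra.commute_of_mem_adjoin_self htB).eq

/-- In a central division algebra of dimension `p ^ 2` with `p` prime, an element commuting with
two non-commuting elements is central. -/
theorem mem_range_of_commute_pair [Algebra.IsCentral K A] {p : ℕ} (hp : p.Prime)
    (hA : finrank K A = p ^ 2) (s t : A) (hst : s * t ≠ t * s) (z : A)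
    (hzs : Commute z s) (hzt : Commute z t) : z ∈ (algebraMap K A).range := by
  have htop := adjoin_pair_eq_top hp hA s t hst
  have hz : z ∈ Subalgebra.center K A := by
    rw [Subalgebra.mem_center_iff]
    intro b
    have hb : b ∈ Algebra.adjoin K ({s, t} : Set A) := htop ▸ Algebra.mem_top
    exact (Algebra.commute_of_mem_adjoin_of_forall_mem_commute hb (by
      intro c hc
      rcases hc with rfl | rfl
      · exact hzs
      · exact hzt)).eq.symm
  rw [Algebra.IsCentral.center_eq_bot, Algebra.mem_bot] at hz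
  obtain ⟨a, ha⟩ := hz
  exact ⟨a, ha⟩

/-- A non-central element of a central algebra fails to commute with something. -/
theorem exists_not_commute [Algebra.IsCentral K A] (s : A) (hs : s ∉ (algebraMap K A).range) :
    ∃ t : A, s * t ≠ t * s := by
  by_contra hcon
  push Not at hcon
  apply hs
  have hz : s ∈ Subalgebra.center K A := by
    rw [Subalgebra.mem_center_iff]
    intro b
    exact (hcon b).symm
  rw [Algebra.IsCentral.center_eq_bot, Algebra.mem_bot] at hz
  obtain ⟨a, ha⟩ := hz
  exact ⟨a, ha⟩

end tower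

section ad
variable (K : Type*) [Field K] {A : Type*} [Ring A] [Algebra K A]

/-- The inner derivation `y ↦ X * y - y * X` as a `K`-linear map. -/
noncomputable def ad (X : A) : A →ₗ[K] A := LinearMap.mulLeft K X - LinearMap.mulRight K X

@[simp] lemma ad_apply (X y : A) : ad K X y = X * y - y * X := by
  simp [ad]

lemma mulLeft_pow (X : A) (n : ℕ) : (LinearMap.mulLeft K X) ^ n = LinearMap.mulLeft K (X ^ n) := by
  induction n with
  | zero => ext y; simp
  | succ n ih => rw [pow_succ, ih]; ext y; simp [pow_succ, mul_assoc]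

lemma mulRight_pow (X : A) (n : ℕ) :
    (LinearMap.mulRight K X) ^ n = LinearMap.mulRight K (X ^ n) := by
  induction n with
  | zero => ext y; simp
  | succ n ih => rw [pow_succ', ih]; ext y; simp [pow_succ]

lemma ad_pow_char [Nontrivial A] (p : ℕ) [Fact p.Prime] [CharP K p] (X : A) :
    (ad K X) ^ p = ad K (X ^ p) := by
  have : CharP (Module.End K A) p :=
    charP_of_injective_algebraMap (FaithfulSMul.algebraMap_injective K (Module.End K A)) p
  have hc : Commute (LinearMap.mulLeft K X) (LinearMap.mulRight K X) := by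
    ext y; simp [mul_assoc]
  unfold ad
  rw [sub_pow_char_of_commute p hc, mulLeft_pow, mulRight_pow]

lemma ad_add_algebraMap (X : A) (a : K) : ad K (X + algebraMap K A a) = ad K X := by
  ext y
  simp only [ad_apply, add_mul, mul_add]
  rw [Algebra.commutes a y]
  abel

end ad

section poly

variable (K : Type*) [Field K] (p : ℕ) [Fact p.Prime] [CharP K p]

lemma prod_X_sub_C_zmod :
    ∏ c : ZMod p, (X - C ((ZMod.castHom (dvd_refl p) K) c)) = (X ^ p - X : K[X]) := by
  classical
  have hp1 : 1 < p := (Fact.out : p.Prime).one_lt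
  set φ := ZMod.castHom (dvd_refl p) K with hφ
  have hinj : Function.Injective φ := φ.injective
  set f : K[X] := X ^ p - X with hf
  have hdeg : f.natDegree = p := FiniteField.X_pow_card_sub_X_natDegree_eq K hp1
  have hne : f ≠ 0 := FiniteField.X_pow_card_sub_X_ne_zero K hp1
  have hmonic : f.Monic := by
    apply Polynomial.monic_X_pow_sub
    rw [degree_X]; exact_mod_cast hp1
  have hsub : (Finset.univ.image φ).val ≤ f.roots := by
    rw [Multiset.le_iff_subset (Finset.nodup _)]
    intro a ha
    rw [Finset.mem_val, Finset.mem_image] at ha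
    obtain ⟨c, -, rfl⟩ := ha
    rw [mem_roots hne, IsRoot.def, hf, eval_sub, eval_pow, eval_X, ← map_pow, ZMod.pow_card,
      sub_self]
  have hcard : (Finset.univ.image φ).card = p := by
    rw [Finset.card_image_of_injective _ hinj, Finset.card_univ, ZMod.card]
  have hroots : f.roots = (Finset.univ.image φ).val := by
    symm
    apply Multiset.eq_of_le_of_card_le hsub
    rw [Finset.card_val, hcard, ← hdeg]
    exact card_roots' f
  have := prod_multiset_X_sub_C_of_monic_of_roots_card_eq hmonic (by
    rw [hroots, Finset.card_val, hcard, hdeg])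
  rw [← this, hroots]
  rw [← Finset.prod_image (f := fun a => X - C a) (s := Finset.univ) (g := φ)
    (fun a _ b _ h => hinj h)]
  rfl

variable {K}
variable {V : Type*} [AddCommGroup V] [Module K V]

omit [Fact p.Prime] [CharP K p] in
lemma exists_eigenvector_of_prod (D : Module.End K V) {ι : Type*} (s : Finset ι) (f : ι → K) :
    ∀ z : V, z ≠ 0 → aeval D (∏ c ∈ s, (X - C (f c))) z = 0 →
      ∃ c ∈ s, ∃ y : V, y ≠ 0 ∧ D y = f c • y := by
  classical
  induction s using Finset.induction_on with
  | empty =>
    intro z hz h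
    simp at h
    exact absurd h hz
  | insert a s ha ih =>
    intro z hz h
    rw [Finset.prod_insert ha, map_mul] at h
    set w := aeval D (∏ c ∈ s, (X - C (f c))) z with hw
    by_cases hw0 : w = 0
    · obtain ⟨c, hc, y, hy, hDy⟩ := ih z hz hw0
      exact ⟨c, Finset.mem_insert_of_mem hc, y, hy, hDy⟩
    · refine ⟨a, Finset.mem_insert_self a s, w, hw0, ?_⟩
      have h' : (aeval D (X - C (f a))) w = 0 := h
      simp only [map_sub, aeval_X, aeval_C, LinearMap.sub_apply, Module.algebraMap_end_apply]
        at h'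
      exact sub_eq_zero.mp h'

/-- In characteristic `p`, an endomorphism with `D ^ p = D` and `D ≠ 0` has an eigenvector with
non-zero eigenvalue. -/
lemma exists_eigenvector_of_pow_eq (D : Module.End K V) (hD : D ^ p = D) (hD0 : D ≠ 0) :
    ∃ c : K, c ≠ 0 ∧ ∃ y : V, y ≠ 0 ∧ D y = c • y := by
  classical
  obtain ⟨z', hz'⟩ : ∃ z', D z' ≠ 0 := by
    by_contra hcon
    push Not at hcon
    exact hD0 (LinearMap.ext hcon)
  set φ := ZMod.castHom (dvd_refl p) K with hφ
  have key : aeval D (∏ c ∈ (Finset.univ : Finset (ZMod p)).erase 0, (X - C (φ c))) (D z') = 0 := by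
    have h1 : (∏ c ∈ (Finset.univ : Finset (ZMod p)).erase 0, (X - C (φ c))) * X =
        (X ^ p - X : K[X]) := by
      rw [← prod_X_sub_C_zmod K p, ← Finset.prod_erase_mul _ _ (Finset.mem_univ (0 : ZMod p))]
      rw [map_zero, map_zero, sub_zero]
    have h2 : aeval D (X ^ p - X : K[X]) = 0 := by
      simp [hD]
    have h3 := congrArg (fun q => aeval D q z') h1
    simp only [map_mul, aeval_X, Module.End.mul_apply] at h3
    rw [h3, h2]; rfl
  obtain ⟨c, hc, y, hy, hDy⟩ := exists_eigenvector_of_prod D _ (fun c => φ c) (D z') hz' key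
  refine ⟨φ c, ?_, y, hy, hDy⟩
  rw [Finset.mem_erase] at hc
  exact (map_ne_zero_iff φ φ.injective).mpr hc.1

omit [Fact p.Prime] [CharP K p] in
/-- A non-zero nilpotent endomorphism `N` has a vector `t` with `N t ≠ 0` and `N (N t) = 0`. -/
lemma exists_apply_ne_zero_of_isNilpotent (N : Module.End K V) (hN : IsNilpotent N) (hN0 : N ≠ 0) :
    ∃ t : V, N t ≠ 0 ∧ N (N t) = 0 := by
  classical
  obtain ⟨k, hk⟩ := hN
  induction k with
  | zero =>
    exfalso; apply hN0
    rw [pow_zero] at hk
    rw [← mul_one N, hk, mul_zero]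
  | succ k ih =>
    by_cases hk' : N ^ k = 0
    · exact ih hk'
    · obtain ⟨z, hz⟩ : ∃ z, (N ^ k) z ≠ 0 := by
        by_contra hcon
        push Not at hcon
        exact hk' (LinearMap.ext hcon)
      cases k with
      | zero => exfalso; apply hN0; simpa using hk
      | succ j =>
        refine ⟨(N ^ j) z, ?_, ?_⟩
        · rwa [pow_succ', Module.End.mul_apply] at hz
        · have := congrArg (fun f => f z) hk
          simp only [pow_succ', Module.End.mul_apply, LinearMap.zero_apply] at this
          exact this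

end poly

section insep

variable {K : Type*} [Field K] (p : ℕ) [Fact p.Prime] [CharP K p]

/-- In characteristic `p`, an element `y ∉ K` of a division algebra with `y ^ p ∈ K` is not
separable over `K`. -/
lemma not_isSeparable_of_pow_mem {A : Type*} [DivisionRing A] [Algebra K A] (y : A)
    (hy : y ∉ (algebraMap K A).range) (hyp : y ^ p ∈ (algebraMap K A).range) :
    ¬ IsSeparable K y := by
  have hp : p.Prime := Fact.out
  obtain ⟨a, ha⟩ := hyp
  have : CharP A p := charP_of_injective_algebraMap (algebraMap K A).injective p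
  by_cases hb : ∃ b : K, b ^ p = a
  · obtain ⟨b, rfl⟩ := hb
    exfalso
    have h1 : (y - algebraMap K A b) ^ p = 0 := by
      rw [sub_pow_char_of_commute p (Algebra.commutes b y).symm, ← ha, map_pow, sub_self]
    have h2 : y - algebraMap K A b = 0 := pow_eq_zero_iff hp.ne_zero |>.mp h1
    exact hy ⟨b, (sub_eq_zero.mp h2).symm⟩
  · push Not at hb
    have hirr : Irreducible (X ^ p - C a : K[X]) := (X_pow_sub_C_irreducible_iff_of_prime hp).mpr hb
    have hmonic : (X ^ p - C a : K[X]).Monic := monic_X_pow_sub_C a hp.ne_zero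
    have hroot : aeval y (X ^ p - C a : K[X]) = 0 := by
      simp [ha]
    have hmin : minpoly K y = X ^ p - C a :=
      (minpoly.eq_of_irreducible_of_monic hirr hroot hmonic).symm
    unfold IsSeparable
    rw [hmin, separable_def]
    have hder : derivative (X ^ p - C a : K[X]) = 0 := by
      rw [derivative_sub, derivative_C, derivative_X_pow, sub_zero]
      have : (C (p : K) : K[X]) = 0 := by rw [CharP.cast_eq_zero, C_0]
      rw [this, zero_mul]
    rw [hder, isCoprime_zero_right]
    exact hirr.not_isUnit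

end insep

section core

variable {K : Type*} [Field K] (p : ℕ) [Fact p.Prime] [CharP K p]
  {A : Type*} [DivisionRing A] [Algebra K A] [Algebra.IsCentral K A] [FiniteDimensional K A]

omit [Fact p.Prime] [Algebra.IsCentral K A] [FiniteDimensional K A] in
lemma mul_pow_of_ad_eq (X y : A) (c : K) (h : X * y - y * X = c • y) (n : ℕ) :
    X * y ^ n = y ^ n * (X + algebraMap K A ((n : K) * c)) := by
  induction n with
  | zero => simp
  | succ n ih =>
    have hXy : X * y = y * X + c • y := by rw [← h]; abel
    rw [pow_succ, ← mul_assoc, ih, mul_assoc, add_mul, hXy, Nat.cast_succ, add_mul, one_mul,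
      map_add, mul_assoc]
    congr 1
    rw [mul_add, mul_add]
    rw [Algebra.smul_def, ← Algebra.commutes ((n : K) * c) y, ← Algebra.commutes c y]
    abel

/-- From an Artin–Schreier element `X` (`X ^ p - X ∈ K`, `X ∉ K`) of a central division algebra of
dimension `p ^ 2` in characteristic `p`, get `y ∉ K` with `y ^ p ∈ K` and `X y - y X = c y`,
`c ≠ 0`. -/
theorem exists_pow_mem_of_artinSchreier (hA : finrank K A = p ^ 2) (X : A)
    (hX : X ^ p - X ∈ (algebraMap K A).range) (hXK : X ∉ (algebraMap K A).range) :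
    ∃ (y : A) (c : K), c ≠ 0 ∧ y ≠ 0 ∧ X * y - y * X = c • y ∧ y ∉ (algebraMap K A).range ∧
      y ^ p ∈ (algebraMap K A).range := by
  have hp : p.Prime := Fact.out
  obtain ⟨a, ha⟩ := hX
  have hXp : X ^ p = X + algebraMap K A a := by rw [ha]; abel
  have hD : (ad K X) ^ p = ad K X := by
    rw [ad_pow_char K p X, hXp, ad_add_algebraMap]
  have hD0 : ad K X ≠ 0 := by
    intro h0
    obtain ⟨t, ht⟩ := exists_not_commute X hXK
    have := congrArg (fun f => f t) h0
    simp only [ad_apply, LinearMap.zero_apply, sub_eq_zero] at this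
    exact ht this
  obtain ⟨c, hc, y, hy, hDy⟩ := exists_eigenvector_of_pow_eq p (ad K X) hD hD0
  rw [ad_apply] at hDy
  have hXy : X * y ≠ y * X := by
    intro h
    rw [h, sub_self] at hDy
    exact (smul_ne_zero hc hy) hDy.symm
  have hyK : y ∉ (algebraMap K A).range := by
    rintro ⟨b, rfl⟩
    exact hXy (Algebra.commutes b X).symm
  refine ⟨y, c, hc, hy, hDy, hyK, ?_⟩
  apply mem_range_of_commute_pair hp hA X y hXy
  · have := mul_pow_of_ad_eq X y c hDy p
    rw [CharP.cast_eq_zero, zero_mul, map_zero, add_zero] at this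
    exact this.symm
  · exact (Commute.refl y).pow_left p


end core

section galois
universe u w

/-- Galois of prime degree `p`: a generator `σ` with fixed field `K`. -/
lemma exists_sigma (K : Type u) [Field K] (p : ℕ) [Fact p.Prime]
    (L : Type w) [Field L] [Algebra K L] [IsGalois K L] (hL : Module.finrank K L = p) :
    ∃ σ : L ≃ₐ[K] L, σ ≠ 1 ∧ σ ^ p = 1 ∧ ∀ w : L, σ w = w → w ∈ (algebraMap K L).range := by
  have hp : p.Prime := Fact.out
  have : FiniteDimensional K L := FiniteDimensional.of_finrank_pos (hL ▸ hp.pos)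
  have hcard : Nat.card (L ≃ₐ[K] L) = p := by rw [IsGalois.card_aut_eq_finrank, hL]
  have : Finite (L ≃ₐ[K] L) := Nat.finite_of_card_ne_zero (hcard ▸ hp.ne_zero)
  obtain ⟨σ, hσ⟩ : ∃ σ : L ≃ₐ[K] L, σ ≠ 1 := by
    have : Nontrivial (L ≃ₐ[K] L) := by
      rw [← Finite.one_lt_card_iff_nontrivial, hcard]; exact hp.one_lt
    exact exists_ne 1
  refine ⟨σ, hσ, ?_, ?_⟩
  · rw [← hcard]; exact pow_card_eq_one'
  · intro w hw
    rw [RingHom.mem_range]
    change w ∈ Set.range (algebraMap K L)
    rw [IsGalois.mem_range_algebraMap_iff_fixed]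
    intro τ
    have hτ : τ ∈ Subgroup.zpowers σ := by
      rw [zpowers_eq_top_of_prime_card hcard hσ]; trivial
    obtain ⟨n, rfl⟩ := hτ
    have : ∀ n : ℕ, (σ ^ n) w = w := by
      intro n
      induction n with
      | zero => simp
      | succ n ih => rw [pow_succ, AlgEquiv.mul_apply, hw, ih]
    cases n with
    | ofNat n => simpa using this n
    | negSucc n =>
      change (σ ^ (Int.negSucc n)) w = w
      rw [zpow_negSucc]
      have h1 := this (n + 1)
      change (σ ^ (n + 1)).symm w = w
      conv_lhs => rw [← h1]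
      exact (σ ^ (n + 1)).symm_apply_apply w



lemma exists_artinSchreier (K : Type u) [Field K] (p : ℕ) [Fact p.Prime] [CharP K p]
    (L : Type w) [Field L] [Algebra K L]
    (σ : L ≃ₐ[K] L) (h1 : σ ≠ 1) (hp : σ ^ p = 1)
    (hfix : ∀ w : L, σ w = w → w ∈ (algebraMap K L).range) :
    ∃ x : L, σ x = x + 1 := by
  set s : Module.End K L := σ.toLinearMap with hs
  have hspow : ∀ n : ℕ, ∀ y, (s ^ n) y = (σ ^ n) y := by
    intro n
    induction n with
    | zero => intro y; simp
    | succ n ih =>
      intro y
      rw [pow_succ, Module.End.mul_apply, ih, pow_succ, AlgEquiv.mul_apply]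
      rfl
  have hsp : s ^ p = 1 := by
    ext y; rw [hspow, hp]; rfl
  have : CharP (Module.End K L) p :=
    charP_of_injective_algebraMap (FaithfulSMul.algebraMap_injective K (Module.End K L)) p
  set N : Module.End K L := s - 1 with hN
  have hNp : N ^ p = 0 := by
    rw [hN, sub_pow_char_of_commute p (Commute.one_right s), hsp, one_pow, sub_self]
  have hN0 : N ≠ 0 := by
    intro h0
    apply h1
    ext y
    have := congrArg (fun f => f y) h0
    simp only [hN, LinearMap.sub_apply, LinearMap.zero_apply, sub_eq_zero] at this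
    exact this
  obtain ⟨t, ht1, ht2⟩ := PA.exists_apply_ne_zero_of_isNilpotent N ⟨p, hNp⟩ hN0
  have hNapp : ∀ y, N y = σ y - y := fun y => rfl
  obtain ⟨c, hc⟩ := hfix (N t) (by
    have := ht2
    rw [hNapp] at this
    exact sub_eq_zero.mp this)
  have hc0 : c ≠ 0 := by
    rintro rfl
    rw [map_zero] at hc
    exact ht1 hc.symm
  refine ⟨c⁻¹ • t, ?_⟩
  rw [map_smul]
  have : σ t = t + algebraMap K L c := by
    rw [hc, hNapp]; ring
  rw [this, smul_add, Algebra.smul_def c⁻¹ (algebraMap K L c), ← map_mul, inv_mul_cancel₀ hc0,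
    map_one]


end galois

section artinSchreier
universe u w
variable (K : Type u) [Field K] (p : ℕ) [Fact p.Prime] [CharP K p]

lemma natDegree_AS (a : K) : (X ^ p - X - C a : K[X]).natDegree = p := by
  have hp1 : 1 < p := (Fact.out : p.Prime).one_lt
  rw [natDegree_sub_C]
  exact FiniteField.X_pow_card_sub_X_natDegree_eq K hp1

lemma separable_AS (a : K) : (X ^ p - X - C a : K[X]).Separable := by
  rw [separable_def]
  have hder : derivative (X ^ p - X - C a : K[X]) = -1 := by
    rw [derivative_sub, derivative_sub, derivative_C, derivative_X_pow, derivative_X, sub_zero]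
    have : (C (p : K) : K[X]) = 0 := by rw [CharP.cast_eq_zero, C_0]
    rw [this, zero_mul, zero_sub]
  rw [hder]
  exact (isCoprime_one_right).neg_right

/-- If `θ` is a root of the Artin–Schreier polynomial in an extension `F` generated by `θ`, then
`F` is a splitting field. -/
lemma isSplittingField_AS (a : K) (F : Type w) [Field F] [Algebra K F] (θ : F)
    (hθ : θ ^ p - θ - algebraMap K F a = 0) (hgen : Algebra.adjoin K ({θ} : Set F) = ⊤) :
    (X ^ p - X - C a : K[X]).IsSplittingField K F := by
  classical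
  have hp1 : 1 < p := (Fact.out : p.Prime).one_lt
  have : CharP F p := charP_of_injective_algebraMap (algebraMap K F).injective p
  set f : K[X] := X ^ p - X - C a with hf
  have hfF : f.map (algebraMap K F) = X ^ p - X - C (algebraMap K F a) := by
    simp [hf]
  have hne : f.map (algebraMap K F) ≠ 0 := by
    rw [hfF]
    intro h0
    have := natDegree_AS F p (algebraMap K F a)
    rw [h0, natDegree_zero] at this
    omega
  set φ := ZMod.castHom (dvd_refl p) F with hφ
  have hinj : Function.Injective (fun c : ZMod p => θ + φ c) := by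
    intro c d h
    exact φ.injective (add_left_cancel h)
  have hroot : ∀ c : ZMod p, (f.map (algebraMap K F)).IsRoot (θ + φ c) := by
    intro c
    rw [hfF, IsRoot.def, eval_sub, eval_sub, eval_pow, eval_X, eval_C, add_pow_char, ← map_pow,
      ZMod.pow_card]
    linear_combination hθ
  constructor
  · rw [splits_iff_card_roots]
    have hsub : (Finset.univ.image (fun c : ZMod p => θ + φ c)).val ≤
        (f.map (algebraMap K F)).roots := by
      rw [Multiset.le_iff_subset (Finset.nodup _)]
      intro b hb
      rw [Finset.mem_val, Finset.mem_image] at hb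
      obtain ⟨c, -, rfl⟩ := hb
      rw [mem_roots hne]
      exact hroot c
    have hcard : (Finset.univ.image (fun c : ZMod p => θ + φ c)).card = p := by
      rw [Finset.card_image_of_injective _ hinj, Finset.card_univ, ZMod.card]
    have hdeg : (f.map (algebraMap K F)).natDegree = p := by
      rw [hfF]; exact natDegree_AS F p _
    apply le_antisymm
    · exact card_roots' _
    · rw [hdeg]
      calc p = (Finset.univ.image (fun c : ZMod p => θ + φ c)).val.card := by
            rw [Finset.card_val, hcard]
        _ ≤ _ := Multiset.card_le_card hsub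
  · rw [eq_top_iff, ← hgen]
    apply Algebra.adjoin_mono
    rw [Set.singleton_subset_iff]
    rw [mem_rootSet]
    refine ⟨fun h0 => hne (by rw [h0, Polynomial.map_zero]), ?_⟩
    rw [hf]
    simp only [map_sub, map_pow, aeval_X, aeval_C]
    exact hθ


end artinSchreier

section subfield
universe u v

section
variable {K : Type*} [Field K] {A : Type*} [DivisionRing A] [Algebra K A] [FiniteDimensional K A]

theorem isUnit_or_eq_zero_subalgebra (D : Subalgebra K A) (a : D) : IsUnit a ∨ a = 0 := by
  by_cases h : a = 0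
  · exact Or.inr h
  · left
    have hinv : ((a : A))⁻¹ ∈ D := Algebra.IsIntegral.inv_mem a.2
    have ha : (a : A) ≠ 0 := fun h0 => h (Subtype.ext h0)
    refine ⟨⟨a, ⟨_, hinv⟩, ?_, ?_⟩, rfl⟩
    · apply Subtype.ext; simp [mul_inv_cancel₀ ha]
    · apply Subtype.ext; simp [inv_mul_cancel₀ ha]

/-- In a central division algebra of dimension `p ^ 2`, a non-central element generates a
subalgebra of dimension `p`. -/
theorem finrank_adjoin_singleton [Algebra.IsCentral K A] {p : ℕ} (hp : p.Prime)
    (hA : finrank K A = p ^ 2) (x : A) (hx : x ∉ (algebraMap K A).range) :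
    finrank K (Algebra.adjoin K ({x} : Set A)) = p := by
  set C := Algebra.adjoin K ({x} : Set A) with hC
  obtain ⟨t, ht⟩ := exists_not_commute x hx
  have hxC : x ∈ C := Algebra.subset_adjoin rfl
  have hd : finrank K C ∣ p ^ 2 := hA ▸ finrank_subalgebra_dvd C
  obtain ⟨k, hk, e⟩ := (Nat.dvd_prime_pow hp).mp hd
  have hk0 : k ≠ 0 := by
    rintro rfl
    rw [pow_zero] at e
    have : C = ⊥ := Subalgebra.finrank_eq_one_iff.mp e
    rw [this, Algebra.mem_bot] at hxC
    obtain ⟨a, rfl⟩ := hxC
    exact hx ⟨a, rfl⟩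
  have hk2 : k ≠ 2 := by
    rintro rfl
    have htop : C = ⊤ := by
      apply Algebra.toSubmodule_eq_top.1
      apply Submodule.eq_top_of_finrank_eq
      change finrank K C = finrank K A
      rw [e, hA]
    have htC : t ∈ C := htop ▸ Algebra.mem_top
    exact ht (Algebra.commute_of_mem_adjoin_self htC).eq
  have : k = 1 := by omega
  rw [e, this, pow_one]

end

section
variable {K : Type u} [Field K] (p : ℕ) [Fact p.Prime] [CharP K p]
  {A : Type v} [DivisionRing A] [Algebra K A] [Algebra.IsCentral K A] [FiniteDimensional K A]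

theorem exists_galois_of_artinSchreier (hA : finrank K A = p ^ 2) (x : A) (a : K)
    (hxa : x ^ p - x = algebraMap K A a) (hxK : x ∉ (algebraMap K A).range) :
    ∃ (L : Type v) (_ : Field L) (_ : Algebra K L), IsGalois K L ∧ Module.finrank K L = p ∧
      Nonempty (L →ₐ[K] A) := by
  have hp : p.Prime := Fact.out
  set C := Algebra.adjoin K ({x} : Set A) with hC
  have hcommC : IsMulCommutative C := Algebra.isMulCommutative_adjoin K (by
    intro a ha b hb
    rw [Set.mem_singleton_iff] at ha hb
    rw [ha, hb])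
  letI : CommRing C := { (inferInstance : Ring C) with mul_comm := fun a b => hcommC.is_comm.comm a b }
  letI : Field C := Field.ofIsUnitOrEqZero (isUnit_or_eq_zero_subalgebra C)
  refine ⟨C, inferInstance, inferInstance, ?_, finrank_adjoin_singleton hp hA x hxK, ⟨C.val⟩⟩
  set θ : C := ⟨x, Algebra.subset_adjoin rfl⟩ with hθ
  have hθ' : θ ^ p - θ - algebraMap K C a = 0 := by
    apply Subtype.ext
    change x ^ p - x - algebraMap K A a = 0
    rw [hxa, sub_self]
  have hgen : Algebra.adjoin K ({θ} : Set C) = ⊤ := by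
    have h := Algebra.adjoin_adjoin_coe_preimage (R := K) (s := ({x} : Set A))
    convert h using 2
    ext y
    simp only [Set.mem_singleton_iff, Set.mem_preimage, hθ, Subtype.ext_iff]
  haveI := isSplittingField_AS K p a C θ hθ' hgen
  exact IsGalois.of_separable_splitting_field (separable_AS K p a)

end


end subfield

section weyl
universe u v

section
variable {K : Type u} [Field K] (p : ℕ) [Fact p.Prime] [CharP K p]
  {A : Type v} [DivisionRing A] [Algebra K A] [Algebra.IsCentral K A] [FiniteDimensional K A]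

/-- An inseparable element of a central division algebra of dimension `p ^ 2` in characteristic
`p` has its `p`-th power in `K` (and is not in `K`). -/
theorem pow_mem_of_not_isSeparable (hA : finrank K A = p ^ 2) (v : A) (hv : ¬ IsSeparable K v) :
    v ∉ (algebraMap K A).range ∧ v ^ p ∈ (algebraMap K A).range := by
  have hp : p.Prime := Fact.out
  have hvK : v ∉ (algebraMap K A).range := by
    rintro ⟨b, rfl⟩
    apply hv
    unfold IsSeparable
    rw [minpoly.eq_X_sub_C_of_algebraMap_inj b (algebraMap K A).injective]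
    exact separable_X_sub_C
  refine ⟨hvK, ?_⟩
  have hint : IsIntegral K v := Algebra.IsIntegral.isIntegral v
  have hirr : Irreducible (minpoly K v) := minpoly.irreducible hint
  rcases Polynomial.separable_or p hirr with hsep | ⟨-, g, hg, hgm⟩
  · exact absurd hsep hv
  -- degree of the minimal polynomial is at most `p`
  set S := Algebra.adjoin K ({v} : Set A) with hS
  set θ : S := ⟨v, Algebra.subset_adjoin rfl⟩ with hθ
  have hminθ : minpoly K θ = minpoly K v :=
    (minpoly.algHom_eq S.val Subtype.val_injective θ).symm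
  have hdeg_le : (minpoly K v).natDegree ≤ p := by
    rw [← hminθ, ← finrank_adjoin_singleton hp hA v hvK]
    exact minpoly.natDegree_le θ
  have hdeg : (minpoly K v).natDegree = g.natDegree * p := by
    rw [← hgm, natDegree_expand]
  have hgdeg : g.natDegree = 1 := by
    have hpos : 0 < (minpoly K v).natDegree := minpoly.natDegree_pos hint
    rw [hdeg] at hpos hdeg_le
    have h1 : 0 < g.natDegree := Nat.pos_of_mul_pos_right hpos
    have h2 : g.natDegree * p ≤ 1 * p := by rwa [one_mul]
    have := Nat.le_of_mul_le_mul_right h2 hp.pos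
    omega
  have hgmonic : g.Monic := by
    have := minpoly.monic hint
    rw [← hgm] at this
    exact (monic_expand_iff hp.pos).mp this
  have hgX : g = X + C (g.coeff 0) := hgmonic.eq_X_add_C hgdeg
  have hroot : aeval v (minpoly K v) = 0 := minpoly.aeval K v
  rw [← hgm, hgX] at hroot
  simp only [map_add, expand_X, expand_C, map_pow, aeval_X, aeval_C] at hroot
  refine ⟨- g.coeff 0, ?_⟩
  rw [map_neg]
  exact (eq_neg_of_add_eq_zero_left hroot).symm

omit [Fact p.Prime] [CharP K p] [Algebra.IsCentral K A] [FiniteDimensional K A] in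
lemma mul_pow_of_comm_eq_one (v u : A) (h : v * u - u * v = 1) (n : ℕ) :
    v * u ^ (n + 1) = u ^ (n + 1) * v + ((n + 1 : ℕ) : A) * u ^ n := by
  have hvu : v * u = u * v + 1 := by rw [← h]; abel
  induction n with
  | zero => simp [hvu]
  | succ n ih =>
    rw [pow_succ, ← mul_assoc, ih, add_mul, mul_assoc, hvu, mul_add, mul_one, ← mul_assoc,
      ← pow_succ, mul_assoc, ← pow_succ, add_assoc]
    congr 1
    rw [Nat.cast_succ (n + 1), add_mul, one_mul, add_comm]

theorem exists_weyl_pair (hA : finrank K A = p ^ 2) (v : A) (hvK : v ∉ (algebraMap K A).range)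
    (hvp : v ^ p ∈ (algebraMap K A).range) :
    ∃ u : A, u ^ p ∈ (algebraMap K A).range ∧ v * u - u * v = 1 ∧
      Algebra.adjoin K {v, u} = ⊤ := by
  have hp : p.Prime := Fact.out
  have : CharP A p := charP_of_injective_algebraMap (algebraMap K A).injective p
  obtain ⟨b, hb⟩ := hvp
  have hD : (ad K v) ^ p = 0 := by
    rw [ad_pow_char K p v, ← hb]
    have := ad_add_algebraMap K (0 : A) b
    rw [zero_add] at this
    rw [this]
    ext y; simp
  have hD0 : ad K v ≠ 0 := by
    intro h0
    obtain ⟨t, ht⟩ := exists_not_commute v hvK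
    have := congrArg (fun f => f t) h0
    simp only [ad_apply, LinearMap.zero_apply, sub_eq_zero] at this
    exact ht this
  obtain ⟨t, ht1, ht2⟩ := exists_apply_ne_zero_of_isNilpotent (ad K v) ⟨p, hD⟩ hD0
  set w := ad K v t with hw
  have hwv : v * w = w * v := by
    rw [ad_apply] at ht2; exact sub_eq_zero.mp ht2
  have hwv' : w⁻¹ * v = v * w⁻¹ := by
    have hc : Commute v w := hwv
    exact hc.inv_right₀.eq.symm
  have hvu : v * (t * w⁻¹) - (t * w⁻¹) * v = 1 := by
    rw [mul_assoc t, hwv', ← mul_assoc, ← mul_assoc, ← sub_mul]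
    have : v * t - t * v = w := by rw [hw, ad_apply]
    rw [this, mul_inv_cancel₀ ht1]
  have hne : v * (t * w⁻¹) ≠ (t * w⁻¹) * v := by
    intro h
    rw [h, sub_self] at hvu
    exact zero_ne_one hvu
  refine ⟨t * w⁻¹, ?_, hvu, adjoin_pair_eq_top hp hA v _ hne⟩
  apply mem_range_of_commute_pair hp hA v (t * w⁻¹) hne
  · obtain ⟨n, hn⟩ : ∃ n, p = n + 1 := ⟨p - 1, by have := hp.pos; omega⟩
    have := mul_pow_of_comm_eq_one v (t * w⁻¹) hvu n
    rw [← hn, CharP.cast_eq_zero, zero_mul, add_zero] at this
    exact this.symm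
  · exact (Commute.refl _).pow_left p

end


end weyl

section wedderburnAll
universe u v

section wedderburn
variable {K : Type u} [Field K] {A : Type v} [DivisionRing A] [Algebra K A]

/-- Wedderburn: if `f(x) = 0` for a cubic `f` over `K`, `c = [x, y] ≠ 0` and `x₂ c = c x`, then
`x₂` is a right root of the quotient `f / (T - x)`. -/
lemma wedderburn_quadratic (x y x₂ : A) (a₁ a₂ a₃ : K)
    (hf : x ^ 3 - a₁ • x ^ 2 + a₂ • x - a₃ • (1 : A) = 0)
    (hc : x * y - y * x ≠ 0) (hx₂ : x₂ * (x * y - y * x) = (x * y - y * x) * x) :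
    x₂ ^ 2 + x * x₂ + x ^ 2 - a₁ • (x + x₂) + a₂ • (1 : A) = 0 := by
  set c := x * y - y * x with hcdef
  have h2 : x₂ ^ 2 * c = c * x ^ 2 := by
    rw [pow_two, mul_assoc, hx₂, ← mul_assoc, hx₂, mul_assoc, ← pow_two]
  have key : (x₂ ^ 2 + x * x₂ + x ^ 2 - a₁ • (x + x₂) + a₂ • (1 : A)) * c = 0 := by
    have e1 : (x₂ ^ 2 + x * x₂ + x ^ 2 - a₁ • (x + x₂) + a₂ • (1 : A)) * c
        = x₂ ^ 2 * c + x * (x₂ * c) + x ^ 2 * c - a₁ • (x * c + x₂ * c) + a₂ • c := by
      simp only [add_mul, sub_mul, smul_mul_assoc, one_mul, mul_assoc, smul_add]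
    rw [e1, h2, hx₂]
    have e2 : c * x ^ 2 + x * (c * x) + x ^ 2 * c - a₁ • (x * c + c * x) + a₂ • c
        = (x ^ 3 - a₁ • x ^ 2 + a₂ • x - a₃ • (1 : A)) * y
          - y * (x ^ 3 - a₁ • x ^ 2 + a₂ • x - a₃ • (1 : A)) := by
      rw [hcdef]
      simp only [add_mul, sub_mul, mul_add, mul_sub, smul_mul_assoc, mul_smul_comm, one_mul,
        mul_one, mul_assoc, smul_add, smul_sub, pow_succ, pow_zero]
      module
    rw [e2, hf, zero_mul, mul_zero, sub_zero]
  rcases mul_eq_zero.mp key with h | h
  · exact h
  · exact absurd h hc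

end wedderburn



section wedderburn
variable {K : Type u} [Field K] {A : Type v} [DivisionRing A] [Algebra K A]

lemma wedderburn_theta (x₁ x₂ : A) (a₁ a₂ : K)
    (hR : x₂ ^ 2 + x₁ * x₂ + x₁ ^ 2 - a₁ • (x₁ + x₂) + a₂ • (1 : A) = 0) :
    (x₁ * x₂ - x₂ * x₁) * x₂ = (a₁ • (1 : A) - x₁ - x₂) * (x₁ * x₂ - x₂ * x₁) ∧
    x₁ * (x₁ * x₂ - x₂ * x₁) = (x₁ * x₂ - x₂ * x₁) * (a₁ • (1 : A) - x₁ - x₂) ∧
    (x₁ * x₂ - x₂ * x₁) * x₁ = x₂ * (x₁ * x₂ - x₂ * x₁) := by
  have ha : (x₁ * x₂ - x₂ * x₁) * x₂ - (a₁ • (1 : A) - x₁ - x₂) * (x₁ * x₂ - x₂ * x₁) =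
      x₁ * (x₂ ^ 2 + x₁ * x₂ + x₁ ^ 2 - a₁ • (x₁ + x₂) + a₂ • (1 : A)) -
      (x₂ ^ 2 + x₁ * x₂ + x₁ ^ 2 - a₁ • (x₁ + x₂) + a₂ • (1 : A)) * x₁ := by
    simp only [add_mul, sub_mul, mul_add, mul_sub, smul_mul_assoc, mul_smul_comm, one_mul,
      mul_one, mul_assoc, smul_add, smul_sub, pow_succ, pow_zero]
    module
  have hb : x₁ * (x₁ * x₂ - x₂ * x₁) - (x₁ * x₂ - x₂ * x₁) * (a₁ • (1 : A) - x₁ - x₂) =
      (x₂ ^ 2 + x₁ * x₂ + x₁ ^ 2 - a₁ • (x₁ + x₂) + a₂ • (1 : A)) * x₂ -
      x₂ * (x₂ ^ 2 + x₁ * x₂ + x₁ ^ 2 - a₁ • (x₁ + x₂) + a₂ • (1 : A)) := by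
    simp only [add_mul, sub_mul, mul_add, mul_sub, smul_mul_assoc, mul_smul_comm, one_mul,
      mul_one, mul_assoc, smul_add, smul_sub, pow_succ, pow_zero]
    module
  rw [hR, mul_zero, zero_mul, sub_zero] at ha hb
  have ha' := sub_eq_zero.mp ha
  have hb' := sub_eq_zero.mp hb
  refine ⟨ha', hb', ?_⟩
  have hc : (x₁ * x₂ - x₂ * x₁) * x₁ - x₂ * (x₁ * x₂ - x₂ * x₁) =
      - ((x₁ * x₂ - x₂ * x₁) * x₂ - (a₁ • (1 : A) - x₁ - x₂) * (x₁ * x₂ - x₂ * x₁))
      + (x₁ * (x₁ * x₂ - x₂ * x₁) - (x₁ * x₂ - x₂ * x₁) * (a₁ • (1 : A) - x₁ - x₂)) := by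
    simp only [add_mul, sub_mul, mul_add, mul_sub, smul_mul_assoc, mul_smul_comm, one_mul,
      mul_one, mul_assoc, smul_add, smul_sub, pow_succ, pow_zero]
    module
  rw [ha, hb, neg_zero, add_zero] at hc
  exact sub_eq_zero.mp hc

end wedderburn



section more
variable {K : Type u} [Field K] {A : Type v} [DivisionRing A] [Algebra K A]

/-- Conjugation by a non-zero element as an algebra endomorphism. -/
noncomputable def conjAlgHom (c : A) (hc : c ≠ 0) : A →ₐ[K] A where
  toFun z := c * z * c⁻¹
  map_one' := by simp [hc]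
  map_mul' a b := by
    simp only [mul_assoc]
    rw [inv_mul_cancel_left₀ hc]
  map_zero' := by simp
  map_add' a b := by simp [mul_add, add_mul]
  commutes' r := by
    change c * algebraMap K A r * c⁻¹ = algebraMap K A r
    rw [← Algebra.commutes r c, mul_assoc, mul_inv_cancel₀ hc, mul_one]

@[simp] lemma conjAlgHom_apply (c : A) (hc : c ≠ 0) (z : A) :
    conjAlgHom (K := K) c hc z = c * z * c⁻¹ := rfl

/-- The dimension of `K[c]` is at most the degree of any monic polynomial killing `c`. -/
lemma finrank_adjoin_le (c : A) (f : K[X]) (hf : f.Monic) (hc : aeval c f = 0) :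
    finrank K (Algebra.adjoin K ({c} : Set A)) ≤ f.natDegree := by
  set n := f.natDegree with hn
  let φ : degreeLT K n →ₗ[K] A := (aeval c).toLinearMap ∘ₗ (degreeLT K n).subtype
  have hle : (Algebra.adjoin K ({c} : Set A)).toSubmodule ≤ LinearMap.range φ := by
    intro b hb
    rw [Subalgebra.mem_toSubmodule, Algebra.adjoin_singleton_eq_range_aeval] at hb
    obtain ⟨q, rfl⟩ := hb
    have hq : aeval c q = aeval c (q %ₘ f) := by
      conv_lhs => rw [← modByMonic_add_div q f]
      rw [map_add, map_mul, hc, zero_mul, add_zero]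
    have hmem : q %ₘ f ∈ degreeLT K n := by
      rw [mem_degreeLT]
      by_cases hf1 : f = 1
      · rw [hf1, modByMonic_one, degree_zero]; exact WithBot.bot_lt_coe _
      · have hf0 : f ≠ 0 := hf.ne_zero
        calc (q %ₘ f).degree < f.degree := degree_modByMonic_lt q hf
          _ = n := degree_eq_natDegree hf0
    exact ⟨⟨q %ₘ f, hmem⟩, hq.symm⟩
  have hfin : Module.Finite K (degreeLT K n) := Module.Finite.equiv (degreeLTEquiv K n).symm
  calc finrank K (Algebra.adjoin K ({c} : Set A))
      = finrank K (Algebra.adjoin K ({c} : Set A)).toSubmodule := rfl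
    _ ≤ finrank K (LinearMap.range φ) := Submodule.finrank_mono hle
    _ ≤ finrank K (degreeLT K n) := LinearMap.finrank_range_le φ
    _ = n := by rw [(degreeLTEquiv K n).finrank_eq, Module.finrank_fin_fun]

end more



section more2
variable {K : Type u} [Field K] {A : Type v} [DivisionRing A] [Algebra K A]
  [Algebra.IsCentral K A] [FiniteDimensional K A]

/-- In a central division algebra of dimension `p ^ 2`, the centralizer of a non-central `x` is
`K[x]`. -/
theorem mem_adjoin_of_commute {p : ℕ} (hp : p.Prime) (hA : finrank K A = p ^ 2) (x : A)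
    (hx : x ∉ (algebraMap K A).range) (t : A) (ht : Commute t x) :
    t ∈ Algebra.adjoin K ({x} : Set A) := by
  by_contra htC
  -- then `x` and `s` would not commute for ... use adjoin {x, t}
  set B := Algebra.adjoin K ({x, t} : Set A) with hB
  set C := Algebra.adjoin K ({x} : Set A) with hC
  have hCB : C ≤ B := Algebra.adjoin_mono (by simp)
  have htB : t ∈ B := Algebra.subset_adjoin (by simp)
  have hcommB : ∀ b ∈ B, ∀ b' ∈ B, Commute b b' := by
    have h1 : ∀ b ∈ B, Commute x b := fun b hb =>
      Algebra.commute_of_mem_adjoin_of_forall_mem_commute hb (by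
        intro z hz
        rcases hz with rfl | rfl
        · exact Commute.refl _
        · exact ht.symm)
    have h2 : ∀ b ∈ B, Commute t b := fun b hb =>
      Algebra.commute_of_mem_adjoin_of_forall_mem_commute hb (by
        intro z hz
        rcases hz with rfl | rfl
        · exact ht
        · exact Commute.refl _)
    intro b hb b' hb'
    exact (Algebra.commute_of_mem_adjoin_of_forall_mem_commute hb' (by
      intro z hz
      rcases hz with rfl | rfl
      · exact (h1 b hb).symm
      · exact (h2 b hb).symm))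
  have hd2 : finrank K B ∣ p ^ 2 := hA ▸ finrank_subalgebra_dvd B
  obtain ⟨k2, hk2, e2⟩ := (Nat.dvd_prime_pow hp).mp hd2
  have e1 : finrank K C = p := finrank_adjoin_singleton hp hA x hx
  have hle : finrank K C ≤ finrank K B :=
    Submodule.finrank_mono (show C.toSubmodule ≤ B.toSubmodule from hCB)
  have hk2' : 1 ≤ k2 := by
    rw [e1, e2] at hle
    by_contra h
    have : k2 = 0 := by omega
    rw [this, pow_zero] at hle
    exact absurd hle (not_le.mpr hp.one_lt)
  have hk22 : k2 ≠ 2 := by
    rintro rfl
    have htop : B = ⊤ := by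
      apply Algebra.toSubmodule_eq_top.1
      apply Submodule.eq_top_of_finrank_eq
      change finrank K B = finrank K A
      rw [e2, hA]
    obtain ⟨s, hs⟩ := exists_not_commute x hx
    exact hs (hcommB x (htop ▸ Algebra.mem_top) s (htop ▸ Algebra.mem_top)).eq
  have hk21 : k2 = 1 := by omega
  have hCBeq : C = B := by
    apply Subalgebra.toSubmodule_injective
    exact Submodule.eq_of_le_of_finrank_eq (show C.toSubmodule ≤ B.toSubmodule from hCB)
      (by change finrank K C = finrank K B; rw [e1, e2, hk21, pow_one])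
  exact htC (hCBeq ▸ htB)

theorem exists_not_mem_range {p : ℕ} (hp : p.Prime) (hA : finrank K A = p ^ 2) :
    ∃ x : A, x ∉ (algebraMap K A).range := by
  by_contra hcon
  push Not at hcon
  have : (⊥ : Subalgebra K A) = ⊤ := by
    ext z
    simp only [Algebra.mem_bot, Algebra.mem_top, iff_true]
    obtain ⟨a, ha⟩ := hcon z
    exact ⟨a, ha⟩
  rw [Subalgebra.bot_eq_top_iff_finrank_eq_one, hA] at this
  have h2 : 2 ≤ p := hp.two_le
  nlinarith

/-- A monic polynomial of degree exactly `p` killing a given non-central element. -/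
theorem exists_monic_natDegree_eq {p : ℕ} (hp : p.Prime) (hA : finrank K A = p ^ 2) (x : A)
    (hx : x ∉ (algebraMap K A).range) :
    ∃ f : K[X], f.Monic ∧ f.natDegree = p ∧ aeval x f = 0 := by
  have hint : IsIntegral K x := Algebra.IsIntegral.isIntegral x
  set S := Algebra.adjoin K ({x} : Set A) with hS
  set θ : S := ⟨x, Algebra.subset_adjoin rfl⟩ with hθ
  have hminθ : minpoly K θ = minpoly K x :=
    (minpoly.algHom_eq S.val Subtype.val_injective θ).symm
  have hdeg_le : (minpoly K x).natDegree ≤ p := by
    rw [← hminθ, ← finrank_adjoin_singleton hp hA x hx]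
    exact minpoly.natDegree_le θ
  refine ⟨minpoly K x * X ^ (p - (minpoly K x).natDegree), ?_, ?_, ?_⟩
  · exact (minpoly.monic hint).mul (monic_X_pow _)
  · rw [(minpoly.monic hint).natDegree_mul (monic_X_pow _), natDegree_X_pow]
    omega
  · rw [map_mul, minpoly.aeval, zero_mul]

end more2


end wedderburnAll

end PA
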