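/-
Helper library (helper59): Kummer-type lemmas for division algebras over fields containing the
roots of unity.
* `PA.eq_X_pow_sub_C_of_dvd`: irreducible monic factor `g` of `X ^ m - a` divides `X ^ deg g - c`
  when `X ^ m - 1` splits over `K`;
* `PA.finrank_adjoin_eq_natDegree_minpoly`;
* `PA.natDegree_minpoly_dvd`: in a central division algebra of dimension `n ^ 2`, degrees of
  elements divide `n` (uses helper1's centralizer theorem);
* `PA.pow_natDegree_mem`: `x ≠ 0`, `x ^ m ∈ K` implies `x ^ deg(x) ∈ K`.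
-/
import Groth.Agent.Lib.Helper59.PAlgebra
import Groth.Agent.Lib.Helper1.CSADivision

set_option autoImplicit false
universe u v w

open Module Polynomial

namespace PA

section kummer
variable {K : Type u} [Field K]

/-- Kummer-type lemma: if `K` contains all `m`-th roots of unity, `g` is irreducible and monic over
`K` and divides `X ^ m - a` with `a ≠ 0`, then `g = X ^ d - c`. -/
lemma eq_X_pow_sub_C_of_dvd (m : ℕ) (hm : 0 < m) (hK : (X ^ m - 1 : K[X]).Splits)
    (a : K) (ha : a ≠ 0) (g : K[X]) (hg : Irreducible g) (hgm : g.Monic)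
    (hdvd : g ∣ X ^ m - C a) : ∃ c : K, g ∣ X ^ g.natDegree - C c := by
  set Ω := AlgebraicClosure K
  let i : K →+* Ω := algebraMap K Ω
  have hsplit : (g.map i).Splits := IsAlgClosed.splits _
  have hmonic : (g.map i).Monic := hgm.map i
  have hdeg : (g.map i).natDegree = g.natDegree := natDegree_map i
  set d := g.natDegree with hd
  have hdpos : 0 < d := hg.natDegree_pos
  have hcard : (g.map i).roots.card = d := by
    rw [← hdeg]; exact hsplit.natDegree_eq_card_roots.symm
  -- every root is an `m`-th root of `a`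
  have hroot : ∀ r ∈ (g.map i).roots, r ^ m = i a := by
    intro r hr
    rw [mem_roots hmonic.ne_zero, IsRoot.def] at hr
    obtain ⟨q, hq⟩ := hdvd
    have : eval r ((X ^ m - C a : K[X]).map i) = 0 := by
      rw [hq, Polynomial.map_mul, eval_mul, hr, zero_mul]
    simpa [sub_eq_zero] using this
  have hia : i a ≠ 0 := (map_ne_zero i).mpr ha
  -- a root
  obtain ⟨r₀, hr₀⟩ : ∃ r₀, r₀ ∈ (g.map i).roots := by
    apply Multiset.card_pos_iff_exists_mem.mp
    rw [hcard]; exact hdpos
  have hr₀0 : r₀ ≠ 0 := by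
    intro h0
    have := hroot r₀ hr₀
    rw [h0, zero_pow hm.ne'] at this
    exact hia this.symm
  -- every root is `i ζ * r₀`
  have hzeta : ∀ r ∈ (g.map i).roots, ∃ ζ : K, ζ ≠ 0 ∧ r = i ζ * r₀ := by
    intro r hr
    have h1 : (r / r₀) ^ m = 1 := by
      rw [div_pow, hroot r hr, hroot r₀ hr₀, div_self hia]
    have hX : (X ^ m - 1 : K[X]) ≠ 0 := by
      have : (X ^ m - 1 : K[X]) = X ^ m - C 1 := by simp
      rw [this]; exact X_pow_sub_C_ne_zero hm 1
    have h2 : ((X ^ m - 1 : K[X]).map i).IsRoot (r / r₀) := by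
      simp [IsRoot.def, h1]
    obtain ⟨ζ, hζ⟩ := hK.mem_range_of_isRoot hX h2
    have hr0 : r ≠ 0 := by
      intro h0
      have := hroot r hr
      rw [h0, zero_pow hm.ne'] at this
      exact hia this.symm
    refine ⟨ζ, ?_, ?_⟩
    · rintro rfl
      rw [map_zero] at hζ
      exact (div_ne_zero hr0 hr₀0) hζ.symm
    · rw [hζ, div_mul_cancel₀ _ hr₀0]
  -- the product of the roots
  have hprod : ∀ R : Multiset Ω, (∀ r ∈ R, ∃ ζ : K, ζ ≠ 0 ∧ r = i ζ * r₀) →
      ∃ z : K, z ≠ 0 ∧ R.prod = i z * r₀ ^ (Multiset.card R) := by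
    intro R
    induction R using Multiset.induction_on with
    | empty => intro _; exact ⟨1, one_ne_zero, by simp⟩
    | cons r R ih =>
      intro h
      obtain ⟨z, hz, hR⟩ := ih (fun r' hr' => h r' (Multiset.mem_cons_of_mem hr'))
      obtain ⟨ζ, hζ, hr⟩ := h r (Multiset.mem_cons_self r R)
      refine ⟨ζ * z, mul_ne_zero hζ hz, ?_⟩
      rw [Multiset.prod_cons, hR, hr, Multiset.card_cons, map_mul, pow_succ]
      ring
  obtain ⟨z, hz, hzprod⟩ := hprod _ hzeta
  rw [hcard] at hzprod
  have hcoeff := hsplit.coeff_zero_eq_prod_roots_of_monic hmonic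
  rw [coeff_map, hdeg, hzprod] at hcoeff
  -- `r₀ ^ d = i c`
  set c : K := (-1) ^ d * g.coeff 0 / z with hc
  have hr₀d : r₀ ^ d = i c := by
    have hiz : i z ≠ 0 := (map_ne_zero i).mpr hz
    have h1 : (-1 : Ω) ^ d * (-1) ^ d = 1 := by
      rw [← mul_pow, neg_one_mul, neg_neg, one_pow]
    rw [hc, map_div₀, map_mul, map_pow, map_neg, map_one, hcoeff]
    rw [eq_div_iff hiz, ← mul_assoc, ← mul_assoc, h1, one_mul, mul_comm]
  refine ⟨c, ?_⟩
  have hmin : minpoly K r₀ = g := by
    symm
    apply minpoly.eq_of_irreducible_of_monic hg _ hgm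
    rw [mem_roots hmonic.ne_zero, IsRoot.def, eval_map_algebraMap] at hr₀
    exact hr₀
  rw [← hmin]
  apply minpoly.dvd
  simp only [map_sub, map_pow, aeval_X, aeval_C]
  rw [hr₀d]; exact sub_self _

end kummer


section degdvd
variable {K : Type u} [Field K]

/-- The dimension of `K[c]` equals the degree of the minimal polynomial. -/
lemma finrank_adjoin_eq_natDegree_minpoly {A : Type v} [DivisionRing A] [Algebra K A]
    [FiniteDimensional K A] (c : A) :
    finrank K (Algebra.adjoin K ({c} : Set A)) = (minpoly K c).natDegree := by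
  have hint : IsIntegral K c := Algebra.IsIntegral.isIntegral c
  apply le_antisymm
  · exact finrank_adjoin_le c (minpoly K c) (minpoly.monic hint) (minpoly.aeval K c)
  · set S := Algebra.adjoin K ({c} : Set A) with hS
    set θ : S := ⟨c, Algebra.subset_adjoin rfl⟩ with hθ
    have hminθ : minpoly K θ = minpoly K c :=
      (minpoly.algHom_eq S.val Subtype.val_injective θ).symm
    rw [← hminθ]
    exact minpoly.natDegree_le θ

variable {A : Type v} [DivisionRing A] [Algebra K A] [Algebra.IsCentral K A]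
  [FiniteDimensional K A]

/-- In a central division algebra of dimension `n ^ 2`, the degree of every element divides `n`. -/
theorem natDegree_minpoly_dvd (n : ℕ) (hA : finrank K A = n ^ 2) (x : A) :
    (minpoly K x).natDegree ∣ n := by
  set L := Algebra.adjoin K ({x} : Set A) with hL
  have hLs : IsSimpleRing L := Groth.Agent.Lib.Helper1.CSA.isSimpleRing_subalgebra_of_division K A L
  have h1 := Groth.Agent.Lib.Helper1.CSA.finrank_eq_mul_centralizer K A L
  set Z := Subalgebra.centralizer K (L : Set A) with hZ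
  have hxZ : x ∈ Z := by
    rw [hZ, Subalgebra.mem_centralizer_iff]
    intro y hy
    exact (Algebra.commute_of_mem_adjoin_self hy).eq.symm
  letI := divisionRingSubalgebra Z
  set x' : Z := ⟨x, hxZ⟩ with hx'
  have hmin : minpoly K x' = minpoly K x :=
    (minpoly.algHom_eq Z.val Subtype.val_injective x').symm
  have h2 : finrank K (Algebra.adjoin K ({x'} : Set Z)) ∣ finrank K Z :=
    finrank_subalgebra_dvd (Algebra.adjoin K ({x'} : Set Z))
  rw [finrank_adjoin_eq_natDegree_minpoly x', hmin] at h2
  rw [finrank_adjoin_eq_natDegree_minpoly x, hA] at h1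
  obtain ⟨e, he⟩ := h2
  rw [he, ← mul_assoc, ← pow_two] at h1
  have : (minpoly K x).natDegree ^ 2 ∣ n ^ 2 := ⟨e, h1⟩
  exact (Nat.pow_dvd_pow_iff (by norm_num)).mp this

end degdvd


section main
variable {K : Type u} [Field K] {A : Type v} [DivisionRing A] [Algebra K A]
  [FiniteDimensional K A]

/-- If `X ^ m - 1` splits over `K` and `x ^ m ∈ K` for a non-zero `x` of a finite-dimensional
division algebra, then `x ^ d ∈ K`, `d` the degree of the minimal polynomial of `x`. -/
theorem pow_natDegree_mem (m : ℕ) (hm : 0 < m) (hK : (X ^ m - 1 : K[X]).Splits) (x : A)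
    (hx : x ≠ 0) (hxm : x ^ m ∈ (algebraMap K A).range) :
    x ^ (minpoly K x).natDegree ∈ (algebraMap K A).range := by
  obtain ⟨a, ha⟩ := hxm
  have hint : IsIntegral K x := Algebra.IsIntegral.isIntegral x
  have ha0 : a ≠ 0 := by
    rintro rfl
    rw [map_zero] at ha
    exact hx (pow_eq_zero_iff hm.ne' |>.mp ha.symm)
  have hdvd : minpoly K x ∣ X ^ m - C a := by
    apply minpoly.dvd
    simp [ha]
  obtain ⟨c, hc⟩ := eq_X_pow_sub_C_of_dvd m hm hK a ha0 (minpoly K x) (minpoly.irreducible hint)
    (minpoly.monic hint) hdvd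
  refine ⟨c, ?_⟩
  obtain ⟨q, hq⟩ := hc
  have := congrArg (aeval x) hq
  simp only [map_sub, map_pow, aeval_X, aeval_C, map_mul, minpoly.aeval, zero_mul] at this
  exact (sub_eq_zero.mp this).symm

end main

end PA
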