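/-
Helper library (helper59): for a unit `x` of a central simple algebra of dimension `n ^ 2` with
`x ^ m ∈ K` (`K` containing the roots of unity), the irreducible factors of the minimal polynomial
are `X ^ r - c` with one `r`, and `r ∣ n` (`PA.dvd_finrank_of_aeval_prod`: module-theoretic
divisibility through helper1's centralizer theorem).
-/
import Groth.Agent.Lib.Helper59.Kummer
import Groth.Agent.Lib.Helper1.CSACentralizer
import Groth.Agent.Lib.Helper1.CSASkolem

set_option autoImplicit false
set_option linter.style.haveILetI false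
universe u v w

open Module Polynomial
open scoped TensorProduct

namespace PA

section samedeg
variable {K : Type u} [Field K]

/-- Two irreducible monic factors of `X ^ m - a` have the same degree when `K` contains the `m`-th
roots of unity. -/
lemma natDegree_le_of_irreducible_dvd (m : ℕ) (hm : 0 < m) (hK : (X ^ m - 1 : K[X]).Splits)
    (a : K) (ha : a ≠ 0) (g₁ g₂ : K[X]) (hg₁ : Irreducible g₁) (hg₁m : g₁.Monic)
    (hg₂ : Irreducible g₂) (hg₂m : g₂.Monic)
    (hd₁ : g₁ ∣ X ^ m - C a) (hd₂ : g₂ ∣ X ^ m - C a) : g₁.natDegree ≤ g₂.natDegree := by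
  set Ω := AlgebraicClosure K
  let i : K →+* Ω := algebraMap K Ω
  obtain ⟨α, hα⟩ := IsAlgClosed.exists_aeval_eq_zero Ω g₂ (degree_pos_of_irreducible hg₂).ne'
  obtain ⟨β, hβ⟩ := IsAlgClosed.exists_aeval_eq_zero Ω g₁ (degree_pos_of_irreducible hg₁).ne'
  have hia : i a ≠ 0 := (map_ne_zero i).mpr ha
  have hαm : α ^ m = i a := by
    obtain ⟨q, hq⟩ := hd₂
    have := congrArg (aeval α) hq
    simp only [map_sub, map_pow, aeval_X, aeval_C, map_mul, hα, zero_mul] at this
    exact sub_eq_zero.mp this
  have hβm : β ^ m = i a := by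
    obtain ⟨q, hq⟩ := hd₁
    have := congrArg (aeval β) hq
    simp only [map_sub, map_pow, aeval_X, aeval_C, map_mul, hβ, zero_mul] at this
    exact sub_eq_zero.mp this
  have hα0 : α ≠ 0 := by
    rintro rfl
    rw [zero_pow hm.ne'] at hαm
    exact hia hαm.symm
  have h1 : (β / α) ^ m = 1 := by
    rw [div_pow, hαm, hβm, div_self hia]
  have hX : (X ^ m - 1 : K[X]) ≠ 0 := by
    have : (X ^ m - 1 : K[X]) = X ^ m - C 1 := by simp
    rw [this]; exact X_pow_sub_C_ne_zero hm 1
  have h2 : ((X ^ m - 1 : K[X]).map i).IsRoot (β / α) := by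
    simp [IsRoot.def, h1]
  obtain ⟨ζ, hζ⟩ := hK.mem_range_of_isRoot hX h2
  have hβα : β = i ζ * α := by rw [hζ, div_mul_cancel₀ _ hα0]
  obtain ⟨c, hc⟩ := eq_X_pow_sub_C_of_dvd m hm hK a ha g₂ hg₂ hg₂m hd₂
  have hαr : α ^ g₂.natDegree = i c := by
    obtain ⟨q, hq⟩ := hc
    have := congrArg (aeval α) hq
    simp only [map_sub, map_pow, aeval_X, aeval_C, map_mul, hα, zero_mul] at this
    exact sub_eq_zero.mp this
  have hmin : minpoly K β = g₁ :=
    (minpoly.eq_of_irreducible_of_monic hg₁ hβ hg₁m).symm
  have hdvd : g₁ ∣ X ^ g₂.natDegree - C (ζ ^ g₂.natDegree * c) := by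
    rw [← hmin]
    apply minpoly.dvd
    simp only [map_sub, map_pow, aeval_X, aeval_C, map_mul]
    rw [hβα, mul_pow, hαr]
    exact sub_self _
  have hpos : 0 < g₂.natDegree := hg₂.natDegree_pos
  have := natDegree_le_of_dvd hdvd (X_pow_sub_C_ne_zero hpos _)
  rwa [natDegree_X_pow_sub_C] at this

end samedeg

section lemB
variable (K : Type u) [Field K] (F : Type u) [Field F] [Algebra K F]
  (A' : Type v) [Ring A'] [Algebra K A'] [Algebra.IsCentral K A'] [IsSimpleRing A']
  [FiniteDimensional K A']

/-- A central simple algebra of dimension `n ^ 2` acting on `F ^ w` by `F`-linear maps: `n ∣ w`. -/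
theorem dvd_of_algHom_matrix (n : ℕ) (hA : finrank K A' = n ^ 2) (w : ℕ)
    (ψ : A' →ₐ[K] Matrix (Fin w) (Fin w) F) : n ∣ w := by
  rcases Nat.eq_zero_or_pos w with rfl | hw
  · exact dvd_zero n
  haveI : NeZero w := ⟨hw.ne'⟩
  haveI : Nonempty (Fin w) := ⟨⟨0, hw⟩⟩
  haveI : IsSimpleRing (F ⊗[K] A') := Groth.Agent.Lib.Helper1.CSA.isSimpleRing_tensor K F A'
  let Φ : F ⊗[K] A' →ₐ[F] Matrix (Fin w) (Fin w) F :=
    Algebra.TensorProduct.lift (Algebra.ofId F _) ψ (fun x y => Algebra.commutes x (ψ y))
  have hinj : Function.Injective Φ := RingHom.injective Φ.toRingHom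
  let eB : (F ⊗[K] A') ≃ₐ[F] Φ.range := AlgEquiv.ofInjective Φ hinj
  haveI : IsSimpleRing Φ.range := IsSimpleRing.of_ringEquiv eB.toRingEquiv inferInstance
  have h1 := Groth.Agent.Lib.Helper1.CSA.finrank_eq_mul_centralizer F
    (Matrix (Fin w) (Fin w) F) Φ.range
  have h2 : finrank F Φ.range = n ^ 2 := by
    rw [← eB.toLinearEquiv.finrank_eq, Module.finrank_baseChange, hA]
  rw [h2, Module.finrank_matrix] at h1
  simp only [Fintype.card_fin, Module.finrank_self, mul_one] at h1
  have h3 : n ^ 2 ∣ w ^ 2 := ⟨_, by rw [pow_two w]; exact h1⟩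
  exact (Nat.pow_dvd_pow_iff (by norm_num)).mp h3

end lemB

section lemC
variable {K : Type u} [Field K] (A' : Type v) [Ring A'] [Algebra K A'] [Algebra.IsCentral K A']
  [IsSimpleRing A'] [FiniteDimensional K A']
  {W : Type w} [AddCommGroup W] [Module K W] [FiniteDimensional K W]

omit [FiniteDimensional K W] in
lemma commute_aeval (φ T : Module.End K W) (h : Commute φ T) (p : K[X]) :
    Commute (aeval φ p) T := by
  induction p using Polynomial.induction_on' with
  | add p q hp hq => rw [map_add]; exact hp.add_left hq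
  | monomial n c =>
    rw [aeval_monomial]
    exact (Algebra.commute_algebraMap_left c T).mul_left (h.pow_left n)

open Groth.Agent.Lib.Helper1.CSA in
theorem dvd_finrank_of_aeval_irreducible (n : ℕ) (hA : finrank K A' = n ^ 2)
    (ψ : A' →ₐ[K] Module.End K W) (φ : Module.End K W) (hcomm : ∀ a, Commute φ (ψ a))
    (g : K[X]) (hg : Irreducible g) (h0 : aeval φ g = 0) :
    g.natDegree * n ∣ finrank K W := by
  haveI : Fact (Irreducible g) := ⟨hg⟩
  let θ : AdjoinRoot g →ₐ[K] Module.End K W :=
    Ideal.Quotient.liftₐ (Ideal.span {g}) (aeval φ) (by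
      intro a ha
      obtain ⟨q, rfl⟩ := Ideal.mem_span_singleton.mp ha
      rw [map_mul, h0, zero_mul])
  have hθmk : ∀ p : K[X], θ (AdjoinRoot.mk g p) = aeval φ p := fun p => rfl
  have hθ : ∀ (f : AdjoinRoot g) (a : A'), Commute (θ f) (ψ a) := by
    intro f a
    induction f using AdjoinRoot.induction_on with
    | ih p =>
      rw [hθmk]
      exact commute_aeval φ (ψ a) (hcomm a) p
  haveI : FiniteDimensional (AdjoinRoot g) (ModVia θ) :=
    Module.Finite.of_restrictScalars_finite K (AdjoinRoot g) (ModVia θ)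
  let ψ' : A' →ₐ[K] Module.End (AdjoinRoot g) (ModVia θ) :=
    { toFun := fun a =>
        { toFun := fun v => ψ a v
          map_add' := fun x y => map_add (ψ a) x y
          map_smul' := fun f v => (LinearMap.congr_fun (hθ f a).eq v).symm }
      map_one' := LinearMap.ext fun v => show ψ 1 v = v by rw [map_one]; rfl
      map_mul' := fun a b => LinearMap.ext fun v =>
        show ψ (a * b) v = ψ a (ψ b v) by rw [map_mul]; rfl
      map_zero' := LinearMap.ext fun v => show ψ 0 v = 0 by rw [map_zero]; rfl
      map_add' := fun a b => LinearMap.ext fun v =>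
        show ψ (a + b) v = ψ a v + ψ b v by rw [map_add]; rfl
      commutes' := fun c => LinearMap.ext fun v =>
        show ψ (algebraMap K A' c) v = c • v by
          rw [AlgHom.commutes]; rfl }
  let b := Module.finBasis (AdjoinRoot g) (ModVia θ)
  let ψ'' : A' →ₐ[K] Matrix (Fin (finrank (AdjoinRoot g) (ModVia θ)))
      (Fin (finrank (AdjoinRoot g) (ModVia θ))) (AdjoinRoot g) :=
    ((algEquivMatrix b).toAlgHom.restrictScalars K).comp ψ'
  have h1 := dvd_of_algHom_matrix K (AdjoinRoot g) A' n hA _ ψ''
  have h2 := Module.finrank_mul_finrank K (AdjoinRoot g) (ModVia θ)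
  have h3 : finrank K (AdjoinRoot g) = g.natDegree := by
    rw [(AdjoinRoot.powerBasis hg.ne_zero).finrank, AdjoinRoot.powerBasis_dim]
  have h4 : finrank K (ModVia θ) = finrank K W := rfl
  rw [← h4, ← h2, h3]
  exact Nat.mul_dvd_mul_left _ h1

end lemC

section lemD
variable {K : Type u} [Field K] (A' : Type v) [Ring A'] [Algebra K A'] [Algebra.IsCentral K A']
  [IsSimpleRing A'] [FiniteDimensional K A']

/-- Restriction of an action to an invariant subspace. -/
def restrictHom {W : Type w} [AddCommGroup W] [Module K W] (ψ : A' →ₐ[K] Module.End K W)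
    (U : Submodule K W) (hU : ∀ a, ∀ u ∈ U, ψ a u ∈ U) : A' →ₐ[K] Module.End K U where
  toFun a := (ψ a).restrict (hU a)
  map_one' := by ext u; simp
  map_mul' a b := by ext u; simp
  map_zero' := by ext u; simp
  map_add' a b := by ext u; simp
  commutes' c := by ext u; simp [Module.algebraMap_end_apply]

lemma aeval_restrict_apply {W : Type w} [AddCommGroup W] [Module K W] (φ : Module.End K W)
    (U : Submodule K W) (h : ∀ u ∈ U, φ u ∈ U) (p : K[X]) (u : U) :
    ((aeval (φ.restrict h) p) u : W) = aeval φ p u := by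
  induction p using Polynomial.induction_on' with
  | add p q hp hq => simp only [map_add, LinearMap.add_apply, Submodule.coe_add, hp, hq]
  | monomial n c =>
    simp only [aeval_monomial, Module.End.mul_apply, Module.algebraMap_end_apply,
      Submodule.coe_smul]
    rw [Module.End.pow_restrict n h]
    rfl

theorem dvd_finrank_of_aeval_prod (n r : ℕ) (hr : 0 < r) (hA : finrank K A' = n ^ 2)
    (s : Multiset K) (hs : ∀ a ∈ s, Irreducible (X ^ r - C a : K[X])) :
    ∀ (W : Type w) [AddCommGroup W] [Module K W] [FiniteDimensional K W]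
      (ψ : A' →ₐ[K] Module.End K W) (φ : Module.End K W) (_ : ∀ a, Commute φ (ψ a))
      (_ : aeval φ (s.map fun a => (X ^ r - C a : K[X])).prod = 0), r * n ∣ finrank K W := by
  induction s using Multiset.induction_on with
  | empty =>
    intro W _ _ _ ψ φ _ h0
    simp only [Multiset.map_zero, Multiset.prod_zero, map_one] at h0
    have : Subsingleton W := ⟨fun x y => by
      have hx : x = 0 := LinearMap.congr_fun h0 x
      have hy : y = 0 := LinearMap.congr_fun h0 y
      rw [hx, hy]⟩
    rw [Module.finrank_zero_of_subsingleton]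
    exact dvd_zero _
  | cons a s ih =>
    intro W _ _ _ ψ φ hcomm h0
    rw [Multiset.map_cons, Multiset.prod_cons, map_mul] at h0
    set P := aeval φ (X ^ r - C a : K[X]) with hP
    set Q := aeval φ (s.map fun a => (X ^ r - C a : K[X])).prod with hQ
    have hQψ : ∀ a', Commute Q (ψ a') := fun a' => commute_aeval φ (ψ a') (hcomm a') _
    have hQφ : Commute Q φ := commute_aeval φ φ (Commute.refl φ) _
    have hdim := LinearMap.finrank_range_add_finrank_ker Q
    have h1 : r * n ∣ finrank K (LinearMap.range Q) := by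
      have hU : ∀ a', ∀ u ∈ LinearMap.range Q, ψ a' u ∈ LinearMap.range Q := by
        rintro a' _ ⟨w, rfl⟩
        exact ⟨ψ a' w, LinearMap.congr_fun (hQψ a').eq w⟩
      have hφU : ∀ u ∈ LinearMap.range Q, φ u ∈ LinearMap.range Q := by
        rintro _ ⟨w, rfl⟩
        exact ⟨φ w, LinearMap.congr_fun hQφ.eq w⟩
      have h3 := dvd_finrank_of_aeval_irreducible A' n hA (restrictHom A' ψ _ hU)
        (φ.restrict hφU) (fun a' => by
          ext u
          exact LinearMap.congr_fun (hcomm a').eq u.1)
        (X ^ r - C a) (hs a (Multiset.mem_cons_self a s)) (by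
          ext u
          rw [aeval_restrict_apply]
          obtain ⟨u, w, rfl⟩ := u
          exact LinearMap.congr_fun h0 w)
      rwa [natDegree_X_pow_sub_C] at h3
    have h2 : r * n ∣ finrank K (LinearMap.ker Q) := by
      have hU : ∀ a', ∀ u ∈ LinearMap.ker Q, ψ a' u ∈ LinearMap.ker Q := by
        intro a' u hu
        rw [LinearMap.mem_ker] at hu ⊢
        have := LinearMap.congr_fun (hQψ a').eq u
        rw [Module.End.mul_apply, Module.End.mul_apply, hu, map_zero] at this
        exact this
      have hφU : ∀ u ∈ LinearMap.ker Q, φ u ∈ LinearMap.ker Q := by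
        intro u hu
        rw [LinearMap.mem_ker] at hu ⊢
        have := LinearMap.congr_fun hQφ.eq u
        rw [Module.End.mul_apply, Module.End.mul_apply, hu, map_zero] at this
        exact this
      exact ih (fun b hb => hs b (Multiset.mem_cons_of_mem hb)) (LinearMap.ker Q)
        (restrictHom A' ψ _ hU) (φ.restrict hφU) (fun a' => by
          ext u
          exact LinearMap.congr_fun (hcomm a').eq u.1)
        (by
          ext u
          rw [aeval_restrict_apply]
          exact u.2)
    rw [← hdim]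
    exact dvd_add h1 h2

end lemD

end PA
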