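import Mathlib

/-!
Kernel of `Sym(E^∨) → Sym(M^∨)` is generated by maximal minors of the augmented matrix (S16254).
-/

namespace Groth.Agent.Lib.Helper59.DetKer

open MvPolynomial Matrix

variable {A : Type*} [CommRing A] {N s : ℕ} (m : Fin s → (Fin (N + 1) → A))

/-- column vector -/
noncomputable def colv (t : Fin (N + 1)) : Fin (s + 1) → MvPolynomial (Fin (N + 1)) A :=
  Fin.snoc (α := fun _ => MvPolynomial (Fin (N + 1)) A) (fun i' : Fin s => C (m i' t)) (X t)

noncomputable def G (c : Fin (s + 1) → Fin (N + 1)) : MvPolynomial (Fin (N + 1)) A :=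
  (Matrix.of fun (i : Fin (s + 1)) (j : Fin (s + 1)) =>
          (Fin.snoc (α := fun _ => MvPolynomial (Fin (N + 1)) A)
            (fun i' : Fin s => MvPolynomial.C (m i' (c j))) (MvPolynomial.X (c j)) i)).det

theorem G_eq (c : Fin (s + 1) → Fin (N + 1)) :
    G m c = Matrix.det (Matrix.of fun j => colv m (c j)) := by
  unfold G
  rw [← Matrix.det_transpose]
  rfl

noncomputable def phi : MvPolynomial (Fin (N + 1)) A →ₐ[A] MvPolynomial (Fin s) A :=
  aeval (fun j : Fin (N + 1) => ∑ i : Fin s, C (m i j) * X i)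

theorem phi_G (c : Fin (s + 1) → Fin (N + 1)) : phi m (G m c) = 0 := by
  unfold G
  rw [AlgHom.map_det]
  set B := (phi m).mapMatrix (Matrix.of fun (i : Fin (s + 1)) (j : Fin (s + 1)) =>
          (Fin.snoc (α := fun _ => MvPolynomial (Fin (N + 1)) A)
            (fun i' : Fin s => MvPolynomial.C (m i' (c j))) (MvPolynomial.X (c j)) i)) with hB
  have h : B = B.updateRow (Fin.last s)
      (∑ k, (Fin.snoc (α := fun _ => MvPolynomial (Fin s) A) (fun i : Fin s => X i) 0 k) • B k) := by
    ext i j
    by_cases hi : i = Fin.last s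
    · subst hi
      rw [Matrix.updateRow_self]
      simp [B, Fin.sum_univ_castSucc, phi, mul_comm]
    · rw [Matrix.updateRow_ne hi]
  rw [h, Matrix.det_updateRow_sum]
  simp

theorem exists_retraction (hli : LinearIndependent A m)
    (hproj : Module.Projective A ((Fin (N + 1) → A) ⧸ Submodule.span A (Set.range m))) :
    ∃ Pm : Fin s → Fin (N + 1) → A,
      ∀ i i', ∑ j, m i' j * Pm i j = if i' = i then 1 else 0 := by
  classical
  set Ms := Submodule.span A (Set.range m) with hMs
  obtain ⟨ς, hς⟩ := Module.projective_lifting_property Ms.mkQ LinearMap.id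
    (Submodule.mkQ_surjective _)
  have hmem : ∀ e, (LinearMap.id - ς ∘ₗ Ms.mkQ :
      (Fin (N + 1) → A) →ₗ[A] (Fin (N + 1) → A)) e ∈ Ms := by
    intro e
    rw [← Submodule.Quotient.mk_eq_zero]
    have := LinearMap.congr_fun hς (Ms.mkQ e)
    simp only [LinearMap.coe_comp, Function.comp_apply, LinearMap.id_coe, id_eq,
      Submodule.mkQ_apply] at this
    simp [Submodule.Quotient.mk_sub, this]
  let π : (Fin (N + 1) → A) →ₗ[A] Ms :=
    LinearMap.codRestrict Ms (LinearMap.id - ς ∘ₗ Ms.mkQ) hmem
  let b := Module.Basis.span hli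
  let r : (Fin (N + 1) → A) →ₗ[A] (Fin s →₀ A) := b.repr.toLinearMap ∘ₗ π
  have hr : ∀ i', r (m i') = Finsupp.single i' 1 := by
    intro i'
    have hm : m i' ∈ Ms := Submodule.subset_span ⟨i', rfl⟩
    have h0 : Ms.mkQ (m i') = 0 := by
      rw [Submodule.mkQ_apply, Submodule.Quotient.mk_eq_zero]; exact hm
    have : π (m i') = b i' := by
      apply Subtype.ext
      simp [π, b, Module.Basis.span_apply, h0]
    simp only [r, LinearMap.coe_comp, Function.comp_apply, this]
    simp
  refine ⟨fun i j => r (fun j' => if j = j' then 1 else 0) i, fun i i' => ?_⟩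
  have h1 := LinearMap.pi_apply_eq_sum_univ r (m i')
  rw [hr] at h1
  have h2 := DFunLike.congr_fun h1 i
  simp only [Finsupp.coe_finset_sum, Finsupp.coe_smul, Finset.sum_apply, Pi.smul_apply,
    smul_eq_mul, Finsupp.single_apply] at h2
  rw [← h2]

theorem one_eq_sum (Pm : Fin s → Fin (N + 1) → A)
    (hP : ∀ i i', ∑ j, m i' j * Pm i j = if i' = i then 1 else 0) :
    (1 : A) = ∑ σ : Fin s → Fin (N + 1),
      (∏ i, Pm i (σ i)) * (Matrix.of fun i i' => m i (σ i')).det := by
  have h1 : (Matrix.of fun i i' => ∑ j, Pm i j * m i' j : Matrix (Fin s) (Fin s) A) = 1 := by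
    ext i i'
    simp only [Matrix.of_apply, Matrix.one_apply]
    have := hP i i'
    simp only [mul_comm (m i' _)] at this
    rw [this]
    simp only [eq_comm]
  have h2 : Matrix.det (Matrix.of fun i i' => ∑ j, Pm i j * m i' j :
      Matrix (Fin s) (Fin s) A) = 1 := by rw [h1, Matrix.det_one]
  rw [← h2]
  have h3 := (Matrix.detRowAlternating (R := A) (n := Fin s)).toMultilinearMap.map_sum
    (fun i (j : Fin (N + 1)) => Pm i j • fun i' => m i' j)
  have h4 : (Matrix.of fun i i' => ∑ j, Pm i j * m i' j : Matrix (Fin s) (Fin s) A) =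
      fun i => ∑ j, Pm i j • fun i' => m i' j := by
    ext i i'
    simp
  rw [h4]
  refine h3.trans (Finset.sum_congr rfl fun σ _ => ?_)
  have h5 := (Matrix.detRowAlternating (R := A) (n := Fin s)).toMultilinearMap.map_smul_univ
    (fun i => Pm i (σ i)) (fun i => fun i' => m i' (σ i))
  refine h5.trans ?_
  rw [smul_eq_mul]
  congr 1
  rw [← Matrix.det_transpose]
  rfl

theorem det_snoc_single (σ : Fin s → Fin (N + 1)) (ℓ : MvPolynomial (Fin (N + 1)) A) :
    Matrix.det (Matrix.of (Fin.snoc (α := fun _ => Fin (s + 1) → MvPolynomial (Fin (N + 1)) A)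
      (fun j' => colv m (σ j')) (Pi.single (Fin.last s) ℓ))) =
    C ((Matrix.of fun i i' => m i (σ i')).det) * ℓ := by
  rw [Matrix.det_succ_row _ (Fin.last s)]
  rw [Finset.sum_eq_single (Fin.last s)]
  · have hsub : (Matrix.of (Fin.snoc (α := fun _ => Fin (s + 1) → MvPolynomial (Fin (N + 1)) A)
        (fun j' => colv m (σ j')) (Pi.single (Fin.last s) ℓ))).submatrix
          (Fin.last s).succAbove (Fin.last s).succAbove =
        ((C : A →+* MvPolynomial (Fin (N + 1)) A).mapMatrix
          (Matrix.of fun i i' => m i (σ i')))ᵀ := by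
      ext j' i'
      simp [colv, Fin.succAbove_last]
    rw [hsub, Matrix.det_transpose, ← RingHom.map_det]
    simp only [Matrix.of_apply, Fin.snoc_last, Pi.single_eq_same]
    rw [Even.neg_one_pow ⟨_, rfl⟩, one_mul, mul_comm]
  · intro j _ hj
    simp only [Matrix.of_apply, Fin.snoc_last, Pi.single_apply, if_neg hj, mul_zero, zero_mul]
  · intro h; exact absurd (Finset.mem_univ _) h

theorem key (lam : Fin (N + 1) → A) (hlam : ∀ i, ∑ j, m i j * lam j = 0)
    (σ : Fin s → Fin (N + 1)) :
    C ((Matrix.of fun i i' => m i (σ i')).det) * (∑ j, C (lam j) * X j) =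
      ∑ t, C (lam t) * G m (Fin.snoc σ t) := by
  classical
  simp only [G_eq]
  have h1 : ∀ t, (Matrix.of fun j => colv m ((Fin.snoc σ t : Fin (s + 1) → Fin (N + 1)) j)) =
      Function.update (Fin.snoc (α := fun _ => Fin (s + 1) → MvPolynomial (Fin (N + 1)) A)
        (fun j' => colv m (σ j')) 0) (Fin.last s) (colv m t) := by
    intro t
    rw [Fin.update_snoc_last]
    show (fun j => colv m ((Fin.snoc σ t : Fin (s + 1) → Fin (N + 1)) j)) = _
    funext j
    refine Fin.lastCases ?_ (fun j' => ?_) j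
    · simp
    · simp
  simp only [h1]
  have h2 := (Matrix.detRowAlternating (R := MvPolynomial (Fin (N + 1)) A)
    (n := Fin (s + 1))).toMultilinearMap.map_update_sum Finset.univ (Fin.last s)
    (fun t : Fin (N + 1) => (C (lam t) : MvPolynomial (Fin (N + 1)) A) • colv m t)
    (Fin.snoc (α := fun _ => Fin (s + 1) → MvPolynomial (Fin (N + 1)) A)
        (fun j' => colv m (σ j')) 0)
  have h3 : ∀ t, (Matrix.detRowAlternating (R := MvPolynomial (Fin (N + 1)) A)
      (n := Fin (s + 1))).toMultilinearMap (Function.update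
        (Fin.snoc (α := fun _ => Fin (s + 1) → MvPolynomial (Fin (N + 1)) A)
        (fun j' => colv m (σ j')) 0) (Fin.last s)
          ((C (lam t) : MvPolynomial (Fin (N + 1)) A) • colv m t)) =
      C (lam t) * Matrix.det (Function.update
        (Fin.snoc (α := fun _ => Fin (s + 1) → MvPolynomial (Fin (N + 1)) A)
        (fun j' => colv m (σ j')) 0) (Fin.last s) (colv m t)) := by
    intro t
    rw [MultilinearMap.map_update_smul, smul_eq_mul]
    rfl
  simp only [h3] at h2
  rw [← h2]
  have h4 : (∑ t, (C (lam t) : MvPolynomial (Fin (N + 1)) A) • colv m t) = Pi.single (Fin.last s) (∑ j, C (lam j) * X j) := by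
    funext i
    refine Fin.lastCases ?_ (fun i' => ?_) i
    · simp [colv]
    · have : (Fin.castSucc i') ≠ Fin.last s := (Fin.castSucc_lt_last i').ne
      simp only [Finset.sum_apply, Pi.smul_apply, colv, Fin.snoc_castSucc, smul_eq_mul,
        Pi.single_apply, if_neg this]
      simp only [← C_mul, ← map_sum]
      rw [show ∑ x, lam x * m i' x = 0 by simpa only [mul_comm] using hlam i', map_zero]
  rw [h4, Fin.update_snoc_last]
  exact (det_snoc_single m σ _).symm

theorem mem_of_linear (Pm : Fin s → Fin (N + 1) → A)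
    (hP : ∀ i i', ∑ j, m i' j * Pm i j = if i' = i then 1 else 0)
    (lam : Fin (N + 1) → A) (hlam : ∀ i, ∑ j, m i j * lam j = 0) :
    (∑ j, C (lam j) * X j) ∈ Ideal.span (Set.range (G m)) := by
  have h1 := congrArg (C : A →+* MvPolynomial (Fin (N + 1)) A) (one_eq_sum m Pm hP)
  rw [map_one, map_sum] at h1
  rw [← one_mul (∑ j, C (lam j) * X j), h1, Finset.sum_mul]
  refine Ideal.sum_mem _ fun σ _ => ?_
  rw [map_mul, mul_assoc, key m lam hlam σ]
  refine Ideal.mul_mem_left _ _ (Ideal.sum_mem _ fun t _ => ?_)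
  exact Ideal.mul_mem_left _ _ (Ideal.subset_span ⟨_, rfl⟩)

noncomputable def psi (Pm : Fin s → Fin (N + 1) → A) :
    MvPolynomial (Fin s) A →ₐ[A] MvPolynomial (Fin (N + 1)) A :=
  aeval (fun i : Fin s => ∑ j : Fin (N + 1), C (Pm i j) * X j)

theorem ker_le (Pm : Fin s → Fin (N + 1) → A)
    (hP : ∀ i i', ∑ j, m i' j * Pm i j = if i' = i then 1 else 0) :
    RingHom.ker (phi m) ≤ Ideal.span (Set.range (G m)) := by
  classical
  set I := Ideal.span (Set.range (G m)) with hI
  -- generators
  have hgen : ∀ j, X j - psi Pm (phi m (X j)) ∈ I := by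
    intro j
    have : X j - psi Pm (phi m (X j)) =
        ∑ j', C ((if j = j' then 1 else 0) - ∑ i, m i j * Pm i j') * X j' := by
      simp only [phi, psi, aeval_X, map_sum, map_mul, algHom_C, algebraMap_eq, map_sub,
        sub_mul, Finset.sum_sub_distrib]
      congr 1
      · simp
      · simp only [Finset.mul_sum, Finset.sum_mul]
        rw [Finset.sum_comm]
        refine Finset.sum_congr rfl fun i _ => ?_
        refine Finset.sum_congr rfl fun j' _ => ?_
        ring
    rw [this]
    refine mem_of_linear m Pm hP _ (fun i' => ?_)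
    simp only [mul_sub, Finset.sum_sub_distrib]
    rw [sub_eq_zero]
    simp only [mul_ite, mul_one, mul_zero, Finset.sum_ite_eq, Finset.mem_univ, if_true]
    simp only [Finset.mul_sum]
    rw [Finset.sum_comm]
    have : ∀ i, ∑ j', m i' j' * (m i j * Pm i j') = m i j * ∑ j', m i' j' * Pm i j' := by
      intro i
      rw [Finset.mul_sum]
      exact Finset.sum_congr rfl fun _ _ => by ring
    simp only [this, hP]
    simp
  have hcomp : (Ideal.Quotient.mkₐ A I).comp ((psi Pm).comp (phi m)) = Ideal.Quotient.mkₐ A I := by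
    apply MvPolynomial.algHom_ext
    intro j
    simp only [AlgHom.coe_comp, Function.comp_apply, Ideal.Quotient.mkₐ_eq_mk]
    rw [eq_comm, Ideal.Quotient.eq]
    exact hgen j
  intro f hf
  rw [RingHom.mem_ker] at hf
  have := AlgHom.congr_fun hcomp f
  simp only [AlgHom.coe_comp, Function.comp_apply, Ideal.Quotient.mkₐ_eq_mk] at this
  rw [show (phi m) f = 0 from hf, map_zero, map_zero] at this
  exact Ideal.Quotient.eq_zero_iff_mem.1 this.symm

theorem main (hli : LinearIndependent A m)
    (hproj : Module.Projective A ((Fin (N + 1) → A) ⧸ Submodule.span A (Set.range m))) :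
    RingHom.ker (phi m) = Ideal.span (Set.range (G m)) := by
  obtain ⟨Pm, hP⟩ := exists_retraction m hli hproj
  refine le_antisymm (ker_le m Pm hP) ?_
  rw [Ideal.span_le]
  rintro _ ⟨c, rfl⟩
  exact phi_G m c

end Groth.Agent.Lib.Helper59.DetKer
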