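import Mathlib

/-!
# Homomorphisms from a finite étale algebra to an algebraically closed field

A finite reduced commutative `K`-algebra all of whose elements are separable has at least
`finrank K L` distinct `K`-algebra homomorphisms into any algebraically closed extension of `K`.
-/

set_option autoImplicit false
universe u v
open Module

namespace Groth.Agent.Lib.Helper59.EtaleHoms

variable (K : Type u) (L : Type u) [Field K] [CommRing L] [Algebra K L] [Module.Finite K L]
  [IsReduced L] [Algebra.IsSeparable K L]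
variable (Ω : Type v) [Field Ω] [Algebra K Ω] [IsAlgClosed Ω]

omit [Module.Finite K L] [IsReduced L] in
lemma isSeparable_quot (I : Ideal L) : Algebra.IsSeparable K (L ⧸ I) := by
  refine ⟨fun xbar => ?_⟩
  obtain ⟨x, rfl⟩ := Ideal.Quotient.mk_surjective xbar
  have hx : IsSeparable K x := Algebra.IsSeparable.isSeparable K x
  have hroot : Polynomial.aeval (Ideal.Quotient.mk I x) (minpoly K x) = 0 := by
    have := Polynomial.aeval_algHom_apply (Ideal.Quotient.mkₐ K I) x (minpoly K x)
    rw [Ideal.Quotient.mkₐ_eq_mk] at this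
    rw [this, minpoly.aeval, map_zero]
  exact hx.of_dvd (minpoly.dvd K _ hroot)

/-- the composite `L → L/m → Ω` -/
noncomputable def comp (m : MaximalSpectrum L) (τ : (L ⧸ m.asIdeal) →ₐ[K] Ω) : L →ₐ[K] Ω :=
  τ.comp (Ideal.Quotient.mkₐ K m.asIdeal)

omit [Module.Finite K L] [IsReduced L] [Algebra.IsSeparable K L] [IsAlgClosed Ω] in
lemma comp_eq_zero_iff (m : MaximalSpectrum L) (τ : (L ⧸ m.asIdeal) →ₐ[K] Ω) (x : L) :
    comp K L Ω m τ x = 0 ↔ x ∈ m.asIdeal := by
  haveI := m.isMaximal
  letI := Ideal.Quotient.field m.asIdeal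
  have hinj : Function.Injective τ := (τ : (L ⧸ m.asIdeal) →+* Ω).injective
  unfold comp
  rw [AlgHom.comp_apply, Ideal.Quotient.mkₐ_eq_mk, ← map_zero τ, hinj.eq_iff,
    Ideal.Quotient.eq_zero_iff_mem]

omit [Module.Finite K L] [IsReduced L] [Algebra.IsSeparable K L] [IsAlgClosed Ω] in
lemma comp_injective : Function.Injective
    (fun p : (Σ m : MaximalSpectrum L, (L ⧸ m.asIdeal) →ₐ[K] Ω) => comp K L Ω p.1 p.2) := by
  rintro ⟨m, τ⟩ ⟨m', τ'⟩ h
  simp only at h
  have hm : m = m' := by
    apply MaximalSpectrum.ext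
    ext x
    rw [← comp_eq_zero_iff K L Ω m τ, ← comp_eq_zero_iff K L Ω m' τ', h]
  subst hm
  have : τ = τ' := by
    apply AlgHom.ext
    intro xbar
    obtain ⟨x, rfl⟩ := Ideal.Quotient.mk_surjective xbar
    have := congrArg (fun f : L →ₐ[K] Ω => f x) h
    simpa [comp] using this
  rw [this]

theorem finrank_le_card : finrank K L ≤ Nat.card (L →ₐ[K] Ω) := by
  haveI : IsArtinianRing L := IsArtinianRing.of_finite K L
  haveI : Fintype (MaximalSpectrum L) := Fintype.ofFinite _
  have h1 : finrank K L = ∑ m : MaximalSpectrum L, finrank K (L ⧸ m.asIdeal) := by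
    rw [← Module.finrank_pi_fintype]
    exact LinearEquiv.finrank_eq ((IsArtinianRing.equivPi L).toLinearEquiv.restrictScalars K)
  have h2 : ∀ m : MaximalSpectrum L,
      Nat.card ((L ⧸ m.asIdeal) →ₐ[K] Ω) = finrank K (L ⧸ m.asIdeal) := by
    intro m
    haveI := m.isMaximal
    letI := Ideal.Quotient.field m.asIdeal
    haveI := isSeparable_quot K L m.asIdeal
    exact AlgHom.natCard_of_splits K (L ⧸ m.asIdeal) Ω (fun _ => IsAlgClosed.splits _)
  rw [h1, ← Finset.sum_congr rfl (fun m _ => h2 m), ← Nat.card_sigma]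
  exact Nat.card_le_card_of_injective _ (comp_injective K L Ω)

end Groth.Agent.Lib.Helper59.EtaleHoms
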