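import Mathlib

/-!
# Base change of factorisations over a perfect field

For `K` perfect and `K → L` a field extension, the factorisation of `f.map (algebraMap K L)` is
obtained from the one of `f` by factoring each irreducible factor; the factors of distinct
irreducible factors are disjoint and each is squarefree.
-/

set_option autoImplicit false
universe u v
open scoped Classical
open Polynomial UniqueFactorizationMonoid

namespace Groth.Agent.Lib.Helper59.FactorBC

variable {K : Type u} {L : Type v} [Field K] [Field L] [Algebra K L]

local notation "φ" => Polynomial.map (algebraMap K L)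

lemma map_ne_zero' {f : K[X]} (h : f ≠ 0) : f.map (algebraMap K L) ≠ 0 :=
  (Polynomial.map_ne_zero_iff (algebraMap K L).injective).2 h

/-- Factorisation of the base change as a bind. -/
lemma nf_map (f : K[X]) (h : f ≠ 0) :
    normalizedFactors (f.map (algebraMap K L)) =
      (normalizedFactors f).bind fun P => normalizedFactors (P.map (algebraMap K L)) := by
  have h1 : Associated ((normalizedFactors f).prod.map (algebraMap K L))
      (f.map (algebraMap K L)) := by
    have := (prod_normalizedFactors h).map (Polynomial.mapRingHom (algebraMap K L))
    simpa using this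
  rw [← h1.normalizedFactors_eq]
  have h2 : (normalizedFactors f).prod.map (algebraMap K L) =
      ((normalizedFactors f).map (Polynomial.map (algebraMap K L))).prod := by
    have := map_multiset_prod (Polynomial.mapRingHom (algebraMap K L)) (normalizedFactors f)
    simpa using this
  rw [h2, normalizedFactors_multiset_prod, Multiset.map_map]
  · rfl
  · intro h0
    rw [Multiset.mem_map] at h0
    obtain ⟨P, hP, hP0⟩ := h0
    have : P ≠ 0 := (irreducible_of_normalized_factor P hP).ne_zero
    exact map_ne_zero' this hP0

variable [PerfectField K]

lemma nodup_nf_map {P : K[X]} (hP : Irreducible P) :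
    (normalizedFactors (P.map (algebraMap K L))).Nodup := by
  have h1 : P.Separable := PerfectField.separable_of_irreducible hP
  have h2 : (P.map (algebraMap K L)).Separable := h1.map
  exact (squarefree_iff_nodup_normalizedFactors (map_ne_zero' hP.ne_zero)).1 h2.squarefree

omit [PerfectField K] in
lemma not_mem_of_ne {P P' : K[X]} (hP : Irreducible P) (hP' : Irreducible P')
    (hn : normalize P = P) (hn' : normalize P' = P') (hne : P ≠ P') {Q : L[X]}
    (hQ : Q ∈ normalizedFactors (P.map (algebraMap K L))) :
    Q ∉ normalizedFactors (P'.map (algebraMap K L)) := by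
  intro hQ'
  have hcop : IsCoprime P P' := by
    rcases (EuclideanDomain.dvd_or_coprime P P' hP) with h | h
    · exfalso
      have hass : Associated P P' := hP.associated_of_dvd hP' h
      have := normalize_eq_normalize_iff.2 ⟨hass.dvd, hass.symm.dvd⟩
      rw [hn, hn'] at this
      exact hne this
    · exact h
  have hcop' : IsCoprime (P.map (algebraMap K L)) (P'.map (algebraMap K L)) :=
    hcop.map (Polynomial.mapRingHom (algebraMap K L))
  have hd := dvd_of_mem_normalizedFactors hQ
  have hd' := dvd_of_mem_normalizedFactors hQ'
  have hu : IsUnit Q := hcop'.isUnit_of_dvd' hd hd'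
  exact (irreducible_of_normalized_factor Q hQ).not_isUnit hu

lemma count_nf_map_eq {P P' : K[X]} (hP : Irreducible P) (hP' : Irreducible P')
    (hn : normalize P = P) (hn' : normalize P' = P') {Q : L[X]}
    (hQ : Q ∈ normalizedFactors (P.map (algebraMap K L))) :
    (normalizedFactors (P'.map (algebraMap K L))).count Q = if P' = P then 1 else 0 := by
  split_ifs with h
  · subst h
    exact Multiset.count_eq_one_of_mem (nodup_nf_map hP') hQ
  · exact Multiset.count_eq_zero.2 (not_mem_of_ne hP hP' hn hn' (Ne.symm h) hQ)

/-- The multiplicity of a factor `Q` of `P.map` in `f.map` is that of `P` in `f`. -/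
lemma count_map (f : K[X]) (h : f ≠ 0) {P : K[X]} (hP : Irreducible P) (hn : normalize P = P)
    {Q : L[X]} (hQ : Q ∈ normalizedFactors (P.map (algebraMap K L))) :
    (normalizedFactors (f.map (algebraMap K L))).count Q = (normalizedFactors f).count P := by
  rw [nf_map f h, Multiset.count_bind]
  have : ∀ P' ∈ normalizedFactors f,
      (normalizedFactors (P'.map (algebraMap K L))).count Q = if P' = P then 1 else 0 := by
    intro P' hP'
    exact count_nf_map_eq hP (irreducible_of_normalized_factor P' hP') hn
      (normalize_normalized_factor P' hP') hQ
  rw [Multiset.map_congr rfl this]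
  generalize normalizedFactors f = s
  induction s using Multiset.induction with
  | empty => simp
  | cons a s ih =>
    rw [Multiset.map_cons, Multiset.sum_cons, ih, Multiset.count_cons]
    split_ifs with h1 h2 h2
    · omega
    · exact absurd h1.symm h2
    · exact absurd h2.symm h1
    · omega

omit [PerfectField K] in
lemma sum_natDegree_nf (g : L[X]) (hg : g ≠ 0) :
    ((normalizedFactors g).map natDegree).sum = g.natDegree := by
  rw [← Polynomial.natDegree_multiset_prod]
  · exact Polynomial.natDegree_eq_of_degree_eq
      (Polynomial.degree_eq_degree_of_associated (prod_normalizedFactors hg))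
  · exact zero_notMem_normalizedFactors g

lemma sum_natDegree {P : K[X]} (hP : Irreducible P) :
    ∑ Q ∈ (normalizedFactors (P.map (algebraMap K L))).toFinset, Q.natDegree = P.natDegree := by
  have h1 := sum_natDegree_nf (P.map (algebraMap K L)) (map_ne_zero' hP.ne_zero)
  rw [Polynomial.natDegree_map] at h1
  rw [← h1]
  have hnd := nodup_nf_map (L := L) hP
  rw [Finset.sum, Multiset.toFinset_val, hnd.dedup]

theorem main (f₁ f₂ : K[X]) (h₁ : f₁ ≠ 0) (h₂ : f₂ ≠ 0) :
    ∑ P ∈ (normalizedFactors (f₁.map (algebraMap K L))).toFinset,
        (normalizedFactors (f₁.map (algebraMap K L))).count P *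
          (normalizedFactors (f₂.map (algebraMap K L))).count P * P.natDegree =
      ∑ P ∈ (normalizedFactors f₁).toFinset,
        (normalizedFactors f₁).count P * (normalizedFactors f₂).count P * P.natDegree := by
  have hT : (normalizedFactors (f₁.map (algebraMap K L))).toFinset =
      (normalizedFactors f₁).toFinset.biUnion
        fun P => (normalizedFactors (P.map (algebraMap K L))).toFinset := by
    rw [nf_map f₁ h₁]
    ext Q
    simp only [Multiset.mem_toFinset, Multiset.mem_bind, Finset.mem_biUnion]
  rw [hT, Finset.sum_biUnion]
  · refine Finset.sum_congr rfl fun P hP => ?_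
    rw [Multiset.mem_toFinset] at hP
    have hirr := irreducible_of_normalized_factor P hP
    have hn := normalize_normalized_factor P hP
    rw [← sum_natDegree (L := L) hirr, Finset.mul_sum]
    refine Finset.sum_congr rfl fun Q hQ => ?_
    rw [Multiset.mem_toFinset] at hQ
    rw [count_map f₁ h₁ hirr hn hQ, count_map f₂ h₂ hirr hn hQ]
  · intro P hP P' hP' hne
    rw [Finset.mem_coe, Multiset.mem_toFinset] at hP hP'
    rw [Function.onFun, Finset.disjoint_left]
    intro Q hQ hQ'
    rw [Multiset.mem_toFinset] at hQ hQ'
    exact not_mem_of_ne (irreducible_of_normalized_factor P hP)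
      (irreducible_of_normalized_factor P' hP') (normalize_normalized_factor P hP)
      (normalize_normalized_factor P' hP') hne hQ hQ'

end Groth.Agent.Lib.Helper59.FactorBC
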