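import Groth.Agent.Lib.Helper35.SchFinAff
import Groth.Agent.Lib.Helper59.BCDescent
import Mathlib

/-!
# Sections of a quasi-coherent module over an affine up-closed subset of `up x`
-/

namespace Groth.Agent.Lib.Helper59.FinSpBC

open SchFin TensorProduct Groth.Agent.Lib.Helper35

universe u

variable (X : RSpace.{u}) (M : OMod X) (U : Set X.pt)

/-- Sections over `U` are the global sections of the restriction. -/
def betaMod : M.sect U ≃+ (M.restrict U).sect Set.univ where
  toFun b := ⟨fun q => b.1 q.1, fun q q' h => b.2 q.1 q'.1 h⟩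
  invFun m := ⟨fun q => m.1 ⟨q, trivial⟩, fun q q' h => m.2 ⟨q, trivial⟩ ⟨q', trivial⟩ h⟩
  left_inv b := by
    apply Subtype.ext
    funext q
    rfl
  right_inv m := by
    apply Subtype.ext
    funext q
    rfl
  map_add' _ _ := rfl

/-- Evaluation of sections at a point, as a linear map. -/
def evLinMod (q : U) :
    letI : Module (X.sectRing U) (M.carrier q.1) := Module.compHom _ (X.evalRing U q)
    M.sect U →ₗ[X.sectRing U] M.carrier q.1 :=
  letI : Module (X.sectRing U) (M.carrier q.1) := Module.compHom _ (X.evalRing U q)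
  { toFun := fun b => b.1 q
    map_add' := fun _ _ => rfl
    map_smul' := fun _ _ => rfl }

theorem isBaseChange_evalMod (hM : M.IsQcoh) (hUa : (X.restrict U).IsAffine) (q : U) :
    letI : Algebra (X.sectRing U) (X.ring q.1) := (X.evalRing U q).toAlgebra
    letI : Module (X.sectRing U) (M.carrier q.1) := Module.compHom _ (X.evalRing U q)
    haveI : IsScalarTower (X.sectRing U) (X.ring q.1) (M.carrier q.1) :=
      IsScalarTower.of_algebraMap_smul fun _ _ => rfl
    IsBaseChange (X.ring q.1) (evLinMod X M U q) := by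
  letI i1 : Algebra (X.sectRing U) (X.ring q.1) := (X.evalRing U q).toAlgebra
  letI i3 : Module (X.sectRing U) (M.carrier q.1) := Module.compHom _ (X.evalRing U q)
  haveI i4 : IsScalarTower (X.sectRing U) (X.ring q.1) (M.carrier q.1) :=
    IsScalarTower.of_algebraMap_smul fun _ _ => rfl
  have hq : (M.restrict U).IsQcoh := fun p q h => hM p.1 q.1 h
  have hbc := hUa.2.2.1 (M.restrict U) hq q
  unfold IsBCAlong at hbc
  let ev' : (X.restrict U).sectRing Set.univ →+* X.ring q.1 :=
    (X.restrict U).evalRing Set.univ ⟨q, trivial⟩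
  letI j1 : Algebra ((X.restrict U).sectRing Set.univ) (X.ring q.1) := ev'.toAlgebra
  letI j3 : Module ((X.restrict U).sectRing Set.univ) (M.carrier q.1) :=
    Module.compHom (M.carrier q.1) ev'
  haveI j4 : IsScalarTower ((X.restrict U).sectRing Set.univ) (X.ring q.1) (M.carrier q.1) :=
    IsScalarTower.of_algebraMap_smul fun _ _ => rfl
  refine isBaseChange_transport (rhoSect X U) (rhoSect_surjective X U) (fun r => rfl)
    (betaMod X M U) ?_ (evLinMod X M U q) _ (fun m => rfl) hbc
  intro r m
  apply Subtype.ext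
  funext q
  rfl

theorem main (x : X.pt) (U : Set X.pt)
    (hU : U ⊆ X.up x) (hUa : (X.restrict U).IsAffine)
    (hff : Module.FaithfullyFlat (X.sectRing U) ((q : ↥U) → X.ring q.1)) (M : OMod X)
    (hM : M.IsQcoh) :
    IsBCAlong (X.resSect x U hU) (M.resSect x U hU) := by
  unfold IsBCAlong
  letI a1 : Algebra (X.ring x) (X.sectRing U) := (X.resSect x U hU).toAlgebra
  letI a2 : Module (X.ring x) (M.sect U) := Module.compHom _ (X.resSect x U hU)
  haveI a3 : IsScalarTower (X.ring x) (X.sectRing U) (M.sect U) :=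
    IsScalarTower.of_algebraMap_smul fun _ _ => rfl
  letI b1 : ∀ q : U, Algebra (X.sectRing U) (X.ring q.1) := fun q => (X.evalRing U q).toAlgebra
  letI b2 : ∀ q : U, Algebra (X.ring x) (X.ring q.1) := fun q => (X.res (hU q.2)).toAlgebra
  haveI b3 : ∀ q : U, IsScalarTower (X.ring x) (X.sectRing U) (X.ring q.1) := fun q =>
    IsScalarTower.of_algebraMap_eq' (RingHom.ext fun _ => rfl)
  letI c1 : ∀ q : U, Module (X.sectRing U) (M.carrier q.1) := fun q =>
    Module.compHom _ (X.evalRing U q)
  letI c2 : ∀ q : U, Module (X.ring x) (M.carrier q.1) := fun q =>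
    Module.compHom _ (X.res (hU q.2))
  haveI c3 : ∀ q : U, IsScalarTower (X.sectRing U) (X.ring q.1) (M.carrier q.1) := fun q =>
    IsScalarTower.of_algebraMap_smul fun _ _ => rfl
  haveI c4 : ∀ q : U, IsScalarTower (X.ring x) (X.ring q.1) (M.carrier q.1) := fun q =>
    IsScalarTower.of_algebraMap_smul fun _ _ => rfl
  haveI c5 : ∀ q : U, IsScalarTower (X.ring x) (X.sectRing U) (M.carrier q.1) := fun q =>
    IsScalarTower.of_algebraMap_smul fun _ _ => rfl
  refine BCDescent.isBaseChange_of_pi (R := X.ring x) (S := X.sectRing U) _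
    (fun q : U => X.ring q.1) (fun q : U => M.carrier q.1)
    (fun q => evLinMod X M U q) (fun q => isBaseChange_evalMod X M U hM hUa q) ?_ hff
  intro q
  have h := hM x q.1 (hU q.2)
  unfold IsBCAlong at h
  exact h

end Groth.Agent.Lib.Helper59.FinSpBC
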