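import Groth.Prelude.Def_SchFin
import Mathlib

/-!
# Well-connected finite ringed posets
-/

namespace Groth.Agent.Lib.Helper59.FinSpConn

open SchFin

universe u

section Ring

variable {R : Type u} [CommRing R]

theorem idem_of_connected [ConnectedSpace (PrimeSpectrum R)] (e : R)
    (he : IsIdempotentElem e) : e = 0 ∨ e = 1 := by
  have hcl : IsClopen (PrimeSpectrum.basicOpen e : Set (PrimeSpectrum R)) :=
    PrimeSpectrum.isClopen_iff.2 ⟨e, he, rfl⟩
  rcases isClopen_iff.1 hcl with h | h
  · left
    have h1 : PrimeSpectrum.basicOpen e = ⊥ := TopologicalSpace.Opens.ext h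
    have h2 := (PrimeSpectrum.basicOpen_eq_bot_iff e).1 h1
    obtain ⟨n, hn⟩ := h2
    rcases n with _ | n
    · have : (1 : R) = 0 := by simpa using hn
      rw [← mul_one e, this, mul_zero]
    · rwa [he.pow_succ_eq] at hn
  · right
    have h0 : (PrimeSpectrum.basicOpen (1 - e) : Set (PrimeSpectrum R)) = ∅ := by
      have h3 : (PrimeSpectrum.basicOpen e ⊓ PrimeSpectrum.basicOpen (1 - e)) = ⊥ := by
        rw [← PrimeSpectrum.basicOpen_mul, mul_sub, mul_one, he.eq, sub_self,
          PrimeSpectrum.basicOpen_zero]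
      have h4 := congrArg (fun U : TopologicalSpace.Opens (PrimeSpectrum R) =>
        (U : Set (PrimeSpectrum R))) h3
      simp only [TopologicalSpace.Opens.coe_inf, h, Set.univ_inter, TopologicalSpace.Opens.coe_bot]
        at h4
      exact h4
    have h1 : PrimeSpectrum.basicOpen (1 - e) = ⊥ := TopologicalSpace.Opens.ext h0
    obtain ⟨n, hn⟩ := (PrimeSpectrum.basicOpen_eq_bot_iff (1 - e)).1 h1
    have he' : IsIdempotentElem (1 - e) := he.one_sub
    rcases n with _ | n
    · have : (1 : R) = 0 := by simpa using hn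
      rw [← mul_one e, this, mul_zero]
    · rw [he'.pow_succ_eq] at hn
      exact (sub_eq_zero.1 hn).symm

theorem nontrivial_of_connected [ConnectedSpace (PrimeSpectrum R)] : Nontrivial R :=
  PrimeSpectrum.nonempty_iff_nontrivial.mp inferInstance

theorem connected_of_idem [Nontrivial R] (h : ∀ e : R, IsIdempotentElem e → e = 0 ∨ e = 1) :
    ConnectedSpace (PrimeSpectrum R) := by
  haveI : PreconnectedSpace (PrimeSpectrum R) := by
    rw [preconnectedSpace_iff_clopen]
    intro s hs
    obtain ⟨e, he, rfl⟩ := PrimeSpectrum.isClopen_iff.1 hs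
    rcases h e he with rfl | rfl
    · left
      simp
    · right
      simp
  exact { toPreconnectedSpace := inferInstance, toNonempty := inferInstance }

end Ring

section Space

variable (X : RSpace.{u})

theorem idem_pt (hP : X.IsPwConnected) (e : X.sectRing Set.univ) (he : IsIdempotentElem e)
    (p : X.pt) : e.1 ⟨p, trivial⟩ = 0 ∨ e.1 ⟨p, trivial⟩ = 1 := by
  haveI := hP p
  apply idem_of_connected
  have := congrArg (fun s : X.sectRing Set.univ => s.1 ⟨p, trivial⟩) he.eq
  exact this

theorem idem_zero_iff (hP : X.IsPwConnected) (e : X.sectRing Set.univ)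
    (he : IsIdempotentElem e) {a b : X.pt} (h : Relation.EqvGen (fun a b : X.pt => a ≤ b) a b) :
    e.1 ⟨a, trivial⟩ = 0 ↔ e.1 ⟨b, trivial⟩ = 0 := by
  induction h with
  | rel a b hab =>
    have hres : X.res hab (e.1 ⟨a, trivial⟩) = e.1 ⟨b, trivial⟩ :=
      e.2 ⟨a, trivial⟩ ⟨b, trivial⟩ hab
    haveI := hP b
    haveI : Nontrivial (X.ring b) := nontrivial_of_connected
    constructor
    · intro h0
      rw [← hres, h0, map_zero]
    · intro h0
      rcases idem_pt X hP e he a with h1 | h1
      · exact h1
      · rw [h1, map_one, h0] at hres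
        exact absurd hres one_ne_zero
  | refl a => exact Iff.rfl
  | symm a b _ ih => exact ih.symm
  | trans a b c _ _ ih1 ih2 => exact ih1.trans ih2

theorem isConnected_of (hT : X.IsTopConnected) (hP : X.IsPwConnected) : X.IsConnected := by
  obtain ⟨⟨p₀⟩, hconn⟩ := hT
  haveI := hP p₀
  haveI : Nontrivial (X.ring p₀) := nontrivial_of_connected
  haveI : Nontrivial (X.sectRing Set.univ) :=
    (X.evalRing Set.univ ⟨p₀, trivial⟩).domain_nontrivial
  apply connected_of_idem
  intro e he
  rcases idem_pt X hP e he p₀ with h0 | h1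
  · left
    apply Subtype.ext
    funext q
    exact (idem_zero_iff X hP e he (hconn p₀ q.1)).mp h0
  · right
    apply Subtype.ext
    funext q
    rcases idem_pt X hP e he q.1 with h0' | h1'
    · have := (idem_zero_iff X hP e he (hconn p₀ q.1)).mpr h0'
      rw [h1] at this
      exact absurd this one_ne_zero
    · exact h1'

theorem isTopConnected_of (hC : X.IsConnected) (hP : X.IsPwConnected) : X.IsTopConnected := by
  classical
  haveI : ConnectedSpace (PrimeSpectrum (X.sectRing Set.univ)) := hC
  haveI : Nontrivial (X.sectRing Set.univ) := nontrivial_of_connected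
  have hne : Nonempty X.pt := by
    by_contra hemp
    rw [not_nonempty_iff] at hemp
    have : Subsingleton (X.sectRing Set.univ) :=
      ⟨fun a b => Subtype.ext (funext fun q => (hemp.false q.1).elim)⟩
    exact not_subsingleton _ this
  refine ⟨hne, fun p q => ?_⟩
  by_contra hpq
  have hcompat : ∀ (r r' : (Set.univ : Set X.pt)) (h : r.1 ≤ r'.1),
      X.res h (if Relation.EqvGen (fun a b : X.pt => a ≤ b) p r.1 then (1 : X.ring r.1) else 0) =
        (if Relation.EqvGen (fun a b : X.pt => a ≤ b) p r'.1 then (1 : X.ring r'.1) else 0) := by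
    intro r r' h
    have hiff : Relation.EqvGen (fun a b : X.pt => a ≤ b) p r.1 ↔
        Relation.EqvGen (fun a b : X.pt => a ≤ b) p r'.1 :=
      ⟨fun h1 => h1.trans _ _ _ (Relation.EqvGen.rel _ _ h),
        fun h1 => h1.trans _ _ _ (Relation.EqvGen.symm _ _ (Relation.EqvGen.rel _ _ h))⟩
    by_cases hr : Relation.EqvGen (fun a b : X.pt => a ≤ b) p r.1
    · rw [if_pos hr, if_pos (hiff.mp hr), map_one]
    · rw [if_neg hr, if_neg (fun h' => hr (hiff.mpr h')), map_zero]
  let e : X.sectRing Set.univ :=
    ⟨fun r => if Relation.EqvGen (fun a b : X.pt => a ≤ b) p r.1 then (1 : X.ring r.1) else 0,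
      hcompat⟩
  have he : IsIdempotentElem e := by
    apply Subtype.ext
    funext r
    show (if _ then (1 : X.ring r.1) else 0) * (if _ then (1 : X.ring r.1) else 0) =
      if _ then (1 : X.ring r.1) else 0
    split_ifs <;> simp
  have hep : e.1 ⟨p, trivial⟩ = 1 := if_pos (Relation.EqvGen.refl p)
  have heq : e.1 ⟨q, trivial⟩ = 0 := if_neg hpq
  rcases idem_of_connected e he with h0 | h1
  · haveI := hP p
    haveI : Nontrivial (X.ring p) := nontrivial_of_connected
    rw [h0] at hep
    exact zero_ne_one hep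
  · haveI := hP q
    haveI : Nontrivial (X.ring q) := nontrivial_of_connected
    rw [h1] at heq
    exact one_ne_zero heq

theorem main : X.IsWellConnected ↔ (X.IsTopConnected ∧ X.IsPwConnected) :=
  ⟨fun h => ⟨isTopConnected_of X h.1 h.2, h.2⟩, fun h => ⟨isConnected_of X h.1 h.2, h.2⟩⟩

end Space

end Groth.Agent.Lib.Helper59.FinSpConn
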