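import Mathlib

/-!
# Étale descent along a faithfully flat finite product
-/

namespace Groth.Agent.Lib.Helper59.PiDescent

open TensorProduct

universe u

variable {R S : Type u} [CommRing R] [CommRing S] [Algebra R S]
  {ι : Type u} [Finite ι] (T B : ι → Type u) [∀ i, CommRing (T i)] [∀ i, CommRing (B i)]
  [∀ i, Algebra R (T i)] [∀ i, Algebra (T i) (B i)] [∀ i, Algebra S (B i)] [∀ i, Algebra R (B i)]
  [∀ i, IsScalarTower R (T i) (B i)] [∀ i, IsScalarTower R S (B i)]

/-- `B i` as an algebra over the product of the `T i`. -/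
@[reducible] noncomputable def algPi (i : ι) : Algebra (∀ i, T i) (B i) :=
  ((algebraMap (T i) (B i)).comp (Pi.evalRingHom T i)).toAlgebra

attribute [local instance] algPi

instance towerPi (i : ι) : IsScalarTower (∀ i, T i) (T i) (B i) := by
  letI : Algebra (∀ i, T i) (T i) := (Pi.evalRingHom T i).toAlgebra
  exact IsScalarTower.of_algebraMap_eq' rfl

theorem isPushout_pi [∀ i, Algebra.IsPushout R S (T i) (B i)] :
    Algebra.IsPushout R S (∀ i, T i) (∀ i, B i) := by
  classical
  haveI : Fintype ι := Fintype.ofFinite ι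
  let e : S ⊗[R] (∀ i, T i) ≃ₐ[S] ∀ i, B i :=
    (Algebra.TensorProduct.piRight R S S T).trans
      (AlgEquiv.piCongrRight fun i => Algebra.IsPushout.equiv R S (T i) (B i))
  refine ⟨IsBaseChange.of_equiv e.toLinearEquiv ?_⟩
  intro t
  funext i
  show (Algebra.IsPushout.equiv R S (T i) (B i)) ((1 : S) ⊗ₜ[R] t i) = _
  rw [Algebra.IsPushout.equiv_tmul, map_one, one_mul]
  rfl

theorem etale_eval (i : ι) :
    letI : Algebra (∀ i, T i) (T i) := (Pi.evalRingHom T i).toAlgebra
    Algebra.Etale (∀ i, T i) (T i) := by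
  classical
  letI : Algebra (∀ i, T i) (T i) := (Pi.evalRingHom T i).toAlgebra
  haveI : IsLocalization.Away (Pi.single i (1 : T i)) (T i) := by
    apply IsLocalization.away_of_isIdempotentElem
    · simp [IsIdempotentElem, ← Pi.single_mul_left]
    · apply RingHom.ker_evalRingHom
    · apply (Pi.evalRingHom T i).surjective
  exact Algebra.Etale.of_isLocalizationAway (Pi.single i (1 : T i))

theorem etale_of_pi [∀ i, Algebra.IsPushout R S (T i) (B i)]
    (hff : Module.FaithfullyFlat R (∀ i, T i)) (het : ∀ i, Algebra.Etale (T i) (B i)) :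
    Algebra.Etale R S := by
  haveI := isPushout_pi (R := R) (S := S) T B
  have h1 : (algebraMap R (∀ i, T i)).FaithfullyFlat :=
    (RingHom.faithfullyFlat_algebraMap_iff).mpr hff
  have h2 : (algebraMap (∀ i, T i) (∀ i, B i)).Etale := by
    haveI : ∀ i, Algebra.Etale (∀ i, T i) (B i) := fun i => by
      letI : Algebra (∀ i, T i) (T i) := (Pi.evalRingHom T i).toAlgebra
      haveI : Algebra.Etale (∀ i, T i) (T i) := etale_eval T i
      haveI : IsScalarTower (∀ i, T i) (T i) (B i) := IsScalarTower.of_algebraMap_eq' rfl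
      exact Algebra.Etale.comp (∀ i, T i) (T i) (B i)
    have h3 : @Algebra.Etale (∀ i, T i) (∀ i, B i) _ _ (Pi.algebra ι B) :=
      Algebra.FormallyEtale.instEtaleForallOfFinite (R := ∀ i, T i) B
    have h4 := (@RingHom.etale_algebraMap (∀ i, T i) (∀ i, B i) _ _ (Pi.algebra ι B)).mpr h3
    exact h4
  rw [← RingHom.etale_algebraMap]
  exact RingHom.Etale.codescendsAlong_faithfullyFlat h1 h2

end Groth.Agent.Lib.Helper59.PiDescent
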