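import Groth.Agent.Lib.Helper35.SchFinAff
import Groth.Agent.Lib.Helper59.PiDescent
import Mathlib

/-!
# Étale criterion on an affine up-closed subset of a finite space
-/

namespace Groth.Agent.Lib.Helper59.FinSpEtale

open SchFin TensorProduct

universe u

variable (X : RSpace.{u}) (A : Alg X) (U : Set X.pt)

@[reducible] noncomputable def algRS : Algebra (X.sectRing U) (A.total.sectRing U) :=
  (A.sectMap U).toAlgebra

@[reducible] noncomputable def algRT (q : U) : Algebra (X.sectRing U) (X.ring q.1) :=
  (X.evalRing U q).toAlgebra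

@[reducible] noncomputable def algSB (q : U) : Algebra (A.total.sectRing U) (A.carrier q.1) :=
  (A.total.evalRing U q).toAlgebra

@[reducible] noncomputable def algRB (q : U) : Algebra (X.sectRing U) (A.carrier q.1) :=
  Algebra.compHom (A.carrier q.1) (X.evalRing U q)

attribute [local instance] algRS algRT algSB algRB

instance towerRTB (q : U) : IsScalarTower (X.sectRing U) (X.ring q.1) (A.carrier q.1) :=
  IsScalarTower.of_algebraMap_smul fun _ _ => rfl

instance towerRSB (q : U) : IsScalarTower (X.sectRing U) (A.total.sectRing U) (A.carrier q.1) :=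
  IsScalarTower.of_algebraMap_eq' (RingHom.ext fun _ => rfl)

theorem isPushout_eval (hA : A.IsQcoh) (hUa : (X.restrict U).IsAffine) (q : U) :
    Algebra.IsPushout (X.sectRing U) (X.ring q.1) (A.total.sectRing U) (A.carrier q.1) :=
  ⟨Groth.Agent.Lib.Helper35.isBaseChange_eval X A U hA hUa q⟩

theorem main (A : Alg X) (hA : A.IsQcoh)
    (U : Set X.pt) (hUa : (X.restrict U).IsAffine)
    (hφ : Module.FaithfullyFlat (X.sectRing U) ((q : ↥U) → X.ring q.1)) :
    (∀ q : X.pt, q ∈ U → Algebra.Etale (X.ring q) (A.carrier q)) ↔ (A.sectMap U).Etale := by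
  constructor
  · intro het
    haveI : ∀ q : U, Algebra.IsPushout (X.sectRing U) (A.total.sectRing U) (X.ring q.1)
        (A.carrier q.1) := fun q => (isPushout_eval X A U hA hUa q).symm
    have h := PiDescent.etale_of_pi (R := X.sectRing U) (S := A.total.sectRing U)
      (fun q : U => X.ring q.1) (fun q : U => A.carrier q.1) hφ (fun q => het q.1 q.2)
    exact h
  · intro het q hq
    have key : ∀ q' : U, Algebra.Etale (X.ring q'.1) (A.carrier q'.1) := by
      intro q'
      haveI : Algebra.IsPushout (X.sectRing U) (A.total.sectRing U) (X.ring q'.1)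
          (A.carrier q'.1) := (isPushout_eval X A U hA hUa q').symm
      have h1 : (algebraMap (X.sectRing U) (A.total.sectRing U)).Etale := het
      have h2 := RingHom.Etale.isStableUnderBaseChange (X.sectRing U) (A.total.sectRing U)
        (X.ring q'.1) (A.carrier q'.1) h1
      exact RingHom.etale_algebraMap.mp h2
    exact key ⟨q, hq⟩

end Groth.Agent.Lib.Helper59.FinSpEtale
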