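import Mathlib

/-!
# Coinvariants of a finite group action on a smooth algebra (order invertible) are smooth
-/

namespace Groth.Agent.Lib.Helper59.FixedSmooth

open scoped BigOperators

/-- key identity: for families congruent modulo a square-zero ideal. -/
lemma card_mul_sum_mul {G : Type*} [Fintype G] {D : Type*} [CommRing D] (N : Ideal D)
    (hN : N ^ 2 = ⊥) (x y : G → D)
    (hx : ∀ g h, x g - x h ∈ N) (hy : ∀ g h, y g - y h ∈ N) :
    (Fintype.card G : D) * ∑ g, x g * y g = (∑ g, x g) * (∑ g, y g) := by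
  classical
  rcases isEmpty_or_nonempty G with hG | ⟨⟨g₀⟩⟩
  · simp
  have h0 : ∀ g h, (x g - x g₀) * (y g - y h) = 0 := by
    intro g h
    have := Ideal.mul_mem_mul (hx g g₀) (hy g h)
    rw [← pow_two, hN] at this
    simpa using this
  have h1 : ∑ g, ∑ h, x g * (y g - y h) =
      (Fintype.card G : D) * ∑ g, x g * y g - (∑ g, x g) * (∑ g, y g) := by
    simp only [mul_sub, Finset.sum_sub_distrib, Finset.sum_const, Finset.card_univ, nsmul_eq_mul,
      ← Finset.mul_sum, ← Finset.sum_mul]
  have h2 : ∑ g, ∑ h, x g * (y g - y h) = 0 := by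
    have : ∀ g h, x g * (y g - y h) = x g₀ * (y g - y h) := by
      intro g h
      have := h0 g h
      linear_combination this
    simp only [this, ← Finset.mul_sum, Finset.sum_sub_distrib, Finset.sum_const, Finset.card_univ,
      nsmul_eq_mul]
    ring
  rw [h1] at h2
  exact sub_eq_zero.mp h2

section avg

variable {R B D : Type*} [CommRing R] [CommRing B] [CommRing D] [Algebra R B] [Algebra R D]

/-- The averaged hom. -/
noncomputable def avgHom {G : Type*} [Fintype G] (u : R) (hu : u * (Fintype.card G : R) = 1)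
    (N : Ideal D) (hN : N ^ 2 = ⊥) (φ : G → B →ₐ[R] D) (hφ : ∀ g h b, φ g b - φ h b ∈ N) :
    B →ₐ[R] D :=
  AlgHom.ofLinearMap (u • ∑ g, (φ g).toLinearMap)
    (by
      simp only [LinearMap.smul_apply, LinearMap.sum_apply,
        AlgHom.toLinearMap_apply, map_one, Finset.sum_const, Finset.card_univ, nsmul_eq_mul,
        mul_one]
      rw [Algebra.smul_def, ← map_natCast (algebraMap R D), ← map_mul, hu, map_one])
    (by
      intro a b
      simp only [LinearMap.smul_apply, LinearMap.sum_apply,
        AlgHom.toLinearMap_apply, map_mul]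
      have key := card_mul_sum_mul N hN (fun g => φ g a) (fun g => φ g b)
        (fun g h => hφ g h a) (fun g h => hφ g h b)
      simp only [Algebra.smul_def]
      have hu' : algebraMap R D u * (Fintype.card G : D) = 1 := by
        rw [← map_natCast (algebraMap R D), ← map_mul, hu, map_one]
      calc algebraMap R D u * ∑ g, φ g a * φ g b
          = algebraMap R D u * (algebraMap R D u * (Fintype.card G : D)) *
              ∑ g, φ g a * φ g b := by rw [hu', mul_one]
        _ = algebraMap R D u * algebraMap R D u *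
              ((Fintype.card G : D) * ∑ g, φ g a * φ g b) := by ring
        _ = _ := by rw [key]; ring)

lemma avgHom_apply {G : Type*} [Fintype G] (u : R) (hu : u * (Fintype.card G : R) = 1)
    (N : Ideal D) (hN : N ^ 2 = ⊥) (φ : G → B →ₐ[R] D) (hφ : ∀ g h b, φ g b - φ h b ∈ N)
    (b : B) : avgHom u hu N hN φ hφ b = u • ∑ g, φ g b := by
  simp [avgHom]

end avg

section main

universe w

variable {R B C : Type w} [CommRing R] [CommRing B] [CommRing C] [Algebra R B] [Algebra R C]

theorem formallySmooth_of_avg [Algebra.FormallySmooth R B] (π : B →ₐ[R] C)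
    (hπ : Function.Surjective π)
    {G : Type*} [Fintype G] [Group G] (σ : G → B →ₐ[R] B)
    (hmul : ∀ g h, (σ g).comp (σ h) = σ (h * g))
    (u : R) (hu : u * (Fintype.card G : R) = 1)
    (hπσ : ∀ g, π.comp (σ g) = π)
    (hker : ∀ b, π b = 0 → b ∈ Ideal.span {x | ∃ g b', x = b' - σ g b'}) :
    Algebra.FormallySmooth R C := by
  refine .of_comp_surjective fun D _ _ N hN ψ ↦ ?_
  obtain ⟨φ, hφ⟩ := Algebra.FormallySmooth.comp_surjective R B N hN (ψ.comp π)
  have hφ' : ∀ b, Ideal.Quotient.mk N (φ b) = ψ (π b) := fun b => AlgHom.congr_fun hφ b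
  have hπσ' : ∀ g b, π (σ g b) = π b := fun g b => AlgHom.congr_fun (hπσ g) b
  have hcong : ∀ g h b, (φ.comp (σ g)) b - (φ.comp (σ h)) b ∈ N := by
    intro g h b
    rw [← Ideal.Quotient.eq]
    simp only [AlgHom.comp_apply, hφ', hπσ']
  let φ' := avgHom u hu N hN (fun g => φ.comp (σ g)) hcong
  have hφ'σ : ∀ h b, φ' (σ h b) = φ' b := by
    intro h b
    simp only [φ', avgHom_apply, AlgHom.comp_apply]
    congr 1
    have : ∀ g, φ (σ g (σ h b)) = φ (σ (h * g) b) := fun g => by
      rw [← hmul g h]; rfl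
    simp only [this]
    exact Fintype.sum_equiv (Equiv.mulLeft h) _ _ (fun g => rfl)
  have hkerφ' : RingHom.ker π.toRingHom ≤ RingHom.ker φ'.toRingHom := by
    intro b hb
    have hb' := hker b hb
    refine (Ideal.span_le (I := RingHom.ker φ'.toRingHom)).mpr ?_ hb'
    rintro _ ⟨g, b', rfl⟩
    simp only [SetLike.mem_coe, RingHom.mem_ker, AlgHom.toRingHom_eq_coe, AlgHom.coe_toRingHom,
      map_sub, hφ'σ, sub_self]
  refine ⟨AlgHom.liftOfSurjective π hπ φ' hkerφ', ?_⟩
  ext c
  obtain ⟨b, rfl⟩ := hπ c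
  simp only [AlgHom.comp_apply, AlgHom.liftOfSurjective_apply]
  change Ideal.Quotient.mk N (φ' b) = ψ (π b)
  simp only [φ', avgHom_apply, AlgHom.comp_apply]
  rw [Algebra.smul_def, map_mul, map_sum]
  simp only [hφ', hπσ', Finset.sum_const, Finset.card_univ, nsmul_eq_mul]
  rw [← Ideal.Quotient.algebraMap_eq, ← IsScalarTower.algebraMap_apply R D (D ⧸ N), ← mul_assoc,
    ← map_natCast (algebraMap R (D ⧸ N)), ← map_mul, hu, map_one, one_mul]

theorem ker_fg [Algebra.FiniteType R B] (π : B →ₐ[R] C)
    {G : Type*} [Fintype G] (σ : G → B →ₐ[R] B)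
    (hπσ : ∀ g, π.comp (σ g) = π)
    (hker : ∀ b, π b = 0 → b ∈ Ideal.span {x | ∃ g b', x = b' - σ g b'}) :
    (RingHom.ker (π : B →+* C)).FG := by
  classical
  obtain ⟨s, hs⟩ := (Algebra.FiniteType.out : (⊤ : Subalgebra R B).FG)
  let gens : Set B := ⋃ g : G, (fun b => b - σ g b) '' (s : Set B)
  have hfin : gens.Finite := Set.finite_iUnion fun g => (s.finite_toSet.image _)
  let J' : Ideal B := Ideal.span gens
  have hJ' : ∀ g b, b - σ g b ∈ J' := by
    intro g b
    have hb : b ∈ Algebra.adjoin R (s : Set B) := by rw [hs]; trivial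
    induction hb using Algebra.adjoin_induction with
    | mem x hx =>
      exact Ideal.subset_span (Set.mem_iUnion.mpr ⟨g, ⟨x, hx, rfl⟩⟩)
    | algebraMap r => simp
    | add x y _ _ hx hy =>
      have : x + y - σ g (x + y) = (x - σ g x) + (y - σ g y) := by rw [map_add]; ring
      rw [this]; exact J'.add_mem hx hy
    | mul x y _ _ hx hy =>
      have : x * y - σ g (x * y) = x * (y - σ g y) + (x - σ g x) * σ g y := by
        rw [map_mul]; ring
      rw [this]
      exact J'.add_mem (J'.mul_mem_left _ hy) (J'.mul_mem_right _ hx)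
  have : RingHom.ker (π : B →+* C) = J' := by
    apply le_antisymm
    · intro b hb
      refine (Ideal.span_le (I := J')).mpr ?_ (hker b hb)
      rintro _ ⟨g, b', rfl⟩
      exact hJ' g b'
    · refine Ideal.span_le.mpr ?_
      intro x hx
      obtain ⟨g, hx⟩ := Set.mem_iUnion.mp hx
      obtain ⟨b, -, rfl⟩ := hx
      simp only [SetLike.mem_coe, RingHom.mem_ker, AlgHom.coe_toRingHom, map_sub]
      rw [sub_eq_zero]
      exact (AlgHom.congr_fun (hπσ g) b).symm
  rw [this]
  exact ⟨hfin.toFinset, by simp [J']⟩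

theorem smooth_of_avg [Algebra.Smooth R B] (π : B →ₐ[R] C)
    (hπ : Function.Surjective π)
    {G : Type*} [Fintype G] [Group G] (σ : G → B →ₐ[R] B)
    (hmul : ∀ g h, (σ g).comp (σ h) = σ (h * g))
    (u : R) (hu : u * (Fintype.card G : R) = 1)
    (hπσ : ∀ g, π.comp (σ g) = π)
    (hker : ∀ b, π b = 0 → b ∈ Ideal.span {x | ∃ g b', x = b' - σ g b'}) :
    Algebra.Smooth R C := by
  have : Algebra.FormallySmooth R C := formallySmooth_of_avg π hπ σ hmul u hu hπσ hker
  have : Algebra.FinitePresentation R C :=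
    Algebra.FinitePresentation.of_surjective (f := π) hπ (ker_fg π σ hπσ hker)
  exact ⟨inferInstance, inferInstance⟩

end main

end Groth.Agent.Lib.Helper59.FixedSmooth
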