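import Mathlib
import Groth.Agent.Lib.Helper59.FixedSmooth

/-!
# Fixed-point schemes of finite group actions
-/

universe u v

open CategoryTheory AlgebraicGeometry Limits

namespace Groth.Agent.Lib.Helper59.FixedPointSch

section closed

variable {S : Scheme.{u}} {X : Over S} [IsSeparated X.hom] {G : Type v} (ρ : G → (X ⟶ X))

/-- The ideal sheaf of the fixed locus. -/
noncomputable def fixIdeal : X.left.IdealSheafData :=
  ⨆ g, (equalizer.ι (ρ g) (𝟙 X)).left.ker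

lemma fixed_iff_le_ker {T : Over S} (t : T ⟶ X) :
    (∀ g, t ≫ ρ g = t) ↔ fixIdeal ρ ≤ t.left.ker := by
  constructor
  · intro h
    refine iSup_le fun g => ?_
    have h1 : t = equalizer.lift t (by rw [h g, Category.comp_id]) ≫ equalizer.ι (ρ g) (𝟙 X) :=
      (equalizer.lift_ι _ _).symm
    have h2 : t.left = (equalizer.lift t (by rw [h g, Category.comp_id] :
        t ≫ ρ g = t ≫ 𝟙 X)).left ≫ (equalizer.ι (ρ g) (𝟙 X)).left := by
      rw [← Over.comp_left, ← h1]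
    rw [h2]
    exact Scheme.Hom.le_ker_comp _ _
  · intro h g
    have hg : (equalizer.ι (ρ g) (𝟙 X)).left.ker ≤ t.left.ker :=
      (le_iSup (fun g => (equalizer.ι (ρ g) (𝟙 X)).left.ker) g).trans h
    ext1
    rw [Over.comp_left, ← IsClosedImmersion.lift_fac (equalizer.ι (ρ g) (𝟙 X)).left t.left hg,
      Category.assoc, ← Over.comp_left, equalizer.condition, Category.comp_id]

theorem isClosedImmersion_of_univ (Z : Over S) (ι : Z ⟶ X) (hι : ∀ g, ι ≫ ρ g = ι)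
    (hZ : ∀ (T : Over S) (t : T ⟶ X), (∀ g, t ≫ ρ g = t) ↔ ∃! t' : T ⟶ Z, t' ≫ ι = t) :
    IsClosedImmersion ι.left := by
  set I := fixIdeal ρ with hI
  let Z₀ : Over S := Over.mk (I.subschemeι ≫ X.hom)
  let ι₀ : Z₀ ⟶ X := Over.homMk I.subschemeι rfl
  have hι₀ : ∀ g, ι₀ ≫ ρ g = ι₀ := by
    rw [fixed_iff_le_ker]
    change I ≤ I.subschemeι.ker
    rw [I.ker_subschemeι]
  obtain ⟨t', ht', -⟩ := (hZ Z₀ ι₀).mp hι₀
  have hle : I.subschemeι.ker ≤ ι.left.ker := by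
    rw [I.ker_subschemeι]
    exact (fixed_iff_le_ker ρ ι).mp hι
  let s₀ : Z.left ⟶ I.subscheme := IsClosedImmersion.lift I.subschemeι ι.left hle
  have hs₀ : s₀ ≫ I.subschemeι = ι.left := IsClosedImmersion.lift_fac _ _ _
  let s : Z ⟶ Z₀ := Over.homMk s₀ (by
    change s₀ ≫ I.subschemeι ≫ X.hom = Z.hom
    rw [← Category.assoc, hs₀, Over.w])
  have hs : s ≫ ι₀ = ι := by
    ext1
    exact hs₀
  have h1 : s ≫ t' = 𝟙 Z := by
    obtain ⟨u, -, hu⟩ := (hZ Z ι).mp hι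
    rw [hu (s ≫ t') (by change (s ≫ t') ≫ ι = ι; rw [Category.assoc, ht', hs]),
      hu (𝟙 Z) (Category.id_comp _)]
  have h2 : t' ≫ s = 𝟙 Z₀ := by
    ext1
    rw [← cancel_mono I.subschemeι]
    have := congrArg (fun f => f.left) ht'
    simp only [Over.comp_left] at this
    rw [Over.comp_left, Category.assoc]
    change t'.left ≫ s₀ ≫ I.subschemeι = _
    rw [hs₀, this]
    simp [ι₀]
  have : IsIso s₀ := by
    refine ⟨t'.left, ?_, ?_⟩
    · have := congrArg (fun f => f.left) h1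
      exact this
    · have := congrArg (fun f => f.left) h2
      exact this
  rw [← hs₀]
  infer_instance

end closed

section local_

lemma q_eq_zero {Y Z : Scheme.{u}} (ι : Z ⟶ Y) {A : CommRingCat.{u}} (t' : Spec A ⟶ Z)
    {U : Y.Opens} (hU : IsAffineOpen U) (q : Γ(Y, U) ⟶ A)
    (h : t' ≫ ι = Spec.map q ≫ hU.fromSpec) (b : Γ(Y, U)) (hb : ι.app U b = 0) : q b = 0 := by
  have i : (⊤ : (Spec A).Opens) ≤ (t' ≫ ι) ⁻¹ᵁ U := by
    rw [h, Scheme.Hom.comp_preimage, hU.fromSpec_preimage_self]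
    simp
  have e1 : (t' ≫ ι).appLE U ⊤ i = q ≫ (Scheme.ΓSpecIso A).inv := by
    apply Spec.map_injective
    rw [← cancel_mono hU.fromSpec,
      IsAffineOpen.SpecMap_appLE_fromSpec _ hU (isAffineOpen_top _) i, h,
      IsAffineOpen.fromSpec_top, Scheme.isoSpec_Spec_inv, ← Spec.map_comp_assoc]
  have e2 : (t' ≫ ι).appLE U ⊤ i = ι.app U ≫ t'.appLE (ι ⁻¹ᵁ U) ⊤ i := by
    rw [Scheme.Hom.comp_appLE]
  have e3 : (Scheme.ΓSpecIso A).inv (q b) = 0 := by
    have := congrArg (fun f => f b) (e1.symm.trans e2)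
    simp only [CommRingCat.comp_apply] at this
    rw [this, hb, map_zero]
  have := congrArg (Scheme.ΓSpecIso A).hom e3
  simpa using this

end local_

section smooth

lemma appLE_of_eq {A B : Scheme.{u}} {f g : A ⟶ B} (h : f = g) (U : B.Opens) (V : A.Opens)
    (e : V ≤ f ⁻¹ᵁ U) : f.appLE U V e = g.appLE U V (h ▸ e) := by
  subst h; rfl

variable {S : Scheme.{u}} {X : Over S} {G : Type v} [Group G] [Finite G] (ρ : G →* Aut X)

theorem smooth_appLE_of_univ [Smooth X.hom] (Z : Over S) (ι : Z ⟶ X) [IsClosedImmersion ι.left]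
    (hι : ∀ g, ι ≫ (ρ g).hom = ι)
    (hZ : ∀ (T : Over S) (t : T ⟶ X), (∀ g, t ≫ (ρ g).hom = t) → ∃ t' : T ⟶ Z, t' ≫ ι = t)
    (hG : IsUnit (Nat.card G : Γ(S, ⊤)))
    {V : S.Opens} (hV : IsAffineOpen V) {U : X.left.Opens} (hU : IsAffineOpen U)
    (hUV : U ≤ X.hom ⁻¹ᵁ V)
    (hst : ∀ g, U ≤ (ρ g).hom.left ⁻¹ᵁ U) (e : ι.left ⁻¹ᵁ U ≤ Z.hom ⁻¹ᵁ V) :
    (Z.hom.appLE V (ι.left ⁻¹ᵁ U) e).hom.Smooth := by
  classical
  haveI : Fintype G := Fintype.ofFinite G
  let f : Γ(S, V) →+* Γ(X.left, U) := (X.hom.appLE V U hUV).hom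
  let π : Γ(X.left, U) →+* Γ(Z.left, ι.left ⁻¹ᵁ U) := (ι.left.app U).hom
  let σ : G → Γ(X.left, U) →+* Γ(X.left, U) := fun g => ((ρ g).hom.left.appLE U U (hst g)).hom
  have hf : f.Smooth := Smooth.smooth_appLE X.hom hV hU hUV
  have hπ : Function.Surjective π := ι.left.app_surjective U hU
  have hπf' : X.hom.appLE V U hUV ≫ ι.left.app U = Z.hom.appLE V (ι.left ⁻¹ᵁ U) e := by
    rw [Scheme.Hom.app_eq_appLE, Scheme.Hom.appLE_comp_appLE]
    exact appLE_of_eq (Over.w ι) _ _ _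
  have hπf : π.comp f = (Z.hom.appLE V (ι.left ⁻¹ᵁ U) e).hom := by
    rw [← hπf']; rfl
  have hσf' : ∀ g, X.hom.appLE V U hUV ≫ (ρ g).hom.left.appLE U U (hst g) =
      X.hom.appLE V U hUV := by
    intro g
    rw [Scheme.Hom.appLE_comp_appLE]
    exact appLE_of_eq (Over.w (ρ g).hom) _ _ _
  have hσf : ∀ g, (σ g).comp f = f := fun g => by
    have := congrArg (fun k => k.hom) (hσf' g)
    exact this
  have hσσ' : ∀ g h, (ρ h).hom.left.appLE U U (hst h) ≫ (ρ g).hom.left.appLE U U (hst g) =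
      (ρ (h * g)).hom.left.appLE U U (hst (h * g)) := by
    intro g h
    rw [Scheme.Hom.appLE_comp_appLE]
    refine appLE_of_eq ?_ _ _ _
    rw [map_mul, ← Over.comp_left]
    rfl
  have hσσ : ∀ g h, (σ g).comp (σ h) = σ (h * g) := fun g h => by
    have := congrArg (fun k => k.hom) (hσσ' g h)
    exact this
  have hπσ' : ∀ g, (ρ g).hom.left.appLE U U (hst g) ≫ ι.left.app U = ι.left.app U := by
    intro g
    rw [Scheme.Hom.app_eq_appLE, Scheme.Hom.appLE_comp_appLE]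
    refine appLE_of_eq ?_ _ _ _
    rw [← Over.comp_left, hι g]
  have hπσ : ∀ g, π.comp (σ g) = π := fun g => by
    have := congrArg (fun k => k.hom) (hπσ' g)
    exact this
  have hker : ∀ b, π b = 0 → b ∈ Ideal.span {x | ∃ g b', x = b' - σ g b'} := by
    intro b hb
    set J : Ideal Γ(X.left, U) := Ideal.span {x | ∃ g b', x = b' - σ g b'} with hJ
    let q : Γ(X.left, U) ⟶ CommRingCat.of (Γ(X.left, U) ⧸ J) :=
      CommRingCat.ofHom (Ideal.Quotient.mk J)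
    have hqσ : ∀ g, (ρ g).hom.left.appLE U U (hst g) ≫ q = q := by
      intro g
      ext b'
      change Ideal.Quotient.mk J (σ g b') = Ideal.Quotient.mk J b'
      rw [eq_comm, Ideal.Quotient.eq]
      exact Ideal.subset_span ⟨g, b', rfl⟩
    let t₀ : Spec (CommRingCat.of (Γ(X.left, U) ⧸ J)) ⟶ X.left := Spec.map q ≫ hU.fromSpec
    let T : Over S := Over.mk (t₀ ≫ X.hom)
    let t : T ⟶ X := Over.homMk t₀ rfl
    have ht : ∀ g, t ≫ (ρ g).hom = t := by
      intro g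
      ext1
      change (Spec.map q ≫ hU.fromSpec) ≫ (ρ g).hom.left = Spec.map q ≫ hU.fromSpec
      rw [Category.assoc, ← IsAffineOpen.SpecMap_appLE_fromSpec (ρ g).hom.left hU hU (hst g),
        ← Spec.map_comp_assoc, hqσ g]
    obtain ⟨t', ht'⟩ := hZ T t ht
    have ht'' : t'.left ≫ ι.left = Spec.map q ≫ hU.fromSpec := by
      have := congrArg (fun k => k.left) ht'
      exact this
    have := q_eq_zero ι.left t'.left hU q ht'' b hb
    exact Ideal.Quotient.eq_zero_iff_mem.mp this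
  rw [← hπf]
  letI := f.toAlgebra
  letI := (π.comp f).toAlgebra
  have : Algebra.Smooth Γ(S, V) Γ(X.left, U) := hf
  let πa : Γ(X.left, U) →ₐ[Γ(S, V)] Γ(Z.left, ι.left ⁻¹ᵁ U) :=
    { π with commutes' := fun r => rfl }
  let σa : G → Γ(X.left, U) →ₐ[Γ(S, V)] Γ(X.left, U) := fun g =>
    { σ g with commutes' := fun r => RingHom.congr_fun (hσf g) r }
  obtain ⟨u, hu⟩ : ∃ u : Γ(S, V), u * (Fintype.card G : Γ(S, V)) = 1 := by
    have h1 : IsUnit (S.presheaf.map (homOfLE (le_top : V ≤ ⊤)).op (Nat.card G : Γ(S, ⊤))) :=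
      hG.map _
    rw [map_natCast, Nat.card_eq_fintype_card] at h1
    obtain ⟨w, hw⟩ := h1
    exact ⟨↑w⁻¹, by rw [← hw]; simp⟩
  exact FixedSmooth.smooth_of_avg πa hπ σa
    (fun g h => AlgHom.ext fun b => RingHom.congr_fun (hσσ g h) b) u hu
    (fun g => AlgHom.ext fun b => RingHom.congr_fun (hπσ g) b) hker

end smooth

section main

variable {S : Scheme.{u}} {X : Over S} {G : Type v} [Group G] [Finite G] (ρ : G →* Aut X)

lemma rho_mul_apply (g h : G) (y : X.left) :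
    (ρ (g * h)).hom.left y = (ρ g).hom.left ((ρ h).hom.left y) := by
  rw [map_mul]
  change ((ρ h).hom ≫ (ρ g).hom).left y = _
  rw [Over.comp_left]
  rfl

lemma exists_stable_affine [IsSeparated X.hom] (x : X.left)
    (hx : ∀ g, (ρ g).hom.left x = x) {V : S.Opens}
    (hV : IsAffineOpen V) (hxV : x ∈ X.hom ⁻¹ᵁ V) :
    ∃ U : X.left.Opens, IsAffineOpen U ∧ x ∈ U ∧ U ≤ X.hom ⁻¹ᵁ V ∧
      ∀ g, U ≤ (ρ g).hom.left ⁻¹ᵁ U := by
  obtain ⟨U₀, hU₀, hxU₀, hU₀V⟩ := exists_isAffineOpen_mem_and_subset (x := x) hxV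
  let W : G → X.left.Opens := fun g => (ρ g).hom.left ⁻¹ᵁ U₀
  have hWV : ∀ g, W g ≤ X.hom ⁻¹ᵁ V := by
    intro g y hy
    have h1 : (ρ g).hom.left y ∈ X.hom ⁻¹ᵁ V := hU₀V hy
    have h2 : X.hom ((ρ g).hom.left y) = X.hom y := by
      rw [← Scheme.Hom.comp_apply, Over.w]
    change X.hom y ∈ V
    rw [← h2]
    exact h1
  have hWa : ∀ g, IsAffineOpen (W g) := fun g => hU₀.preimage_of_isIso _
  let P : Set X.left.Opens := {W | IsAffineOpen W ∧ W ≤ X.hom ⁻¹ᵁ V}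
  have hP : InfClosed P := by
    intro W₁ h₁ W₂ h₂
    have hd : IsAffineHom (pullback.diagonal X.hom) := inferInstance
    exact ⟨isAffineHom_diagonal_iff.mp hd V hV W₁ h₁.2 W₂ h₂.2 h₁.1 h₂.1,
      inf_le_left.trans h₁.2⟩
  have hU : (⨅ g, W g) ∈ P := hP.iInf_mem_of_nonempty (fun g => ⟨hWa g, hWV g⟩)
  have hmem : ∀ y, y ∈ (⨅ g, W g) ↔ ∀ g, (ρ g).hom.left y ∈ U₀ := by
    intro y
    rw [← SetLike.mem_coe, TopologicalSpace.Opens.coe_iInf, Set.mem_iInter]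
    rfl
  refine ⟨⨅ g, W g, hU.1, ?_, hU.2, ?_⟩
  · rw [hmem]
    intro g
    rw [hx g]
    exact hxU₀
  · intro h y hy
    change (ρ h).hom.left y ∈ (⨅ g, W g)
    rw [hmem] at hy ⊢
    intro g
    rw [← rho_mul_apply]
    exact hy (g * h)

theorem main [Smooth X.hom] [QuasiCompact X.hom] [IsSeparated X.hom]
    (hG : IsUnit (Nat.card G : Γ(S, ⊤)))
    (Z : Over S) (ι : Z ⟶ X) (hι : ∀ g : G, ι ≫ (ρ g).hom = ι)
    (hZ : ∀ (T : Over S) (t : T ⟶ X),
      (∀ g : G, t ≫ (ρ g).hom = t) ↔ ∃! t' : T ⟶ Z, t' ≫ ι = t) :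
    IsClosedImmersion ι.left ∧ Smooth Z.hom ∧ QuasiCompact Z.hom ∧ QuasiSeparated Z.hom := by
  have hcl : IsClosedImmersion ι.left :=
    isClosedImmersion_of_univ (fun g => (ρ g).hom) Z ι hι hZ
  refine ⟨hcl, ?_, ?_, ?_⟩
  · rw [HasRingHomProperty.iff_exists_appLE (P := @Smooth)
      (RingHom.Smooth.stableUnderComposition.stableUnderCompositionWithLocalizationAway
        RingHom.Smooth.holdsForLocalizationAway).1]
    intro z
    obtain ⟨V, hV, hzV, -⟩ := exists_isAffineOpen_mem_and_subset (x := Z.hom z)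
      (U := ⊤) trivial
    have hxV : ι.left z ∈ X.hom ⁻¹ᵁ V := by
      change X.hom (ι.left z) ∈ V
      rw [← Scheme.Hom.comp_apply, Over.w]
      exact hzV
    have hx : ∀ g, (ρ g).hom.left (ι.left z) = ι.left z := by
      intro g
      rw [← Scheme.Hom.comp_apply, ← Over.comp_left, hι g]
    obtain ⟨U, hU, hxU, hUV, hst⟩ := exists_stable_affine ρ (ι.left z) hx hV hxV
    have e : ι.left ⁻¹ᵁ U ≤ Z.hom ⁻¹ᵁ V := by
      intro y hy
      have h1 : X.hom (ι.left y) ∈ V := hUV hy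
      rw [← Scheme.Hom.comp_apply, Over.w] at h1
      exact h1
    refine ⟨⟨V, hV⟩, ⟨ι.left ⁻¹ᵁ U, hU.preimage ι.left⟩, hxU, e, ?_⟩
    exact smooth_appLE_of_univ ρ Z ι hι
      (fun T t ht => ((hZ T t).mp ht).exists) hG hV hU hUV hst e
  · rw [← Over.w ι]
    infer_instance
  · rw [← Over.w ι]
    infer_instance

end main

end Groth.Agent.Lib.Helper59.FixedPointSch
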