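import Mathlib
import Groth.Prelude.Def_W4c2gaugesfzipsQuiet

/-!
# Root towers and Frobenius (helper59)

* `PZero p R`: `p = 0` in `R`.
* `pPow p R`: the `p`-th power ring endomorphism of a ring with `p = 0`.
* `Fr p R`: a copy of `R`, viewed as an `R`-algebra through `pPow`.
* transport / base change lemmas for `Quiet.IsRootTower`.
-/

universe u

open Polynomial TensorProduct

namespace Groth.Agent.Lib.Helper59.FrobTower

/-- `p = 0` in `R`. -/
class PZero (p : ℕ) (R : Type*) [CommRing R] : Prop where
  cast_eq_zero : (p : R) = 0

variable (p : ℕ) [hp : Fact p.Prime]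

theorem PZero.of_algebra (P S : Type*) [CommRing P] [CommRing S] [Algebra P S] [PZero p P] :
    PZero p S :=
  ⟨by rw [← map_natCast (algebraMap P S), PZero.cast_eq_zero, map_zero]⟩

theorem PZero.of_ringHom {P S : Type*} [CommRing P] [CommRing S] (f : P →+* S) [PZero p P] :
    PZero p S :=
  ⟨by rw [← map_natCast f, PZero.cast_eq_zero, map_zero]⟩

instance (R : Type*) [CommRing R] [CharP R p] : PZero p R := ⟨CharP.cast_eq_zero R p⟩

/-- The `p`-th power endomorphism of a ring in which `p = 0`. -/
def pPow (R : Type*) [CommRing R] [PZero p R] : R →+* R where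
  toFun x := x ^ p
  map_one' := one_pow p
  map_mul' x y := mul_pow x y p
  map_zero' := zero_pow hp.out.ne_zero
  map_add' x y := by
    obtain ⟨r, hr⟩ := exists_add_pow_prime_eq hp.out x y
    rw [hr, PZero.cast_eq_zero]; ring

@[simp] theorem pPow_apply (R : Type*) [CommRing R] [PZero p R] (x : R) : pPow p R x = x ^ p := rfl

theorem pPow_comm {R S : Type*} [CommRing R] [CommRing S] [PZero p R] [PZero p S] (f : R →+* S) :
    (pPow p S).comp f = f.comp (pPow p R) := by
  ext x; simp

theorem frobenius_eq_pPow (R : Type*) [CommRing R] [CharP R p] : frobenius R p = pPow p R := by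
  ext x; simp [frobenius_def]

/-- A copy of `R`, to be viewed as an `R`-algebra through the `p`-th power map. -/
def Fr (_p : ℕ) (R : Type*) : Type _ := R

instance (R : Type*) [CommRing R] : CommRing (Fr p R) := inferInstanceAs (CommRing R)

instance (R : Type*) [CommRing R] [PZero p R] : PZero p (Fr p R) := inferInstanceAs (PZero p R)

instance algFr (R : Type*) [CommRing R] [PZero p R] : Algebra R (Fr p R) :=
  (pPow p R).toAlgebra

instance algFrFr (P S : Type*) [CommRing P] [CommRing S] [Algebra P S] :
    Algebra (Fr p P) (Fr p S) := inferInstanceAs (Algebra P S)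

/-- The composite structure `P → S → Fr S`. -/
def algFrComp (P S : Type*) [CommRing P] [CommRing S] [Algebra P S] [PZero p S] :
    Algebra P (Fr p S) :=
  ((pPow p S).comp (algebraMap P S)).toAlgebra

theorem algebraMap_Fr (R : Type*) [CommRing R] [PZero p R] (x : R) :
    algebraMap R (Fr p R) x = (x ^ p : R) := rfl

theorem algebraMap_FrFr (P S : Type*) [CommRing P] [CommRing S] [Algebra P S] (x : P) :
    algebraMap (Fr p P) (Fr p S) x = algebraMap P S x := rfl


/-! ### Root rings and towers -/

section Tower

open Quiet

theorem rootPoly_map {A A' : Type u} [CommRing A] [CommRing A'] (f : A →+* A') (a : A) :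
    (X ^ p - C a : A[X]).map f = X ^ p - C (f a) := by
  simp

/-- Functoriality of `RootRing` in the base ring. -/
noncomputable def rootRingMap {A A' : Type u} [CommRing A] [CommRing A'] (f : A →+* A') (a : A)
    (a' : A') (h : f a = a') : RootRing p A a →+* RootRing p A' a' :=
  AdjoinRoot.map f _ _ (by rw [rootPoly_map, h])

@[simp] theorem rootRingMap_of {A A' : Type u} [CommRing A] [CommRing A'] (f : A →+* A') (a : A)
    (a' : A') (h : f a = a') (x : A) :
    rootRingMap p f a a' h (AdjoinRoot.of _ x) = AdjoinRoot.of _ (f x) := by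
  simp [rootRingMap, AdjoinRoot.map]

@[simp] theorem rootRingMap_root {A A' : Type u} [CommRing A] [CommRing A'] (f : A →+* A') (a : A)
    (a' : A') (h : f a = a') :
    rootRingMap p f a a' h (AdjoinRoot.root _) = AdjoinRoot.root _ := by
  simp [rootRingMap, AdjoinRoot.map]

theorem rootRingMap_comp {A A' A'' : Type u} [CommRing A] [CommRing A'] [CommRing A'']
    (f : A →+* A') (g : A' →+* A'') (a : A) (a' : A') (a'' : A'') (h : f a = a')
    (h' : g a' = a'') :
    (rootRingMap p g a' a'' h').comp (rootRingMap p f a a' h) =
      rootRingMap p (g.comp f) a a'' (by simp [h, h']) := by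
  apply AdjoinRoot.ringHom_ext
  · ext x; simp
  · simp

theorem rootRingMap_id {A : Type u} [CommRing A] (a : A) :
    rootRingMap p (RingHom.id A) a a rfl = RingHom.id _ := by
  apply AdjoinRoot.ringHom_ext
  · ext x; simp
  · simp

/-- `RootRing` along a ring isomorphism. -/
noncomputable def rootRingCongr {A A' : Type u} [CommRing A] [CommRing A'] (e : A ≃+* A') (a : A)
    (a' : A') (h : e a = a') : RootRing p A a ≃+* RootRing p A' a' :=
  RingEquiv.ofRingHom (rootRingMap p (e : A →+* A') a a' (by rw [RingEquiv.coe_toRingHom]; exact h))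
    (rootRingMap p (e.symm : A' →+* A) a' a (by rw [RingEquiv.coe_toRingHom, ← h]; simp))
    (by
      apply AdjoinRoot.ringHom_ext
      · ext x
        simp only [RingHom.coe_comp, Function.comp_apply, RingHom.id_apply]
        rw [rootRingMap_of, rootRingMap_of]
        simp
      · simp only [RingHom.coe_comp, Function.comp_apply, RingHom.id_apply]
        rw [rootRingMap_root, rootRingMap_root])
    (by
      apply AdjoinRoot.ringHom_ext
      · ext x
        simp only [RingHom.coe_comp, Function.comp_apply, RingHom.id_apply]
        rw [rootRingMap_of, rootRingMap_of]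
        simp
      · simp only [RingHom.coe_comp, Function.comp_apply, RingHom.id_apply]
        rw [rootRingMap_root, rootRingMap_root])

@[simp] theorem rootRingCongr_of {A A' : Type u} [CommRing A] [CommRing A'] (e : A ≃+* A') (a : A)
    (a' : A') (h : e a = a') (x : A) :
    rootRingCongr p e a a' h (AdjoinRoot.of _ x) = AdjoinRoot.of _ (e x) :=
  rootRingMap_of p (e : A →+* A') a a' (by rw [RingEquiv.coe_toRingHom]; exact h) x

@[simp] theorem rootRingCongr_symm_of {A A' : Type u} [CommRing A] [CommRing A'] (e : A ≃+* A')
    (a : A) (a' : A') (h : e a = a') (x : A') :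
    (rootRingCongr p e a a' h).symm (AdjoinRoot.of _ x) = AdjoinRoot.of _ (e.symm x) :=
  rootRingMap_of p (e.symm : A' →+* A) a' a (by rw [RingEquiv.coe_toRingHom, ← h]; simp) x


/-- Transport of root towers along compatible ring isomorphisms. -/
theorem isRootTower_transport : ∀ (n : ℕ) {A B A' B' : Type u} [CommRing A] [CommRing B]
    [CommRing A'] [CommRing B'] [Algebra A B] [Algebra A' B'] (e : A ≃+* A') (e' : B ≃+* B')
    (_ : ∀ a, e' (algebraMap A B a) = algebraMap A' B' (e a)),
    IsRootTower p n A B → IsRootTower p n A' B'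
  | 0, A, B, A', B', _, _, _, _, _, _, e, e', h => by
    rintro ⟨f⟩
    refine ⟨AlgEquiv.ofRingEquiv (f := (e'.symm.trans f.toRingEquiv).trans e) ?_⟩
    intro x
    simp only [RingEquiv.coe_trans, Function.comp_apply]
    have h1 : e'.symm (algebraMap A' B' x) = algebraMap A B (e.symm x) := by
      rw [RingEquiv.symm_apply_eq, h, e.apply_symm_apply]
    rw [h1]
    simp
  | n + 1, A, B, A', B', _, _, _, _, _, _, e, e', h => by
    rintro ⟨a, alg, tower, hB⟩
    letI := alg
    let E : RootRing p A a ≃+* RootRing p A' (e a) := rootRingCongr p e a (e a) rfl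
    letI alg' : Algebra (RootRing p A' (e a)) B' :=
      (((e' : B →+* B').comp (algebraMap (RootRing p A a) B)).comp
        (E.symm : RootRing p A' (e a) →+* RootRing p A a)).toAlgebra
    have hmap : ∀ r, algebraMap (RootRing p A' (e a)) B' r =
        e' (algebraMap (RootRing p A a) B (E.symm r)) := fun r => rfl
    refine ⟨e a, alg', ?_, isRootTower_transport n E e' ?_ hB⟩
    · refine IsScalarTower.of_algebraMap_eq fun x => ?_
      rw [hmap]
      have : E.symm (algebraMap A' (RootRing p A' (e a)) x) =
          algebraMap A (RootRing p A a) (e.symm x) :=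
        rootRingCongr_symm_of p e a (e a) rfl x
      rw [this, ← IsScalarTower.algebraMap_apply A (RootRing p A a) B, h, e.apply_symm_apply]
    · intro r
      rw [hmap, E.symm_apply_apply]

/-- A linear map sending a basis to a basis of the target over the bigger ring is a base change. -/
theorem isBaseChange_of_basis {R S M N ι : Type*} [CommRing R] [CommRing S] [Algebra R S]
    [AddCommGroup M] [Module R M] [AddCommGroup N] [Module R N] [Module S N]
    [IsScalarTower R S N] (b : Module.Basis ι R M) (b' : Module.Basis ι S N) (f : M →ₗ[R] N)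
    (h : ∀ i, f (b i) = b' i) : IsBaseChange S f := by
  let e : S ⊗[R] M ≃ₗ[S] N := (b.baseChange S).equiv b' (Equiv.refl ι)
  refine IsBaseChange.of_equiv e fun x => ?_
  have : (e.toLinearMap.restrictScalars R) ∘ₗ (TensorProduct.mk R S M 1) = f := by
    refine b.ext fun i => ?_
    simp only [LinearMap.coe_comp, LinearMap.coe_restrictScalars, LinearEquiv.coe_coe,
      Function.comp_apply, TensorProduct.mk_apply]
    rw [← Module.Basis.baseChange_apply, Module.Basis.equiv_apply, h]
    rfl
  exact LinearMap.congr_fun this x

theorem rootPoly_monic {A : Type u} [CommRing A] (a : A) : (X ^ p - C a : A[X]).Monic :=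
  monic_X_pow_sub_C a hp.out.ne_zero

instance rootRing_free {A : Type u} [CommRing A] (a : A) : Module.Free A (RootRing p A a) :=
  (rootPoly_monic p a).free_adjoinRoot

instance rootRing_finite {A : Type u} [CommRing A] (a : A) : Module.Finite A (RootRing p A a) :=
  (rootPoly_monic p a).finite_adjoinRoot

/-- The power basis of a root ring, indexed by `Fin p`. -/
noncomputable def rootBasis {A : Type u} [CommRing A] [Nontrivial A] (a : A) :
    Module.Basis (Fin p) A (RootRing p A a) :=
  (AdjoinRoot.powerBasis' (rootPoly_monic p a)).basis.reindex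
    (finCongr (by simp [natDegree_X_pow_sub_C]))

theorem rootBasis_apply {A : Type u} [CommRing A] [Nontrivial A] (a : A) (i : Fin p) :
    rootBasis p a i = (AdjoinRoot.root _ : RootRing p A a) ^ (i : ℕ) := by
  simp [rootBasis, PowerBasis.basis_eq_pow]

section BaseChange

variable {A A' : Type u} [CommRing A] [CommRing A'] [Algebra A A'] (a : A)

/-- The root ring of the image of `a` as an algebra over the root ring of `a`. -/
noncomputable def rootRingAlg : Algebra (RootRing p A a) (RootRing p A' (algebraMap A A' a)) :=
  (rootRingMap p (algebraMap A A') a _ rfl).toAlgebra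

attribute [local instance] rootRingAlg

theorem rootRingAlg_map (r : RootRing p A a) :
    algebraMap (RootRing p A a) (RootRing p A' (algebraMap A A' a)) r =
      rootRingMap p (algebraMap A A') a _ rfl r := rfl

instance rootRing_tower :
    IsScalarTower A (RootRing p A a) (RootRing p A' (algebraMap A A' a)) := by
  refine IsScalarTower.of_algebraMap_eq fun x => ?_
  rw [rootRingAlg_map]
  have h1 : algebraMap A (RootRing p A a) x = AdjoinRoot.of _ x := rfl
  rw [h1, rootRingMap_of]
  rw [IsScalarTower.algebraMap_apply A A' (RootRing p A' (algebraMap A A' a))]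
  rfl

theorem isPushout_rootRing :
    Algebra.IsPushout A A' (RootRing p A a) (RootRing p A' (algebraMap A A' a)) := by
  constructor
  rcases subsingleton_or_nontrivial A' with hA' | hA'
  · haveI : Subsingleton (RootRing p A' (algebraMap A A' a)) :=
      Module.subsingleton A' _
    haveI : Subsingleton (A' ⊗[A] RootRing p A a) := Module.subsingleton A' _
    exact IsBaseChange.of_equiv (LinearEquiv.ofSubsingleton _ _) fun x => Subsingleton.elim _ _
  · haveI : Nontrivial A := (algebraMap A A').domain_nontrivial
    refine isBaseChange_of_basis (rootBasis p a) (rootBasis p (algebraMap A A' a)) _ fun i => ?_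
    rw [rootBasis_apply, rootBasis_apply]
    simp only [AlgHom.toLinearMap_apply, IsScalarTower.coe_toAlgHom', map_pow]
    rw [rootRingAlg_map, rootRingMap_root]

end BaseChange

theorem rootRing_root_pow {A : Type u} [CommRing A] (a : A) :
    (AdjoinRoot.root _ : RootRing p A a) ^ p = AdjoinRoot.of _ a := by
  have h := AdjoinRoot.eval₂_root (X ^ p - C a : A[X])
  simp only [eval₂_sub, eval₂_pow, eval₂_X, eval₂_C] at h
  exact sub_eq_zero.mp h

/-- Root towers are stable under base change, formulated via `Algebra.IsPushout`. -/
theorem isRootTower_of_isPushout : ∀ (n : ℕ) {A B A' B' : Type u} [CommRing A] [CommRing B]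
    [CommRing A'] [CommRing B'] [Algebra A B] [Algebra A A'] [Algebra B B'] [Algebra A' B']
    [Algebra A B'] [IsScalarTower A A' B'] [IsScalarTower A B B'] [Algebra.IsPushout A B A' B'],
    IsRootTower p n A B → IsRootTower p n A' B'
  | 0, A, B, A', B', _, _, _, _, _, _, _, _, _, _, _, hpo => by
    rintro ⟨f⟩
    have hpo' : Algebra.IsPushout A A' B B' := hpo.symm
    exact ⟨(hpo'.equiv).symm.trans
      ((Algebra.TensorProduct.congr (AlgEquiv.refl : A' ≃ₐ[A'] A') f).trans
        (Algebra.TensorProduct.rid A A' A'))⟩
  | n + 1, A, B, A', B', _, _, _, _, _, _, _, _, _, _, _, hpo => by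
    rintro ⟨a, alg, tower, hB⟩
    letI := alg
    letI := rootRingAlg p (A' := A') a
    have hroot : ((algebraMap B B') (algebraMap (RootRing p A a) B (AdjoinRoot.root _))) ^ p =
        algebraMap A' B' (algebraMap A A' a) := by
      rw [← map_pow, ← map_pow, rootRing_root_pow]
      have h1 : (AdjoinRoot.of (X ^ p - C a : A[X])) a = algebraMap A (RootRing p A a) a := rfl
      rw [h1, ← IsScalarTower.algebraMap_apply A (RootRing p A a) B,
        ← IsScalarTower.algebraMap_apply A B B', ← IsScalarTower.algebraMap_apply A A' B']
    let θ : RootRing p A' (algebraMap A A' a) →+* B' :=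
      AdjoinRoot.lift (algebraMap A' B')
        ((algebraMap B B') (algebraMap (RootRing p A a) B (AdjoinRoot.root _)))
        (by simp only [eval₂_sub, eval₂_pow, eval₂_X, eval₂_C]; rw [hroot, sub_self])
    letI algR'B' : Algebra (RootRing p A' (algebraMap A A' a)) B' := θ.toAlgebra
    letI algRB' : Algebra (RootRing p A a) B' :=
      ((algebraMap B B').comp (algebraMap (RootRing p A a) B)).toAlgebra
    haveI t1 : IsScalarTower (RootRing p A a) B B' := IsScalarTower.of_algebraMap_eq fun _ => rfl
    haveI t2 : IsScalarTower A' (RootRing p A' (algebraMap A A' a)) B' :=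
      IsScalarTower.of_algebraMap_eq fun x => (AdjoinRoot.lift_of _).symm
    haveI t3 : IsScalarTower (RootRing p A a) (RootRing p A' (algebraMap A A' a)) B' := by
      refine IsScalarTower.of_algebraMap_eq fun r => ?_
      have : (algebraMap (RootRing p A a) B') =
          (algebraMap (RootRing p A' (algebraMap A A' a)) B').comp
            (algebraMap (RootRing p A a) (RootRing p A' (algebraMap A A' a))) := by
        apply AdjoinRoot.ringHom_ext
        · ext x
          simp only [RingHom.coe_comp, Function.comp_apply]
          rw [rootRingAlg_map, rootRingMap_of]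
          have h1 : (AdjoinRoot.of (X ^ p - C a : A[X])) x = algebraMap A (RootRing p A a) x := rfl
          change (algebraMap B B') (algebraMap (RootRing p A a) B _) = θ _
          rw [h1, ← IsScalarTower.algebraMap_apply A (RootRing p A a) B,
            ← IsScalarTower.algebraMap_apply A B B', AdjoinRoot.lift_of,
            ← IsScalarTower.algebraMap_apply A A' B']
        · simp only [RingHom.coe_comp, Function.comp_apply]
          rw [rootRingAlg_map, rootRingMap_root]
          change (algebraMap B B') (algebraMap (RootRing p A a) B _) = θ _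
          rw [AdjoinRoot.lift_root]
      exact RingHom.congr_fun this r
    haveI t4 : IsScalarTower A (RootRing p A' (algebraMap A A' a)) B' := by
      refine IsScalarTower.of_algebraMap_eq fun x => ?_
      rw [IsScalarTower.algebraMap_apply A A' (RootRing p A' (algebraMap A A' a)),
        ← IsScalarTower.algebraMap_apply A' (RootRing p A' (algebraMap A A' a)) B',
        ← IsScalarTower.algebraMap_apply A A' B']
    haveI hpo1 : Algebra.IsPushout A (RootRing p A a) A' (RootRing p A' (algebraMap A A' a)) :=
      (isPushout_rootRing p a).symm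
    haveI hpo2 : Algebra.IsPushout (RootRing p A a) B (RootRing p A' (algebraMap A A' a)) B' :=
      (Algebra.IsPushout.comp_iff A (RootRing p A a) A' (RootRing p A' (algebraMap A A' a))).mp hpo
    exact ⟨algebraMap A A' a, algR'B', t2, isRootTower_of_isPushout n hB⟩

/-- Root towers are flat. -/
theorem isRootTower_flat : ∀ (n : ℕ) {A B : Type u} [CommRing A] [CommRing B] [Algebra A B],
    IsRootTower p n A B → Module.Flat A B
  | 0, A, B, _, _, _ => by
    rintro ⟨f⟩
    exact Module.Flat.of_linearEquiv f.toLinearEquiv
  | n + 1, A, B, _, _, _ => by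
    rintro ⟨a, alg, tower, hB⟩
    letI := alg
    haveI := isRootTower_flat n hB
    exact Module.Flat.trans A (RootRing p A a) B

/-- Root towers are finite. -/
theorem isRootTower_finite : ∀ (n : ℕ) {A B : Type u} [CommRing A] [CommRing B] [Algebra A B],
    IsRootTower p n A B → Module.Finite A B
  | 0, A, B, _, _, _ => by
    rintro ⟨f⟩
    exact Module.Finite.equiv f.symm.toLinearEquiv
  | n + 1, A, B, _, _, _ => by
    rintro ⟨a, alg, tower, hB⟩
    letI := alg
    haveI := isRootTower_finite n hB
    exact Module.Finite.trans (RootRing p A a) B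

end Tower

/-! ### Frobenius towers of polynomial rings -/

section Poly

open Quiet

instance (R : Type*) [CommRing R] [PZero p R] : PZero p R[X] := PZero.of_algebra p R R[X]

instance (R σ : Type*) [CommRing R] [PZero p R] : PZero p (MvPolynomial σ R) :=
  PZero.of_algebra p R (MvPolynomial σ R)

theorem isRootTower_Fr_transport {R R' : Type u} [CommRing R] [CommRing R'] [PZero p R]
    [PZero p R'] (e : R ≃+* R') (n : ℕ) (h : IsRootTower p n R (Fr p R)) :
    IsRootTower p n R' (Fr p R') := by
  refine isRootTower_transport p n (B := Fr p R) (B' := Fr p R') e e (fun a => ?_) h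
  rw [algebraMap_Fr, algebraMap_Fr]
  exact map_pow e a p

theorem isRootTower_Fr_perfect (k : Type u) [Field k] [CharP k p] [PerfectRing k p] :
    IsRootTower p 0 k (Fr p k) := by
  let f : Fr p k ≃+* k := (frobeniusEquiv k p).symm
  refine ⟨AlgEquiv.ofRingEquiv (f := f) fun x => ?_⟩
  rw [algebraMap_Fr]
  have := frobeniusEquiv_symm_apply_frobenius k p x
  rw [frobenius_def] at this
  exact this

section PolyStep

attribute [local instance] Polynomial.algebra

variable (R : Type u) [CommRing R] [PZero p R]

/-- `R[Y] ≃ R[X][Y]/(Y^p - X)`. -/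
noncomputable def polyEquivRootRing : R[X] ≃+* RootRing p R[X] (X : R[X]) :=
  RingEquiv.ofRingHom
    (eval₂RingHom ((algebraMap R[X] (RootRing p R[X] X)).comp C) (AdjoinRoot.root _))
    (AdjoinRoot.lift (eval₂RingHom C (X ^ p)) X (by simp))
    (by
      apply AdjoinRoot.ringHom_ext
      · apply Polynomial.ringHom_ext
        · intro r
          simp
        · simp only [RingHom.coe_comp, Function.comp_apply, RingHom.id_apply, RingHomCompTriple.comp_eq]
          rw [AdjoinRoot.lift_of]
          simp only [coe_eval₂RingHom, eval₂_X, map_pow]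
          rw [rootRing_root_pow]
      · simp)
    (by
      apply Polynomial.ringHom_ext
      · intro r
        simp
      · simp)

theorem polyEquivRootRing_C (r : R) :
    polyEquivRootRing p R (C r) = AdjoinRoot.of _ (C r) := by
  simp [polyEquivRootRing]

theorem polyEquivRootRing_X :
    polyEquivRootRing p R X = AdjoinRoot.root _ := by
  simp [polyEquivRootRing]

/-- The identity, as a ring isomorphism `(Fr R)[X] ≃ Fr (R[X])`. -/
noncomputable def frPolyEquiv : Polynomial (Fr p R) ≃+* Fr p R[X] := by
  exact (RingEquiv.refl (Polynomial R))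

/-- An element of `R`, viewed in `Fr p R`. -/
def Fr.mk {R : Type*} (x : R) : Fr p R := x

theorem isRootTower_Fr_polynomial (n : ℕ) (h : IsRootTower p n R (Fr p R)) :
    IsRootTower p (n + 1) R[X] (Fr p R[X]) := by
  have h1 : IsRootTower p n R[X] (Polynomial (Fr p R)) :=
    isRootTower_of_isPushout p n (A := R) (B := Fr p R) (A' := R[X]) (B' := Polynomial (Fr p R)) h
  obtain ⟨θ, hθof, hθroot⟩ : ∃ θ : RootRing p R[X] (X : R[X]) →+* Fr p R[X],
      (∀ x, θ (AdjoinRoot.of _ x) = algebraMap R[X] (Fr p R[X]) x) ∧
        θ (AdjoinRoot.root _) = Fr.mk p (X : R[X]) :=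
    ⟨AdjoinRoot.lift (algebraMap R[X] (Fr p R[X])) (Fr.mk p (X : R[X])) (by
      simp only [eval₂_sub, eval₂_pow, eval₂_X, eval₂_C]
      rw [algebraMap_Fr]; exact sub_self _), fun x => AdjoinRoot.lift_of _,
      AdjoinRoot.lift_root _⟩
  letI alg : Algebra (RootRing p R[X] (X : R[X])) (Fr p R[X]) := θ.toAlgebra
  have tower : IsScalarTower R[X] (RootRing p R[X] (X : R[X])) (Fr p R[X]) :=
    IsScalarTower.of_algebraMap_eq fun x => (hθof x).symm
  refine ⟨X, alg, tower, ?_⟩
  refine isRootTower_transport p n (A := R[X]) (B := Polynomial (Fr p R))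
    (polyEquivRootRing p R) (frPolyEquiv p R) ?_ h1
  intro q
  have : ((frPolyEquiv p R : Polynomial (Fr p R) →+* Fr p R[X])).comp
      (algebraMap R[X] (Polynomial (Fr p R))) = θ.comp (polyEquivRootRing p R : R[X] →+* _) := by
    apply Polynomial.ringHom_ext
    · intro r
      simp only [RingHom.coe_comp, Function.comp_apply, RingHom.coe_coe]
      rw [polyEquivRootRing_C, Polynomial.algebraMap_def, coe_mapRingHom, Polynomial.map_C]
      rw [hθof]
      change (C (r ^ p) : R[X]) = (C r : R[X]) ^ p
      rw [C_pow]
    · simp only [RingHom.coe_comp, Function.comp_apply, RingHom.coe_coe]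
      rw [polyEquivRootRing_X, Polynomial.algebraMap_def, coe_mapRingHom, Polynomial.map_X]
      rw [hθroot]
      rfl
  exact RingHom.congr_fun this q

end PolyStep

theorem isRootTower_Fr_mvPolynomial (k : Type u) [Field k] [CharP k p] [PerfectRing k p] :
    ∀ n : ℕ, IsRootTower p n (MvPolynomial (Fin n) k) (Fr p (MvPolynomial (Fin n) k))
  | 0 => isRootTower_Fr_transport p (MvPolynomial.isEmptyAlgEquiv k (Fin 0)).symm.toRingEquiv 0
      (isRootTower_Fr_perfect p k)
  | n + 1 => isRootTower_Fr_transport p (MvPolynomial.finSuccEquiv k n).symm.toRingEquiv (n + 1)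
      (isRootTower_Fr_polynomial p _ n (isRootTower_Fr_mvPolynomial k n))

end Poly

end Groth.Agent.Lib.Helper59.FrobTower
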