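import Mathlib
import Groth.Agent.Lib.Helper59.FrobTower

/-!
# Relative Frobenius of an étale algebra is an isomorphism (helper59)
-/

universe u

open Polynomial TensorProduct

namespace Groth.Agent.Lib.Helper59.FrobTower

variable (p : ℕ) [hp : Fact p.Prime]

/-- A subring `B` of a ring `S` with `p = 0`, containing all `p`-th powers and the image of `P`,
where `S` is formally unramified and of finite type over `P`, is everything. -/
theorem subring_eq_top_of_unramified (P S : Type u) [CommRing P] [CommRing S] [Algebra P S]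
    [PZero p S] [Algebra.FormallyUnramified P S] [Algebra.FiniteType P S] (B : Subring S)
    (hP : ∀ q : P, algebraMap P S q ∈ B) (hpow : ∀ s : S, s ^ p ∈ B) : B = ⊤ := by
  letI algPB : Algebra P B := ((algebraMap P S).codRestrict B hP).toAlgebra
  haveI : IsScalarTower P B S := IsScalarTower.of_algebraMap_eq fun x => rfl
  haveI : Algebra.FormallyUnramified B S := Algebra.FormallyUnramified.of_restrictScalars P B S
  haveI : Algebra.FiniteType B S := Algebra.FiniteType.of_restrictScalars_finiteType P B S
  haveI : Algebra.IsIntegral B S := by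
    refine ⟨fun s => ⟨X ^ p - C (⟨s ^ p, hpow s⟩ : B), monic_X_pow_sub_C _ hp.out.ne_zero, ?_⟩⟩
    simp only [eval₂_sub, eval₂_pow, eval₂_X, eval₂_C]
    exact sub_self _
  haveI : Module.Finite B S := Algebra.IsIntegral.finite
  haveI : PZero p (S ⊗[B] S) := PZero.of_algebra p S (S ⊗[B] S)
  -- the diagonal ideal is zero
  have hI : KaehlerDifferential.ideal B S = ⊥ := by
    have hidem : IsIdempotentElem (KaehlerDifferential.ideal B S) := by
      apply (Ideal.cotangent_subsingleton_iff _).mp
      exact inferInstanceAs <| Subsingleton Ω[S⁄B]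
    obtain ⟨e, he, hIe⟩ :=
      (Ideal.isIdempotentElem_iff_of_fg _ (KaehlerDifferential.ideal_fg B S)).mp hidem
    have hnil : KaehlerDifferential.ideal B S ≤ nilradical (S ⊗[B] S) := by
      rw [← KaehlerDifferential.span_range_eq_ideal, Ideal.span_le]
      rintro _ ⟨s, rfl⟩
      refine mem_nilradical.mpr ⟨p, ?_⟩
      have h1 := map_sub (pPow p (S ⊗[B] S)) ((1 : S) ⊗ₜ[B] s) (s ⊗ₜ[B] (1 : S))
      simp only [pPow_apply] at h1
      rw [h1, Algebra.TensorProduct.tmul_pow, Algebra.TensorProduct.tmul_pow, one_pow]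
      have h2 : s ^ p = (⟨s ^ p, hpow s⟩ : B) • (1 : S) := by
        rw [Algebra.smul_def, mul_one]; rfl
      rw [h2, TensorProduct.tmul_smul, TensorProduct.smul_tmul', sub_self]
    have heI : e ∈ KaehlerDifferential.ideal B S := by
      rw [hIe]; exact Ideal.mem_span_singleton_self e
    obtain ⟨n, hn⟩ := hnil heI
    have he0 : e = 0 := by
      rcases n with _ | n
      · rw [pow_zero] at hn
        have : (1 : S ⊗[B] S) = 0 := hn
        calc e = e * 1 := (mul_one e).symm
          _ = 0 := by rw [this, mul_zero]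
      · rwa [he.pow_succ_eq] at hn
    rw [hIe, he0]
    simp
  have hepi : Algebra.IsEpi B S := by
    rw [Algebra.isEpi_iff_forall_one_tmul_eq]
    intro s
    have : (1 : S) ⊗ₜ[B] s - s ⊗ₜ[B] (1 : S) ∈ KaehlerDifferential.ideal B S :=
      KaehlerDifferential.one_smul_sub_smul_one_mem_ideal _ _
    rw [hI] at this
    exact sub_eq_zero.mp this
  have hsurj := Algebra.isEpi_iff_surjective_algebraMap_of_finite.mp hepi
  rw [eq_top_iff]
  intro s _
  obtain ⟨b, rfl⟩ := hsurj s
  exact b.2

section RelFrob

variable (P S : Type u) [CommRing P] [CommRing S] [Algebra P S] [PZero p P] [PZero p S]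

attribute [local instance low] algFrComp

instance towerFr1 : IsScalarTower P S (Fr p S) := IsScalarTower.of_algebraMap_eq fun _ => rfl

instance towerFr2 : IsScalarTower P (Fr p P) (Fr p S) :=
  IsScalarTower.of_algebraMap_eq fun x => by
    change (algebraMap P S x) ^ p = algebraMap P S (x ^ p)
    rw [map_pow]

/-- The underlying element. -/
def Fr.out {R : Type*} (x : Fr p R) : R := x

/-- The relative Frobenius `Fr P ⊗[P] S → Fr S`, `q ⊗ s ↦ q s ^ p`. -/
noncomputable def relFrob : (Fr p P) ⊗[P] S →ₐ[Fr p P] Fr p S :=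
  Algebra.TensorProduct.productLeftAlgHom (Algebra.ofId (Fr p P) (Fr p S))
    (IsScalarTower.toAlgHom P S (Fr p S))

theorem relFrob_tmul (q : Fr p P) (s : S) :
    relFrob p P S (q ⊗ₜ s) = algebraMap (Fr p P) (Fr p S) q * algebraMap S (Fr p S) s := by
  simp [relFrob]

theorem out_relFrob_tmul (q : Fr p P) (s : S) :
    Fr.out p (relFrob p P S (q ⊗ₜ s)) = algebraMap P S (Fr.out p q) * s ^ p := by
  rw [relFrob_tmul]; rfl

instance pzeroW : PZero p ((Fr p P) ⊗[P] S) := PZero.of_algebra p (Fr p P) _

theorem includeRight_relFrob (w : (Fr p P) ⊗[P] S) :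
    (Algebra.TensorProduct.includeRight (R := P) (A := Fr p P) (B := S))
      (Fr.out p (relFrob p P S w)) = w ^ p := by
  induction w using TensorProduct.induction_on with
  | zero =>
    rw [map_zero, zero_pow hp.out.ne_zero]
    exact map_zero _
  | tmul q s =>
    rw [out_relFrob_tmul, Algebra.TensorProduct.includeRight_apply, ← Algebra.smul_def,
      TensorProduct.tmul_smul, TensorProduct.smul_tmul', Algebra.TensorProduct.tmul_pow]
    congr 1
    rw [Algebra.smul_def, mul_one]
    rfl
  | add x y hx hy =>
    have h1 := map_add (pPow p ((Fr p P) ⊗[P] S)) x y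
    simp only [pPow_apply] at h1
    have hout : Fr.out p (relFrob p P S (x + y)) =
        Fr.out p (relFrob p P S x) + Fr.out p (relFrob p P S y) := by
      rw [map_add]; rfl
    rw [h1, ← hx, ← hy, hout, map_add]

theorem relFrob_surjective [Algebra.FormallyUnramified P S] [Algebra.FiniteType P S] :
    Function.Surjective (relFrob p P S) := by
  let ψS : (Fr p P) ⊗[P] S →+* S := by exact (relFrob p P S).toRingHom
  have hψS : ∀ w, ψS w = Fr.out p (relFrob p P S w) := fun w => rfl
  have htop := subring_eq_top_of_unramified p P S ψS.range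
    (fun q => ⟨(Fr.mk p q) ⊗ₜ 1, by
      rw [hψS, out_relFrob_tmul, one_pow, mul_one]; rfl⟩)
    (fun s => ⟨1 ⊗ₜ s, by
      rw [hψS, out_relFrob_tmul]
      change algebraMap P S 1 * s ^ p = s ^ p
      rw [map_one, one_mul]⟩)
  intro s
  have : (Fr.out p s) ∈ ψS.range := by rw [htop]; trivial
  obtain ⟨w, hw⟩ := this
  exact ⟨w, hw⟩

theorem relFrob_injective [Algebra.Etale P S] [IsNoetherianRing P] :
    Function.Injective (relFrob p P S) := by
  have hsurj := relFrob_surjective p P S
  haveI : IsNoetherianRing (Fr p P) := inferInstanceAs (IsNoetherianRing P)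
  haveI : IsNoetherianRing ((Fr p P) ⊗[P] S) :=
    Algebra.FiniteType.isNoetherianRing (Fr p P) _
  haveI : Algebra.FormallySmooth (Fr p P) (Fr p S) :=
    inferInstanceAs (Algebra.FormallySmooth P S)
  have hle : RingHom.ker (relFrob p P S : (Fr p P) ⊗[P] S →+* Fr p S) ≤ nilradical _ := by
    intro w hw
    refine mem_nilradical.mpr ⟨p, ?_⟩
    rw [← includeRight_relFrob]
    have : relFrob p P S w = 0 := hw
    rw [this]
    exact map_zero _
  have hnil : IsNilpotent (RingHom.ker (relFrob p P S : (Fr p P) ⊗[P] S →+* Fr p S)) :=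
    (Ideal.FG.isNilpotent_iff_le_nilradical (IsNoetherian.noetherian _)).mpr hle
  let σ := Algebra.FormallySmooth.liftOfSurjective (AlgHom.id (Fr p P) (Fr p S))
    (relFrob p P S) hsurj hnil
  have hσ : ∀ x, relFrob p P S (σ x) = x := fun x =>
    Algebra.FormallySmooth.liftOfSurjective_apply _ _ hsurj hnil x
  have hid : σ.comp (relFrob p P S) = AlgHom.id (Fr p P) _ := by
    refine Algebra.FormallyUnramified.lift_unique_of_ringHom
      (relFrob p P S : (Fr p P) ⊗[P] S →+* Fr p S) hnil _ _ ?_
    refine RingHom.ext fun x => ?_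
    simp only [RingHom.coe_comp, RingHom.coe_coe, Function.comp_apply, AlgHom.coe_comp,
      AlgHom.coe_id, id_eq]
    exact hσ _
  intro x y hxy
  have := congrArg σ hxy
  have hx := AlgHom.congr_fun hid x
  have hy := AlgHom.congr_fun hid y
  simp only [AlgHom.coe_comp, Function.comp_apply, AlgHom.coe_id, id_eq] at hx hy
  rw [← hx, ← hy, this]

/-- For an étale algebra `S` over a Noetherian ring `P` with `p = 0`, the Frobenius square is a
pushout. -/
theorem isPushout_frob_of_etale [Algebra.Etale P S] [IsNoetherianRing P] :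
    Algebra.IsPushout P (Fr p P) S (Fr p S) := by
  constructor
  refine IsBaseChange.of_equiv
    (LinearEquiv.ofBijective (relFrob p P S).toLinearMap
      ⟨relFrob_injective p P S, relFrob_surjective p P S⟩) fun x => ?_
  change relFrob p P S (1 ⊗ₜ x) = _
  rw [relFrob_tmul, map_one, one_mul]
  rfl

/-- For an étale algebra `S` over a Noetherian ring `P` with `p = 0`, a Frobenius root tower of `P`
gives one of `S`. -/
theorem isRootTower_Fr_of_etale [Algebra.Etale P S] [IsNoetherianRing P] (n : ℕ)
    (h : Quiet.IsRootTower p n P (Fr p P)) : Quiet.IsRootTower p n S (Fr p S) := by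
  haveI := isPushout_frob_of_etale p P S
  exact isRootTower_of_isPushout p n (A := P) (B := Fr p P) (A' := S) (B' := Fr p S) h

end RelFrob

section Smooth

/-- Locally on a smooth algebra over a perfect field of characteristic `p`, Frobenius is a root
tower. -/
theorem exists_cover_isRootTower (k A : Type u) [Field k] [CharP k p] [PerfectRing k p]
    [CommRing A] [Algebra k A] [Algebra.Smooth k A] [PZero p A] :
    ∃ (s : Set A) (_ : Ideal.span s = ⊤), ∀ g ∈ s,
      haveI : PZero p (Localization.Away g) := PZero.of_algebra p A _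
      ∃ n : ℕ, Quiet.IsRootTower p n (Localization.Away g) (Fr p (Localization.Away g)) := by
  have hsm : (algebraMap k A).Smooth := RingHom.smooth_algebraMap.mpr inferInstance
  obtain ⟨s, hs, h⟩ := hsm.locally_isStandardSmooth
  refine ⟨s, hs, fun g hg => ?_⟩
  obtain ⟨n, φ, -, hφ⟩ := (h g hg).exists_etale_mvPolynomial
  haveI : PZero p (Localization.Away g) := PZero.of_algebra p A _
  letI := φ.toAlgebra
  haveI : Algebra.Etale (MvPolynomial (Fin n) k) (Localization.Away g) := hφ
  exact ⟨n, isRootTower_Fr_of_etale p (MvPolynomial (Fin n) k) (Localization.Away g) n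
    (isRootTower_Fr_mvPolynomial p k n)⟩

end Smooth

end Groth.Agent.Lib.Helper59.FrobTower
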