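import Mathlib
import Groth.Agent.Lib.Helper59.FrobTower

/-!
# Root towers on basic opens of `Spec` (helper59)
-/

universe u

open AlgebraicGeometry CategoryTheory Opposite TopologicalSpace

namespace Groth.Agent.Lib.Helper59.FrobTower

set_option backward.isDefEq.respectTransparency.types false in
theorem SpecMap_app_algebraMap {R S : CommRingCat.{u}} (φ : R ⟶ S) (g a : R) :
    ((Spec.map φ).app (PrimeSpectrum.basicOpen g)).hom
        (algebraMap R Γ(Spec R, PrimeSpectrum.basicOpen g) a) =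
      algebraMap S Γ(Spec S, Spec.map φ ⁻¹ᵁ PrimeSpectrum.basicOpen g) (φ a) := by
  rw [IsAffineOpen.algebraMap_Spec_obj, IsAffineOpen.algebraMap_Spec_obj]
  have : ((Scheme.ΓSpecIso R).inv ≫ (Spec R).presheaf.map (homOfLE le_top).op) ≫
      (Spec.map φ).app (PrimeSpectrum.basicOpen g) =
      φ ≫ ((Scheme.ΓSpecIso S).inv ≫ (Spec S).presheaf.map
        (homOfLE (le_top : Spec.map φ ⁻¹ᵁ PrimeSpectrum.basicOpen g ≤ ⊤)).op) := by
    rw [Category.assoc, Scheme.Hom.naturality, ← Category.assoc, ← Category.assoc,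
      Scheme.ΓSpecIso_inv_naturality]
    rfl
  exact congrArg (fun ψ => ψ.hom a) this

set_option backward.isDefEq.respectTransparency.types false in
/-- A root tower between localizations gives a root tower between the rings of sections over
the corresponding basic opens of `Spec`. -/
theorem isRootTower_sections (p : ℕ) [Fact p.Prime] {R S : CommRingCat.{u}}
    (φ : R ⟶ S) (g : R)
    (Rg Sg : Type u) [CommRing Rg] [CommRing Sg] [Algebra R Rg] [Algebra S Sg]
    [IsLocalization.Away g Rg] [IsLocalization.Away (φ g) Sg] (ψ : Rg →+* Sg)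
    (hψ : ψ.comp (algebraMap R Rg) = (algebraMap S Sg).comp φ.hom) (n : ℕ)
    (h : @Quiet.IsRootTower p n Rg Sg _ _ ψ.toAlgebra) :
    letI := ((Spec.map φ).app (PrimeSpectrum.basicOpen g)).hom.toAlgebra
    Quiet.IsRootTower p n Γ(Spec R, PrimeSpectrum.basicOpen g)
      Γ(Spec S, Spec.map φ ⁻¹ᵁ PrimeSpectrum.basicOpen g) := by
  letI algψ : Algebra Rg Sg := ψ.toAlgebra
  letI := ((Spec.map φ).app (PrimeSpectrum.basicOpen g)).hom.toAlgebra
  haveI : IsLocalization.Away (φ g) Γ(Spec S, Spec.map φ ⁻¹ᵁ PrimeSpectrum.basicOpen g) :=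
    inferInstanceAs (IsLocalization.Away (φ g) Γ(Spec S, PrimeSpectrum.basicOpen (φ g)))
  let e : Rg ≃+* Γ(Spec R, PrimeSpectrum.basicOpen g) :=
    (IsLocalization.algEquiv (Submonoid.powers g) Rg
      Γ(Spec R, PrimeSpectrum.basicOpen g)).toRingEquiv
  let e' : Sg ≃+* Γ(Spec S, Spec.map φ ⁻¹ᵁ PrimeSpectrum.basicOpen g) :=
    (IsLocalization.algEquiv (Submonoid.powers (φ g)) Sg
      Γ(Spec S, Spec.map φ ⁻¹ᵁ PrimeSpectrum.basicOpen g)).toRingEquiv
  refine isRootTower_transport p n e e' ?_ h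
  intro x
  have : (e' : Sg →+* _).comp ψ =
      (((Spec.map φ).app (PrimeSpectrum.basicOpen g)).hom).comp (e : Rg →+* _) := by
    apply IsLocalization.ringHom_ext (Submonoid.powers g)
    ext a
    simp only [RingHom.coe_comp, RingHom.coe_coe, Function.comp_apply]
    have h1 : ψ (algebraMap R Rg a) = algebraMap S Sg (φ a) := RingHom.congr_fun hψ a
    rw [h1]
    have h2 : e (algebraMap R Rg a) =
        algebraMap R Γ(Spec R, PrimeSpectrum.basicOpen g) a :=
      (IsLocalization.algEquiv (Submonoid.powers g) Rg _).commutes a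
    have h3 : e' (algebraMap S Sg (φ a)) = algebraMap S Γ(Spec S,
        Spec.map φ ⁻¹ᵁ PrimeSpectrum.basicOpen g) (φ a) :=
      (IsLocalization.algEquiv (Submonoid.powers (φ g)) Sg _).commutes (φ a)
    rw [h2, h3]
    exact (SpecMap_app_algebraMap φ g a).symm
  exact RingHom.congr_fun this x

/-- A localization away from `r` is a localization away from `r ^ m`, `m > 0`. -/
theorem away_pow {R S : Type*} [CommRing R] [CommRing S] [Algebra R S] (r : R) (m : ℕ)
    (hm : 0 < m) [IsLocalization.Away r S] : IsLocalization.Away (r ^ m) S := by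
  have hmn : ∀ n : ℕ, m * n = n + (m * n - n) := fun n => by
    have : n ≤ m * n := Nat.le_mul_of_pos_left n hm
    omega
  refine IsLocalization.Away.mk _ ?_ (fun s => ?_) (fun a b hab => ?_)
  · rw [map_pow]; exact IsLocalization.Away.algebraMap_pow_isUnit r m
  · obtain ⟨n, a, hn⟩ := IsLocalization.Away.surj r s
    obtain ⟨d, hd⟩ : ∃ d, m * n = n + d := ⟨m * n - n, hmn n⟩
    refine ⟨n, a * r ^ d, ?_⟩
    rw [map_pow, ← pow_mul, hd, pow_add, ← mul_assoc, hn, map_mul, map_pow]
  · obtain ⟨n, hn⟩ := IsLocalization.Away.exists_of_eq r hab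
    obtain ⟨d, hd⟩ : ∃ d, m * n = n + d := ⟨m * n - n, hmn n⟩
    refine ⟨n, ?_⟩
    rw [← pow_mul, hd, pow_add, mul_comm (r ^ n), mul_assoc, mul_assoc, hn]

end Groth.Agent.Lib.Helper59.FrobTower
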