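import Mathlib
import Groth.Agent.Lib.Helper59.FrobEtale
import Groth.Agent.Lib.Helper59.FrobScheme

/-!
# Frobenius base-changed to a quotient (helper59)
-/

universe u

open Polynomial TensorProduct

namespace Groth.Agent.Lib.Helper59.FrobTower

variable (p : ℕ) [hp : Fact p.Prime]

open Quiet

theorem isPushout_quotient {A B : Type u} [CommRing A] [CommRing B] [Algebra A B] (J : Ideal A) :
    Algebra.IsPushout A B (A ⧸ J) (B ⧸ J.map (algebraMap A B)) := by
  constructor
  refine IsBaseChange.of_equiv
    (Algebra.TensorProduct.quotIdealMapEquivTensorQuot B J).symm.toLinearEquiv fun x => ?_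
  obtain ⟨a, rfl⟩ := Ideal.Quotient.mk_surjective x
  simp only [AlgEquiv.toLinearEquiv_apply, AlgHom.toLinearMap_apply, IsScalarTower.coe_toAlgHom']
  rw [Algebra.TensorProduct.quotIdealMapEquivTensorQuot_symm_tmul]
  rw [Algebra.smul_def, mul_one]
  rfl

theorem isRootTower_quotient (n : ℕ) {A B : Type u} [CommRing A] [CommRing B] [Algebra A B]
    (J : Ideal A) (h : IsRootTower p n A B) :
    IsRootTower p n (A ⧸ J) (B ⧸ J.map (algebraMap A B)) := by
  haveI := isPushout_quotient (B := B) J
  exact isRootTower_of_isPushout p n h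

section Sections

open AlgebraicGeometry CategoryTheory

variable (R : Type u) [CommRing R] [PZero p R] (I : Ideal R)

/-- The base change of Frobenius to the quotient by `I`. -/
noncomputable def frobQuot : R ⧸ I →+* R ⧸ I.map (pPow p R) :=
  Ideal.quotientMap (I.map (pPow p R)) (pPow p R) Ideal.le_comap_map

theorem frobQuot_mk (x : R) :
    frobQuot p R I (Ideal.Quotient.mk I x) = Ideal.Quotient.mk _ (x ^ p) := rfl

theorem map_map_pPow (g : R) [PZero p (Localization.Away g)] :
    (I.map (algebraMap R (Localization.Away g))).map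
        (algebraMap (Localization.Away g) (Fr p (Localization.Away g))) =
      (I.map (pPow p R)).map (algebraMap R (Localization.Away g)) := by
  change (I.map (algebraMap R (Localization.Away g))).map (pPow p (Localization.Away g)) = _
  rw [Ideal.map_map, Ideal.map_map, pPow_comm]

set_option backward.isDefEq.respectTransparency.types false in
theorem isRootTower_sections_quotient (g : R) [PZero p (Localization.Away g)] (n : ℕ)
    (h : IsRootTower p n (Localization.Away g) (Fr p (Localization.Away g))) :
    letI := ((Spec.map (CommRingCat.ofHom (frobQuot p R I))).app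
      (PrimeSpectrum.basicOpen (R := CommRingCat.of (R ⧸ I)) (Ideal.Quotient.mk I g))).hom.toAlgebra
    IsRootTower p n
      Γ(Spec (CommRingCat.of (R ⧸ I)),
        PrimeSpectrum.basicOpen (R := CommRingCat.of (R ⧸ I)) (Ideal.Quotient.mk I g))
      Γ(Spec (CommRingCat.of (R ⧸ I.map (pPow p R))),
        Spec.map (CommRingCat.ofHom (frobQuot p R I)) ⁻¹ᵁ
          PrimeSpectrum.basicOpen (R := CommRingCat.of (R ⧸ I)) (Ideal.Quotient.mk I g)) := by
  set T := Localization.Away g with hT
  set J : Ideal T := I.map (algebraMap R T) with hJdef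
  set I' : Ideal R := I.map (pPow p R) with hI'
  set J' : Ideal T := I'.map (algebraMap R T) with hJ'def
  have h1 : IsRootTower p n (T ⧸ J) (Fr p T ⧸ J.map (algebraMap T (Fr p T))) :=
    isRootTower_quotient p n J h
  have hJ : J.map (algebraMap T (Fr p T)) = J' := map_map_pPow p R I g
  have hle : J ≤ J'.comap (pPow p T) := by
    rw [← Ideal.map_le_iff_le_comap]
    exact le_of_eq hJ
  let ψ : T ⧸ J →+* T ⧸ J' := Ideal.quotientMap J' (pPow p T) hle
  have h2 : @IsRootTower p n (T ⧸ J) (T ⧸ J') _ _ ψ.toAlgebra := by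
    letI := ψ.toAlgebra
    let e' : (Fr p T ⧸ J.map (algebraMap T (Fr p T))) ≃+* T ⧸ J' :=
      Ideal.quotEquivOfEq hJ
    refine isRootTower_transport p n (RingEquiv.refl (T ⧸ J)) e' ?_ h1
    intro a
    obtain ⟨t, rfl⟩ := Ideal.Quotient.mk_surjective a
    rfl
  -- localization instances
  haveI loc1 : IsLocalization.Away (Ideal.Quotient.mk I g) (T ⧸ J) := by
    have : IsLocalization (Algebra.algebraMapSubmonoid (R ⧸ I) (Submonoid.powers g)) (T ⧸ J) :=
      inferInstance
    have hsub : Algebra.algebraMapSubmonoid (R ⧸ I) (Submonoid.powers g) =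
        Submonoid.powers (Ideal.Quotient.mk I g) := by
      simp [Algebra.algebraMapSubmonoid, Submonoid.map_powers]
    rwa [hsub] at this
  haveI loc2' : IsLocalization.Away (Ideal.Quotient.mk I' g) (T ⧸ J') := by
    have : IsLocalization (Algebra.algebraMapSubmonoid (R ⧸ I') (Submonoid.powers g)) (T ⧸ J') :=
      inferInstance
    have hsub : Algebra.algebraMapSubmonoid (R ⧸ I') (Submonoid.powers g) =
        Submonoid.powers (Ideal.Quotient.mk I' g) := by
      simp [Algebra.algebraMapSubmonoid, Submonoid.map_powers]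
    rwa [hsub] at this
  haveI loc2 : IsLocalization.Away ((CommRingCat.ofHom (frobQuot p R I)) (Ideal.Quotient.mk I g))
      (T ⧸ J') := by
    have : (CommRingCat.ofHom (frobQuot p R I)) (Ideal.Quotient.mk I g) =
        (Ideal.Quotient.mk I' g) ^ p := by
      change frobQuot p R I (Ideal.Quotient.mk I g) = _
      rw [frobQuot_mk, map_pow]
    rw [this]
    exact away_pow _ p hp.out.pos
  have hψ : ψ.comp (algebraMap (R ⧸ I) (T ⧸ J)) =
      (algebraMap (R ⧸ I') (T ⧸ J')).comp (CommRingCat.ofHom (frobQuot p R I)).hom := by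
    apply Ideal.Quotient.ringHom_ext
    ext r
    change Ideal.Quotient.mk J' ((algebraMap R T r) ^ p) =
      Ideal.Quotient.mk J' (algebraMap R T (r ^ p))
    rw [map_pow, map_pow, map_pow]
  exact isRootTower_sections p (R := CommRingCat.of (R ⧸ I)) (S := CommRingCat.of (R ⧸ I'))
    (CommRingCat.ofHom (frobQuot p R I)) (Ideal.Quotient.mk I g) (T ⧸ J) (T ⧸ J') ψ hψ n h2

theorem frobQuot_faithfullyFlat (hF : (pPow p R).FaithfullyFlat) :
    (frobQuot p R I).FaithfullyFlat := by
  haveI := isPushout_quotient (A := R) (B := Fr p R) I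
  exact RingHom.FaithfullyFlat.isStableUnderBaseChange R (Fr p R) (R ⧸ I)
    (Fr p R ⧸ I.map (algebraMap R (Fr p R))) hF

set_option backward.isDefEq.respectTransparency.types false in
theorem isPthRoot_frobQuot (s : Set R) (hs : Ideal.span s = ⊤)
    (h : ∀ g ∈ s, ∀ [PZero p (Localization.Away g)],
      ∃ n, IsRootTower p n (Localization.Away g) (Fr p (Localization.Away g))) :
    Quiet.IsPthRoot p (Spec.map (CommRingCat.ofHom (frobQuot p R I))) := by
  intro x
  obtain ⟨g, hg, hgx⟩ : ∃ g ∈ s, Ideal.Quotient.mk I g ∉ x.asIdeal := by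
    by_contra hcon
    push Not at hcon
    have : Ideal.span s ≤ x.asIdeal.comap (Ideal.Quotient.mk I) :=
      Ideal.span_le.mpr fun g hg => hcon g hg
    rw [hs] at this
    have h1 : (1 : R) ∈ x.asIdeal.comap (Ideal.Quotient.mk I) := this trivial
    rw [Ideal.mem_comap, map_one] at h1
    exact x.isPrime.ne_top ((Ideal.eq_top_iff_one _).mpr h1)
  haveI : PZero p (Localization.Away g) := PZero.of_algebra p R _
  obtain ⟨n, hn⟩ := h g hg
  refine ⟨⟨PrimeSpectrum.basicOpen (R := CommRingCat.of (R ⧸ I)) (Ideal.Quotient.mk I g),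
    IsAffineOpen.Spec_basicOpen (R := CommRingCat.of (R ⧸ I)) _⟩, hgx,
    IsAffineOpen.Spec_basicOpen (R := CommRingCat.of (R ⧸ I.map (pPow p R)))
      ((frobQuot p R I) (Ideal.Quotient.mk I g)), n, ?_⟩
  exact isRootTower_sections_quotient p R I g n hn

end Sections

section Regular

open RingTheory.Sequence

/-- If Frobenius is faithfully flat, `p`-th powers of a regular sequence form a regular
sequence. -/
theorem isRegular_map_pow (R : Type u) [CommRing R] [PZero p R]
    (hF : (pPow p R).FaithfullyFlat) {rs : List R} (h : IsRegular R rs) :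
    IsRegular R (rs.map (· ^ p)) := by
  haveI : Module.FaithfullyFlat R (Fr p R) := hF
  exact IsRegular.of_faithfullyFlat (S := Fr p R) h

theorem ofList_ofFn {R : Type*} [CommRing R] {n : ℕ} (f : Fin n → R) :
    Ideal.ofList (List.ofFn f) = Ideal.span (Set.range f) := by
  unfold Ideal.ofList
  congr 1
  ext x
  simp [List.mem_ofFn]

/-- Concatenating a regular sequence `rs₁` on `R` with a sequence whose image is regular on
`R ⧸ (rs₁)`. -/
theorem isRegular_append_of_quotient {R : Type u} [CommRing R] {n m : ℕ} (f : Fin n → R)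
    (v : Fin m → R) (h1 : IsRegular R (List.ofFn f))
    (h2 : IsRegular (R ⧸ Ideal.span (Set.range f))
      (List.ofFn fun j => Ideal.Quotient.mk (Ideal.span (Set.range f)) (v j))) :
    IsRegular R (List.ofFn f ++ List.ofFn v) := by
  set J := Ideal.span (Set.range f) with hJ
  have hmap : (List.ofFn fun j => Ideal.Quotient.mk J (v j)) =
      (List.ofFn v).map (algebraMap R (R ⧸ J)) := by
    rw [List.map_ofFn]; rfl
  refine ⟨(isWeaklyRegular_append_iff R _ _).mpr ⟨h1.1, ?_⟩, ?_⟩
  · have h3 : IsWeaklyRegular (R ⧸ J) (List.ofFn v) := by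
      have := h2.1
      rw [hmap] at this
      exact (isWeaklyRegular_map_algebraMap_iff (R ⧸ J) (R ⧸ J) (List.ofFn v)).mp this
    have heq : (J : Submodule R R) = (Ideal.ofList (List.ofFn f) • ⊤ : Submodule R R) := by
      rw [ofList_ofFn, ← hJ, Ideal.smul_eq_mul, Ideal.mul_top]
    exact ((Submodule.quotEquivOfEq _ _ heq).isWeaklyRegular_congr (List.ofFn v)).mp h3
  · intro htop
    apply h2.2
    have h4 : Ideal.ofList (List.ofFn f ++ List.ofFn v) = ⊤ := by
      have := htop.symm
      rwa [Ideal.smul_eq_mul, Ideal.mul_top] at this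
    rw [Ideal.ofList_append, ofList_ofFn, ofList_ofFn, ← hJ] at h4
    have h5 : (1 : R) ∈ J ⊔ Ideal.span (Set.range v) := by rw [h4]; trivial
    obtain ⟨j, hj, w, hw, hjw⟩ := Submodule.mem_sup.mp h5
    have h6 : Ideal.Quotient.mk J w = 1 := by
      rw [← map_one (Ideal.Quotient.mk J), ← hjw, map_add, Ideal.Quotient.eq_zero_iff_mem.mpr hj,
        zero_add]
    have h7 : Ideal.Quotient.mk J w ∈ Ideal.span (Set.range fun j => Ideal.Quotient.mk J (v j)) := by
      have : Ideal.Quotient.mk J w ∈ (Ideal.span (Set.range v)).map (Ideal.Quotient.mk J) :=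
        Ideal.mem_map_of_mem _ hw
      rwa [Ideal.map_span, ← Set.range_comp] at this
    rw [Ideal.smul_eq_mul, Ideal.mul_top, ofList_ofFn]
    symm
    rw [Ideal.eq_top_iff_one, ← h6]
    exact h7

end Regular

end Groth.Agent.Lib.Helper59.FrobTower
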