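import Mathlib

/-!
# Subgroups of `GL₂(𝔽_p)` containing a non-split Cartan subgroup and an element of order `p`
(helper59)
-/

namespace Groth.Agent.Lib.Helper59.GL2Cartan

open Matrix

abbrev M2 (p : ℕ) := Matrix (Fin 2) (Fin 2) (ZMod p)

variable {p : ℕ} [Fact p.Prime]




/-- upper unitriangular -/
def U (x : ZMod p) : GL (Fin 2) (ZMod p) :=
  ⟨!![1, x; 0, 1], !![1, -x; 0, 1],
    by rw [Matrix.mul_fin_two, Matrix.one_fin_two]; simp,
    by rw [Matrix.mul_fin_two, Matrix.one_fin_two]; simp⟩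

def Lo (x : ZMod p) : GL (Fin 2) (ZMod p) :=
  ⟨!![1, 0; x, 1], !![1, 0; -x, 1],
    by rw [Matrix.mul_fin_two, Matrix.one_fin_two]; simp,
    by rw [Matrix.mul_fin_two, Matrix.one_fin_two]; simp⟩

lemma U_mul (x y : ZMod p) : U x * U y = U (x + y) := by
  apply Units.ext
  simp only [U, Units.val_mul, Matrix.mul_fin_two]
  simp [add_comm]

lemma Lo_mul (x y : ZMod p) : Lo x * Lo y = Lo (x + y) := by
  apply Units.ext
  simp only [Lo, Units.val_mul, Matrix.mul_fin_two]
  simp

lemma U_zero : U (0 : ZMod p) = 1 := by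
  apply Units.ext
  simp [U, Matrix.one_fin_two]

lemma Lo_zero : Lo (0 : ZMod p) = 1 := by
  apply Units.ext
  simp [Lo, Matrix.one_fin_two]

lemma U_pow (x : ZMod p) (n : ℕ) : U x ^ n = U ((n : ZMod p) * x) := by
  induction n with
  | zero => simp [U_zero]
  | succ n ih => rw [pow_succ, ih, U_mul]; congr 1; push_cast; ring

lemma Lo_pow (x : ZMod p) (n : ℕ) : Lo x ^ n = Lo ((n : ZMod p) * x) := by
  induction n with
  | zero => simp [Lo_zero]
  | succ n ih => rw [pow_succ, ih, Lo_mul]; congr 1; push_cast; ring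

lemma U_pow_p (x : ZMod p) : U x ^ p = 1 := by
  rw [U_pow, ZMod.natCast_self, zero_mul, U_zero]

lemma Lo_pow_p (x : ZMod p) : Lo x ^ p = 1 := by
  rw [Lo_pow, ZMod.natCast_self, zero_mul, Lo_zero]

/-- decomposition of determinant-one matrices -/
lemma sl2_mem_closure (H : Subgroup (GL (Fin 2) (ZMod p))) (hU : ∀ x, U x ∈ H) (hL : ∀ x, Lo x ∈ H)
    (g : GL (Fin 2) (ZMod p)) (hg : (g : Matrix (Fin 2) (Fin 2) (ZMod p)).det = 1) : g ∈ H := by
  -- entries
  set a := (g : Matrix (Fin 2) (Fin 2) (ZMod p)) 0 0 with ha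
  set b := (g : Matrix (Fin 2) (Fin 2) (ZMod p)) 0 1 with hb
  set c := (g : Matrix (Fin 2) (Fin 2) (ZMod p)) 1 0 with hc
  set d := (g : Matrix (Fin 2) (Fin 2) (ZMod p)) 1 1 with hd
  have hgm : (g : Matrix (Fin 2) (Fin 2) (ZMod p)) = !![a, b; c, d] := Matrix.eta_fin_two _
  have hdet : a * d - b * c = 1 := by rw [← hg, hgm, Matrix.det_fin_two_of]
  -- key: if lower-left entry nonzero
  have key : ∀ (g' : GL (Fin 2) (ZMod p)) (a b c d : ZMod p),
      (g' : Matrix (Fin 2) (Fin 2) (ZMod p)) = !![a, b; c, d] → a * d - b * c = 1 → c ≠ 0 →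
      g' ∈ H := by
    intro g' a b c d hg' hdet hc
    have : g' = U ((a - 1) / c) * Lo c * U ((d - 1) / c) := by
      apply Units.ext
      rw [hg']
      simp only [U, Lo, Units.val_mul, Matrix.mul_fin_two]
      have h1 : 1 + (a - 1) / c * c = a := by field_simp; ring
      have h2 : c * ((d - 1) / c) + 1 = d := by field_simp; ring
      have h3 : a * ((d - 1) / c) + (a - 1) / c = b := by
        field_simp; linear_combination hdet
      ext i j
      fin_cases i <;> fin_cases j <;> simp [h1, h2, h3]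
    rw [this]
    exact H.mul_mem (H.mul_mem (hU _) (hL _)) (hU _)
  by_cases hc0 : c = 0
  · -- multiply by Lo 1
    have hmem : Lo 1 * g ∈ H := by
      apply key (Lo 1 * g) a b (a + c) (b + d)
      · rw [Units.val_mul, hgm]
        simp only [Lo, Matrix.mul_fin_two]
        ext i j
        fin_cases i <;> fin_cases j <;> simp
      · linear_combination hdet
      · rw [hc0, add_zero]
        intro ha0
        rw [ha0, hc0] at hdet
        simp at hdet
    have : g = (Lo 1)⁻¹ * (Lo 1 * g) := by group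
    rw [this]
    exact H.mul_mem (H.inv_mem (hL 1)) hmem
  · exact key g a b c d hgm hdet hc0


lemma mem_of_pow_eq_one_of_index_lt {G : Type*} [Group G] [Finite G] (H : Subgroup G) (p : ℕ)
    (hp : p.Prime) (hidx : H.index < p) (g : G) (hg : g ^ p = 1) : g ∈ H := by
  classical
  have : Fintype (G ⧸ H) := Fintype.ofFinite _
  have hcard : Fintype.card (G ⧸ H) < Fintype.card (Fin p) := by
    rw [Fintype.card_fin, ← Nat.card_eq_fintype_card]; exact hidx
  obtain ⟨i, j, hij, h⟩ := Fintype.exists_ne_map_eq_of_card_lt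
    (fun i : Fin p => (QuotientGroup.mk (g ^ (i : ℕ)) : G ⧸ H)) hcard
  rw [QuotientGroup.eq] at h
  set k : ℤ := (j : ℤ) - (i : ℤ) with hk
  have hgk : g ^ k ∈ H := by
    have : g ^ k = (g ^ (i : ℕ))⁻¹ * g ^ (j : ℕ) := by
      rw [hk, _root_.zpow_sub, zpow_natCast, zpow_natCast]
      have hc : Commute (g ^ (j : ℕ)) ((g ^ (i : ℕ))⁻¹) :=
        ((Commute.refl g).pow_pow _ _).inv_right
      exact hc.eq
    rw [this]; exact h
  have hk0 : k ≠ 0 := by
    intro h0
    apply hij
    apply Fin.ext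
    have : (j : ℤ) = (i : ℤ) := by linarith
    exact_mod_cast this.symm
  have hklt : k.natAbs < p := by
    have hi := i.2
    have hj := j.2
    omega
  have hcop : IsCoprime k (p : ℤ) := by
    rw [Int.isCoprime_iff_gcd_eq_one, Int.gcd_eq_natAbs, Int.natAbs_natCast]
    apply Nat.Coprime.symm
    rw [Nat.Prime.coprime_iff_not_dvd hp]
    apply Nat.not_dvd_of_pos_of_lt _ hklt
    exact Int.natAbs_pos.2 hk0
  obtain ⟨a, b, hab⟩ := hcop
  have : g = (g ^ k) ^ a * (g ^ (p : ℤ)) ^ b := by
    rw [← _root_.zpow_mul, ← _root_.zpow_mul, ← _root_.zpow_add, mul_comm k a, mul_comm (p : ℤ) b, hab, _root_.zpow_one]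
  rw [this, zpow_natCast, hg, _root_.one_zpow, mul_one]
  exact H.zpow_mem hgk a





lemma cayley_hamilton_two (M : (M2 p)) : M * M = M.trace • M - M.det • (1 : (M2 p)) := by
  rw [Matrix.eta_fin_two M, Matrix.det_fin_two_of, Matrix.trace_fin_two_of, Matrix.mul_fin_two,
    Matrix.one_fin_two]
  ext i j
  fin_cases i <;> fin_cases j <;> simp <;> ring

lemma isField_eq_zero_or {R : Type*} [Ring R] (hR : IsField R) {x y : R} (h : x * y = 0) :
    x = 0 ∨ y = 0 := by
  by_cases hx : x = 0
  · exact Or.inl hx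
  · right
    obtain ⟨x', hx'⟩ := hR.mul_inv_cancel hx
    calc y = (x' * x) * y := by rw [hR.mul_comm x' x, hx', one_mul]
      _ = x' * (x * y) := mul_assoc _ _ _
      _ = 0 := by rw [h, mul_zero]

section Cartan

variable (C : Subgroup (GL (Fin 2) (ZMod p))) (E : Subring (M2 p)) (hE : IsField E)
  (hcard : Nat.card E = p ^ 2)
  (hset : (E : Set (M2 p)) = insert 0 ((fun g : GL (Fin 2) (ZMod p) => (g : (M2 p))) '' (C : Set (GL (Fin 2) (ZMod p)))))

include hset in
lemma mem_E_of_mem_C {g : GL (Fin 2) (ZMod p)} (hg : g ∈ C) : (g : (M2 p)) ∈ E := by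
  have : (g : (M2 p)) ∈ (E : Set (M2 p)) := by
    rw [hset]; exact Set.mem_insert_of_mem _ ⟨g, hg, rfl⟩
  exact this

include hset hcard in
lemma card_C : Nat.card C = p ^ 2 - 1 := by
  have h1 : Nat.card E = Set.ncard (E : Set (M2 p)) := (Nat.card_coe_set_eq _)
  have hinj : Function.Injective (fun g : GL (Fin 2) (ZMod p) => (g : (M2 p))) := Units.val_injective
  have h0 : (0 : (M2 p)) ∉ ((fun g : GL (Fin 2) (ZMod p) => (g : (M2 p))) '' (C : Set (GL (Fin 2) (ZMod p)))) := by
    rintro ⟨g, _, hg⟩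
    exact g.ne_zero hg
  rw [h1, hset, Set.ncard_insert_of_notMem h0 (Set.toFinite _), Set.ncard_image_of_injective _ hinj] at hcard
  have : Nat.card C = Set.ncard (C : Set (GL (Fin 2) (ZMod p))) := (Nat.card_coe_set_eq _)
  rw [this]
  omega

include hE hset in
lemma eq_or_eq_of_trace_det {g h : GL (Fin 2) (ZMod p)} (hg : g ∈ C) (hh : h ∈ C)
    (ht : (g : (M2 p)).trace = (h : (M2 p)).trace) (hd : (g : (M2 p)).det = (h : (M2 p)).det) :
    g = h ∨ (h : (M2 p)) = (g : (M2 p)).trace • (1 : (M2 p)) - (g : (M2 p)) := by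
  have hgE := mem_E_of_mem_C C E hset hg
  have hhE := mem_E_of_mem_C C E hset hh
  set t := (g : (M2 p)).trace with htdef
  have htE : t • (1 : (M2 p)) ∈ E := by
    have : t • (1 : (M2 p)) = ((t.val : ℕ) : (M2 p)) := by
      rw [← ZMod.natCast_zmod_val t, Nat.cast_smul_eq_nsmul, nsmul_eq_mul, mul_one,
        ZMod.natCast_zmod_val]
    rw [this]
    exact natCast_mem E _
  have hcomm : (g : (M2 p)) * (h : (M2 p)) = (h : (M2 p)) * (g : (M2 p)) := by
    have := hE.mul_comm (⟨(g : (M2 p)), hgE⟩ : E) ⟨(h : (M2 p)), hhE⟩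
    exact congrArg Subtype.val this
  have hprod : ((g : (M2 p)) - (h : (M2 p))) * ((g : (M2 p)) + (h : (M2 p)) - t • (1 : (M2 p))) = 0 := by
    have h1 := cayley_hamilton_two (g : (M2 p))
    have h2 := cayley_hamilton_two (h : (M2 p))
    rw [← ht, ← hd] at h2
    rw [← htdef] at h1
    have : ((g : (M2 p)) - (h : (M2 p))) * ((g : (M2 p)) + (h : (M2 p)) - t • (1 : (M2 p))) =
        (g : (M2 p)) * (g : (M2 p)) - (h : (M2 p)) * (h : (M2 p)) + ((g : (M2 p)) * (h : (M2 p)) - (h : (M2 p)) * (g : (M2 p)))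
          - t • ((g : (M2 p)) - (h : (M2 p))) := by
      simp only [mul_sub, sub_mul, mul_add, Matrix.mul_smul, mul_one,
        smul_sub]
      abel
    rw [this, h1, h2, hcomm]
    simp only [smul_sub]
    abel
  have hprodE : (⟨(g : (M2 p)) - (h : (M2 p)), E.sub_mem hgE hhE⟩ : E) *
      ⟨(g : (M2 p)) + (h : (M2 p)) - t • (1 : (M2 p)), E.sub_mem (E.add_mem hgE hhE) htE⟩ = 0 := by
    apply Subtype.ext
    exact hprod
  rcases isField_eq_zero_or hE hprodE with h1 | h1
  · left
    have : (g : (M2 p)) - (h : (M2 p)) = 0 := congrArg Subtype.val h1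
    exact Units.ext (sub_eq_zero.mp this)
  · right
    have : (g : (M2 p)) + (h : (M2 p)) - t • (1 : (M2 p)) = 0 := congrArg Subtype.val h1
    rw [← sub_eq_zero]
    rw [← this]
    abel

include hE hcard hset in
lemma exists_det_eq (a : (ZMod p)ˣ) : ∃ c ∈ C, Matrix.GeneralLinearGroup.det c = a := by
  classical
  have hp : p.Prime := Fact.out
  let D : C →* (ZMod p)ˣ := Matrix.GeneralLinearGroup.det.comp C.subtype
  have h1 : Nat.card C = Nat.card D.range * Nat.card D.ker := by
    rw [Subgroup.card_eq_card_quotient_mul_card_subgroup D.ker,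
      Nat.card_congr (QuotientGroup.quotientKerEquivRange D).toEquiv]
  have h2 : Nat.card D.ker ≤ 2 * p := by
    have : Fintype D.ker := Fintype.ofFinite _
    rw [Nat.card_eq_fintype_card, ← Finset.card_univ]
    have hfib : ∀ t ∈ (Finset.univ : Finset D.ker).image
        (fun x : D.ker => (((x : C) : GL (Fin 2) (ZMod p)) : (M2 p)).trace),
        (Finset.univ.filter (fun x : D.ker =>
          (((x : C) : GL (Fin 2) (ZMod p)) : (M2 p)).trace = t)).card ≤ 2 := by
      intro t _
      by_contra hlt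
      push Not at hlt
      obtain ⟨x, y, z, hx, hy, hz, hxy, hxz, hyz⟩ := Finset.two_lt_card_iff.mp hlt
      simp only [Finset.mem_filter, Finset.mem_univ, true_and] at hx hy hz
      have hdet : ∀ w : D.ker, (((w : C) : GL (Fin 2) (ZMod p)) : (M2 p)).det = 1 := by
        intro w
        have := (MonoidHom.mem_ker).1 w.2
        have h' : Matrix.GeneralLinearGroup.det ((w : C) : GL (Fin 2) (ZMod p)) = 1 := this
        have := congrArg Units.val h'
        simpa using this
      have hxy' := eq_or_eq_of_trace_det C E hE hset (x : C).2 (y : C).2 (hx.trans hy.symm)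
        ((hdet x).trans (hdet y).symm)
      have hxz' := eq_or_eq_of_trace_det C E hE hset (x : C).2 (z : C).2 (hx.trans hz.symm)
        ((hdet x).trans (hdet z).symm)
      rcases hxy' with h | h
      · exact hxy (Subtype.ext (Subtype.ext h))
      · rcases hxz' with h' | h'
        · exact hxz (Subtype.ext (Subtype.ext h'))
        · exact hyz (Subtype.ext (Subtype.ext (Units.ext (h.trans h'.symm))))
    calc (Finset.univ : Finset D.ker).card
        ≤ 2 * ((Finset.univ : Finset D.ker).image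
          (fun x : D.ker => (((x : C) : GL (Fin 2) (ZMod p)) : (M2 p)).trace)).card :=
          Finset.card_le_mul_card_image _ 2 hfib
      _ ≤ 2 * p := by
          apply Nat.mul_le_mul_left
          calc _ ≤ Fintype.card (ZMod p) := Finset.card_le_univ _
            _ = p := ZMod.card p
  have hC := card_C C E hcard hset
  have hrange : D.range = ⊤ := by
    by_contra hne
    have hdvd : Nat.card D.range ∣ Nat.card (ZMod p)ˣ := Subgroup.card_subgroup_dvd_card _
    have hunits : Nat.card (ZMod p)ˣ = p - 1 := by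
      rw [Nat.card_eq_fintype_card, ZMod.card_units]
    rw [hunits] at hdvd
    have hne' : Nat.card D.range ≠ p - 1 := by
      intro h
      apply hne
      apply Subgroup.eq_top_of_card_eq
      rw [h, hunits]
    obtain ⟨m, hm⟩ := hdvd
    have hp2 : 2 ≤ p := hp.two_le
    have hpos : 0 < Nat.card D.range := Nat.card_pos
    have hm2 : 2 ≤ m := by
      rcases m with _ | _ | m
      · omega
      · exfalso; apply hne'; omega
      · omega
    have hle : 2 * Nat.card D.range ≤ p - 1 := by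
      rw [hm]; nlinarith
    -- p^2 - 1 = |range| * |ker| ≤ |range| * 2p
    have : p ^ 2 - 1 ≤ Nat.card D.range * (2 * p) := by
      rw [← hC, h1]; exact Nat.mul_le_mul_left _ h2
    have h3 : Nat.card D.range * (2 * p) ≤ (p - 1) * p := by nlinarith
    have h4 : (p - 1) * p < p ^ 2 - 1 := by
      obtain ⟨q, rfl⟩ : ∃ q, p = q + 2 := ⟨p - 2, by omega⟩
      have : (q + 2) ^ 2 - 1 = q * q + 4 * q + 3 := by
        have : (q + 2) ^ 2 = q * q + 4 * q + 4 := by ring
        omega
      rw [this]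
      have : (q + 2 - 1) * (q + 2) = q * q + 3 * q + 2 := by
        have : q + 2 - 1 = q + 1 := by omega
        rw [this]; ring
      rw [this]; omega
    omega
  have : a ∈ D.range := by rw [hrange]; trivial
  obtain ⟨c, hc⟩ := this
  exact ⟨c, c.2, hc⟩

end Cartan




/-- existence of a nonsplit Cartan subgroup -/
theorem exists_cartan (p : ℕ) [Fact p.Prime] :
    ∃ (C : Subgroup (GL (Fin 2) (ZMod p))) (E : Subring (M2 p)),
      IsField E ∧ Nat.card E = p ^ 2 ∧
        (E : Set (M2 p)) = insert 0 ((fun g : GL (Fin 2) (ZMod p) => (g : M2 p)) ''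
          (C : Set (GL (Fin 2) (ZMod p)))) := by
  classical
  let L := GaloisField p 2
  have hfr : Module.finrank (ZMod p) L = 2 := GaloisField.finrank p (by norm_num)
  let b : Module.Basis (Fin 2) (ZMod p) L := Module.finBasisOfFinrankEq _ _ hfr
  let φ : L →+* M2 p := (Algebra.leftMulMatrix b : L →ₐ[ZMod p] M2 p)
  have hφ : Function.Injective φ := Algebra.leftMulMatrix_injective b
  let E : Subring (M2 p) := φ.range
  let e : L ≃+* E := RingEquiv.ofLeftInverse (Function.leftInverse_invFun hφ)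
  have hE : IsField E := e.symm.toMulEquiv.isField (Field.toIsField L)
  have hcard : Nat.card E = p ^ 2 := by
    rw [← Nat.card_congr e.toEquiv, GaloisField.card p 2 (by norm_num)]
  -- the units subgroup
  have hinv : ∀ x : M2 p, x ∈ E → x ≠ 0 → ∃ y ∈ E, x * y = 1 ∧ y * x = 1 := by
    intro x hx hx0
    have hx0' : (⟨x, hx⟩ : E) ≠ 0 := fun h => hx0 (congrArg Subtype.val h)
    obtain ⟨y, hy⟩ := hE.mul_inv_cancel hx0'
    refine ⟨y.1, y.2, congrArg Subtype.val hy, ?_⟩
    have := hE.mul_comm ⟨x, hx⟩ y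
    rw [this] at hy
    exact congrArg Subtype.val hy
  let C : Subgroup (GL (Fin 2) (ZMod p)) :=
    { carrier := {g | (g : M2 p) ∈ E}
      mul_mem' := fun {a b} ha hb => by
        change ((a * b : GL (Fin 2) (ZMod p)) : M2 p) ∈ E
        rw [Units.val_mul]; exact E.mul_mem ha hb
      one_mem' := by
        change ((1 : GL (Fin 2) (ZMod p)) : M2 p) ∈ E
        rw [Units.val_one]; exact E.one_mem
      inv_mem' := fun {a} ha => by
        change ((a⁻¹ : GL (Fin 2) (ZMod p)) : M2 p) ∈ E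
        obtain ⟨y, hyE, hy1, hy2⟩ := hinv (a : M2 p) ha a.ne_zero
        have : ((a⁻¹ : GL (Fin 2) (ZMod p)) : M2 p) = y := by
          calc ((a⁻¹ : GL (Fin 2) (ZMod p)) : M2 p)
              = ((a⁻¹ : GL (Fin 2) (ZMod p)) : M2 p) * ((a : M2 p) * y) := by rw [hy1, mul_one]
            _ = (((a⁻¹ : GL (Fin 2) (ZMod p)) : M2 p) * (a : M2 p)) * y := (mul_assoc _ _ _).symm
            _ = y := by rw [← Units.val_mul, inv_mul_cancel, Units.val_one, one_mul]
        rw [this]; exact hyE }
  refine ⟨C, E, hE, hcard, ?_⟩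
  ext x
  constructor
  · intro hx
    by_cases hx0 : x = 0
    · exact Set.mem_insert_iff.2 (Or.inl hx0)
    · obtain ⟨y, hyE, hy1, hy2⟩ := hinv x hx hx0
      refine Set.mem_insert_of_mem _ ⟨⟨x, y, hy1, hy2⟩, ?_, rfl⟩
      exact hx
  · intro hx
    rcases Set.mem_insert_iff.1 hx with h | ⟨g, hg, rfl⟩
    · rw [h]; exact E.zero_mem
    · exact hg

section Main

variable (H : Subgroup (GL (Fin 2) (ZMod p)))

lemma card_GL2 : Nat.card (GL (Fin 2) (ZMod p)) = (p ^ 2 - 1) * (p * (p - 1)) := by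
  rw [Matrix.card_GL_field, Fin.prod_univ_two, ZMod.card]
  simp only [Fin.val_zero, pow_zero, Fin.val_one, pow_one]
  congr 1
  rw [Nat.mul_sub, mul_one, sq]

theorem eq_top_of_cartan (C : Subgroup (GL (Fin 2) (ZMod p))) (E : Subring (M2 p))
    (hCH : C ≤ H) (hE : IsField E) (hcard : Nat.card E = p ^ 2)
    (hset : (E : Set (M2 p)) = insert 0 ((fun g : GL (Fin 2) (ZMod p) => (g : M2 p)) ''
      (C : Set (GL (Fin 2) (ZMod p))))) (hpH : p ∣ Nat.card H) : H = ⊤ := by
  have hp : p.Prime := Fact.out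
  have hp2 : 2 ≤ p := hp.two_le
  have hC := card_C C E hcard hset
  have h1 : (p ^ 2 - 1) ∣ Nat.card H := hC ▸ Subgroup.card_dvd_of_le hCH
  have hcop : Nat.Coprime p (p ^ 2 - 1) := by
    rw [Nat.Prime.coprime_iff_not_dvd hp]
    intro hdvd
    have h2 : p ∣ p ^ 2 := dvd_pow_self p (by norm_num)
    have h3 : p ∣ p ^ 2 - (p ^ 2 - 1) := Nat.dvd_sub h2 hdvd
    have h4 : p ^ 2 - (p ^ 2 - 1) = 1 := by
      have : 1 ≤ p ^ 2 := Nat.one_le_pow _ _ (by omega)
      omega
    rw [h4] at h3
    have := Nat.le_of_dvd (by norm_num) h3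
    omega
  have h2 : p * (p ^ 2 - 1) ∣ Nat.card H := Nat.Coprime.mul_dvd_of_dvd_of_dvd hcop hpH h1
  obtain ⟨m, hm⟩ := h2
  have hidx : H.index < p := by
    have h3 := H.index_mul_card
    rw [card_GL2, hm] at h3
    have hpos : 0 < p * (p ^ 2 - 1) := by
      have : 1 < p ^ 2 := Nat.one_lt_pow (by norm_num) (by omega)
      apply Nat.mul_pos (by omega) (by omega)
    have h4 : H.index * m = p - 1 := by
      apply Nat.eq_of_mul_eq_mul_left hpos
      calc p * (p ^ 2 - 1) * (H.index * m) = H.index * (p * (p ^ 2 - 1) * m) := by ring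
        _ = (p ^ 2 - 1) * (p * (p - 1)) := h3
        _ = p * (p ^ 2 - 1) * (p - 1) := by ring
    have hm0 : m ≠ 0 := by
      rintro rfl
      rw [mul_zero] at hm
      have : 0 < Nat.card H := Nat.card_pos
      omega
    have : H.index ≤ p - 1 := by
      rw [← h4]; exact Nat.le_mul_of_pos_right _ (Nat.pos_of_ne_zero hm0)
    omega
  have hU : ∀ x, U x ∈ H := fun x =>
    mem_of_pow_eq_one_of_index_lt H p hp hidx _ (U_pow_p x)
  have hL : ∀ x, Lo x ∈ H := fun x =>
    mem_of_pow_eq_one_of_index_lt H p hp hidx _ (Lo_pow_p x)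
  rw [eq_top_iff]
  intro g _
  obtain ⟨c, hc, hdet⟩ := exists_det_eq C E hE hcard hset (Matrix.GeneralLinearGroup.det g)
  have hmem : c⁻¹ * g ∈ H := by
    apply sl2_mem_closure H hU hL
    have h5 : Matrix.GeneralLinearGroup.det (c⁻¹ * g) = 1 := by
      rw [map_mul, map_inv, hdet, inv_mul_cancel]
    have := congrArg Units.val h5
    simpa using this
  have : g = c * (c⁻¹ * g) := by group
  rw [this]
  exact H.mul_mem (hCH hc) hmem

theorem main : H = ⊤ ↔
    (∃ (C : Subgroup (GL (Fin 2) (ZMod p))) (E : Subring (Matrix (Fin 2) (Fin 2) (ZMod p))),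
        C ≤ H ∧ IsField E ∧ Nat.card E = p ^ 2 ∧
          (E : Set (Matrix (Fin 2) (Fin 2) (ZMod p))) =
            insert 0 ((fun g : GL (Fin 2) (ZMod p) => (g : Matrix (Fin 2) (Fin 2) (ZMod p))) ''
              (C : Set (GL (Fin 2) (ZMod p))))) ∧
      p ∣ Nat.card H := by
  constructor
  · rintro rfl
    obtain ⟨C, E, hE, hcard, hset⟩ := exists_cartan p
    refine ⟨⟨C, E, le_top, hE, hcard, hset⟩, ?_⟩
    rw [Subgroup.card_top, card_GL2]
    exact Dvd.dvd.mul_left (dvd_mul_right p _) _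
  · rintro ⟨⟨C, E, hCH, hE, hcard, hset⟩, hpH⟩
    exact eq_top_of_cartan H C E hCH hE hcard hset hpH

end Main

end Groth.Agent.Lib.Helper59.GL2Cartan
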