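import Mathlib
import Groth.Agent.Lib.Helper59.PivotRing

/-!
# Characters of `GL_n` over a connected base (helper59)

Natural families of group homomorphisms `GL_n(B) → Bˣ` (over `R`-algebras `B`, `Spec R`
connected) are powers of the determinant.
-/

set_option autoImplicit false

universe u

namespace Groth.Agent.Lib.Helper59.GLChar

open Matrix MatrixGroups

section GroupLike

variable (R : Type u) [CommRing R]

/-- the unit `T^x` of the group algebra. -/
noncomputable def unitHom (M : Type) [AddCommGroup M] :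
    Multiplicative M →* (AddMonoidAlgebra R M)ˣ where
  toFun x :=
    ⟨AddMonoidAlgebra.single x.toAdd 1, AddMonoidAlgebra.single (-x.toAdd) 1, by
      rw [AddMonoidAlgebra.single_mul_single, add_neg_cancel, mul_one]; rfl, by
      rw [AddMonoidAlgebra.single_mul_single, neg_add_cancel, mul_one]; rfl⟩
  map_one' := by
    ext : 1
    rfl
  map_mul' x y := by
    ext : 1
    change AddMonoidAlgebra.single (x.toAdd + y.toAdd) (1 : R) = AddMonoidAlgebra.single x.toAdd 1 *
      AddMonoidAlgebra.single y.toAdd 1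
    rw [AddMonoidAlgebra.single_mul_single, mul_one]

lemma unitHom_val (M : Type) [AddCommGroup M] (x : Multiplicative M) :
    ((unitHom R M x : (AddMonoidAlgebra R M)ˣ) : AddMonoidAlgebra R M) =
      AddMonoidAlgebra.single x.toAdd 1 := rfl

end GroupLike

section Natural

variable {R : Type u} [CommRing R]

/-- evaluation of Laurent polynomials at a unit. -/
noncomputable def ev {B : Type u} [CommRing B] [Algebra R B] (b : Bˣ) :
    AddMonoidAlgebra R ℤ →ₐ[R] B :=
  AddMonoidAlgebra.lift R B ℤ ((Units.coeHom B).comp (zpowersHom Bˣ b))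

lemma ev_single {B : Type u} [CommRing B] [Algebra R B] (b : Bˣ) (k : ℤ) (r : R) :
    ev b (AddMonoidAlgebra.single k r) = r • ((b ^ k : Bˣ) : B) := by
  rw [ev, AddMonoidAlgebra.lift_single]
  rfl

lemma map_ev_unit {B : Type u} [CommRing B] [Algebra R B] (b : Bˣ) :
    Units.map ((ev b : AddMonoidAlgebra R ℤ →ₐ[R] B).toRingHom : AddMonoidAlgebra R ℤ →* B)
      (unitHom R ℤ (Multiplicative.ofAdd 1)) = b := by
  ext
  rw [Units.coe_map, unitHom_val]
  change ev b (AddMonoidAlgebra.single 1 1) = _
  rw [ev_single, one_smul, zpow_one]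

lemma map_mapDomain_unit (f : ℤ →+ ℤ × ℤ) :
    Units.map ((AddMonoidAlgebra.mapDomainAlgHom R R f :
      AddMonoidAlgebra R ℤ →ₐ[R] AddMonoidAlgebra R (ℤ × ℤ)).toRingHom : AddMonoidAlgebra R ℤ →* _)
      (unitHom R ℤ (Multiplicative.ofAdd 1)) = unitHom R (ℤ × ℤ) (Multiplicative.ofAdd (f 1)) := by
  ext : 1
  rw [Units.coe_map, unitHom_val, unitHom_val]
  change AddMonoidAlgebra.mapDomain f (AddMonoidAlgebra.single 1 1) = _
  rw [AddMonoidAlgebra.mapDomain_single]
  rfl

/-- coefficients of a group-like Laurent polynomial are orthogonal idempotents. -/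
lemma coeff_mul_coeff_of_groupLike (χ : AddMonoidAlgebra R ℤ)
    (h : AddMonoidAlgebra.mapDomain ((AddMonoidHom.id ℤ).prod (AddMonoidHom.id ℤ)) χ =
      AddMonoidAlgebra.mapDomain (AddMonoidHom.inl ℤ ℤ) χ *
        AddMonoidAlgebra.mapDomain (AddMonoidHom.inr ℤ ℤ) χ) (k l : ℤ) :
    χ.coeff k * χ.coeff l = if k = l then χ.coeff k else 0 := by
  classical
  have h1 := congrArg (fun z => z.coeff (k, l)) h
  simp only [AddMonoidAlgebra.coeff_mapDomain] at h1
  rw [AddMonoidAlgebra.coeff_mul_apply_left, AddMonoidAlgebra.coeff_mapDomain,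
    AddMonoidAlgebra.coeff_mapDomain,
    Finsupp.sum_mapDomain_index (by intro b; simp) (by intro b m₁ m₂; rw [add_mul])] at h1
  have h2 : ∀ k' : ℤ, (Finsupp.mapDomain (AddMonoidHom.inr ℤ ℤ) χ.coeff)
      (-(AddMonoidHom.inl ℤ ℤ k') + (k, l)) = if k' = k then χ.coeff l else 0 := by
    intro k'
    have e1 : (-(AddMonoidHom.inl ℤ ℤ k') + (k, l) : ℤ × ℤ) = (k - k', l) := by
      ext <;> simp <;> ring
    rw [e1]
    split_ifs with hk
    · subst hk
      have e2 : ((k' - k', l) : ℤ × ℤ) = AddMonoidHom.inr ℤ ℤ l := by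
        ext <;> simp
      rw [e2]
      exact Finsupp.mapDomain_apply (fun x y hxy => by simpa using hxy) _ _
    · apply Finsupp.mapDomain_of_notMem_range
      rintro ⟨x, hx⟩
      apply hk
      have := congrArg Prod.fst hx
      simp at this
      omega
  simp only [h2] at h1
  have h3 : (χ.coeff.sum fun a m => m * if a = k then χ.coeff l else 0) =
      χ.coeff k * χ.coeff l := by
    rw [Finsupp.sum, Finset.sum_eq_single k]
    · simp
    · intro b _ hb
      simp [hb]
    · intro hk
      simp [Finsupp.notMem_support_iff.mp hk]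
  rw [h3] at h1
  rw [← h1]
  split_ifs with hkl
  · subst hkl
    have e3 : ((k, k) : ℤ × ℤ) = ((AddMonoidHom.id ℤ).prod (AddMonoidHom.id ℤ)) k := by
      ext <;> simp
    rw [e3]
    exact Finsupp.mapDomain_apply (fun x y hxy => by
      have := congrArg Prod.fst hxy
      simpa using this) _ _
  · apply Finsupp.mapDomain_of_notMem_range
    rintro ⟨x, hx⟩
    apply hkl
    have h4 := congrArg Prod.fst hx
    have h5 := congrArg Prod.snd hx
    simp at h4 h5
    omega

/-- natural endomorphisms of the multiplicative group over a connected base are powers. -/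
theorem exists_zpow_of_natural [Nontrivial R] (hconn : ∀ e : R, e * e = e → e = 0 ∨ e = 1)
    (γ : ∀ (B : Type u) [CommRing B] [Algebra R B], Bˣ →* Bˣ)
    (hγ : ∀ (B C : Type u) [CommRing B] [Algebra R B] [CommRing C] [Algebra R C] (φ : B →ₐ[R] C)
      (b : Bˣ), γ C (Units.map (φ.toRingHom : B →* C) b) =
        Units.map (φ.toRingHom : B →* C) (γ B b)) :
    ∃ m : ℤ, ∀ (B : Type u) [CommRing B] [Algebra R B] (b : Bˣ), γ B b = b ^ m := by
  classical
  set tU := unitHom R ℤ (Multiplicative.ofAdd 1) with htU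
  set χU := γ (AddMonoidAlgebra R ℤ) tU with hχU
  set χ : AddMonoidAlgebra R ℤ := (χU : AddMonoidAlgebra R ℤ) with hχ
  -- general formula
  have hgen : ∀ (B : Type u) [CommRing B] [Algebra R B] (b : Bˣ),
      ((γ B b : Bˣ) : B) = ev b χ := by
    intro B _ _ b
    have := hγ _ B (ev b) tU
    rw [map_ev_unit] at this
    rw [this]
    rfl
  -- group-likeness
  have hgl : AddMonoidAlgebra.mapDomain ((AddMonoidHom.id ℤ).prod (AddMonoidHom.id ℤ)) χ =
      AddMonoidAlgebra.mapDomain (AddMonoidHom.inl ℤ ℤ) χ *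
        AddMonoidAlgebra.mapDomain (AddMonoidHom.inr ℤ ℤ) χ := by
    have e1 := hγ _ _ (AddMonoidAlgebra.mapDomainAlgHom R R
      ((AddMonoidHom.id ℤ).prod (AddMonoidHom.id ℤ))) tU
    have e2 := hγ _ _ (AddMonoidAlgebra.mapDomainAlgHom R R (AddMonoidHom.inl ℤ ℤ)) tU
    have e3 := hγ _ _ (AddMonoidAlgebra.mapDomainAlgHom R R (AddMonoidHom.inr ℤ ℤ)) tU
    rw [map_mapDomain_unit] at e1 e2 e3
    have e4 : unitHom R (ℤ × ℤ) (Multiplicative.ofAdd
        (((AddMonoidHom.id ℤ).prod (AddMonoidHom.id ℤ)) 1)) =
        unitHom R (ℤ × ℤ) (Multiplicative.ofAdd ((AddMonoidHom.inl ℤ ℤ) 1)) *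
          unitHom R (ℤ × ℤ) (Multiplicative.ofAdd ((AddMonoidHom.inr ℤ ℤ) 1)) := by
      rw [← map_mul, ← ofAdd_add]
      congr 2
    rw [e4, map_mul, e2, e3] at e1
    have e5 := congrArg (fun z : (AddMonoidAlgebra R (ℤ × ℤ))ˣ => (z : AddMonoidAlgebra R (ℤ × ℤ))) e1
    simp only [Units.val_mul, Units.coe_map] at e5
    exact e5.symm
  have horth := coeff_mul_coeff_of_groupLike χ hgl
  -- some coefficient is nonzero
  have hne : χ ≠ 0 := χU.ne_zero
  obtain ⟨m, hm⟩ : ∃ m, χ.coeff m ≠ 0 := by
    by_contra hno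
    push Not at hno
    apply hne
    ext k
    exact hno k
  have hm1 : χ.coeff m = 1 := by
    have := horth m m
    rw [if_pos rfl] at this
    rcases hconn _ this with h0 | h1
    · exact absurd h0 hm
    · exact h1
  have hχm : χ = AddMonoidAlgebra.single m 1 := by
    ext k
    rw [AddMonoidAlgebra.coeff_single, Finsupp.single_apply]
    split_ifs with hk
    · rw [← hk, hm1]
    · have := horth k m
      rw [if_neg (fun h => hk h.symm), hm1, mul_one] at this
      exact this
  refine ⟨m, ?_⟩
  intro B _ _ b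
  ext
  rw [hgen, hχm, ev_single, one_smul]

end Natural

section GLn

variable {n : Type} [Fintype n] [DecidableEq n]

/-- diagonal matrices. -/
def diagGL (B : Type u) [CommRing B] : (n → Bˣ) →* GL n B where
  toFun d :=
    ⟨diagonal (fun i => (d i : B)), diagonal (fun i => ((d i)⁻¹ : Bˣ)), by
      rw [diagonal_mul_diagonal]; simp, by rw [diagonal_mul_diagonal]; simp⟩
  map_one' := by
    ext : 1
    simp
  map_mul' d e := by
    ext : 1
    simp [diagonal_mul_diagonal]

lemma diagGL_val {B : Type u} [CommRing B] (d : n → Bˣ) :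
    ((diagGL B d : GL n B) : Matrix n n B) = diagonal (fun i => (d i : B)) := rfl

lemma det_diagGL {B : Type u} [CommRing B] (d : n → Bˣ) :
    GeneralLinearGroup.det (diagGL B d) = ∏ i, d i := by
  ext
  simp [diagGL_val]

lemma map_diagGL {B C : Type u} [CommRing B] [CommRing C] (φ : B →+* C) (d : n → Bˣ) :
    GeneralLinearGroup.map φ (diagGL B d) = diagGL C (fun i => Units.map (φ : B →* C) (d i)) := by
  ext a b
  simp only [GeneralLinearGroup.map_apply, diagGL_val, diagonal_apply]
  split_ifs <;> simp

/-- transvections as invertible matrices. -/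
def transvGL {B : Type u} [CommRing B] {i j : n} (h : i ≠ j) (c : B) : GL n B :=
  ⟨transvection i j c, transvection i j (-c), by
    rw [transvection_mul_transvection_same i j h, add_neg_cancel, transvection_zero], by
    rw [transvection_mul_transvection_same i j h, neg_add_cancel, transvection_zero]⟩

lemma transvGL_val {B : Type u} [CommRing B] {i j : n} (h : i ≠ j) (c : B) :
    ((transvGL h c : GL n B) : Matrix n n B) = transvection i j c := rfl

lemma transvGL_add {B : Type u} [CommRing B] {i j : n} (h : i ≠ j) (c d : B) :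
    (transvGL h (c + d) : GL n B) = transvGL h c * transvGL h d := by
  ext : 1
  rw [Units.val_mul, transvGL_val, transvGL_val, transvGL_val,
    transvection_mul_transvection_same i j h]

lemma map_transvGL {B C : Type u} [CommRing B] [CommRing C] (φ : B →+* C) {i j : n} (h : i ≠ j)
    (c : B) : GeneralLinearGroup.map φ (transvGL h c) = transvGL h (φ c) := by
  ext : 1
  exact PivotRing.map_transvection φ i j c

lemma det_transvGL {B : Type u} [CommRing B] {i j : n} (h : i ≠ j) (c : B) :
    GeneralLinearGroup.det (transvGL h c : GL n B) = 1 := by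
  ext
  simp [transvGL_val, det_transvection_of_ne i j h c]

lemma diagGL_mul_transvGL {B : Type u} [CommRing B] {i j : n} (h : i ≠ j) (t : Bˣ) (c : B) :
    diagGL B (Pi.mulSingle i t) * transvGL h c =
      transvGL h ((t : B) * c) * diagGL B (Pi.mulSingle i t) := by
  ext a b
  simp only [Units.val_mul, diagGL_val, transvGL_val, transvection, Matrix.add_apply, diagonal_mul,
    mul_diagonal, single_apply, one_apply]
  by_cases hab : a = b
  · subst hab
    have h2 : ¬ (i = a ∧ j = a) := fun hh => h (hh.1.trans hh.2.symm)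
    rw [if_pos rfl, if_neg h2, if_neg h2, add_zero, mul_one, one_mul]
  · rw [if_neg hab, zero_add, zero_add]
    by_cases h2 : i = a ∧ j = b
    · obtain ⟨rfl, rfl⟩ := h2
      rw [if_pos ⟨rfl, rfl⟩, if_pos ⟨rfl, rfl⟩, Pi.mulSingle_eq_same,
        Pi.mulSingle_eq_of_ne h.symm, Units.val_one, mul_one]
    · rw [if_neg h2, if_neg h2, mul_zero, zero_mul]

/-- permutation matrices. -/
noncomputable def permGL (B : Type u) [CommRing B] (σ : Equiv.Perm n) : GL n B :=
  GeneralLinearGroup.mk'' (Equiv.Perm.permMatrix B σ) (by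
    rw [det_permutation]
    have := (Int.castRingHom B).isUnit_map (Units.isUnit (Equiv.Perm.sign σ))
    simpa using this)

end GLn

section Char

open Polynomial in
/-- an injective extension with a unit `t` such that `t - 1` is a unit. -/
lemma exists_unit_sub_one_unit (R : Type u) [CommRing R] (B : Type u) [CommRing B] [Algebra R B] :
    ∃ (C : Type u) (_ : CommRing C) (_ : Algebra R C) (φ : B →ₐ[R] C) (t s : Cˣ),
      Function.Injective φ ∧ ((t : C) - 1) * s = 1 := by
  rcases subsingleton_or_nontrivial B with hB | hB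
  · exact ⟨B, inferInstance, inferInstance, AlgHom.id R B, 1, 1,
      fun x y _ => Subsingleton.elim x y, Subsingleton.elim _ _⟩
  · let f : B[X] := X ^ 2 - X + 1
    have hf : f.Monic := by
      change (X ^ 2 - X + 1 : B[X]).Monic
      monicity!
    have h2 : f.natDegree = 2 := by
      change (X ^ 2 - X + 1 : B[X]).natDegree = 2
      compute_degree!
    have ht : AdjoinRoot.root f * (1 - AdjoinRoot.root f) = 1 := by
      have := AdjoinRoot.eval₂_root f
      simp only [f, eval₂_add, eval₂_sub, eval₂_pow, eval₂_X, eval₂_one] at this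
      linear_combination -this
    refine ⟨AdjoinRoot f, inferInstance, inferInstance, IsScalarTower.toAlgHom R B (AdjoinRoot f),
      ⟨AdjoinRoot.root f, 1 - AdjoinRoot.root f, ht, by rw [mul_comm]; exact ht⟩,
      ⟨-AdjoinRoot.root f, AdjoinRoot.root f - 1, by linear_combination ht,
        by linear_combination ht⟩, ?_, ?_⟩
    · rw [injective_iff_map_eq_zero]
      intro x hx
      change AdjoinRoot.of f x = 0 at hx
      rw [← AdjoinRoot.mk_C, AdjoinRoot.mk_eq_zero] at hx
      obtain ⟨q, hq⟩ := hx
      by_cases hq0 : q = 0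
      · rw [hq0, mul_zero] at hq
        exact C_eq_zero.mp hq
      · have := hf.natDegree_mul' hq0
        rw [← hq, natDegree_C, h2] at this
        omega
    · change (AdjoinRoot.root f - 1) * (-AdjoinRoot.root f) = 1
      linear_combination ht

variable {R : Type u} [CommRing R] {n : Type} [Fintype n] [DecidableEq n]

variable (α : ∀ (B : Type u) [CommRing B] [Algebra R B], GL n B →* Bˣ)
  (hα : ∀ (B C : Type u) [CommRing B] [Algebra R B] [CommRing C] [Algebra R C] (φ : B →ₐ[R] C)
    (g : GL n B),
    α C (GeneralLinearGroup.map φ.toRingHom g) = Units.map (φ.toRingHom : B →* C) (α B g))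

include hα

/-- characters kill transvections. -/
lemma char_transvGL (B : Type u) [CommRing B] [Algebra R B] {i j : n} (h : i ≠ j) (b : B) :
    α B (transvGL h b) = 1 := by
  obtain ⟨C, _, _, φ, t, s, hφ, hts⟩ := exists_unit_sub_one_unit R B
  have key : ∀ c : C, α C (transvGL h (((t : C) - 1) * c)) = 1 := by
    intro c
    have h1 := congrArg (α C) (diagGL_mul_transvGL h t c)
    rw [map_mul, map_mul, mul_comm] at h1
    have h2 := mul_right_cancel h1
    have h3 : (t : C) * c = ((t : C) - 1) * c + c := by ring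
    rw [h3, transvGL_add, map_mul] at h2
    exact (mul_eq_right (a := α C (transvGL h (((t : C) - 1) * c)))).mp h2.symm
  have h4 := key ((s : C) * φ b)
  rw [← mul_assoc, hts, one_mul] at h4
  have hnat := hα B C φ (transvGL h b)
  rw [map_transvGL] at hnat
  have h5 : Units.map (φ.toRingHom : B →* C) (α B (transvGL h b)) = 1 := by
    rw [← hnat]
    exact h4
  ext
  apply hφ
  have h6 := congrArg (fun z : Cˣ => (z : C)) h5
  simpa using h6

omit hα in
lemma permGL_mul_diagGL (B : Type u) [CommRing B] (σ : Equiv.Perm n) (d : n → Bˣ) :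
    permGL B σ * diagGL B d = diagGL B (d ∘ σ) * permGL B σ := by
  ext a b
  simp only [Units.val_mul, diagGL_val, permGL, GeneralLinearGroup.val_mk'', diagonal_mul,
    mul_diagonal, Equiv.Perm.permMatrix, PEquiv.toMatrix_apply, Equiv.toPEquiv_apply,
    Function.comp_apply, Option.mem_def, Option.some.injEq]
  split_ifs with hab
  · subst hab
    rw [one_mul, mul_one]
  · rw [zero_mul, mul_zero]

omit hα in
/-- characters are invariant under permuting the diagonal. -/
lemma char_diagGL_mulSingle_eq (B : Type u) [CommRing B] [Algebra R B] (j j' : n) (b : Bˣ) :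
    α B (diagGL B (Pi.mulSingle j b)) = α B (diagGL B (Pi.mulSingle j' b)) := by
  have h1 := congrArg (α B) (permGL_mul_diagGL B (Equiv.swap j j') (Pi.mulSingle j' b))
  rw [map_mul, map_mul, mul_comm] at h1
  have h2 := mul_right_cancel h1
  rw [h2]
  congr 2
  funext a
  simp only [Function.comp_apply, Pi.mulSingle_apply]
  by_cases ha : a = j
  · subst ha
    simp
  · rw [if_neg ha, if_neg]
    intro h3
    apply ha
    have := congrArg (Equiv.swap j j') h3
    simpa using this

/-- characters on the diagonal torus. -/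
lemma exists_char_diagGL [Nontrivial R] (hconn : ∀ e : R, e * e = e → e = 0 ∨ e = 1) (j₀ : n) :
    ∃ m : ℤ, ∀ (B : Type u) [CommRing B] [Algebra R B] (d : n → Bˣ),
      α B (diagGL B d) = (∏ i, d i) ^ m := by
  obtain ⟨m, hm⟩ := exists_zpow_of_natural hconn
    (fun B _ _ => (α B).comp ((diagGL B).comp (MonoidHom.mulSingle (fun _ : n => Bˣ) j₀))) (by
      intro B C _ _ _ _ φ b
      simp only [MonoidHom.comp_apply, MonoidHom.mulSingle_apply]
      have h1 := hα B C φ (diagGL B (Pi.mulSingle j₀ b))
      rw [map_diagGL] at h1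
      rw [← h1]
      congr 2
      funext a
      by_cases ha : a = j₀
      · subst ha
        simp
      · simp [Pi.mulSingle_eq_of_ne ha])
  refine ⟨m, ?_⟩
  intro B _ _ d
  have key : (α B).comp (diagGL B) =
      (zpowGroupHom m).comp (Finset.univ.prod fun i => Pi.evalMonoidHom (fun _ : n => Bˣ) i) := by
    apply MonoidHom.pi_ext
    intro j b
    simp only [MonoidHom.comp_apply, zpowGroupHom_apply, MonoidHom.finsetProd_apply,
      Pi.evalMonoidHom_apply]
    rw [char_diagGL_mulSingle_eq α B j j₀ b]
    have := hm B b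
    simp only [MonoidHom.comp_apply, MonoidHom.mulSingle_apply] at this
    rw [this]
    congr 1
    rw [Finset.prod_eq_single j]
    · simp
    · intro i _ hi
      exact Pi.mulSingle_eq_of_ne hi _
    · intro hj
      exact absurd (Finset.mem_univ j) hj
  have := DFunLike.congr_fun key d
  simp only [MonoidHom.comp_apply, zpowGroupHom_apply, MonoidHom.finsetProd_apply,
    Pi.evalMonoidHom_apply] at this
  exact this

omit hα in
lemma exists_unit_entry {B : Type u} [CommRing B] [IsLocalRing B] (M : Matrix n n B)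
    (hM : IsUnit M.det) (T : Finset n) (hred : PivotRing.Red T M) (hT : T ≠ Finset.univ) :
    ∃ i₀ j₀, i₀ ∉ T ∧ j₀ ∉ T ∧ IsUnit (M i₀ j₀) := by
  obtain ⟨j₀, hj₀⟩ : ∃ x, x ∉ T := by
    by_contra hno
    push Not at hno
    exact hT (Finset.eq_univ_of_forall hno)
  by_contra hcon
  push Not at hcon
  have hcol : ∀ i, IsLocalRing.residue B (M i j₀) = 0 := by
    intro i
    by_cases hi : i ∈ T
    · rw [hred i j₀ (fun h => hj₀ (h ▸ hi)) (Or.inl hi), map_zero]
    · rw [IsLocalRing.residue_eq_zero_iff]
      exact hcon i j₀ hi hj₀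
  have hdet : IsLocalRing.residue B M.det = 0 := by
    rw [RingHom.map_det]
    exact det_eq_zero_of_column_eq_zero j₀ (fun i => by simp [hcol i])
  exact (hM.map (IsLocalRing.residue B)).ne_zero hdet

/-- over a local ring, characters are powers of the determinant. -/
lemma char_eq_of_isLocalRing (m : ℤ)
    (hm : ∀ (B : Type u) [CommRing B] [Algebra R B] (d : n → Bˣ),
      α B (diagGL B d) = (∏ i, d i) ^ m)
    (B : Type u) [CommRing B] [Algebra R B] [IsLocalRing B] (g : GL n B) :
    α B g = GeneralLinearGroup.det g ^ m := by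
  have hE : ∀ L ∈ PivotRing.E n B, ∃ u : GL n B, (u : Matrix n n B) = L ∧ α B u = 1 ∧
      GeneralLinearGroup.det u = 1 := by
    intro L hL
    induction hL using Submonoid.closure_induction with
    | mem x hx =>
      obtain ⟨i, j, c, hij, rfl⟩ := hx
      exact ⟨transvGL hij c, rfl, char_transvGL α hα B hij c, det_transvGL hij c⟩
    | one => exact ⟨1, rfl, map_one _, map_one _⟩
    | mul x y _ _ hx hy =>
      obtain ⟨u, rfl, hu1, hu2⟩ := hx
      obtain ⟨v, rfl, hv1, hv2⟩ := hy
      exact ⟨u * v, rfl, by rw [map_mul, hu1, hv1, one_mul], by rw [map_mul, hu2, hv2, one_mul]⟩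
  have hEI : ∀ L, L ∈ PivotRing.EI (RingHom.id B) n → L ∈ PivotRing.E n B := fun L hL => hL
  obtain ⟨L, hL, L', hL', d, hd⟩ := PivotRing.exists_diagonal (RingHom.id B)
    (fun M : Matrix n n B => IsUnit M.det)
    (fun M L hM hL => by
      change IsUnit (L * M).det
      rw [det_mul, PivotRing.det_eq_one_of_mem_E (hEI L hL), one_mul]
      exact hM)
    (fun M L hM hL => by
      change IsUnit (M * L).det
      rw [det_mul, PivotRing.det_eq_one_of_mem_E (hEI L hL), mul_one]
      exact hM)
    (fun M T hM hred hT => by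
      obtain ⟨i₀, j₀, hi₀, hj₀, hu⟩ := exists_unit_entry M hM T hred hT
      refine ⟨i₀, j₀, hi₀, hj₀, fun i j => M i j * ((hu.unit⁻¹ : Bˣ) : B), ?_⟩
      intro i j _ _
      rw [RingHom.id_apply, mul_assoc, IsUnit.val_inv_mul, mul_one])
    (g : Matrix n n B) (by
      have := (GeneralLinearGroup.det g).isUnit
      rwa [GeneralLinearGroup.val_det_apply] at this)
  obtain ⟨uL, rfl, huL1, huL2⟩ := hE L (hEI L hL)
  obtain ⟨uL', rfl, huL'1, huL'2⟩ := hE L' (hEI L' hL')
  have hdu : ∀ i, IsUnit (d i) := by
    have h1 : IsUnit (diagonal d).det := by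
      rw [← hd, det_mul, det_mul]
      have h2 := (GeneralLinearGroup.det (uL * g * uL')).isUnit
      rwa [GeneralLinearGroup.val_det_apply, Units.val_mul, Units.val_mul, det_mul, det_mul] at h2
    rw [det_diagonal] at h1
    intro i
    exact isUnit_of_dvd_unit (Finset.dvd_prod_of_mem d (Finset.mem_univ i)) h1
  have hD : uL * g * uL' = diagGL B (fun i => (hdu i).unit) := by
    ext : 1
    rw [Units.val_mul, Units.val_mul, hd, diagGL_val]
    congr 1
  have h3 := congrArg (α B) hD
  rw [map_mul, map_mul, huL1, huL'1, one_mul, mul_one, hm, ← det_diagGL, ← hD, map_mul, map_mul,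
    huL2, huL'2, one_mul, mul_one] at h3
  exact h3

/-- characters are powers of the determinant. -/
theorem char_eq (m : ℤ)
    (hm : ∀ (B : Type u) [CommRing B] [Algebra R B] (d : n → Bˣ),
      α B (diagGL B d) = (∏ i, d i) ^ m)
    (B : Type u) [CommRing B] [Algebra R B] (g : GL n B) :
    α B g = GeneralLinearGroup.det g ^ m := by
  ext
  apply eq_of_sub_eq_zero
  apply eq_zero_of_localization
  intro J hJ
  have h1 := hα B (Localization.AtPrime J) (IsScalarTower.toAlgHom R B _) g
  have h2 := char_eq_of_isLocalRing α hα m hm (Localization.AtPrime J)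
    (GeneralLinearGroup.map (IsScalarTower.toAlgHom R B (Localization.AtPrime J)).toRingHom g)
  rw [h1, GeneralLinearGroup.map_det, ← map_zpow] at h2
  have h3 := congrArg (fun z : (Localization.AtPrime J)ˣ => (z : Localization.AtPrime J)) h2
  simp only [Units.coe_map] at h3
  rw [map_sub, sub_eq_zero]
  exact h3

/-- Main theorem for a single `GL_n`. -/
theorem exists_char_eq [Nontrivial R] (hconn : ∀ e : R, e * e = e → e = 0 ∨ e = 1) (j₀ : n) :
    ∃ m : ℤ, ∀ (B : Type u) [CommRing B] [Algebra R B] (g : GL n B),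
      α B g = GeneralLinearGroup.det g ^ m := by
  obtain ⟨m, hm⟩ := exists_char_diagGL α hα hconn j₀
  exact ⟨m, char_eq α hα m hm⟩

end Char

section Product

theorem idem_trivial_of_connected {R : Type*} [CommRing R] [ConnectedSpace (PrimeSpectrum R)]
    (s : R) (hs : IsIdempotentElem s) : s = 0 ∨ s = 1 := by
  have hclopen : IsClopen ((PrimeSpectrum.basicOpen s : TopologicalSpace.Opens (PrimeSpectrum R)) :
      Set (PrimeSpectrum R)) := PrimeSpectrum.isClopen_iff.mpr ⟨s, hs, rfl⟩
  have hnil : ∀ t : R, IsIdempotentElem t → IsNilpotent t → t = 0 := by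
    intro t ht ⟨n, hn⟩
    cases n with
    | zero => rw [pow_zero] at hn; rw [← mul_one t, hn, mul_zero]
    | succ n => rw [ht.pow_succ_eq] at hn; exact hn
  rcases isClopen_iff.mp hclopen with h | h
  · left
    apply hnil s hs
    rw [← PrimeSpectrum.basicOpen_eq_bot_iff]
    exact TopologicalSpace.Opens.ext h
  · right
    have h2 : (PrimeSpectrum.basicOpen (1 - s) : Set (PrimeSpectrum R)) = ∅ := by
      rw [← PrimeSpectrum.zeroLocus_eq_basicOpen_of_isIdempotentElem s hs]
      ext x
      simp only [PrimeSpectrum.mem_zeroLocus, Set.singleton_subset_iff, SetLike.mem_coe,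
        Set.mem_empty_iff_false, iff_false]
      intro hx
      have : x ∈ (PrimeSpectrum.basicOpen s : Set (PrimeSpectrum R)) := by rw [h]; trivial
      exact this hx
    have h3 : 1 - s = 0 := by
      apply hnil (1 - s) hs.one_sub
      rw [← PrimeSpectrum.basicOpen_eq_bot_iff]
      exact TopologicalSpace.Opens.ext h2
    exact (sub_eq_zero.mp h3).symm

lemma prod_det_mulSingle {B : Type u} [CommRing B] {r : ℕ} (n : Fin r → ℕ) (m : Fin r → ℤ)
    (k : Fin r) (g : GL (Fin (n k)) B) :
    ∏ i, GeneralLinearGroup.det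
      ((Pi.mulSingle k g : ∀ i, GL (Fin (n i)) B) i) ^ (m i) =
      GeneralLinearGroup.det g ^ (m k) := by
  rw [Finset.prod_eq_single k]
  · rw [Pi.mulSingle_eq_same]
  · intro i _ hi
    rw [Pi.mulSingle_eq_of_ne hi, map_one, _root_.one_zpow]
  · intro hk
    exact absurd (Finset.mem_univ k) hk

theorem main (R : Type u) [CommRing R] [ConnectedSpace (PrimeSpectrum R)]
    (r : ℕ) (n : Fin r → ℕ) (hn : ∀ i, 0 < n i)
    (α : ∀ (B : Type u) [CommRing B] [Algebra R B], (∀ i, GL (Fin (n i)) B) →* Bˣ)
    (hα : ∀ (B C : Type u) [CommRing B] [Algebra R B] [CommRing C] [Algebra R C] (φ : B →ₐ[R] C)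
      (s : ∀ i, GL (Fin (n i)) B),
      α C (fun i => GeneralLinearGroup.map φ.toRingHom (s i)) =
        Units.map (φ.toRingHom : B →* C) (α B s)) :
    ∃! m : Fin r → ℤ, ∀ (B : Type u) [CommRing B] [Algebra R B] (s : ∀ i, GL (Fin (n i)) B),
      α B s = ∏ i, GeneralLinearGroup.det (s i) ^ (m i) := by
  classical
  have hnt : Nontrivial R := by
    obtain ⟨p⟩ := (inferInstance : Nonempty (PrimeSpectrum R))
    exact p.nontrivial
  have hconn : ∀ e : R, e * e = e → e = 0 ∨ e = 1 := fun e he => idem_trivial_of_connected e he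
  have hk : ∀ k : Fin r, ∃ m : ℤ, ∀ (B : Type u) [CommRing B] [Algebra R B] (g : GL (Fin (n k)) B),
      α B (Pi.mulSingle k g) = GeneralLinearGroup.det g ^ m := by
    intro k
    exact exists_char_eq
      (fun B _ _ => (α B).comp (MonoidHom.mulSingle (fun i => GL (Fin (n i)) B) k)) (by
        intro B C _ _ _ _ φ g
        simp only [MonoidHom.comp_apply, MonoidHom.mulSingle_apply]
        rw [← hα B C φ (Pi.mulSingle k g)]
        congr 1
        funext i
        exact (Pi.apply_mulSingle (fun i => GeneralLinearGroup.map (n := Fin (n i)) φ.toRingHom)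
          (fun i => map_one _) k g i).symm) hconn ⟨0, hn k⟩
  choose m hm using hk
  refine ⟨m, ?_, ?_⟩
  · intro B _ _ s
    have key : α B = Finset.univ.prod (fun i : Fin r =>
        ((zpowGroupHom (m i)).comp GeneralLinearGroup.det).comp
          (Pi.evalMonoidHom (fun i => GL (Fin (n i)) B) i)) := by
      apply MonoidHom.pi_ext
      intro k g
      rw [hm k B g, MonoidHom.finsetProd_apply]
      simp only [MonoidHom.comp_apply, zpowGroupHom_apply, Pi.evalMonoidHom_apply]
      exact (prod_det_mulSingle n m k g).symm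
    rw [key, MonoidHom.finsetProd_apply]
    simp only [MonoidHom.comp_apply, zpowGroupHom_apply, Pi.evalMonoidHom_apply]
  · intro m' hm'
    funext k
    set tU := unitHom R ℤ (Multiplicative.ofAdd 1) with htU
    have h1 := hm' (AddMonoidAlgebra R ℤ) (Pi.mulSingle k (diagGL _ (Pi.mulSingle ⟨0, hn k⟩ tU)))
    rw [prod_det_mulSingle, hm k] at h1
    have h2 : GeneralLinearGroup.det (diagGL (AddMonoidAlgebra R ℤ)
        (Pi.mulSingle (⟨0, hn k⟩ : Fin (n k)) tU)) = tU := by
      rw [det_diagGL, Finset.prod_eq_single ⟨0, hn k⟩]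
      · rw [Pi.mulSingle_eq_same]
      · intro i _ hi
        exact Pi.mulSingle_eq_of_ne hi _
      · intro h
        exact absurd (Finset.mem_univ _) h
    rw [h2] at h1
    have h3 : ∀ z : ℤ, tU ^ z = unitHom R ℤ (Multiplicative.ofAdd z) := by
      intro z
      rw [htU, ← map_zpow, ← ofAdd_zsmul, smul_eq_mul, mul_one]
    rw [h3, h3] at h1
    have h4 := congrArg (fun z : (AddMonoidAlgebra R ℤ)ˣ => (z : AddMonoidAlgebra R ℤ).coeff) h1
    simp only [unitHom_val, toAdd_ofAdd, AddMonoidAlgebra.coeff_single] at h4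
    exact (Finsupp.single_left_injective one_ne_zero h4).symm

end Product

end Groth.Agent.Lib.Helper59.GLChar
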