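import Mathlib

/-!
# Units of the coordinate ring of `GL_n`

Part 1: the generic determinant is irreducible (hence prime) over a field.
-/

set_option autoImplicit false

namespace Groth.Agent.Lib.Helper59.GLnUnits

open MvPolynomial

section General

variable {R : Type*} [CommRing R] {n : ℕ}

/-- The generic determinant. -/
noncomputable abbrev genDet (R : Type*) [CommRing R] (n : ℕ) : MvPolynomial (Fin n × Fin n) R :=
  (Matrix.mvPolynomialX (Fin n) (Fin n) R).det

lemma ringHom_genDet {S : Type*} [CommRing S] (f : MvPolynomial (Fin n × Fin n) R →+* S) :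
    f (genDet R n) = (Matrix.of fun i j => f (X (i, j))).det := by
  rw [genDet, RingHom.map_det]
  rfl

/-- Scaling the variables in `s` by a new variable `T`. -/
noncomputable def scale (s : Fin n × Fin n → Prop) [DecidablePred s] :
    MvPolynomial (Fin n × Fin n) R →+* Polynomial (MvPolynomial (Fin n × Fin n) R) :=
  eval₂Hom (Polynomial.C.comp C)
    (fun v => if s v then Polynomial.X * Polynomial.C (X v) else Polynomial.C (X v))

/-- Setting the variables in `s` to zero. -/
noncomputable def zero (s : Fin n × Fin n → Prop) [DecidablePred s] :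
    MvPolynomial (Fin n × Fin n) R →+* MvPolynomial (Fin n × Fin n) R :=
  eval₂Hom C (fun v => if s v then 0 else X v)

lemma eval_one_scale (s : Fin n × Fin n → Prop) [DecidablePred s]
    (p : MvPolynomial (Fin n × Fin n) R) : Polynomial.eval 1 (scale s p) = p := by
  have : (Polynomial.evalRingHom 1).comp (scale (R := R) s) = RingHom.id _ := by
    apply MvPolynomial.ringHom_ext
    · intro r; simp [scale]
    · intro v; simp only [scale, RingHom.comp_apply, eval₂Hom_X', RingHom.id_apply,
        Polynomial.coe_evalRingHom]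
      split_ifs <;> simp
  exact congrFun (congrArg DFunLike.coe this) p

lemma eval_zero_scale (s : Fin n × Fin n → Prop) [DecidablePred s]
    (p : MvPolynomial (Fin n × Fin n) R) : Polynomial.eval 0 (scale s p) = zero s p := by
  have : (Polynomial.evalRingHom 0).comp (scale (R := R) s) = zero s := by
    apply MvPolynomial.ringHom_ext
    · intro r; simp [scale, zero]
    · intro v; simp only [scale, zero, RingHom.comp_apply, eval₂Hom_X',
        Polynomial.coe_evalRingHom]
      split_ifs <;> simp
  exact congrFun (congrArg DFunLike.coe this) p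

lemma scale_injective (s : Fin n × Fin n → Prop) [DecidablePred s] :
    Function.Injective (scale (R := R) s) := by
  intro p q h
  rw [← eval_one_scale s p, ← eval_one_scale s q, h]

lemma zero_eq_of_natDegree_scale (s : Fin n × Fin n → Prop) [DecidablePred s]
    (p : MvPolynomial (Fin n × Fin n) R) (h : (scale s p).natDegree = 0) : zero s p = p := by
  obtain ⟨c, hc⟩ := Polynomial.natDegree_eq_zero.mp h
  rw [← eval_zero_scale, ← hc, Polynomial.eval_C]
  conv_rhs => rw [← eval_one_scale s p, ← hc, Polynomial.eval_C]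

lemma scale_col_genDet (b : Fin n) :
    scale (fun v : Fin n × Fin n => v.2 = b) (genDet R n) =
      Polynomial.X * Polynomial.C (genDet R n) := by
  rw [ringHom_genDet]
  have h1 : (Matrix.of fun i j : Fin n => scale (fun v : Fin n × Fin n => v.2 = b) (X (R := R) (i, j))) =
      Matrix.of fun i j => (if j = b then Polynomial.X else 1) *
        (Matrix.of fun i j : Fin n => Polynomial.C (X (R := R) (i, j))) i j := by
    ext i j
    simp only [scale, eval₂Hom_X', Matrix.of_apply]
    split_ifs <;> simp
  rw [h1, Matrix.det_mul_row, ringHom_genDet]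
  simp

lemma scale_row_genDet (a : Fin n) :
    scale (fun v : Fin n × Fin n => v.1 = a) (genDet R n) =
      Polynomial.X * Polynomial.C (genDet R n) := by
  rw [ringHom_genDet]
  have h1 : (Matrix.of fun i j : Fin n => scale (fun v : Fin n × Fin n => v.1 = a) (X (R := R) (i, j))) =
      Matrix.of fun i j => (if i = a then Polynomial.X else 1) *
        (Matrix.of fun i j : Fin n => Polynomial.C (X (R := R) (i, j))) i j := by
    ext i j
    simp only [scale, eval₂Hom_X', Matrix.of_apply]
    split_ifs <;> simp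
  rw [h1, Matrix.det_mul_column, ringHom_genDet]
  simp

/-- Evaluation at `diag(T, 1, …, 1)`. -/
noncomputable def evP (i0 : Fin n) : MvPolynomial (Fin n × Fin n) R →+* Polynomial R :=
  eval₂Hom Polynomial.C
    (fun v => Matrix.diagonal (fun i => if i = i0 then Polynomial.X else (1 : Polynomial R)) v.1 v.2)

lemma evP_C (i0 : Fin n) (r : R) : evP i0 (C r) = Polynomial.C r := by
  simp [evP]

lemma evP_genDet (i0 : Fin n) : evP i0 (genDet R n) = (Polynomial.X : Polynomial R) := by
  rw [ringHom_genDet]
  have : (Matrix.of fun i j : Fin n => evP i0 (X (R := R) (i, j))) =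
      Matrix.diagonal (fun i => if i = i0 then Polynomial.X else (1 : Polynomial R)) := by
    ext i j
    simp [evP]
  rw [this, Matrix.det_diagonal]
  simp

lemma genDet_ne_zero [Nontrivial R] (hn : 0 < n) : genDet R n ≠ 0 := by
  intro h
  have := evP_genDet (R := R) (⟨0, hn⟩ : Fin n)
  rw [h, map_zero] at this
  exact Polynomial.X_ne_zero this.symm

end General

section Field

variable {K : Type*} [Field K] {n : ℕ}

/-- The specialisation used to see that the determinant involves `X (a, b)`. -/
noncomputable def theta (a b : Fin n) : MvPolynomial (Fin n × Fin n) K →+* Polynomial K :=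
  eval₂Hom Polynomial.C
    (fun v => Matrix.diagonal (fun i => if i = b then Polynomial.X else (1 : Polynomial K))
      (Equiv.swap a b v.1) v.2)

lemma theta_genDet (a b : Fin n) :
    theta a b (genDet K n) =
      ((Equiv.Perm.sign (Equiv.swap a b) : ℤ) : Polynomial K) * Polynomial.X := by
  rw [ringHom_genDet]
  have : (Matrix.of fun i j : Fin n => theta a b (X (R := K) (i, j))) =
      (Matrix.diagonal (fun i => if i = b then Polynomial.X else (1 : Polynomial K))).submatrix
        (Equiv.swap a b) id := by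
    ext i j
    simp [theta]
  rw [this, Matrix.det_permute, Matrix.det_diagonal]
  simp

lemma theta_natDegree (a b : Fin n) : (theta a b (genDet K n)).natDegree = 1 := by
  rw [theta_genDet]
  rcases Int.units_eq_one_or (Equiv.Perm.sign (Equiv.swap a b)) with h | h <;> rw [h] <;> simp

/-- A ring hom to `K[X]` which sends constants to constants and variables to constants
sends everything to constants. -/
lemma exists_eq_C_of_forall {σ : Type*} (f : MvPolynomial σ K →+* Polynomial K)
    (hC : ∀ r, ∃ c, f (C r) = Polynomial.C c) (hX : ∀ v, ∃ c, f (X v) = Polynomial.C c)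
    (p : MvPolynomial σ K) : ∃ c, f p = Polynomial.C c := by
  induction p using MvPolynomial.induction_on with
  | C r => exact hC r
  | add p q hp hq =>
    obtain ⟨c, hc⟩ := hp
    obtain ⟨d, hd⟩ := hq
    exact ⟨c + d, by rw [map_add, hc, hd, map_add]⟩
  | mul_X p v hp =>
    obtain ⟨c, hc⟩ := hp
    obtain ⟨d, hd⟩ := hX v
    exact ⟨c * d, by rw [map_mul, hc, hd, map_mul]⟩

lemma theta_zero_row (a b : Fin n) (p : MvPolynomial (Fin n × Fin n) K) :
    ∃ c, theta a b (zero (fun v : Fin n × Fin n => v.1 = a) p) = Polynomial.C c := by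
  refine exists_eq_C_of_forall ((theta a b).comp (zero (fun v : Fin n × Fin n => v.1 = a)))
    (fun r => ⟨r, by simp [theta, zero]⟩) (fun v => ?_) p
  simp only [RingHom.comp_apply, zero, eval₂Hom_X']
  split_ifs with h
  · exact ⟨0, by simp⟩
  · simp only [theta, eval₂Hom_X', Matrix.diagonal_apply]
    have h2 : Equiv.swap a b v.1 ≠ b := by
      intro h3
      apply h
      have := congrArg (Equiv.swap a b) h3
      simpa using this
    split_ifs
    · exact ⟨1, by simp⟩
    · exact ⟨0, by simp⟩

lemma theta_zero_col (a b : Fin n) (p : MvPolynomial (Fin n × Fin n) K) :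
    ∃ c, theta a b (zero (fun v : Fin n × Fin n => v.2 = b) p) = Polynomial.C c := by
  refine exists_eq_C_of_forall ((theta a b).comp (zero (fun v : Fin n × Fin n => v.2 = b)))
    (fun r => ⟨r, by simp [theta, zero]⟩) (fun v => ?_) p
  simp only [RingHom.comp_apply, zero, eval₂Hom_X']
  split_ifs with h
  · exact ⟨0, by simp⟩
  · simp only [theta, eval₂Hom_X', Matrix.diagonal_apply]
    split_ifs with h1 h2
    · exact absurd (h1 ▸ h2) h
    · exact ⟨1, by simp⟩
    · exact ⟨0, by simp⟩

/-- Zeroing the rows in a finset. -/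
lemma zero_rows_eq (h : MvPolynomial (Fin n × Fin n) K)
    (hh : ∀ a, zero (fun v : Fin n × Fin n => v.1 = a) h = h) (s : Finset (Fin n)) :
    zero (fun v : Fin n × Fin n => v.1 ∈ s) h = h := by
  induction s using Finset.induction_on with
  | empty =>
    have : zero (R := K) (fun v : Fin n × Fin n => v.1 ∈ (∅ : Finset (Fin n))) = RingHom.id _ := by
      apply MvPolynomial.ringHom_ext
      · intro r; simp [zero]
      · intro v; simp [zero]
    rw [this]; rfl
  | insert a s ha ih =>
    have : zero (R := K) (fun v : Fin n × Fin n => v.1 ∈ insert a s) =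
        (zero (fun v : Fin n × Fin n => v.1 = a)).comp (zero (fun v : Fin n × Fin n => v.1 ∈ s)) := by
      apply MvPolynomial.ringHom_ext
      · intro r; simp [zero]
      · intro v
        simp only [zero, eval₂Hom_X', RingHom.comp_apply, Finset.mem_insert]
        by_cases h1 : v.1 ∈ s
        · simp [h1]
        · by_cases h2 : v.1 = a
          · simp [h2, ha]
          · simp [h1, h2]
    rw [this, RingHom.comp_apply, ih, hh]

lemma zero_univ (h : MvPolynomial (Fin n × Fin n) K) :
    zero (fun v : Fin n × Fin n => v.1 ∈ (Finset.univ : Finset (Fin n))) h =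
      C (eval (fun _ => 0) h) := by
  have : zero (R := K) (fun v : Fin n × Fin n => v.1 ∈ (Finset.univ : Finset (Fin n))) =
      (C).comp (eval (fun _ => 0)) := by
    apply MvPolynomial.ringHom_ext
    · intro r; simp [zero]
    · intro v; simp [zero]
  rw [this]; rfl

lemma isUnit_of_factor_aux (hn : 0 < n) (g h : MvPolynomial (Fin n × Fin n) K)
    (hgh : genDet K n = g * h)
    (hc : (scale (fun v : Fin n × Fin n => v.2 = (⟨0, hn⟩ : Fin n)) h).natDegree = 0) :
    IsUnit h := by
  have hD := genDet_ne_zero (R := K) hn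
  have hg0 : g ≠ 0 := by rintro rfl; simp at hgh; exact hD hgh
  have hh0 : h ≠ 0 := by rintro rfl; simp at hgh; exact hD hgh
  set b : Fin n := ⟨0, hn⟩
  have hzc := zero_eq_of_natDegree_scale _ h hc
  have hrow : ∀ a, zero (fun v : Fin n × Fin n => v.1 = a) h = h := by
    intro a
    apply zero_eq_of_natDegree_scale
    have h1 := congrArg Polynomial.natDegree
      (congrArg (scale (fun v : Fin n × Fin n => v.1 = a)) hgh)
    rw [scale_row_genDet, map_mul, Polynomial.natDegree_mul
      ((map_ne_zero_iff _ (scale_injective _)).mpr hg0)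
      ((map_ne_zero_iff _ (scale_injective _)).mpr hh0),
      Polynomial.natDegree_X_mul (by simpa using hD), Polynomial.natDegree_C] at h1
    by_contra h2
    have h3 : (scale (fun v : Fin n × Fin n => v.1 = a) g).natDegree = 0 := by omega
    have hzr := zero_eq_of_natDegree_scale _ g h3
    have h4 := congrArg (theta a b) hgh
    rw [map_mul, ← hzr, ← hzc] at h4
    obtain ⟨c1, hc1⟩ := theta_zero_row a b g
    obtain ⟨c2, hc2⟩ := theta_zero_col a b h
    rw [hc1, hc2, ← map_mul] at h4
    have h5 := theta_natDegree (K := K) a b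
    rw [h4, Polynomial.natDegree_C] at h5
    exact zero_ne_one h5
  have h6 := zero_rows_eq h hrow Finset.univ
  rw [zero_univ] at h6
  rw [← h6]
  have : eval (fun _ => 0) h ≠ 0 := by
    intro h7; rw [h7, map_zero] at h6; exact hh0 h6.symm
  exact (isUnit_iff_ne_zero.mpr this).map C

theorem irreducible_genDet (hn : 0 < n) : Irreducible (genDet K n) := by
  have hD := genDet_ne_zero (R := K) hn
  refine ⟨?_, ?_⟩
  · intro hu
    obtain ⟨r, _, hr⟩ := (MvPolynomial.isUnit_iff_eq_C_of_isReduced).mp hu
    have := evP_genDet (R := K) (⟨0, hn⟩ : Fin n)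
    rw [hr, evP_C] at this
    have h2 := congrArg Polynomial.natDegree this
    simp at h2
  · intro g h hgh
    have hg0 : g ≠ 0 := by rintro rfl; simp at hgh; exact hD hgh
    have hh0 : h ≠ 0 := by rintro rfl; simp at hgh; exact hD hgh
    have h1 := congrArg Polynomial.natDegree
      (congrArg (scale (fun v : Fin n × Fin n => v.2 = (⟨0, hn⟩ : Fin n))) hgh)
    rw [scale_col_genDet, map_mul, Polynomial.natDegree_mul
      ((map_ne_zero_iff _ (scale_injective _)).mpr hg0)
      ((map_ne_zero_iff _ (scale_injective _)).mpr hh0),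
      Polynomial.natDegree_X_mul (by simpa using hD), Polynomial.natDegree_C] at h1
    by_cases h2 : (scale (fun v : Fin n × Fin n => v.2 = (⟨0, hn⟩ : Fin n)) h).natDegree = 0
    · exact Or.inr (isUnit_of_factor_aux hn g h hgh h2)
    · have h3 : (scale (fun v : Fin n × Fin n => v.2 = (⟨0, hn⟩ : Fin n)) g).natDegree = 0 := by
        omega
      exact Or.inl (isUnit_of_factor_aux hn h g (by rw [hgh, mul_comm]) h3)

theorem prime_genDet (hn : 0 < n) : Prime (genDet K n) :=
  (irreducible_genDet hn).prime

end Field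

section Units

open LaurentPolynomial

variable {A : Type*} [CommRing A] {n : ℕ}

/-- The unit `T` of the Laurent polynomial ring. -/
noncomputable def Tunit (A : Type*) [CommRing A] : (LaurentPolynomial A)ˣ :=
  ⟨T 1, T (-1), by rw [← T_add]; simp, by rw [← T_add]; simp⟩

lemma Tunit_zpow (e : ℤ) : ((Tunit A ^ e : (LaurentPolynomial A)ˣ) : LaurentPolynomial A) = T e := by
  induction e using Int.induction_on with
  | zero => simp
  | succ k ih => rw [zpow_add_one, Units.val_mul, ih, T_add]; rfl
  | pred k ih => rw [zpow_sub_one, Units.val_mul, ih, sub_eq_add_neg, T_add]; rfl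

/-- The unit `det` of the coordinate ring of `GL_n`. -/
noncomputable def unitD (A : Type*) [CommRing A] (n : ℕ) : (Localization.Away (genDet A n))ˣ :=
  (IsLocalization.Away.algebraMap_isUnit (S := Localization.Away (genDet A n)) (genDet A n)).unit

/-- The map `(a, e) ↦ a · det ^ e`. -/
noncomputable def Psi (p : Aˣ × ℤ) : (Localization.Away (genDet A n))ˣ :=
  Units.map (algebraMap A (Localization.Away (genDet A n))).toMonoidHom p.1 * unitD A n ^ p.2

/-- Evaluation of the coordinate ring of `GL_n` at `diag(T, 1, …, 1)`. -/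
noncomputable def evL (i0 : Fin n) : Localization.Away (genDet A n) →+* LaurentPolynomial A :=
  IsLocalization.Away.lift (genDet A n) (g := (Polynomial.toLaurent).comp (evP i0))
    (by rw [RingHom.comp_apply, evP_genDet, Polynomial.toLaurent_X]; exact isUnit_T 1)

lemma evL_algebraMap (i0 : Fin n) (p : MvPolynomial (Fin n × Fin n) A) :
    evL i0 (algebraMap _ _ p) = Polynomial.toLaurent (evP i0 p) :=
  IsLocalization.Away.lift_eq _ _ _

lemma evL_algebraMap' (i0 : Fin n) (a : A) :
    evL i0 (algebraMap A _ a) = LaurentPolynomial.C a := by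
  rw [IsScalarTower.algebraMap_apply A (MvPolynomial (Fin n × Fin n) A), evL_algebraMap,
    MvPolynomial.algebraMap_eq, evP_C, Polynomial.toLaurent_C]

lemma evL_unitD_zpow (i0 : Fin n) (e : ℤ) :
    evL i0 ((unitD A n ^ e : (Localization.Away (genDet A n))ˣ) :
      Localization.Away (genDet A n)) = T e := by
  have h1 : Units.map (evL (A := A) i0).toMonoidHom (unitD A n) = Tunit A := by
    apply Units.ext
    simp only [Units.coe_map, unitD, IsUnit.unit_spec, RingHom.toMonoidHom_eq_coe,
      MonoidHom.coe_coe, Tunit]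
    rw [evL_algebraMap, evP_genDet, Polynomial.toLaurent_X]
  rw [← Tunit_zpow, ← h1, ← map_zpow]
  rfl

lemma evL_Psi (i0 : Fin n) (p : Aˣ × ℤ) :
    evL i0 ((Psi (n := n) p : (Localization.Away (genDet A n))ˣ) :
      Localization.Away (genDet A n)) = AddMonoidAlgebra.single p.2 (p.1 : A) := by
  rw [Psi, Units.val_mul, map_mul, evL_unitD_zpow, single_eq_C_mul_T]
  congr 1
  exact evL_algebraMap' i0 _

lemma Psi_injective [Nontrivial A] (hn : 0 < n) : Function.Injective (Psi (A := A) (n := n)) := by
  intro p q h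
  have h1 := congrArg (fun u : (Localization.Away (genDet A n))ˣ =>
    (evL (⟨0, hn⟩ : Fin n) (u : Localization.Away (genDet A n))).coeff) h
  simp only [evL_Psi, AddMonoidAlgebra.coeff_single] at h1
  rcases (Finsupp.single_eq_single_iff _ _ _ _).mp h1 with ⟨h2, h3⟩ | ⟨h2, _⟩
  · exact Prod.ext (Units.ext h3) h2
  · exact absurd h2 p.1.ne_zero

lemma not_surjective_of_not_isReduced [Nontrivial A] (hn : 0 < n) (hred : ¬ IsReduced A) :
    ¬ Function.Surjective (Psi (A := A) (n := n)) := by
  intro hsurj
  rw [isReduced_iff_pow_one_lt 2 one_lt_two] at hred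
  push Not at hred
  obtain ⟨ε, hε2, hε⟩ := hred
  set i0 : Fin n := ⟨0, hn⟩
  let w : (MvPolynomial (Fin n × Fin n) A)ˣ :=
    ⟨1 + MvPolynomial.C ε * X (i0, i0), 1 - MvPolynomial.C ε * X (i0, i0), by
      have : (MvPolynomial.C ε : MvPolynomial (Fin n × Fin n) A) ^ 2 = 0 := by
        rw [← map_pow, hε2, map_zero]
      linear_combination (-(X (i0, i0) : MvPolynomial (Fin n × Fin n) A) ^ 2) * this, by
      have : (MvPolynomial.C ε : MvPolynomial (Fin n × Fin n) A) ^ 2 = 0 := by
        rw [← map_pow, hε2, map_zero]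
      linear_combination (-(X (i0, i0) : MvPolynomial (Fin n × Fin n) A) ^ 2) * this⟩
  obtain ⟨p, hp⟩ := hsurj (Units.map (algebraMap (MvPolynomial (Fin n × Fin n) A)
    (Localization.Away (genDet A n))).toMonoidHom w)
  have h1 := congrArg (fun u : (Localization.Away (genDet A n))ˣ =>
    (evL i0 (u : Localization.Away (genDet A n)))) hp
  simp only [evL_Psi, Units.coe_map, RingHom.toMonoidHom_eq_coe, MonoidHom.coe_coe, w] at h1
  rw [evL_algebraMap, map_add, map_one, map_mul, evP_C] at h1
  have h2 : evP i0 (X (R := A) (i0, i0)) = Polynomial.X := by simp [evP]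
  rw [h2, map_add, map_one, map_mul, Polynomial.toLaurent_C, Polynomial.toLaurent_X,
    ← single_eq_C_mul_T, ← single_zero_one_eq_one] at h1
  have h3 := congrArg (fun f => f.coeff 0) h1
  have h4 := congrArg (fun f => f.coeff 1) h1
  simp only [AddMonoidAlgebra.coeff_add, AddMonoidAlgebra.coeff_single, Finsupp.add_apply,
    Finsupp.single_apply] at h3 h4
  by_cases he : p.2 = 0
  · rw [he] at h4
    simp at h4
    exact hε h4.symm
  · simp [he] at h3

/-- In a reduced ring with only trivial idempotents: a polynomial which has exactly one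
coefficient outside each prime ideal is a unit times a power of `X`. -/
lemma exists_unit_coeff [Nontrivial A] [IsReduced A]
    (hconn : ∀ e : A, IsIdempotentElem e → e = 0 ∨ e = 1) (f : Polynomial A)
    (hf : ∀ p : Ideal A, p.IsPrime → ∃ j, f.coeff j ∉ p ∧ ∀ j', j' ≠ j → f.coeff j' ∈ p) :
    ∃ j₀, IsUnit (f.coeff j₀) ∧ ∀ j, j ≠ j₀ → f.coeff j = 0 := by
  have hprod : ∀ i j, i ≠ j → f.coeff i * f.coeff j = 0 := by
    intro i j hij
    apply IsNilpotent.eq_zero
    rw [nilpotent_iff_mem_prime]
    intro p hp
    obtain ⟨j₁, _, h2⟩ := hf p hp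
    by_cases hi : i = j₁
    · exact p.mul_mem_left _ (h2 j (by rw [← hi]; exact hij.symm))
    · exact p.mul_mem_right _ (h2 i hi)
  have hspan : Ideal.span (Set.range fun i : Fin (f.natDegree + 1) => f.coeff i) = ⊤ := by
    by_contra hne
    obtain ⟨m, hm, hle⟩ := Ideal.exists_le_maximal _ hne
    obtain ⟨j, hj, _⟩ := hf m hm.isPrime
    apply hj
    have hj0 : f.coeff j ≠ 0 := fun h0 => hj (h0 ▸ m.zero_mem)
    have hjle := Polynomial.le_natDegree_of_ne_zero hj0
    exact hle (Ideal.subset_span ⟨⟨j, by omega⟩, rfl⟩)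
  have h1 : (1 : A) ∈ Ideal.span (Set.range fun i : Fin (f.natDegree + 1) => f.coeff i) := by
    rw [hspan]; trivial
  rw [Ideal.mem_span_range_iff_exists_fun] at h1
  obtain ⟨c, hc⟩ := h1
  have hidem : ∀ i : Fin (f.natDegree + 1), IsIdempotentElem (c i * f.coeff i) := by
    intro i
    have : c i * f.coeff i * 1 = c i * f.coeff i * (c i * f.coeff i) := by
      rw [← hc, Finset.mul_sum]
      apply Finset.sum_eq_single i
      · intro j _ hji
        have := hprod i j (fun h => hji (Fin.ext h).symm)
        linear_combination (c i * c j) * this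
      · intro h; exact absurd (Finset.mem_univ i) h
    rw [IsIdempotentElem]
    rw [mul_one] at this
    exact this.symm
  have hex : ∃ i : Fin (f.natDegree + 1), c i * f.coeff i = 1 := by
    by_contra hno
    push Not at hno
    have : ∀ i : Fin (f.natDegree + 1), c i * f.coeff i = 0 := fun i =>
      (hconn _ (hidem i)).resolve_right (hno i)
    rw [Finset.sum_eq_zero (fun i _ => this i)] at hc
    exact zero_ne_one hc
  obtain ⟨i₀, hi₀⟩ := hex
  refine ⟨i₀, IsUnit.of_mul_eq_one_right _ hi₀, ?_⟩
  intro j hj
  have := hprod j i₀ hj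
  calc f.coeff j = f.coeff j * (c i₀ * f.coeff i₀) := by rw [hi₀, mul_one]
    _ = c i₀ * (f.coeff j * f.coeff i₀) := by ring
    _ = 0 := by rw [this, mul_zero]

lemma map_genDet {B : Type*} [CommRing B] (π : A →+* B) :
    MvPolynomial.map π (genDet A n) = genDet B n := by
  rw [ringHom_genDet]
  simp only [map_X]
  rfl

lemma map_evP {B : Type*} [CommRing B] (π : A →+* B) (i0 : Fin n)
    (F : MvPolynomial (Fin n × Fin n) A) :
    Polynomial.map π (evP i0 F) = evP i0 (MvPolynomial.map π F) := by
  have : (Polynomial.mapRingHom π).comp (evP (R := A) i0) =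
      (evP i0).comp (MvPolynomial.map π) := by
    apply MvPolynomial.ringHom_ext
    · intro r; simp [evP]
    · intro v
      simp only [evP, RingHom.comp_apply, eval₂Hom_X', map_X, Matrix.diagonal_apply,
        Polynomial.coe_mapRingHom]
      split_ifs <;> simp
  exact congrFun (congrArg DFunLike.coe this) F

/-- Over a field, a divisor of a power of the determinant is a constant times a power of
the determinant. -/
lemma eq_C_mul_pow_of_mul_eq {K : Type*} [Field K] (hn : 0 < n)
    (F G : MvPolynomial (Fin n × Fin n) K) (M : ℕ) (h : F * G = genDet K n ^ M) :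
    ∃ (i : ℕ) (c : K), c ≠ 0 ∧ F = MvPolynomial.C c * genDet K n ^ i := by
  obtain ⟨i, _, u, hu⟩ := (dvd_prime_pow (prime_genDet (K := K) hn) M).mp ⟨G, h.symm⟩
  obtain ⟨r, hr, hr2⟩ := (MvPolynomial.isUnit_iff_eq_C_of_isReduced).mp u.isUnit
  refine ⟨i, r⁻¹, inv_ne_zero hr.ne_zero, ?_⟩
  rw [← hu, hr2, mul_comm F, ← mul_assoc, ← map_mul, inv_mul_cancel₀ hr.ne_zero, map_one, one_mul]

/-- Key step: a divisor of a power of the determinant over a reduced connected ring. -/
lemma eq_C_mul_pow_of_mul_eq_of_isReduced [Nontrivial A] [IsReduced A]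
    (hconn : ∀ e : A, IsIdempotentElem e → e = 0 ∨ e = 1) (hn : 0 < n)
    (F G : MvPolynomial (Fin n × Fin n) A) (M : ℕ) (h : F * G = genDet A n ^ M) :
    ∃ (i : ℕ) (a : Aˣ), F = MvPolynomial.C (a : A) * genDet A n ^ i := by
  set i0 : Fin n := ⟨0, hn⟩
  -- the local statement at each prime
  have hloc : ∀ p : Ideal A, ∀ _ : p.IsPrime, ∃ (i : ℕ) (c : p.ResidueField), c ≠ 0 ∧
      MvPolynomial.map (algebraMap A p.ResidueField) F =
        MvPolynomial.C c * genDet p.ResidueField n ^ i := by
    intro p _
    apply eq_C_mul_pow_of_mul_eq hn _ (MvPolynomial.map (algebraMap A p.ResidueField) G) M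
    rw [← map_mul, h, map_pow, map_genDet]
  have hcoeff : ∀ p : Ideal A, ∀ _ : p.IsPrime, ∀ (i : ℕ) (c : p.ResidueField),
      MvPolynomial.map (algebraMap A p.ResidueField) F =
        MvPolynomial.C c * genDet p.ResidueField n ^ i →
      ∀ j, algebraMap A p.ResidueField ((evP i0 F).coeff j) = if j = i then c else 0 := by
    intro p _ i c hic j
    rw [← Polynomial.coeff_map, map_evP, hic, map_mul, map_pow, evP_C, evP_genDet,
      Polynomial.coeff_C_mul_X_pow]
  obtain ⟨j₀, hj₀, hj₀'⟩ := exists_unit_coeff hconn (evP i0 F) (by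
    intro p hp
    obtain ⟨i, c, hc, hic⟩ := hloc p hp
    refine ⟨i, ?_, ?_⟩
    · rw [← Ideal.algebraMap_residueField_eq_zero, hcoeff p hp i c hic i, if_pos rfl]
      exact hc
    · intro j' hj'
      rw [← Ideal.algebraMap_residueField_eq_zero, hcoeff p hp i c hic j', if_neg hj'])
  refine ⟨j₀, hj₀.unit, ?_⟩
  rw [IsUnit.unit_spec]
  rw [← sub_eq_zero]
  ext m
  rw [coeff_zero]
  apply IsNilpotent.eq_zero
  rw [nilpotent_iff_mem_prime]
  intro p hp
  obtain ⟨i, c, hc, hic⟩ := hloc p hp
  have h1 := hcoeff p hp i c hic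
  have hi : i = j₀ := by
    by_contra hne
    have := h1 i
    rw [if_pos rfl, hj₀' i hne, map_zero] at this
    exact hc this.symm
  have hc2 : c = algebraMap A p.ResidueField ((evP i0 F).coeff j₀) := by
    have := h1 j₀
    rw [if_pos hi.symm] at this
    exact this.symm
  rw [← Ideal.algebraMap_residueField_eq_zero, ← MvPolynomial.coeff_map, map_sub, hic, map_mul,
    map_pow, map_genDet, map_C, hi, hc2, sub_self, coeff_zero]

theorem Psi_surjective_of_isReduced [Nontrivial A] [IsReduced A]
    (hconn : ∀ e : A, IsIdempotentElem e → e = 0 ∨ e = 1) (hn : 0 < n) :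
    Function.Surjective (Psi (A := A) (n := n)) := by
  intro u
  obtain ⟨⟨F₀, d₁⟩, h1⟩ := IsLocalization.surj (Submonoid.powers (genDet A n))
    (u : Localization.Away (genDet A n))
  obtain ⟨⟨G₀, d₂⟩, h2⟩ := IsLocalization.surj (Submonoid.powers (genDet A n))
    ((u⁻¹ : (Localization.Away (genDet A n))ˣ) : Localization.Away (genDet A n))
  obtain ⟨m₁, hm₁⟩ := (Submonoid.mem_powers_iff _ _).mp d₁.2
  obtain ⟨m₂, hm₂⟩ := (Submonoid.mem_powers_iff _ _).mp d₂.2
  simp only at h1 h2
  rw [← hm₁] at h1
  rw [← hm₂] at h2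
  have h3 : algebraMap (MvPolynomial (Fin n × Fin n) A) (Localization.Away (genDet A n))
      (F₀ * G₀) = algebraMap _ _ (genDet A n ^ (m₁ + m₂)) := by
    rw [map_mul, ← h1, ← h2, pow_add, map_mul]
    have : (u : Localization.Away (genDet A n)) * ((u⁻¹ : (Localization.Away (genDet A n))ˣ) :
      Localization.Away (genDet A n)) = 1 := by simp
    linear_combination (algebraMap (MvPolynomial (Fin n × Fin n) A)
      (Localization.Away (genDet A n)) (genDet A n ^ m₁) * algebraMap _ _ (genDet A n ^ m₂)) * this
  obtain ⟨⟨_, k, rfl⟩, hk⟩ := (IsLocalization.eq_iff_exists (Submonoid.powers (genDet A n)) _).mp h3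
  simp only at hk
  obtain ⟨i, a, hia⟩ := eq_C_mul_pow_of_mul_eq_of_isReduced hconn hn (genDet A n ^ k * F₀) G₀
    (k + (m₁ + m₂)) (by rw [mul_assoc, hk]; ring)
  refine ⟨(a, (i : ℤ) - ((k + m₁ : ℕ) : ℤ)), ?_⟩
  rw [Psi, zpow_sub, zpow_natCast, zpow_natCast, ← mul_assoc, mul_inv_eq_iff_eq_mul]
  apply Units.ext
  simp only [Units.val_mul, Units.val_pow_eq_pow_val, Units.coe_map, unitD, IsUnit.unit_spec,
    RingHom.toMonoidHom_eq_coe, MonoidHom.coe_coe]
  rw [pow_add, ← mul_assoc, mul_right_comm, ← map_pow _ _ m₁, h1, ← map_pow, ← map_pow, ← map_mul,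
    mul_comm F₀, hia, map_mul, IsScalarTower.algebraMap_apply A (MvPolynomial (Fin n × Fin n) A),
    MvPolynomial.algebraMap_eq]

end Units

end Groth.Agent.Lib.Helper59.GLnUnits
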