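import Mathlib
import Groth.Agent.S15608
import Groth.Agent.Lib.Helper19.Grp.RationalClosure
import Groth.Agent.Lib.Helper51.GeomIrr
import Groth.Agent.Lib.Helper51.GeomRed
import Groth.Agent.Lib.Helper72.AlgClosedLift
import Groth.Agent.Lib.Helper59.MaxAb

/-!
# The abelian subvariety generated by an irreducible closed subset (algebraically closed field)
-/

set_option autoImplicit false
set_option linter.style.haveILetI false
universe u
open CategoryTheory CategoryTheory.Limits MonoidalCategory CartesianMonoidalCategory MonObj GrpObj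
  AlgebraicGeometry

namespace Groth.Agent.Lib.Helper59.GenAb

variable {k : Type u} [Field k]

/-- an irreducible scheme over a separably closed field is geometrically irreducible -/
theorem geomIrr_of_irreducible [IsSepClosed k] {X : Scheme.{u}} (f : X ⟶ Spec (CommRingCat.of k))
    [IrreducibleSpace X] : GeometricallyIrreducible f := by
  refine ⟨?_⟩
  rw [geometrically_iff_of_commRing_of_isClosedUnderIsomorphisms]
  intro K _ _
  haveI := Groth.Agent.Lib.Helper51.geometricallyIrreducible_specMap_of_isSepClosed k K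
  haveI : UniversallyOpen (Spec.map (CommRingCat.ofHom (algebraMap k K))) := inferInstance
  infer_instance

/-- the source of a closed embedding with irreducible range is irreducible -/
theorem irreducibleSpace_of_range {X Y : Type*} [TopologicalSpace X] [TopologicalSpace Y]
    {g : X → Y} (hg : Topology.IsEmbedding g) (h : IsIrreducible (Set.range g)) :
    IrreducibleSpace X := by
  haveI := isIrreducible_iff_irreducibleSpace.mp h
  exact hg.toHomeomorph.irreducibleSpace_iff.mpr inferInstance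

/-- rational points lift along a morphism locally of finite type whenever the point is in the range
(algebraically closed field) -/
theorem exists_lift_of_mem_range [IsAlgClosed k] {X Y : Scheme.{u}} (m : X ⟶ Y)
    [LocallyOfFiniteType m] (y : Spec (CommRingCat.of k) ⟶ Y)
    (hy : y (IsLocalRing.closedPoint k) ∈ Set.range m) :
    ∃ x : Spec (CommRingCat.of k) ⟶ X, x ≫ m = y := by
  obtain ⟨x₀, hx₀⟩ := hy
  haveI : Nonempty ↥(pullback m y) := by
    obtain ⟨p, -⟩ := Scheme.Pullback.exists_preimage_pullback (f := m) (g := y) x₀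
      (IsLocalRing.closedPoint k) hx₀
    exact ⟨p⟩
  obtain ⟨s, hs⟩ := Groth.Agent.Lib.Helper72.AlgClosedLift.exists_section (pullback.snd m y)
  refine ⟨s ≫ pullback.fst m y, ?_⟩
  rw [Category.assoc, pullback.condition, reassoc_of% hs]

section Main

variable [IsAlgClosed k] (A : Over (Spec (CommRingCat.of k))) [GrpObj A] [IsProper A.hom]
  {G : Type*} [Group G] (f : (𝟙_ (Over (Spec (CommRingCat.of k))) ⟶ A) →* G)

/-- admissible closed integral subschemes through the unit all of whose rational points are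
killed by `f` -/
structure Adm (W : Over (Spec (CommRingCat.of k))) (j : W ⟶ A) : Prop where
  ci : IsClosedImmersion j.left
  int : IsIntegral W.left
  unit : ∃ e : 𝟙_ (Over (Spec (CommRingCat.of k))) ⟶ W, e ≫ j = η[A]
  ker : ∀ c : 𝟙_ (Over (Spec (CommRingCat.of k))) ⟶ W, f (c ≫ j) = 1

/-- the reduced closed subscheme on a closed irreducible subset, as an object over `k` -/
theorem exists_reduced_structure (Z : Set A.left) (hZc : IsClosed Z) (hZi : IsIrreducible Z) :
    ∃ (W : Over (Spec (CommRingCat.of k))) (j : W ⟶ A), IsClosedImmersion j.left ∧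
      IsIntegral W.left ∧ Set.range j.left = Z := by
  let Zc : TopologicalSpace.Closeds A.left := ⟨Z, hZc⟩
  let I := Scheme.IdealSheafData.vanishingIdeal Zc
  let ι₀ : I.subscheme ⟶ A.left := I.subschemeι
  haveI : IsReduced I.subscheme := Groth.Agent.Lib.Helper19.isReduced_subscheme_vanishingIdeal' Zc
  have hrange : Set.range ι₀ = Z := by
    rw [Scheme.IdealSheafData.range_subschemeι, Scheme.IdealSheafData.coe_support_vanishingIdeal]
    rfl
  let W : Over (Spec (CommRingCat.of k)) := Over.mk (ι₀ ≫ A.hom)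
  let j : W ⟶ A := Over.homMk ι₀ rfl
  haveI : IrreducibleSpace I.subscheme :=
    irreducibleSpace_of_range ι₀.isClosedEmbedding.isEmbedding (hrange ▸ hZi)
  refine ⟨W, j, inferInstanceAs (IsClosedImmersion ι₀), ?_, hrange⟩
  change IsIntegral I.subscheme
  exact isIntegral_of_irreducibleSpace_of_isReduced _

/-- lifting a rational point through a closed immersion -/
theorem exists_lift_point {W : Over (Spec (CommRingCat.of k))} (j : W ⟶ A)
    [IsClosedImmersion j.left] [IsReduced W.left]
    (a : 𝟙_ (Over (Spec (CommRingCat.of k))) ⟶ A) (ha : Set.range a.left ⊆ Set.range j.left) :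
    ∃ c : 𝟙_ (Over (Spec (CommRingCat.of k))) ⟶ W, c ≫ j = a := by
  haveI : IsReduced (𝟙_ (Over (Spec (CommRingCat.of k)))).left :=
    inferInstanceAs (IsReduced (Spec (CommRingCat.of k)))
  obtain ⟨l, hl⟩ := MaxAb.exists_lift_of_range_subset j.left a.left ha
  have hw : l ≫ W.hom = (𝟙_ (Over (Spec (CommRingCat.of k)))).hom := by
    rw [← Over.w j, ← Category.assoc, hl, Over.w a]
  exact ⟨Over.homMk l hw, by ext; simpa using hl⟩

/-- the sum of two admissible subschemes -/
theorem exists_sum {W₁ W₂ : Over (Spec (CommRingCat.of k))} {j₁ : W₁ ⟶ A} {j₂ : W₂ ⟶ A}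
    (h₁ : Adm A f W₁ j₁) (h₂ : Adm A f W₂ j₂) :
    ∃ (W : Over (Spec (CommRingCat.of k))) (j : W ⟶ A), Adm A f W j ∧
      Set.range j.left = Set.range ((fst W₁ W₂ ≫ j₁) * (snd W₁ W₂ ≫ j₂)⁻¹).left := by
  haveI := h₁.ci
  haveI := h₂.ci
  haveI := h₁.int
  haveI := h₂.int
  let m : W₁ ⊗ W₂ ⟶ A := (fst W₁ W₂ ≫ j₁) * (snd W₁ W₂ ≫ j₂)⁻¹
  haveI : IsProper W₁.hom := by rw [← Over.w j₁]; infer_instance
  haveI : IsProper W₂.hom := by rw [← Over.w j₂]; infer_instance
  haveI : IsProper (W₁ ⊗ W₂).hom := by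
    change IsProper (pullback.fst W₁.hom W₂.hom ≫ W₁.hom); infer_instance
  haveI : IsProper (m.left ≫ A.hom) := by rw [Over.w m]; infer_instance
  haveI : IsProper m.left := IsProper.of_comp m.left A.hom
  have hZc : IsClosed (Set.range m.left) := m.left.isClosedMap.isClosed_range
  haveI : IrreducibleSpace ↥(W₁ ⊗ W₂).left := by
    change IrreducibleSpace ↥(pullback W₁.hom W₂.hom)
    haveI : GeometricallyIrreducible W₁.hom := geomIrr_of_irreducible W₁.hom
    haveI : Flat W₁.hom := inferInstance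
    haveI : LocallyOfFinitePresentation W₁.hom := SetRigid.lfp_of_lft W₁.hom
    infer_instance
  have hZi : IsIrreducible (Set.range m.left) := by
    rw [← Set.image_univ]
    exact (IrreducibleSpace.isIrreducible_univ _).image m.left m.left.continuous.continuousOn
  obtain ⟨W, j, hci, hint, hrange⟩ := exists_reduced_structure A _ hZc hZi
  haveI := hci
  haveI := hint
  obtain ⟨e₁, he₁⟩ := h₁.unit
  obtain ⟨e₂, he₂⟩ := h₂.unit
  refine ⟨W, j, ⟨hci, hint, ?_, ?_⟩, hrange⟩
  · apply exists_lift_point A j η[A]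
    rw [hrange]
    rintro _ ⟨pt, rfl⟩
    have hη : (η[A] : 𝟙_ (Over (Spec (CommRingCat.of k))) ⟶ A) = 1 := by
      rw [Hom.one_def, toUnit_unique (toUnit _) (𝟙 _), Category.id_comp]
    have hcomp : lift e₁ e₂ ≫ m = η[A] := by
      simp only [m, comp_mul, GrpObj.comp_inv, lift_fst_assoc, lift_snd_assoc, he₁, he₂]
      rw [hη, inv_one, _root_.mul_one]
    refine ⟨(lift e₁ e₂).left pt, ?_⟩
    rw [← Scheme.Hom.comp_apply, ← Over.comp_left, hcomp]
  · intro c
    have hc : (c ≫ j).left.base (IsLocalRing.closedPoint k) ∈ Set.range m.left := by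
      rw [← hrange]
      exact ⟨c.left (IsLocalRing.closedPoint k), by simp⟩
    obtain ⟨x, hx⟩ := exists_lift_of_mem_range m.left (c ≫ j).left hc
    have hw : x ≫ (W₁ ⊗ W₂).hom = (𝟙_ (Over (Spec (CommRingCat.of k)))).hom := by
      rw [← Over.w m, ← Category.assoc, hx, Over.w (c ≫ j)]
    let c' : 𝟙_ (Over (Spec (CommRingCat.of k))) ⟶ W₁ ⊗ W₂ := Over.homMk x hw
    have hc' : c' ≫ m = c ≫ j := by ext1; exact hx
    rw [← hc']
    simp only [m, comp_mul, GrpObj.comp_inv, map_mul, map_inv]
    rw [← Category.assoc, ← Category.assoc, h₁.ker, h₂.ker, inv_one, _root_.mul_one]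

omit [IsAlgClosed k] [IsProper A.hom] in
/-- the first summand is contained in the difference set -/
theorem range_subset_diff {W₁ W₂ : Over (Spec (CommRingCat.of k))} (j₁ : W₁ ⟶ A) (j₂ : W₂ ⟶ A)
    (e₂ : 𝟙_ (Over (Spec (CommRingCat.of k))) ⟶ W₂) (he₂ : e₂ ≫ j₂ = η[A]) :
    Set.range j₁.left ⊆ Set.range ((fst W₁ W₂ ≫ j₁) * (snd W₁ W₂ ≫ j₂)⁻¹).left := by
  have h1 : lift (𝟙 W₁) (toUnit W₁ ≫ e₂) ≫ ((fst W₁ W₂ ≫ j₁) * (snd W₁ W₂ ≫ j₂)⁻¹) = j₁ := by
    simp only [comp_mul, GrpObj.comp_inv, lift_fst_assoc, lift_snd_assoc, Category.id_comp,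
      Category.assoc, he₂]
    rw [← Hom.one_def, inv_one, _root_.mul_one]
  rintro _ ⟨w, rfl⟩
  refine ⟨(lift (𝟙 W₁) (toUnit W₁ ≫ e₂)).left w, ?_⟩
  rw [← Scheme.Hom.comp_apply, ← Over.comp_left, h1]

omit [IsAlgClosed k] [GrpObj A] [IsProper A.hom] in
/-- the generic point of an integral closed subscheme -/
theorem exists_generic {W : Over (Spec (CommRingCat.of k))} (j : W ⟶ A)
    [IsClosedImmersion j.left] [IsIntegral W.left] :
    ∃ x : A.left, closure {x} = Set.range j.left := by
  refine ⟨j.left (genericPoint W.left), ?_⟩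
  rw [← Set.image_singleton, j.left.isClosedEmbedding.closure_image_eq,
    (genericPoint_spec W.left).def, Set.image_univ]

theorem main [IsIntegral A.left] (V : Set ↥A.left) (hVcl : IsClosed V) (hVirr : IsIrreducible V)
    (hV1 : Set.range ⇑(η[A]).left ⊆ V)
    (hVker : ∀ a : 𝟙_ (Over (Spec (CommRingCat.of k))) ⟶ A, Set.range ⇑a.left ⊆ V → f a = 1) :
    ∃ (B : Over (Spec (CommRingCat.of k))) (_ : GrpObj B) (incl : B ⟶ A), IsMonHom incl ∧
      IsClosedImmersion incl.left ∧ IsIntegral B.left ∧ V ⊆ Set.range ⇑incl.left ∧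
      ∀ b : 𝟙_ (Over (Spec (CommRingCat.of k))) ⟶ B, f (b ≫ incl) = 1 := by
  haveI : LocallyOfFiniteType A.hom := inferInstance
  haveI : IsLocallyNoetherian A.left := LocallyOfFiniteType.isLocallyNoetherian A.hom
  let U := 𝟙_ (Over (Spec (CommRingCat.of k)))
  let pt : ↥U.left := (IsLocalRing.closedPoint k : PrimeSpectrum k)
  have hpt : ∀ p : ↥U.left, p = pt := fun p => Subsingleton.elim (α := PrimeSpectrum k) _ _
  let e : A.left := η[A].left pt
  -- the reduced structure on `V`
  obtain ⟨WV, jV, hciV, hintV, hrV⟩ := exists_reduced_structure A V hVcl hVirr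
  haveI := hciV
  haveI := hintV
  have hAdmV : Adm A f WV jV := by
    refine ⟨hciV, hintV, ?_, ?_⟩
    · exact exists_lift_point A jV η[A] (by rw [hrV]; exact hV1)
    · intro c
      apply hVker
      rw [← hrV]
      rintro _ ⟨p, rfl⟩
      exact ⟨c.left p, by simp⟩
  let F : Set A.left := {x | ∃ (W : Over (Spec (CommRingCat.of k))) (j : W ⟶ A),
    Adm A f W j ∧ V ⊆ Set.range j.left ∧ closure {x} = Set.range j.left}
  have hF : F.Nonempty := by
    obtain ⟨x, hx⟩ := exists_generic A jV
    exact ⟨x, WV, jV, hAdmV, hrV.ge, hx⟩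
  obtain ⟨x₀, hx₀, hmin⟩ := (MaxAb.wf_gen A.left e).has_min F hF
  obtain ⟨W₀, j₀, hAdm₀, hV₀, hgen₀⟩ := hx₀
  haveI := hAdm₀.ci
  haveI := hAdm₀.int
  obtain ⟨e₀, he₀⟩ := hAdm₀.unit
  set Y : Set A.left := Set.range j₀.left with hY
  let m : W₀ ⊗ W₀ ⟶ A := (fst W₀ W₀ ≫ j₀) * (snd W₀ W₀ ≫ j₀)⁻¹
  -- `Y - Y = Y`
  have hm : Set.range m.left = Y := by
    obtain ⟨W₁, j₁, hAdm₁, hr₁⟩ := exists_sum A f hAdm₀ hAdm₀
    haveI := hAdm₁.ci
    haveI := hAdm₁.int
    have hsub : Y ⊆ Set.range j₁.left := by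
      rw [hr₁]; exact range_subset_diff A j₀ j₀ e₀ he₀
    obtain ⟨x₁, hx₁⟩ := exists_generic A j₁
    have hx₁F : x₁ ∈ F := ⟨W₁, j₁, hAdm₁, hV₀.trans hsub, hx₁⟩
    have hx₀e : x₀ ⤳ e := by
      rw [specializes_iff_mem_closure, hgen₀]
      refine ⟨e₀.left pt, ?_⟩
      rw [← Scheme.Hom.comp_apply, ← Over.comp_left, he₀]
    have hx₁x₀ : x₁ ⤳ x₀ := by
      rw [specializes_iff_mem_closure, hx₁]
      apply hsub
      have hmem : x₀ ∈ closure {x₀} := subset_closure rfl
      rw [hgen₀] at hmem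
      exact hmem
    have heq : x₁ = x₀ := by
      by_contra hne
      exact hmin x₁ hx₁F ⟨hx₁x₀, hne, hx₀e⟩
    rw [← hr₁, ← hx₁, heq, hgen₀]
  -- the subgroup of rational points in `Y`
  have hone : Set.range (1 : U ⟶ A).left ⊆ Y := by
    have hη : (1 : U ⟶ A) = η[A] := by
      rw [Hom.one_def, toUnit_unique (toUnit _) (𝟙 _), Category.id_comp]
    rw [hη]
    exact hV1.trans hV₀
  have hdiv : ∀ a b : U ⟶ A, Set.range a.left ⊆ Y → Set.range b.left ⊆ Y →
      Set.range (a * b⁻¹).left ⊆ Y := by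
    intro a b ha hb
    obtain ⟨ca, hca⟩ := exists_lift_point A j₀ a ha
    obtain ⟨cb, hcb⟩ := exists_lift_point A j₀ b hb
    have h1 : lift ca cb ≫ m = a * b⁻¹ := by
      simp only [m, comp_mul, GrpObj.comp_inv, lift_fst_assoc, lift_snd_assoc, hca, hcb]
    rw [← h1, ← hm]
    rintro _ ⟨p, rfl⟩
    exact ⟨(lift ca cb).left p, by simp⟩
  let Sg : Subgroup (U ⟶ A) :=
    { carrier := {a | Set.range a.left ⊆ Y}
      one_mem' := hone
      mul_mem' := by
        intro a b ha hb
        have h1 : Set.range (b⁻¹).left ⊆ Y := by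
          have := hdiv 1 b hone hb
          rwa [_root_.one_mul] at this
        have := hdiv a b⁻¹ ha h1
        rwa [_root_.inv_inv] at this
      inv_mem' := by
        intro a ha
        have := hdiv 1 a hone ha
        rwa [_root_.one_mul] at this }
  -- `A` is smooth
  haveI : IsReduced A.left := inferInstance
  haveI : GeometricallyReduced A.hom :=
    Groth.Agent.Lib.Helper51.geometricallyReduced_of_perfectField A.hom
  haveI : Smooth A.hom := MaxAb.smooth_of_gred A
  obtain ⟨H, instH, i, hi, hcl, hsm, hrange⟩ := Groth.Agent.S15608.result k A Sg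
  haveI := hcl
  haveI := hsm
  -- the range of `i` is `Y`
  have hrY : Set.range i.left = Y := by
    change Set.range i.left.base = Y
    rw [hrange]
    apply le_antisymm
    · apply closure_minimal _ j₀.left.isClosedEmbedding.isClosed_range
      rintro _ ⟨a, ha, rfl⟩
      exact ha ⟨pt, rfl⟩
    · intro y hy
      by_contra hyC
      set C := closure ((fun s : (U ⟶ A) => s.left.base (IsLocalRing.closedPoint k)) '' (Sg : Set _))
        with hC
      let O : A.left.Opens := ⟨Cᶜ, isClosed_closure.isOpen_compl⟩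
      let O' : W₀.left.Opens := j₀.left ⁻¹ᵁ O
      obtain ⟨w, rfl⟩ := hy
      haveI : Nonempty ↥(O' : Scheme.{u}) := ⟨⟨w, hyC⟩⟩
      haveI : LocallyOfFiniteType W₀.hom := by rw [← Over.w j₀]; infer_instance
      obtain ⟨s, hs⟩ := Groth.Agent.Lib.Helper72.AlgClosedLift.exists_section (O'.ι ≫ W₀.hom)
      let a : U ⟶ A := Over.homMk (s ≫ O'.ι ≫ j₀.left) (by
        rw [Category.assoc, Category.assoc, Over.w j₀]; exact hs)
      have haS : a ∈ Sg := by
        rintro _ ⟨p, rfl⟩
        exact ⟨(s ≫ O'.ι).base p, by simp [a]⟩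
      have h1 : a.left.base pt ∈ C := subset_closure ⟨a, haS, rfl⟩
      have h2 : a.left.base pt ∈ (O : Set A.left) := by
        change (s ≫ O'.ι ≫ j₀.left).base pt ∈ (O : Set A.left)
        rw [← Category.assoc, Scheme.Hom.comp_base, TopCat.comp_app]
        exact ((s ≫ O'.ι).base pt |> fun z => (show (s ≫ O'.ι).base pt ∈ (O' : Set W₀.left) from by
          rw [Scheme.Hom.comp_base, TopCat.comp_app]
          exact (s.base pt).2))
      exact h2 h1
  haveI : IsReduced H.left := Groth.Agent.Lib.Helper19.Act.isReduced_of_smooth H.hom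
  haveI : IrreducibleSpace ↥H.left :=
    irreducibleSpace_of_range i.left.isClosedEmbedding.isEmbedding
      (hrY ▸ (hY ▸ (by
        rw [← Set.image_univ]
        exact (IrreducibleSpace.isIrreducible_univ _).image j₀.left
          j₀.left.continuous.continuousOn)))
  refine ⟨H, instH, i, hi, hcl, isIntegral_of_irreducibleSpace_of_isReduced _, ?_, ?_⟩
  · rw [hrY]; exact hV₀
  · intro b
    have hb : Set.range (b ≫ i).left ⊆ Set.range j₀.left := by
      rw [← hY, ← hrY]
      rintro _ ⟨p, rfl⟩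
      exact ⟨b.left p, by simp⟩
    obtain ⟨c, hc⟩ := exists_lift_point A j₀ (b ≫ i) hb
    rw [← hc]
    exact hAdm₀.ker c

end Main

end Groth.Agent.Lib.Helper59.GenAb
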