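import Groth.Agent.Lib.Helper59.GeomRedNil
import Mathlib

/-!
# `K ⊗ k^{perf}` Artinian iff a finite purely inseparable extension makes the reduction
geometrically reduced (helper59)
-/

set_option autoImplicit false
universe u

namespace Groth.Agent.Lib.Helper59.GeomRedArt

open TensorProduct Groth.Agent.Lib.Helper59.GeomRedNil

set_option synthInstance.maxHeartbeats 400000 in
set_option maxHeartbeats 4000000 in
theorem exists_of_noetherian {k P : Type u} [Field k] [Field P] [Algebra k P] [PerfectField P]
    [Algebra.IsAlgebraic k P] [IsPurelyInseparable k P] (A : Type u) [CommRing A] [Algebra k A]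
    (hN : IsNoetherianRing (P ⊗[k] A)) :
    ∃ (k' : Type u) (_ : Field k') (_ : Algebra k k'), FiniteDimensional k k' ∧
      IsPurelyInseparable k k' ∧
      Algebra.IsGeometricallyReduced k' ((k' ⊗[k] A) ⧸ nilradical (k' ⊗[k] A)) := by
  classical
  obtain ⟨s, hs⟩ := (isNoetherianRing_iff_ideal_fg _).mp hN (nilradical (P ⊗[k] A))
  choose T hT using fun z : P ⊗[k] A =>
    Groth.Agent.Lib.Helper56.exists_finset_forall_mem_range (k := k) (L := P) (S := A) z
  let F : IntermediateField k P := IntermediateField.adjoin k ((s.biUnion T : Finset P) : Set P)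
  have hfin : FiniteDimensional k F :=
    IntermediateField.finiteDimensional_adjoin
      (fun x _ => (Algebra.IsAlgebraic.isAlgebraic x).isIntegral)
  have hpi : IsPurelyInseparable k F := IsPurelyInseparable.tower_bot k F P
  haveI : Algebra.IsAlgebraic F P := Algebra.IsAlgebraic.tower_top (K := k) F
  refine ⟨F, inferInstance, inferInstance, hfin, hpi, ?_⟩
  refine step2 (k := k) (F := F) (P := P) A (s : Set (P ⊗[k] A)) hs ?_
  intro z hz
  refine hT z F ?_
  refine subset_trans ?_ (IntermediateField.subset_adjoin k _)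
  intro x hx
  simp only [Finset.coe_biUnion, Set.mem_iUnion]
  exact ⟨z, hz, hx⟩

/-- A ring with a single prime ideal whose nilradical is finitely generated is Artinian. -/
theorem artinian_of_unique_prime_fg (T : Type*) [CommRing T]
    (h1 : Subsingleton (PrimeSpectrum T)) (h2 : (nilradical T).FG) : IsArtinianRing T := by
  have hQ : ∀ Q : Ideal T, Q.IsPrime → Q = nilradical T := by
    intro Q hQ
    rw [nilradical_eq_sInf]
    apply le_antisymm
    · refine le_sInf fun J hJ => ?_
      have : (⟨Q, hQ⟩ : PrimeSpectrum T) = ⟨J, hJ⟩ := Subsingleton.elim _ _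
      exact (congrArg PrimeSpectrum.asIdeal this).le
    · exact sInf_le hQ
  haveI : IsNoetherianRing T := IsNoetherianRing.of_prime fun Q hQ' => by
    rw [hQ Q hQ']; exact h2
  rw [isArtinianRing_iff_isNoetherianRing_krullDimLE_zero]
  refine ⟨inferInstance, Ring.krullDimLE_zero_iff.mpr fun Q hQ' => ?_⟩
  obtain ⟨M, hM, hQM⟩ := Ideal.exists_le_maximal Q hQ'.ne_top
  have : M = Q := by rw [hQ Q hQ', hQ M hM.isPrime]
  exact this ▸ hM

theorem artinian_aux {k k' K P : Type u} [Field k] [Field k'] [Field K] [Field P]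
    [Algebra k k'] [Algebra k K] [Algebra k P] [Algebra k' P] [IsScalarTower k k' P]
    [Module.Finite k k'] [IsPurelyInseparable k P] [Algebra.IsAlgebraic k' P]
    [Algebra.IsGeometricallyReduced k' ((k' ⊗[k] K) ⧸ nilradical (k' ⊗[k] K))] :
    IsArtinianRing (K ⊗[k] P) := by
  have hBN : IsNoetherianRing (k' ⊗[k] K) := by
    haveI : IsNoetherianRing (K ⊗[k] k') := IsNoetherianRing.of_finite K _
    exact isNoetherianRing_of_ringEquiv _ (Algebra.TensorProduct.comm k K k').toRingEquiv
  have hNfg : (nilradical (k' ⊗[k] K)).FG :=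
    (isNoetherianRing_iff_ideal_fg _).mp hBN _
  let inc : (k' ⊗[k] K) →+* P ⊗[k'] (k' ⊗[k] K) :=
    (Algebra.TensorProduct.includeRight (R := k') (A := P) (B := k' ⊗[k] K)).toRingHom
  let e1 := Algebra.TensorProduct.tensorQuotientEquiv (R := k') P (k' ⊗[k] K) P
    (nilradical (k' ⊗[k] K))
  have hred : IsReduced ((P ⊗[k'] (k' ⊗[k] K)) ⧸ (nilradical (k' ⊗[k] K)).map inc) :=
    isReduced_of_injective e1.symm.toRingEquiv.toRingHom e1.symm.injective
  have hnil : nilradical (P ⊗[k'] (k' ⊗[k] K)) = (nilradical (k' ⊗[k] K)).map inc := by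
    apply le_antisymm
    · intro x hx
      obtain ⟨n, hn⟩ := mem_nilradical.mp hx
      have h1 : (Ideal.Quotient.mk ((nilradical (k' ⊗[k] K)).map inc) x) ^ n = 0 := by
        rw [← map_pow, hn, map_zero]
      exact Ideal.Quotient.eq_zero_iff_mem.mp (eq_zero_of_pow_eq_zero h1)
    · rw [Ideal.map_le_iff_le_comap]
      intro x hx
      exact IsNilpotent.map (mem_nilradical.mp hx) inc
  let e : (P ⊗[k'] (k' ⊗[k] K)) ≃+* K ⊗[k] P :=
    (Algebra.TensorProduct.cancelBaseChange k k' P P K).toRingEquiv.trans
      (Algebra.TensorProduct.comm k P K).toRingEquiv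
  have hsub : Subsingleton (PrimeSpectrum (K ⊗[k] P)) :=
    (PrimeSpectrum.isHomeomorph_comap_of_isPurelyInseparable k P K).injective.subsingleton
  have hsub' : Subsingleton (PrimeSpectrum (P ⊗[k'] (k' ⊗[k] K))) :=
    (PrimeSpectrum.comap_injective_of_surjective e.symm.toRingHom e.symm.surjective).subsingleton
  haveI : IsArtinianRing (P ⊗[k'] (k' ⊗[k] K)) :=
    artinian_of_unique_prime_fg _ hsub' (hnil ▸ hNfg.map inc)
  exact e.isArtinianRing

theorem artinian_of_exists (p : ℕ) [Fact p.Prime]
    (k K : Type u) [Field k] [CharP k p] [Field K] [Algebra k K]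
    (P : Type u) [Field P] [Algebra k P] [PerfectRing P p] [IsPRadical (algebraMap k P) p]
    (k' : Type u) [Field k'] [Algebra k k'] [Module.Finite k k'] [IsPurelyInseparable k k']
    [Algebra.IsGeometricallyReduced k' ((k' ⊗[k] K) ⧸ nilradical (k' ⊗[k] K))] :
    IsArtinianRing (K ⊗[k] P) := by
  haveI : ExpChar k p := ExpChar.prime (Fact.out)
  haveI : CharP P p := charP_of_injective_algebraMap (algebraMap k P).injective p
  haveI : ExpChar P p := ExpChar.prime (Fact.out)
  haveI : CharP k' p := charP_of_injective_algebraMap (algebraMap k k').injective p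
  haveI : ExpChar k' p := ExpChar.prime (Fact.out)
  haveI : IsPurelyInseparable k P := IsPRadical.isPurelyInseparable k P p
  let φ : k' →+* P := PerfectRing.lift (algebraMap k k') (algebraMap k P) p
  letI : Algebra k' P := φ.toAlgebra
  haveI : IsScalarTower k k' P := IsScalarTower.of_algebraMap_eq fun x =>
    (PerfectRing.lift_comp_apply (algebraMap k k') (algebraMap k P) p x).symm
  haveI : Algebra.IsAlgebraic k' P := Algebra.IsAlgebraic.tower_top (K := k) k'
  exact artinian_aux (k := k) (k' := k') (K := K) (P := P)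

theorem artinian_imp (p : ℕ) [Fact p.Prime]
    (k K : Type u) [Field k] [CharP k p] [Field K] [Algebra k K]
    (P : Type u) [Field P] [Algebra k P] [PerfectRing P p] [IsPRadical (algebraMap k P) p]
    (h : IsArtinianRing (K ⊗[k] P)) :
    ∃ (k' : Type u) (_ : Field k') (_ : Algebra k k'), Module.Finite k k' ∧
      IsPurelyInseparable k k' ∧
      Algebra.IsGeometricallyReduced k' ((k' ⊗[k] K) ⧸ nilradical (k' ⊗[k] K)) := by
  haveI : ExpChar k p := ExpChar.prime (Fact.out)
  haveI : CharP P p := charP_of_injective_algebraMap (algebraMap k P).injective p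
  haveI : ExpChar P p := ExpChar.prime (Fact.out)
  haveI : PerfectField P := PerfectRing.toPerfectField P p
  haveI : IsPurelyInseparable k P := IsPRadical.isPurelyInseparable k P p
  have hN : IsNoetherianRing (P ⊗[k] K) :=
    isNoetherianRing_of_ringEquiv _ (Algebra.TensorProduct.comm k K P).toRingEquiv
  exact exists_of_noetherian K hN

end Groth.Agent.Lib.Helper59.GeomRedArt
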