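import Mathlib
import Groth.Prelude.Def_W4c3irrattreebunCvg

/-!
# Covering gonality over the field of constants
-/

set_option autoImplicit false
universe u
open W4c3irrattreebun

namespace Groth.Agent.Lib.Helper59.Gonality

lemma sInf_eq {S S' : Set ℕ} (h1 : S' ⊆ S) (h2 : ∀ e ∈ S, ∃ e' ∈ S', e' ≤ e) :
    sInf S = sInf S' := by
  by_cases hS : S.Nonempty
  · have hS' : S'.Nonempty := by
      obtain ⟨e, he⟩ := hS
      obtain ⟨e', he', _⟩ := h2 e he
      exact ⟨e', he'⟩
    apply le_antisymm
    · exact Nat.sInf_le (h1 (Nat.sInf_mem hS'))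
    · obtain ⟨e', he', hle⟩ := h2 _ (Nat.sInf_mem hS)
      exact (Nat.sInf_le he').trans hle
  · have hSe : S = ∅ := Set.not_nonempty_iff_eq_empty.1 hS
    have hSe' : S' = ∅ := by
      rw [Set.eq_empty_iff_forall_notMem]
      intro e he
      rw [hSe] at h1
      exact h1 he
    rw [hSe, hSe']

section general
variable {k K : Type u} [Field k] [Field K] [Algebra k K]

lemma towerB_apply {e : ℕ} (D : CovDiag.{u} k K e) (y : k) :
    algebraMap k D.KC y = algebraMap D.KB D.KC (algebraMap k D.KB y) :=
  IsScalarTower.algebraMap_apply k D.KB D.KC y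

lemma towerK_apply {e : ℕ} (D : CovDiag.{u} k K e) (y : k) :
    algebraMap k D.KC y = algebraMap K D.KC (algebraMap k K y) :=
  IsScalarTower.algebraMap_apply k K D.KC y

end general

variable (k K : Type u) [Field k] [Field K] [Algebra k K]

/-- restriction of a covering diagram over the field of constants to `k` -/
noncomputable def down {e : ℕ} (D : CovDiag.{u} (algebraicClosure k K) K e) : CovDiag.{u} k K e :=
  letI : Algebra k D.KC := ((algebraMap K D.KC).comp (algebraMap k K)).toAlgebra
  letI : Algebra k D.KB :=
    ((algebraMap (algebraicClosure k K) D.KB).comp (algebraMap k (algebraicClosure k K))).toAlgebra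
  { KC := D.KC
    KB := D.KB
    instFieldC := D.instFieldC
    instFieldB := D.instFieldB
    algKC := D.algKC
    algkC := ((algebraMap K D.KC).comp (algebraMap k K)).toAlgebra
    towerK := IsScalarTower.of_algebraMap_eq (fun _ => rfl)
    algkB :=
      ((algebraMap (algebraicClosure k K) D.KB).comp
        (algebraMap k (algebraicClosure k K))).toAlgebra
    algBC := D.algBC
    towerB := by
      refine IsScalarTower.of_algebraMap_eq (fun x => ?_)
      change algebraMap K D.KC (algebraMap k K x) =
        algebraMap D.KB D.KC (algebraMap (algebraicClosure k K) D.KB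
          (algebraMap k (algebraicClosure k K) x))
      rw [← towerB_apply D, towerK_apply D]
      rfl
    finiteK := D.finiteK
    t := D.t
    transc := D.transc
    finiteT := D.finiteT
    finrank_eq := D.finrank_eq }

lemma down_KC {e : ℕ} (D : CovDiag.{u} (algebraicClosure k K) K e)
    (h : Algebra.IsSeparable K D.KC) : Algebra.IsSeparable K (down k K D).KC := h

section up
variable {k K}
variable {e : ℕ} (D : CovDiag.{u} k K e)

/-- the map from the field of constants to the top field -/
noncomputable def cMap : (algebraicClosure k K) →+* D.KC :=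
  (algebraMap K D.KC).comp (algebraMap (algebraicClosure k K) K)

/-- the enlarged base field `KB(k')` inside `KC` -/
noncomputable def KB' : IntermediateField D.KB D.KC :=
  IntermediateField.adjoin D.KB (Set.range (cMap D))

lemma cMap_mem (y : algebraicClosure k K) : cMap D y ∈ KB' D :=
  IntermediateField.subset_adjoin _ _ ⟨y, rfl⟩

/-- `k' → KB'` -/
noncomputable def cMap' : (algebraicClosure k K) →+* KB' D :=
  (cMap D).codRestrict (KB' D) (cMap_mem D)

lemma isIntegral_cMap (y : algebraicClosure k K) : IsIntegral D.KB (cMap D y) := by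
  have h1 : IsIntegral k y := (algebraicClosure.isAlgebraic k K).isIntegral.isIntegral y
  have h2 : IsIntegral k (y : K) := by
    have := h1.map (IsScalarTower.toAlgHom k (algebraicClosure k K) K)
    simpa using this
  have h3 : IsIntegral k (algebraMap K D.KC (y : K)) :=
    h2.map (IsScalarTower.toAlgHom k K D.KC)
  exact h3.tower_top

instance isAlg_KB' : Algebra.IsAlgebraic D.KB (KB' D) := by
  apply IntermediateField.isAlgebraic_adjoin
  rintro _ ⟨y, rfl⟩
  exact isIntegral_cMap D y

lemma transc' : Transcendental (KB' D) D.t := by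
  intro h
  exact D.transc (h.restrictScalars D.KB)

/-- `KB(t)` as an intermediate field -/
noncomputable def F : IntermediateField D.KB D.KC := IntermediateField.adjoin D.KB ({D.t} : Set D.KC)

/-- `KB'(t)` as an intermediate field -/
noncomputable def F' : IntermediateField (KB' D) D.KC :=
  IntermediateField.adjoin (KB' D) ({D.t} : Set D.KC)

lemma F_le (x : D.KC) (hx : x ∈ F D) : x ∈ F' D := by
  unfold F at hx
  unfold F'
  have hle : IntermediateField.adjoin D.KB ({D.t} : Set D.KC) ≤
      (IntermediateField.adjoin (KB' D) ({D.t} : Set D.KC)).restrictScalars D.KB := by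
    rw [IntermediateField.adjoin_le_iff]
    rintro _ rfl
    rw [SetLike.mem_coe, IntermediateField.mem_restrictScalars]
    exact IntermediateField.subset_adjoin _ _ rfl
  exact (IntermediateField.mem_restrictScalars D.KB).1 (hle hx)

/-- the inclusion `KB(t) → KB'(t)` -/
noncomputable def incl : F D →+* F' D :=
  (algebraMap (F D) D.KC).codRestrict (F' D) (fun x => F_le D _ x.2)

lemma finite_and_le : Module.Finite (F' D) D.KC ∧ Module.finrank (F' D) D.KC ≤ e := by
  let _ : Algebra (F D) (F' D) := (incl D).toAlgebra
  let _ : Module (F D) (F' D) := Algebra.toModule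
  have : IsScalarTower (F D) (F' D) D.KC := IsScalarTower.of_algebraMap_eq (fun _ => rfl)
  have : Module.Finite (F D) D.KC := D.finiteT
  have hfin : Module.Finite (F' D) D.KC := Module.Finite.of_restrictScalars_finite (F D) (F' D) D.KC
  refine ⟨hfin, ?_⟩
  have : Module.Finite (F D) (F' D) := FiniteDimensional.left (F D) (F' D) D.KC
  have : Module.Free (F' D) D.KC := Module.Free.of_divisionRing _ _
  have : Module.Free (F D) (F' D) := Module.Free.of_divisionRing _ _
  have hmul := Module.finrank_mul_finrank (F D) (F' D) D.KC
  have he : Module.finrank (F D) D.KC = e := D.finrank_eq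
  rw [he] at hmul
  have hpos : 0 < Module.finrank (F D) (F' D) := Module.finrank_pos
  calc Module.finrank (F' D) D.KC ≤ Module.finrank (F D) (F' D) * Module.finrank (F' D) D.KC :=
        Nat.le_mul_of_pos_left _ hpos
    _ = e := hmul

/-- the diagram over the field of constants -/
noncomputable def up : CovDiag.{u} (algebraicClosure k K) K (Module.finrank (F' D) D.KC) :=
  letI : Algebra (algebraicClosure k K) D.KC := (cMap D).toAlgebra
  letI : Algebra (algebraicClosure k K) (KB' D) := (cMap' D).toAlgebra
  { KC := D.KC
    KB := KB' D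
    instFieldC := D.instFieldC
    instFieldB := inferInstance
    algKC := D.algKC
    algkC := (cMap D).toAlgebra
    towerK := IsScalarTower.of_algebraMap_eq (fun _ => rfl)
    algkB := (cMap' D).toAlgebra
    algBC := inferInstance
    towerB := IsScalarTower.of_algebraMap_eq (fun _ => rfl)
    finiteK := D.finiteK
    t := D.t
    transc := transc' D
    finiteT := (finite_and_le D).1
    finrank_eq := rfl }

lemma up_sep (h : Algebra.IsSeparable K D.KC) : Algebra.IsSeparable K (up D).KC := h

end up

theorem cvg_eq : cvg k K = cvg (algebraicClosure k K) K := by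
  unfold cvg
  apply sInf_eq
  · rintro e ⟨D⟩
    exact ⟨down k K D⟩
  · rintro e ⟨D⟩
    exact ⟨_, ⟨up D⟩, (finite_and_le D).2⟩

theorem scvg_eq : scvg k K = scvg (algebraicClosure k K) K := by
  unfold scvg
  apply sInf_eq
  · rintro e ⟨D, hD⟩
    exact ⟨down k K D, down_KC k K D hD⟩
  · rintro e ⟨D, hD⟩
    exact ⟨_, ⟨up D, up_sep D hD⟩, (finite_and_le D).2⟩

end Groth.Agent.Lib.Helper59.Gonality
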