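import Mathlib

/-!
# Graded Skolem–Noether for finite-dimensional graded vector spaces
-/

namespace Groth.Agent.Lib.Helper59.GradedSN

universe u v

variable {k : Type u} [Field k] {V W : Type v} [AddCommGroup V] [Module k V]
  [AddCommGroup W] [Module k W]

section Internal

variable {𝒱 : ℤ → Submodule k V} (h𝒱 : DirectSum.IsInternal 𝒱)

include h𝒱 in
theorem isCompl_single (i : ℤ) : IsCompl (𝒱 i) (⨆ (j) (_ : j ≠ i), 𝒱 j) := by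
  refine ⟨h𝒱.submodule_iSupIndep i, ?_⟩
  rw [codisjoint_iff, ← iSup_split_single, h𝒱.submodule_iSup_eq_top]

include h𝒱 in
theorem eq_of_mem_of_mem {x : V} (hx : x ≠ 0) {a b : ℤ} (ha : x ∈ 𝒱 a) (hb : x ∈ 𝒱 b) : a = b := by
  by_contra hab
  have := h𝒱.submodule_iSupIndep.pairwiseDisjoint hab
  exact hx ((Submodule.disjoint_def.mp this) x ha hb)

/-- The projection to the `i`-th component. -/
noncomputable def proj (i : ℤ) : V →ₗ[k] V :=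
  Submodule.projection (𝒱 i) (⨆ (j) (_ : j ≠ i), 𝒱 j) (isCompl_single h𝒱 i)

theorem proj_mem (i : ℤ) (x : V) : proj h𝒱 i x ∈ 𝒱 i :=
  Submodule.projection_apply_mem _ _

theorem proj_of_mem {i : ℤ} {x : V} (hx : x ∈ 𝒱 i) : proj h𝒱 i x = x :=
  Submodule.projection_apply_of_mem_left _ hx

theorem proj_of_mem_ne {i j : ℤ} (hij : j ≠ i) {x : V} (hx : x ∈ 𝒱 j) : proj h𝒱 i x = 0 := by
  rw [proj, Submodule.projection_apply_eq_zero_iff]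
  exact Submodule.mem_iSup_of_mem j (Submodule.mem_iSup_of_mem hij hx)

/-- The rank one map `v ↦ ξ(proj_i v) • y`. -/
noncomputable def rankOne (i : ℤ) (ξ : Module.Dual k V) (y : V) : Module.End k V :=
  (ξ ∘ₗ proj h𝒱 i).smulRight y

theorem rankOne_apply (i : ℤ) (ξ : Module.Dual k V) (y v : V) :
    rankOne h𝒱 i ξ y v = ξ (proj h𝒱 i v) • y := rfl

theorem rankOne_homogeneous (i i' : ℤ) (ξ : Module.Dual k V) {y : V} (hy : y ∈ 𝒱 i') :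
    ∀ (l : ℤ) (v : V), v ∈ 𝒱 l → rankOne h𝒱 i ξ y v ∈ 𝒱 (l + (i' - i)) := by
  intro l v hv
  rw [rankOne_apply]
  by_cases hl : l = i
  · subst hl
    have : l + (i' - l) = i' := by ring
    rw [this]
    exact Submodule.smul_mem _ _ hy
  · rw [proj_of_mem_ne h𝒱 hl hv, map_zero, zero_smul]
    exact Submodule.zero_mem _

include h𝒱 in
theorem exists_homogeneous_ne_zero [Nontrivial V] : ∃ (i : ℤ) (x : V), x ∈ 𝒱 i ∧ x ≠ 0 := by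
  by_contra hcon
  push Not at hcon
  have : ∀ i, 𝒱 i = ⊥ := by
    intro i
    rw [Submodule.eq_bot_iff]
    exact fun x hx => hcon i x hx
  have htop := h𝒱.submodule_iSup_eq_top
  have hbot : (⨆ i, 𝒱 i) = ⊥ := by
    rw [iSup_eq_bot]
    exact this
  rw [hbot] at htop
  exact bot_ne_top htop

end Internal

section Main

variable {𝒱 : ℤ → Submodule k V} (h𝒱 : DirectSum.IsInternal 𝒱)
  {𝒲 : ℤ → Submodule k W} (h𝒲 : DirectSum.IsInternal 𝒲) (T : V ≃ₗ[k] W)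
  (hT : ∀ (d : ℤ) (f : Module.End k V), (∀ (i : ℤ) (x : V), x ∈ 𝒱 i → f x ∈ 𝒱 (i + d)) →
    ∀ (i : ℤ) (y : W), y ∈ 𝒲 i → T (f (T.symm y)) ∈ 𝒲 (i + d))

include h𝒱 h𝒲 hT in
theorem exists_deg {i : ℤ} {x : V} (hx : x ∈ 𝒱 i) (hx0 : x ≠ 0) : ∃ j, T x ∈ 𝒲 j := by
  obtain ⟨ξ, hξ⟩ := Module.Projective.exists_dual_eq_one k hx0
  let η : W →ₗ[k] k := ξ ∘ₗ proj h𝒱 i ∘ₗ (T.symm : W →ₗ[k] V)
  have hη : η (T x) = 1 := by
    show ξ (proj h𝒱 i (T.symm (T x))) = 1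
    rw [T.symm_apply_apply, proj_of_mem h𝒱 hx, hξ]
  have hex : ∃ (j : ℤ) (w : W), w ∈ 𝒲 j ∧ η w ≠ 0 := by
    by_contra hcon
    push Not at hcon
    have hle : (⨆ j, 𝒲 j) ≤ LinearMap.ker η :=
      iSup_le fun j w hw => LinearMap.mem_ker.mpr (hcon j w hw)
    rw [h𝒲.submodule_iSup_eq_top] at hle
    have : η (T x) = 0 := LinearMap.mem_ker.mp (hle trivial)
    rw [hη] at this
    exact one_ne_zero this
  obtain ⟨j, w, hw, hηw⟩ := hex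
  have h1 := hT (i - i) (rankOne h𝒱 i ξ x) (rankOne_homogeneous h𝒱 i i ξ hx) j w hw
  rw [rankOne_apply, map_smul, sub_self, add_zero] at h1
  exact ⟨j, (Submodule.smul_mem_iff _ hηw).mp h1⟩

include h𝒱 h𝒲 hT in
theorem deg_rel {i i' : ℤ} {x y : V} (hx : x ∈ 𝒱 i) (hx0 : x ≠ 0) (hy : y ∈ 𝒱 i') (hy0 : y ≠ 0)
    {j j' : ℤ} (hTx : T x ∈ 𝒲 j) (hTy : T y ∈ 𝒲 j') : j' = j + (i' - i) := by
  obtain ⟨ξ, hξ⟩ := Module.Projective.exists_dual_eq_one k hx0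
  have h1 := hT (i' - i) (rankOne h𝒱 i ξ y) (rankOne_homogeneous h𝒱 i i' ξ hy) j (T x) hTx
  rw [rankOne_apply, T.symm_apply_apply, proj_of_mem h𝒱 hx, hξ, one_smul] at h1
  have hTy0 : T y ≠ 0 := fun h => hy0 (T.map_eq_zero_iff.mp h)
  exact eq_of_mem_of_mem h𝒲 hTy0 hTy h1

include h𝒱 h𝒲 hT in
theorem exists_shift [Nontrivial V] :
    ∃ n : ℤ, ∀ i : ℤ, Submodule.map (T : V →ₗ[k] W) (𝒱 i) = 𝒲 (i + n) := by
  obtain ⟨i₀, x₀, hx₀, hx₀0⟩ := exists_homogeneous_ne_zero h𝒱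
  obtain ⟨j₀, hj₀⟩ := exists_deg h𝒱 h𝒲 T hT hx₀ hx₀0
  refine ⟨j₀ - i₀, ?_⟩
  have hle : ∀ i : ℤ, Submodule.map (T : V →ₗ[k] W) (𝒱 i) ≤ 𝒲 (i + (j₀ - i₀)) := by
    rintro i _ ⟨y, hy, rfl⟩
    by_cases hy0 : y = 0
    · rw [hy0, map_zero]
      exact Submodule.zero_mem _
    · obtain ⟨j', hj'⟩ := exists_deg h𝒱 h𝒲 T hT hy hy0
      have := deg_rel h𝒱 h𝒲 T hT hx₀ hx₀0 hy hy0 hj₀ hj'
      have e : i + (j₀ - i₀) = j' := by rw [this]; ring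
      rw [e]
      exact hj'
  have htop : (⨆ i, Submodule.map (T : V →ₗ[k] W) (𝒱 i)) = ⊤ := by
    rw [← Submodule.map_iSup, h𝒱.submodule_iSup_eq_top, Submodule.map_top, LinearEquiv.range]
  intro i
  apply le_antisymm (hle i)
  have hsplit := iSup_split_single (fun l => Submodule.map (T : V →ₗ[k] W) (𝒱 l)) i
  rw [htop] at hsplit
  have h2 : (⨆ (l) (_ : l ≠ i), Submodule.map (T : V →ₗ[k] W) (𝒱 l)) ≤
      ⨆ (j) (_ : j ≠ i + (j₀ - i₀)), 𝒲 j :=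
    iSup₂_le fun l hl => le_trans (hle l)
      (le_iSup₂_of_le (l + (j₀ - i₀)) (by intro h; exact hl (by linarith)) le_rfl)
  have h3 : (⨆ (l) (_ : l ≠ i), Submodule.map (T : V →ₗ[k] W) (𝒱 l)) ⊓ 𝒲 (i + (j₀ - i₀)) = ⊥ := by
    have hd := h𝒲.submodule_iSupIndep (i + (j₀ - i₀))
    have hd' : (⨆ (j) (_ : j ≠ i + (j₀ - i₀)), 𝒲 j) ⊓ 𝒲 (i + (j₀ - i₀)) = ⊥ := by
      rw [inf_comm]
      exact hd.eq_bot
    exact le_bot_iff.mp (le_trans (inf_le_inf_right _ h2) (le_of_eq hd'))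
  calc 𝒲 (i + (j₀ - i₀)) = ⊤ ⊓ 𝒲 (i + (j₀ - i₀)) := (top_inf_eq _).symm
    _ = (Submodule.map (T : V →ₗ[k] W) (𝒱 i) ⊔
          ⨆ (l) (_ : l ≠ i), Submodule.map (T : V →ₗ[k] W) (𝒱 l)) ⊓ 𝒲 (i + (j₀ - i₀)) := by
        rw [← hsplit]
    _ = Submodule.map (T : V →ₗ[k] W) (𝒱 i) ⊔
          (⨆ (l) (_ : l ≠ i), Submodule.map (T : V →ₗ[k] W) (𝒱 l)) ⊓ 𝒲 (i + (j₀ - i₀)) :=
        sup_inf_assoc_of_le _ (hle i)
    _ = Submodule.map (T : V →ₗ[k] W) (𝒱 i) := by rw [h3, sup_bot_eq]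
    _ ≤ _ := le_rfl

end Main

section Final

theorem main (k : Type u) [Field k] (V W : Type v) [AddCommGroup V] [Module k V]
    [FiniteDimensional k V] [Nontrivial V] [AddCommGroup W] [Module k W] [FiniteDimensional k W]
    (𝒱 : ℤ → Submodule k V) (h𝒱 : DirectSum.IsInternal 𝒱) (𝒲 : ℤ → Submodule k W)
    (h𝒲 : DirectSum.IsInternal 𝒲) (φ : Module.End k V ≃ₐ[k] Module.End k W)
    (hφ : ∀ (d : ℤ) (f : Module.End k V), (∀ (i : ℤ) (x : V), x ∈ 𝒱 i → f x ∈ 𝒱 (i + d)) →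
      ∀ (i : ℤ) (y : W), y ∈ 𝒲 i → φ f y ∈ 𝒲 (i + d)) :
    ∃ (n : ℤ) (g : V ≃ₗ[k] W),
      (∀ i : ℤ, Submodule.map (g : V →ₗ[k] W) (𝒱 i) = 𝒲 (i + n)) ∧
      (∀ f : Module.End k V, φ f = (g : V →ₗ[k] W) ∘ₗ f ∘ₗ (g.symm : W →ₗ[k] V)) ∧
      ∀ (n' : ℤ) (g' : V ≃ₗ[k] W),
        (∀ i : ℤ, Submodule.map (g' : V →ₗ[k] W) (𝒱 i) = 𝒲 (i + n')) →
        (∀ f : Module.End k V, φ f = (g' : V →ₗ[k] W) ∘ₗ f ∘ₗ (g'.symm : W →ₗ[k] V)) →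
        n' = n ∧ ∃ c : kˣ, ∀ x : V, g' x = c • g x := by
  obtain ⟨T, hTφ⟩ := φ.eq_linearEquivConjAlgEquiv
  have hconj : ∀ f : Module.End k V,
      φ f = (T : V →ₗ[k] W) ∘ₗ f ∘ₗ (T.symm : W →ₗ[k] V) := by
    intro f
    rw [hTφ]
    rfl
  have hT : ∀ (d : ℤ) (f : Module.End k V),
      (∀ (i : ℤ) (x : V), x ∈ 𝒱 i → f x ∈ 𝒱 (i + d)) →
      ∀ (i : ℤ) (y : W), y ∈ 𝒲 i → T (f (T.symm y)) ∈ 𝒲 (i + d) := by
    intro d f hf i y hy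
    have := hφ d f hf i y hy
    rw [hconj] at this
    exact this
  obtain ⟨n, hn⟩ := exists_shift h𝒱 h𝒲 T hT
  refine ⟨n, T, hn, hconj, ?_⟩
  intro n' g' hn' hconj'
  have heq : g'.conjAlgEquiv k = T.conjAlgEquiv k := by
    ext f : 1
    show (g' : V →ₗ[k] W) ∘ₗ f ∘ₗ (g'.symm : W →ₗ[k] V) =
      (T : V →ₗ[k] W) ∘ₗ f ∘ₗ (T.symm : W →ₗ[k] V)
    rw [← hconj, ← hconj']
  obtain ⟨c, hc⟩ := (LinearEquiv.conjAlgEquiv_ext_iff' g' T).mp heq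
  have hcx : ∀ x : V, g' x = c • T x := by
    intro x
    rw [hc]
    rfl
  refine ⟨?_, c, hcx⟩
  obtain ⟨i₀, x₀, hx₀, hx₀0⟩ := exists_homogeneous_ne_zero h𝒱
  have h1 : g' x₀ ∈ 𝒲 (i₀ + n') := by
    rw [← hn']
    exact ⟨x₀, hx₀, rfl⟩
  have h2 : g' x₀ ∈ 𝒲 (i₀ + n) := by
    rw [hcx, ← hn]
    exact Submodule.smul_mem _ _ ⟨x₀, hx₀, rfl⟩
  have h0 : g' x₀ ≠ 0 := fun h => hx₀0 (g'.map_eq_zero_iff.mp h)
  have := eq_of_mem_of_mem h𝒲 h0 h1 h2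
  linarith

end Final

end Groth.Agent.Lib.Helper59.GradedSN
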