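import Mathlib
import Groth.Agent.Lib.Helper59.GrpAffine
import Groth.Agent.Lib.Helper59.HopfTrace
import Groth.Agent.Lib.Helper19.UnramifiedFiber

/-! A finite locally free group scheme whose order is invertible on the base is étale (helper59) -/

set_option autoImplicit false
open AlgebraicGeometry CategoryTheory MonoidalCategory CartesianMonoidalCategory Opposite Limits
open MonObj

universe u

namespace Groth.Agent.Lib.Helper59.GrpEtaleOrder

open Groth.Agent.Lib.Helper59.GrpAffine

/-- a finite group scheme over a field of order invertible in the field is unramified -/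
theorem formallyUnramified_of_field (K : Type u) [Field K] (G : Over (Spec (CommRingCat.of K)))
    [GrpObj G] [IsFinite G.hom]
    (hK : ∀ y, (Scheme.Hom.finrank G.hom y : K) ≠ 0) : FormallyUnramified G.hom := by
  have : IsAffine G.left := isAffine_of_isAffineHom G.hom
  have hflat : Flat G.hom := inferInstance
  obtain ⟨A, _, _, e, he⟩ := exists_hopf K G
  have h4 := finite_of_iso A G e
  have h5 : (Module.finrank K A : K) ≠ 0 := by
    have p : PrimeSpectrum K := ⟨⊥, Ideal.isPrime_bot⟩
    have h6 := rank_of_iso A G e p
    rw [Module.rankAtStalk_eq_finrank_of_free] at h6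
    have h7 := hK p
    rw [← h6] at h7
    exact h7
  have h8 := HopfTrace.formallyUnramified K A h5
  have h9 : FormallyUnramified (Spec.map (CommRingCat.ofHom (algebraMap K A))) := by
    rw [HasRingHomProperty.Spec_iff (P := @FormallyUnramified)]
    exact RingHom.formallyUnramified_algebraMap.mpr h8
  rw [hom_eq_of_iso A G e] at h9
  have : IsIso e.hom.left := inferInstanceAs (IsIso ((Over.forget _).map e.hom))
  exact (MorphismProperty.cancel_left_of_respectsIso @FormallyUnramified e.hom.left G.hom).mp h9

open scoped Obj in
/-- the fibre of a finite locally free group scheme over a field-valued point is unramified when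
the rank is invertible there -/
theorem formallyUnramified_snd {S : Scheme.{u}} (G : Over S) [GrpObj G]
    [IsFinite G.hom] [Flat G.hom]
    (K : Type u) [Field K] (j : Spec (CommRingCat.of K) ⟶ S)
    (hK : ∀ y, (Scheme.Hom.finrank G.hom (j y) : K) ≠ 0) :
    FormallyUnramified (pullback.snd G.hom j) := by
  have h1 : IsFinite ((Over.pullback j).obj G).hom :=
    inferInstanceAs (IsFinite (pullback.snd G.hom j))
  have h2 := formallyUnramified_of_field K ((Over.pullback j).obj G) fun y => by
    have := Scheme.Hom.finrank_pullback_snd G.hom j y
    rw [show ((Over.pullback j).obj G).hom = pullback.snd G.hom j from rfl, this]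
    exact hK y
  exact h2

theorem etale_of_finrank_ne_zero {S : Scheme.{u}} (G : Over S) [GrpObj G]
    [IsFinite G.hom] [Flat G.hom] [LocallyOfFinitePresentation G.hom]
    (h : ∀ s : S, (Scheme.Hom.finrank G.hom s : S.residueField s) ≠ 0) : Etale G.hom := by
  have : FormallyUnramified G.hom := by
    refine Groth.Agent.Lib.Helper19.formallyUnramified_of_fiberToSpecResidueField G.hom fun s => ?_
    refine formallyUnramified_snd G (S.residueField s) (S.fromSpecResidueField s) fun y => ?_
    rw [Scheme.fromSpecResidueField_apply]
    exact h s
  exact Etale.of_formallyUnramified_of_flat G.hom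

open scoped Obj in
/-- variant: only the fibre is assumed finite -/
theorem formallyUnramified_snd' {S : Scheme.{u}} (G : Over S) [GrpObj G]
    (K : Type u) [Field K] (j : Spec (CommRingCat.of K) ⟶ S) [IsFinite (pullback.snd G.hom j)]
    (hK : ∀ y, (Scheme.Hom.finrank (pullback.snd G.hom j) y : K) ≠ 0) :
    FormallyUnramified (pullback.snd G.hom j) := by
  have h1 : IsFinite ((Over.pullback j).obj G).hom :=
    inferInstanceAs (IsFinite (pullback.snd G.hom j))
  exact formallyUnramified_of_field K ((Over.pullback j).obj G) hK

/-- quasi-finite version (S18491) -/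
theorem etale_of_locallyQuasiFinite {S : Scheme.{u}} (G : Over S) [GrpObj G]
    [LocallyQuasiFinite G.hom] [QuasiCompact G.hom] [Flat G.hom]
    [LocallyOfFinitePresentation G.hom]
    (h : ∀ (s : S) (x : ↥(Spec (S.residueField s))),
      ((pullback.snd G.hom (S.fromSpecResidueField s)).finrank x : S.residueField s) ≠ 0) :
    Etale G.hom := by
  have : FormallyUnramified G.hom := by
    refine Groth.Agent.Lib.Helper19.formallyUnramified_of_fiberToSpecResidueField G.hom fun s => ?_
    have : IsFinite (pullback.snd G.hom (S.fromSpecResidueField s)) :=
      inferInstanceAs (IsFinite (G.hom.fiberToSpecResidueField s))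
    exact formallyUnramified_snd' G (S.residueField s) (S.fromSpecResidueField s) (h s)
  exact Etale.of_formallyUnramified_of_flat G.hom

end Groth.Agent.Lib.Helper59.GrpEtaleOrder
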