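/-
Helper library (helper59): `H²(Q, M) = 0` for trivial action on an abelian group `M` which is
`|Q|`-divisible with cyclic `|Q|`-torsion of order `|Q|`, when `H³(Q, ℤ) = 0`. Explicit cocycle
computation (averaging + lifting the `μ_N`-valued cocycle to `ℤ` using exactness in degree 3).
-/
import Mathlib

set_option linter.style.haveILetI false

open CategoryTheory groupCohomology

namespace Groth.Agent.Lib.Helper59.H2Triv

variable {Q : Type} [Group Q]

/-- Exactness of the inhomogeneous cochain complex in degree 3 for torsion-free coefficients: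
if `H³ = 0` and `d₂₃ ã = N • e'` with `N ≠ 0`, then `e'` is a coboundary. -/
lemma exists_of_H3 (A : Rep ℤ Q) (hQ : Subsingleton (groupCohomology A 3))
    (htf : ∀ (n : ℕ) (x : A.V), n ≠ 0 → n • x = 0 → x = 0)
    (N : ℕ) (hN : N ≠ 0) (a : Q × Q → A.V) (e' : Q × Q × Q → A.V)
    (h : (d₂₃ A).hom a = N • e') : ∃ w : Q × Q → A.V, (d₂₃ A).hom w = e' := by
  have hex : (inhomogeneousCochains A).ExactAt 3 := by
    rw [HomologicalComplex.exactAt_iff_isZero_homology]
    haveI : Subsingleton ((inhomogeneousCochains A).homology 3) := hQ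
    exact ModuleCat.isZero_of_subsingleton _
  rw [HomologicalComplex.exactAt_iff' _ 2 3 4 (by simp) (by simp)] at hex
  rw [ShortComplex.moduleCat_exact_iff] at hex
  set x : (inhomogeneousCochains A).X 3 := (cochainsIso₃ A).inv e' with hx
  have hdx : (inhomogeneousCochains A).d 3 4 x = 0 := by
    have h1 : N • ((inhomogeneousCochains A).d 3 4 x) = 0 := by
      rw [← map_nsmul, hx, ← map_nsmul, ← h]
      have := eq_d₂₃_comp_inv_apply A a
      rw [← this]
      have h2 := (inhomogeneousCochains A).d_comp_d 2 3 4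
      exact ConcreteCategory.congr_hom h2 _
    apply inhomogeneousCochains.ext
    intro g
    have h3 := congrFun h1 g
    exact htf N _ hN h3
  obtain ⟨y, hy⟩ := hex x hdx
  have hy' : (inhomogeneousCochains A).d 2 3 (show (inhomogeneousCochains A).X 2 from y) = x := hy
  refine ⟨(cochainsIso₂ A).hom (show (inhomogeneousCochains A).X 2 from y), ?_⟩
  have h4 := ConcreteCategory.congr_hom (comp_d₂₃_eq A) (show (inhomogeneousCochains A).X 2 from y)
  rw [ConcreteCategory.comp_apply, ConcreteCategory.comp_apply] at h4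
  refine h4.trans ?_
  rw [hy', hx]
  exact ConcreteCategory.congr_hom (cochainsIso₃ A).inv_hom_id e'

/-- Averaging a 2-cocycle (trivial action) over the last variable. -/
lemma card_smul_eq [Fintype Q] {M : Type*} [AddCommGroup M] (a : Q × Q → M)
    (ha : ∀ g h j, a (g * h, j) + a (g, h) = a (h, j) + a (g, h * j)) (g h : Q) :
    Fintype.card Q • a (g, h) = (∑ j, a (g, j)) + (∑ j, a (h, j)) - ∑ j, a (g * h, j) := by
  have h1 := Finset.sum_congr (s₁ := (Finset.univ : Finset Q)) rfl (fun j _ => ha g h j)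
  rw [Finset.sum_add_distrib, Finset.sum_add_distrib, Finset.sum_const, Finset.card_univ] at h1
  have h2 : ∑ j, a (g, h * j) = ∑ j, a (g, j) :=
    Fintype.sum_equiv (Equiv.mulLeft h) _ _ (fun j => rfl)
  rw [h2] at h1
  rw [eq_sub_iff_add_eq, add_comm, h1, add_comm]

theorem subsingleton_H2 [Finite Q] (hQ : Subsingleton (groupCohomology (Rep.trivial ℤ Q ℤ) 3))
    (M : Type) [AddCommGroup M]
    (hdiv : ∀ x : M, ∃ y : M, Nat.card Q • y = x)
    (Z : M) (hZ0 : Nat.card Q • Z = 0)
    (hZgen : ∀ y : M, Nat.card Q • y = 0 → ∃ i : ℤ, y = i • Z)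
    (hZord : ∀ i : ℤ, i • Z = 0 → (Nat.card Q : ℤ) ∣ i) :
    Subsingleton (groupCohomology (Rep.trivial ℤ Q M) 2) := by
  classical
  haveI : Fintype Q := Fintype.ofFinite Q
  have hNcard : Nat.card Q = Fintype.card Q := Nat.card_eq_fintype_card
  set N := Fintype.card Q with hN
  rw [hNcard] at hdiv hZ0 hZgen hZord
  have hNpos : 0 < N := Fintype.card_pos
  refine ⟨fun x y => ?_⟩
  suffices h : ∀ x : H2 (Rep.trivial ℤ Q M), x = 0 by rw [h x, h y]
  intro x
  induction x using H2_induction_on with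
  | h f =>
  rw [H2π_eq_zero_iff]
  have hf : ∀ g h j : Q, f (g * h, j) + f (g, h) = f (h, j) + f (g, h * j) := by
    intro g h j
    exact (mem_cocycles₂_iff (A := Rep.trivial ℤ Q M) f).mp f.2 g h j
  -- step 1
  set T : Q → M := fun g => ∑ j, f (g, j) with hT
  have h1 : ∀ g h, N • f (g, h) = T g + T h - T (g * h) := fun g h => card_smul_eq _ hf g h
  choose U hU using fun g => hdiv (T g)
  set f' : Q × Q → M := fun x => f x - (U x.1 + U x.2 - U (x.1 * x.2)) with hf'
  have hf'N : ∀ g h, N • f' (g, h) = 0 := by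
    intro g h
    simp only [hf', smul_sub, smul_add, hU, h1]
    abel
  have hf'c : ∀ g h j : Q, f' (g * h, j) + f' (g, h) = f' (h, j) + f' (g, h * j) := by
    intro g h j
    have e : f' (g * h, j) + f' (g, h) - (f' (h, j) + f' (g, h * j)) =
        (f (g * h, j) + f (g, h)) - (f (h, j) + f (g, h * j)) := by
      simp only [hf', mul_assoc]
      abel
    rw [hf g h j, sub_self] at e
    exact sub_eq_zero.mp e
  choose a ha using fun x : Q × Q => hZgen (f' x) (hf'N x.1 x.2)
  -- d₂₃ a is divisible by N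
  have hdvd : ∀ x : Q × Q × Q, (N : ℤ) ∣ (d₂₃ (Rep.trivial ℤ Q ℤ)).hom a x := by
    rintro ⟨g, h, j⟩
    apply hZord
    rw [d₂₃_hom_apply]
    change (a (h, j) - a (g * h, j) + a (g, h * j) - a (g, h)) • Z = 0
    rw [sub_smul, add_smul, sub_smul, ← ha, ← ha, ← ha, ← ha]
    have := hf'c g h j
    rw [sub_eq_zero, sub_add_eq_add_sub, sub_eq_iff_eq_add, ← this]
    abel
  set e' : Q × Q × Q → ℤ := fun x => (d₂₃ (Rep.trivial ℤ Q ℤ)).hom a x / (N : ℤ) with he'
  have hae' : (d₂₃ (Rep.trivial ℤ Q ℤ)).hom a = N • e' := by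
    funext x
    simp only [he', Pi.smul_apply, nsmul_eq_mul]
    exact (Int.mul_ediv_cancel' (hdvd x)).symm
  obtain ⟨w, hw⟩ := exists_of_H3 (Rep.trivial ℤ Q ℤ) hQ
    (fun n x hn h => by
      rcases smul_eq_zero.mp h with h | h
      · exact absurd h hn
      · exact h) N hNpos.ne' a e' hae'
  set a' : Q × Q → ℤ := a - N • w with ha'
  have hda' : (d₂₃ (Rep.trivial ℤ Q ℤ)).hom a' = 0 := by
    rw [ha', map_sub, map_nsmul, hw, hae', sub_self]
  have ha'c : ∀ g h j : Q, a' (g * h, j) + a' (g, h) = a' (h, j) + a' (g, h * j) := by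
    intro g h j
    have := congrFun hda' (g, h, j)
    rw [d₂₃_hom_apply] at this
    change a' (h, j) - a' (g * h, j) + a' (g, h * j) - a' (g, h) = 0 at this
    linarith
  have ha'Z : ∀ x, a' x • Z = f' x := by
    intro x
    have e0 : a' x = a x - w x * (N : ℤ) := by
      simp only [ha', Pi.sub_apply, Pi.smul_apply, nsmul_eq_mul]
      rw [mul_comm]
      rfl
    rw [e0, sub_smul, mul_smul, natCast_zsmul, hZ0, smul_zero, sub_zero, ← ha]
  set τ : Q → ℤ := fun g => ∑ j, a' (g, j) with hτ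
  have h2 : ∀ g h, N • a' (g, h) = τ g + τ h - τ (g * h) := fun g h => card_smul_eq _ ha'c g h
  obtain ⟨H, hH⟩ := hdiv Z
  have hf'H : ∀ g h, f' (g, h) = (τ g + τ h - τ (g * h)) • H := by
    intro g h
    rw [← h2, ← ha'Z, ← hH, nsmul_eq_mul, mul_comm, mul_smul, natCast_zsmul]
  -- the coboundary
  refine ⟨fun g => τ g • H + U g, ?_⟩
  funext ⟨g, h⟩
  rw [d₁₂_hom_apply]
  change (τ h • H + U h) - (τ (g * h) • H + U (g * h)) + (τ g • H + U g) = f (g, h)
  have e1 : f (g, h) = f' (g, h) + (U g + U h - U (g * h)) := by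
    simp only [hf']
    abel
  rw [e1, hf'H, sub_smul, add_smul]
  abel

end Groth.Agent.Lib.Helper59.H2Triv
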