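import Mathlib

/-!
# Hermite normal form over `k⟦X⟧` (row lattice approach)
-/

namespace Groth.Agent.Lib.Helper59.Hermite

open PowerSeries Matrix

variable {k : Type*} [Field k] {r : ℕ}

/-- The row lattice of a square matrix. -/
noncomputable def rowLat (M : Matrix (Fin r) (Fin r) k⟦X⟧) : Submodule k⟦X⟧ (Fin r → k⟦X⟧) :=
  LinearMap.range M.vecMulLinear

theorem mem_rowLat {M : Matrix (Fin r) (Fin r) k⟦X⟧} {v : Fin r → k⟦X⟧} :
    v ∈ rowLat M ↔ ∃ c, c ᵥ* M = v := by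
  simp [rowLat, LinearMap.mem_range]

theorem row_mem_rowLat (M : Matrix (Fin r) (Fin r) k⟦X⟧) (i : Fin r) : M i ∈ rowLat M :=
  mem_rowLat.mpr ⟨Pi.single i 1, by rw [single_one_vecMul]; rfl⟩

theorem mul_row_mem_rowLat (N M : Matrix (Fin r) (Fin r) k⟦X⟧) (i : Fin r) :
    (N * M) i ∈ rowLat M :=
  mem_rowLat.mpr ⟨N i, (mul_apply_eq_vecMul N M i).symm⟩

theorem rowLat_mul_of_isUnit (N M : Matrix (Fin r) (Fin r) k⟦X⟧) (hN : IsUnit N) :
    rowLat (N * M) = rowLat M := by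
  obtain ⟨N', hN'⟩ := hN.exists_left_inv
  ext v
  rw [mem_rowLat, mem_rowLat]
  constructor
  · rintro ⟨c, rfl⟩
    exact ⟨c ᵥ* N, by rw [vecMul_vecMul]⟩
  · rintro ⟨c, rfl⟩
    refine ⟨c ᵥ* N', ?_⟩
    rw [vecMul_vecMul, ← Matrix.mul_assoc, hN', Matrix.one_mul]

theorem exists_quot_rem (a : k⟦X⟧) (e : ℕ) :
    ∃ q rem : k⟦X⟧, a = X ^ e * q + rem ∧ ∀ n, e ≤ n → coeff n rem = 0 := by
  refine ⟨PowerSeries.mk fun n => coeff (n + e) a,
    a - X ^ e * PowerSeries.mk fun n => coeff (n + e) a, by ring, ?_⟩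
  intro n hn
  rw [map_sub, coeff_X_pow_mul', if_pos hn, coeff_mk, Nat.sub_add_cancel hn, sub_self]

theorem exists_eq_X_pow_mul_unit (a : k⟦X⟧) (ha : a ≠ 0) :
    ∃ (e : ℕ) (w : k⟦X⟧), IsUnit w ∧ a = X ^ e * w := by
  classical
  have hex : ∃ n, coeff n a ≠ 0 := by
    by_contra h
    push Not at h
    exact ha (PowerSeries.ext (by simpa using h))
  obtain ⟨e, he⟩ : ∃ e, e = Nat.find hex := ⟨_, rfl⟩
  have hdvd : X ^ e ∣ a :=
    X_pow_dvd_iff.mpr (fun m hm => by rw [he] at hm; simpa using Nat.find_min hex hm)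
  obtain ⟨w, hw⟩ := hdvd
  refine ⟨e, w, ?_, hw⟩
  rw [isUnit_iff_constantCoeff, isUnit_iff_ne_zero, ← coeff_zero_eq_constantCoeff_apply]
  have := Nat.find_spec hex
  rw [← he] at this
  rw [hw, coeff_X_pow_mul', if_pos le_rfl, Nat.sub_self] at this
  exact this

/-- `h` is a pivot vector of `L` at index `i`: in `L`, zero before `i`, equal to `X ^ e` at `i`, and
`X ^ e` divides the `i`-th coordinate of every vector of `L` vanishing before `i`. -/
structure Pivot (L : Submodule k⟦X⟧ (Fin r → k⟦X⟧)) (i : Fin r) (e : ℕ) (h : Fin r → k⟦X⟧) :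
    Prop where
  mem : h ∈ L
  zero : ∀ j, j < i → h j = 0
  diag : h i = X ^ e
  dvd : ∀ v ∈ L, (∀ j, j < i → v j = 0) → X ^ e ∣ v i

theorem exists_pivot (L : Submodule k⟦X⟧ (Fin r → k⟦X⟧))
    (hL : ∀ i, ∃ a : k⟦X⟧, a ≠ 0 ∧ a • (Pi.single i 1 : Fin r → k⟦X⟧) ∈ L) (i : Fin r) :
    ∃ e h, Pivot L i e h := by
  classical
  have hex : ∃ n, ∃ v ∈ L, (∀ j, j < i → v j = 0) ∧ v i = X ^ n := by
    obtain ⟨a, ha, hmem⟩ := hL i
    obtain ⟨e, w, hw, hae⟩ := exists_eq_X_pow_mul_unit a ha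
    obtain ⟨w', hw'⟩ := hw.exists_left_inv
    refine ⟨e, w' • (a • Pi.single i 1), L.smul_mem _ hmem, ?_, ?_⟩
    · intro j hj
      simp [Pi.single_eq_of_ne hj.ne]
    · simp only [Pi.smul_apply, Pi.single_eq_same, smul_eq_mul, mul_one]
      rw [hae]
      calc w' * (X ^ e * w) = X ^ e * (w' * w) := by ring
        _ = X ^ e := by rw [hw', mul_one]
  obtain ⟨h, hmem, hz, hd⟩ := Nat.find_spec hex
  refine ⟨Nat.find hex, h, hmem, hz, hd, ?_⟩
  intro v hv hvz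
  by_cases hvi : v i = 0
  · rw [hvi]; exact dvd_zero _
  obtain ⟨n, w, hw, hvn⟩ := exists_eq_X_pow_mul_unit (v i) hvi
  obtain ⟨w', hw'⟩ := hw.exists_left_inv
  have hn : Nat.find hex ≤ n := by
    apply Nat.find_min' hex
    refine ⟨w' • v, L.smul_mem _ hv, fun j hj => by simp [hvz j hj], ?_⟩
    simp only [Pi.smul_apply, smul_eq_mul]
    rw [hvn]
    calc w' * (X ^ n * w) = X ^ n * (w' * w) := by ring
      _ = X ^ n := by rw [hw', mul_one]
  rw [hvn]
  exact Dvd.dvd.mul_right (pow_dvd_pow X hn) w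

theorem exists_reduced (L : Submodule k⟦X⟧ (Fin r → k⟦X⟧)) (e : Fin r → ℕ)
    (h0 : Fin r → Fin r → k⟦X⟧) (hp : ∀ i, Pivot L i (e i) (h0 i))
    (i : Fin r) (v : Fin r → k⟦X⟧) (hv : v ∈ L) (m : ℕ) :
    ∃ v' ∈ L, (∀ j, j ≤ i → v' j = v j) ∧
      ∀ j, i < j → j.val < m → ∀ n, e j ≤ n → coeff n (v' j) = 0 := by
  induction m with
  | zero => exact ⟨v, hv, fun _ _ => rfl, fun j _ hj => absurd hj (Nat.not_lt_zero _)⟩
  | succ m ih =>
    obtain ⟨v', hv', h1, h2⟩ := ih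
    by_cases hm : m < r ∧ i.val < m
    · obtain ⟨hmr, him⟩ := hm
      obtain ⟨q, rem, hq, hrem⟩ := exists_quot_rem (v' ⟨m, hmr⟩) (e ⟨m, hmr⟩)
      refine ⟨v' - q • h0 ⟨m, hmr⟩, L.sub_mem hv' (L.smul_mem _ (hp ⟨m, hmr⟩).mem), ?_, ?_⟩
      · intro j hj
        have hlt : j < (⟨m, hmr⟩ : Fin r) := lt_of_le_of_lt hj (by simpa [Fin.lt_def] using him)
        simp [(hp ⟨m, hmr⟩).zero j hlt, h1 j hj]
      · intro j hij hjm n hn
        rcases Nat.lt_succ_iff_lt_or_eq.mp hjm with hlt | heq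
        · have hlt' : j < (⟨m, hmr⟩ : Fin r) := hlt
          simp only [Pi.sub_apply, Pi.smul_apply, (hp ⟨m, hmr⟩).zero j hlt', smul_zero, sub_zero]
          exact h2 j hij hlt n hn
        · have hj : j = ⟨m, hmr⟩ := Fin.ext heq
          rw [hj] at hn ⊢
          simp only [Pi.sub_apply, Pi.smul_apply, (hp _).diag, smul_eq_mul]
          have : v' ⟨m, hmr⟩ - q * X ^ e ⟨m, hmr⟩ = rem := by rw [hq]; ring
          rw [this]
          exact hrem n hn
    · refine ⟨v', hv', h1, ?_⟩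
      intro j hij hjm n hn
      rcases Nat.lt_succ_iff_lt_or_eq.mp hjm with hlt | heq
      · exact h2 j hij hlt n hn
      · exfalso
        apply hm
        refine ⟨heq ▸ j.isLt, ?_⟩
        rw [← heq]; exact hij

theorem exists_coeffs (L : Submodule k⟦X⟧ (Fin r → k⟦X⟧)) (e : Fin r → ℕ)
    (h : Fin r → Fin r → k⟦X⟧) (hp : ∀ i, Pivot L i (e i) (h i)) :
    ∀ d m, m + d = r → ∀ v ∈ L, (∀ j : Fin r, j.val < m → v j = 0) →
      ∃ c : Fin r → k⟦X⟧, c ᵥ* (Matrix.of h) = v := by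
  intro d
  induction d with
  | zero =>
    intro m hm v _ hvz
    refine ⟨0, ?_⟩
    rw [zero_vecMul]
    funext j
    exact (hvz j (by have := j.isLt; omega)).symm
  | succ d ih =>
    intro m hm v hv hvz
    have hmr : m < r := by omega
    obtain ⟨q, hq⟩ := (hp ⟨m, hmr⟩).dvd v hv (fun j hj => hvz j hj)
    obtain ⟨c', hc'⟩ := ih (m + 1) (by omega) (v - q • h ⟨m, hmr⟩)
      (L.sub_mem hv (L.smul_mem _ (hp ⟨m, hmr⟩).mem)) (by
        intro j hj
        rcases Nat.lt_succ_iff_lt_or_eq.mp hj with hlt | heq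
        · have hlt' : j < (⟨m, hmr⟩ : Fin r) := hlt
          simp [hvz j hlt, (hp ⟨m, hmr⟩).zero j hlt']
        · have hj' : j = ⟨m, hmr⟩ := Fin.ext heq
          rw [hj']
          simp only [Pi.sub_apply, Pi.smul_apply, (hp _).diag, smul_eq_mul]
          rw [hq]; ring)
    refine ⟨c' + Pi.single ⟨m, hmr⟩ q, ?_⟩
    rw [add_vecMul, hc', single_vecMul]
    funext j
    simp [Matrix.row]

theorem tri_vecMul (H : Matrix (Fin r) (Fin r) k⟦X⟧)
    (hz : ∀ i j, j < i → H i j = 0) (c : Fin r → k⟦X⟧) (j : Fin r)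
    (hc : ∀ l, l < j → c l = 0) : (c ᵥ* H) j = c j * H j j := by
  simp only [Matrix.vecMul, dotProduct]
  apply Finset.sum_eq_single j
  · intro l _ hlj
    rcases lt_or_gt_of_ne hlj with hlt | hgt
    · rw [hc l hlt, zero_mul]
    · rw [hz l j hgt, mul_zero]
  · intro hj; exact absurd (Finset.mem_univ j) hj

theorem tri_pivot (H : Matrix (Fin r) (Fin r) k⟦X⟧) (e : Fin r → ℕ)
    (hd : ∀ i, H i i = X ^ e i) (hz : ∀ i j, j < i → H i j = 0) (i : Fin r) :
    Pivot (rowLat H) i (e i) (H i) := by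
  refine ⟨row_mem_rowLat H i, fun j hj => hz i j hj, hd i, ?_⟩
  intro v hv hvz
  obtain ⟨c, rfl⟩ := mem_rowLat.mp hv
  have hc : ∀ n (j : Fin r), j.val < n → j < i → c j = 0 := by
    intro n
    induction n with
    | zero => intro j hj; exact absurd hj (Nat.not_lt_zero _)
    | succ n ih =>
      intro j hjn hji
      have h1 : ∀ l, l < j → c l = 0 := fun l hl =>
        ih l (lt_of_lt_of_le hl (Nat.lt_succ_iff.mp hjn)) (lt_trans hl hji)
      have h2 := tri_vecMul H hz c j h1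
      rw [hvz j hji, hd j] at h2
      rcases mul_eq_zero.mp h2.symm with h3 | h3
      · exact h3
      · exact absurd h3 (pow_ne_zero _ X_ne_zero)
  rw [tri_vecMul H hz c i (fun l hl => hc (l.val + 1) l (Nat.lt_succ_self _) hl), hd i]
  exact Dvd.intro_left _ rfl

/-- Row-reduced (Hermite) form with exponents `e`. -/
def RowReduced (H : Matrix (Fin r) (Fin r) k⟦X⟧) (e : Fin r → ℕ) : Prop :=
  (∀ i, H i i = X ^ e i) ∧ (∀ i j, j < i → H i j = 0) ∧
    (∀ i j, i < j → ∀ n, e j ≤ n → coeff n (H i j) = 0)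

theorem exists_hermite (M : Matrix (Fin r) (Fin r) k⟦X⟧) (hM : M.det ≠ 0) :
    ∃ (H : Matrix (Fin r) (Fin r) k⟦X⟧) (e : Fin r → ℕ) (N : Matrix (Fin r) (Fin r) k⟦X⟧),
      RowReduced H e ∧ IsUnit N ∧ N * M = H := by
  classical
  have hL : ∀ i, ∃ a : k⟦X⟧, a ≠ 0 ∧ a • (Pi.single i 1 : Fin r → k⟦X⟧) ∈ rowLat M := by
    intro i
    refine ⟨M.det, hM, ?_⟩
    have := mul_row_mem_rowLat (adjugate M) M i
    rw [adjugate_mul] at this
    convert this using 1
    funext j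
    simp [Matrix.smul_apply, Matrix.one_apply, Pi.single_apply, eq_comm]
  choose e0 h0 hp0 using exists_pivot (rowLat M) hL
  have hred := fun i => exists_reduced (rowLat M) e0 h0 hp0 i (h0 i) (hp0 i).mem r
  choose h hmem h1 h2 using hred
  have hp : ∀ i, Pivot (rowLat M) i (e0 i) (h i) := fun i =>
    ⟨hmem i, fun j hj => by rw [h1 i j hj.le]; exact (hp0 i).zero j hj,
      by rw [h1 i i le_rfl]; exact (hp0 i).diag, (hp0 i).dvd⟩
  have hN : ∀ i, ∃ c, c ᵥ* M = h i := fun i => mem_rowLat.mp (hmem i)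
  choose N hN using hN
  have hNM : Matrix.of N * M = Matrix.of h := by
    refine Matrix.ext fun i j => ?_
    rw [mul_apply_eq_vecMul]; exact congrFun (hN i) j
  have hN' : ∀ i, ∃ c, c ᵥ* Matrix.of h = M i := fun i =>
    exists_coeffs (rowLat M) e0 h hp r 0 (by simp) (M i) (row_mem_rowLat M i)
      (fun j hj => absurd hj (Nat.not_lt_zero _))
  choose N' hN' using hN'
  have hN'H : Matrix.of N' * Matrix.of h = M := by
    refine Matrix.ext fun i j => ?_
    rw [mul_apply_eq_vecMul]; exact congrFun (hN' i) j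
  have hdet : (Matrix.of N').det * (Matrix.of N).det = 1 := by
    have : (Matrix.of N' * Matrix.of N * M).det = M.det := by rw [Matrix.mul_assoc, hNM, hN'H]
    rw [det_mul, det_mul] at this
    exact mul_right_cancel₀ hM (by rw [this, one_mul])
  refine ⟨Matrix.of h, e0, Matrix.of N, ⟨fun i => (hp i).diag, fun i j hj => (hp i).zero j hj,
    fun i j hij n hn => h2 i j hij j.isLt n hn⟩, ?_, hNM⟩
  rw [isUnit_iff_isUnit_det]
  exact IsUnit.of_mul_eq_one _ (by rw [mul_comm]; exact hdet)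

theorem hermite_unique (M H₁ H₂ N₁ N₂ : Matrix (Fin r) (Fin r) k⟦X⟧) (e₁ e₂ : Fin r → ℕ)
    (hr₁ : RowReduced H₁ e₁) (hr₂ : RowReduced H₂ e₂) (hN₁ : IsUnit N₁) (hN₂ : IsUnit N₂)
    (h₁ : N₁ * M = H₁) (h₂ : N₂ * M = H₂) : H₁ = H₂ := by
  have hL₁ : rowLat H₁ = rowLat M := by rw [← h₁]; exact rowLat_mul_of_isUnit N₁ M hN₁
  have hL₂ : rowLat H₂ = rowLat M := by rw [← h₂]; exact rowLat_mul_of_isUnit N₂ M hN₂
  have hp₁ : ∀ i, Pivot (rowLat M) i (e₁ i) (H₁ i) := fun i =>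
    hL₁ ▸ tri_pivot H₁ e₁ hr₁.1 hr₁.2.1 i
  have hp₂ : ∀ i, Pivot (rowLat M) i (e₂ i) (H₂ i) := fun i =>
    hL₂ ▸ tri_pivot H₂ e₂ hr₂.1 hr₂.2.1 i
  have he : ∀ i, e₁ i = e₂ i := by
    intro i
    have d1 := (hp₁ i).dvd (H₂ i) (hp₂ i).mem (hp₂ i).zero
    rw [(hp₂ i).diag] at d1
    have d2 := (hp₂ i).dvd (H₁ i) (hp₁ i).mem (hp₁ i).zero
    rw [(hp₁ i).diag] at d2
    have hX : ¬ IsUnit (X : k⟦X⟧) := X_prime.not_isUnit
    exact le_antisymm ((pow_dvd_pow_iff X_ne_zero hX).mp d1) ((pow_dvd_pow_iff X_ne_zero hX).mp d2)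
  refine Matrix.ext fun i j => ?_
  have key : ∀ n (j : Fin r), j.val < n → H₁ i j = H₂ i j := by
    intro n
    induction n with
    | zero => intro j hj; exact absurd hj (Nat.not_lt_zero _)
    | succ n ih =>
      intro j hj
      have hv : H₁ i - H₂ i ∈ rowLat M := sub_mem (hp₁ i).mem (hp₂ i).mem
      have hz : ∀ l, l < j → (H₁ i - H₂ i) l = 0 := fun l hl => by
        have : l.val < n := lt_of_lt_of_le hl (Nat.lt_succ_iff.mp hj)
        simp [ih l this]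
      have hd := (hp₁ j).dvd _ hv hz
      rcases lt_trichotomy j i with hji | hji | hij
      · rw [hr₁.2.1 i j hji, hr₂.2.1 i j hji]
      · rw [hji, hr₁.1, hr₂.1, he]
      · have : H₁ i j - H₂ i j = 0 := by
          ext n'
          by_cases hn : n' < e₁ j
          · exact X_pow_dvd_iff.mp hd n' hn
          · push Not at hn
            rw [map_sub, hr₁.2.2 i j hij n' hn, hr₂.2.2 i j hij n' (he j ▸ hn), sub_zero]
            simp
        exact sub_eq_zero.mp this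
  exact key (j.val + 1) j (Nat.lt_succ_self _)

end Groth.Agent.Lib.Helper59.Hermite
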