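import Groth.Agent.Lib.Helper59.Hermite

/-!
# Hermite form with extra `k⟦X^p⟧` column operations
-/

namespace Groth.Agent.Lib.Helper59.HermiteP

open PowerSeries Matrix Groth.Agent.Lib.Helper59.Hermite

variable {k : Type*} [Field k] {r : ℕ}

/-- Power series in `X ^ p`. -/
def InRp (p : ℕ) (f : k⟦X⟧) : Prop := ∀ n, ¬ p ∣ n → coeff n f = 0

theorem InRp.zero (p : ℕ) : InRp p (0 : k⟦X⟧) := fun n _ => by simp

theorem InRp.one (p : ℕ) : InRp p (1 : k⟦X⟧) := fun n hn => by
  rw [coeff_one, if_neg]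
  rintro rfl
  exact hn (dvd_zero p)

theorem InRp.add {p : ℕ} {f g : k⟦X⟧} (hf : InRp p f) (hg : InRp p g) : InRp p (f + g) :=
  fun n hn => by rw [map_add, hf n hn, hg n hn, add_zero]

theorem InRp.mul {p : ℕ} {f g : k⟦X⟧} (hf : InRp p f) (hg : InRp p g) : InRp p (f * g) := by
  intro n hn
  rw [coeff_mul]
  apply Finset.sum_eq_zero
  rintro ⟨a, b⟩ hab
  have hab' : a + b = n := Finset.HasAntidiagonal.mem_antidiagonal.mp hab
  by_cases ha : p ∣ a
  · have hb : ¬ p ∣ b := fun hb => hn (hab' ▸ dvd_add ha hb)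
    simp only
    rw [hg b hb, mul_zero]
  · simp only
    rw [hf a ha, zero_mul]

theorem exp_eq (A H : Matrix (Fin r) (Fin r) k⟦X⟧) (e e' : Fin r → ℕ)
    (hAd : ∀ i, A i i = X ^ e i) (hAz : ∀ i j, j < i → A i j = 0)
    (hHd : ∀ i, H i i = X ^ e' i) (hHz : ∀ i j, j < i → H i j = 0)
    (hL : rowLat H = rowLat A) : e' = e := by
  funext i
  have hp₁ : Pivot (rowLat A) i (e i) (A i) := tri_pivot A e hAd hAz i
  have hp₂ : Pivot (rowLat A) i (e' i) (H i) := hL ▸ tri_pivot H e' hHd hHz i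
  have d1 := hp₁.dvd (H i) hp₂.mem hp₂.zero
  rw [hp₂.diag] at d1
  have d2 := hp₂.dvd (A i) hp₁.mem hp₁.zero
  rw [hp₁.diag] at d2
  have hX : ¬ IsUnit (X : k⟦X⟧) := X_prime.not_isUnit
  exact le_antisymm ((pow_dvd_pow_iff X_ne_zero hX).mp d2) ((pow_dvd_pow_iff X_ne_zero hX).mp d1)

theorem agree (A H : Matrix (Fin r) (Fin r) k⟦X⟧) (e : Fin r → ℕ)
    (hAd : ∀ i, A i i = X ^ e i) (hAz : ∀ i j, j < i → A i j = 0)
    (hHd : ∀ i, H i i = X ^ e i) (hHz : ∀ i j, j < i → H i j = 0)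
    (hL : rowLat H = rowLat A) (l : Fin r) (n : ℕ)
    (hred : ∀ j, l < j → j.val < n → (∀ n', e j ≤ n' → coeff n' (A l j) = 0) ∧
      (∀ n', e j ≤ n' → coeff n' (H l j) = 0)) :
    ∀ j : Fin r, j.val < n → H l j = A l j := by
  have hp₁ : ∀ i, Pivot (rowLat A) i (e i) (A i) := fun i => tri_pivot A e hAd hAz i
  have hp₂ : ∀ i, Pivot (rowLat A) i (e i) (H i) := fun i => hL ▸ tri_pivot H e hHd hHz i
  have key : ∀ n', n' ≤ n → ∀ j : Fin r, j.val < n' → H l j = A l j := by
    intro n'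
    induction n' with
    | zero => intro _ j hj; exact absurd hj (Nat.not_lt_zero _)
    | succ n' ih =>
      intro hn' j hj
      have hv : H l - A l ∈ rowLat A := sub_mem (hp₂ l).mem (hp₁ l).mem
      have hz : ∀ l', l' < j → (H l - A l) l' = 0 := fun l' hl' => by
        have : l'.val < n' := lt_of_lt_of_le hl' (Nat.lt_succ_iff.mp hj)
        simp [ih (Nat.le_of_succ_le hn') l' this]
      have hd := (hp₁ j).dvd _ hv hz
      rcases lt_trichotomy j l with hji | hji | hij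
      · rw [hHz l j hji, hAz l j hji]
      · rw [hji, hHd, hAd]
      · obtain ⟨hr1, hr2⟩ := hred j hij (lt_of_lt_of_le hj hn')
        have : H l j - A l j = 0 := by
          ext n''
          by_cases hn : n'' < e j
          · exact X_pow_dvd_iff.mp hd n'' hn
          · push Not at hn
            rw [map_sub, hr1 n'' hn, hr2 n'' hn, sub_zero]
            simp
        exact sub_eq_zero.mp this
  exact key n le_rfl

/-- Partial goodness statement: columns `< m` are good, and in column `m` the rows `i` with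
`m ≤ i + t`. -/
def Q (p : ℕ) (M : Matrix (Fin r) (Fin r) k⟦X⟧) (m t : ℕ) : Prop :=
  ∃ (N P : Matrix (Fin r) (Fin r) k⟦X⟧) (e : Fin r → ℕ), IsUnit N ∧ IsUnit P ∧
    (∀ i j, InRp p (P i j)) ∧ RowReduced (N * M * P) e ∧
    ∀ i j : Fin r, i < j → (j.val < m ∨ (j.val = m ∧ m ≤ i.val + t)) →
      ∀ n, e i ≤ n → n % p = e i % p → coeff n ((N * M * P) i j) = 0

theorem Q_zero (p : ℕ) (M : Matrix (Fin r) (Fin r) k⟦X⟧) (hM : M.det ≠ 0) : Q p M 0 0 := by
  obtain ⟨H, e, N, hr, hN, hNM⟩ := exists_hermite M hM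
  refine ⟨N, 1, e, hN, isUnit_one, ?_, by rw [Matrix.mul_one, hNM]; exact hr, ?_⟩
  · intro i j
    by_cases hij : i = j
    · rw [hij, Matrix.one_apply_eq]; exact InRp.one p
    · rw [Matrix.one_apply_ne hij]; exact InRp.zero p
  · intro i j hij hcond
    exfalso
    rcases hcond with h | ⟨h, _⟩
    · exact Nat.not_lt_zero _ h
    · have : i.val < j.val := hij
      omega

theorem Q_next (p : ℕ) (M : Matrix (Fin r) (Fin r) k⟦X⟧) (m : ℕ) (h : Q p M m m) :
    Q p M (m + 1) 0 := by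
  obtain ⟨N, P, e, hN, hP, hPp, hr, hgood⟩ := h
  refine ⟨N, P, e, hN, hP, hPp, hr, ?_⟩
  intro i j hij hcond
  apply hgood i j hij
  have : i.val < j.val := hij
  rcases hcond with h | ⟨h, h'⟩
  · rcases Nat.lt_succ_iff_lt_or_eq.mp h with h1 | h1
    · exact Or.inl h1
    · exact Or.inr ⟨h1, by omega⟩
  · omega

theorem Q_step (p : ℕ) (M : Matrix (Fin r) (Fin r) k⟦X⟧) (hM : M.det ≠ 0) (m t : ℕ)
    (h : Q p M m t) : Q p M m (t + 1) := by
  obtain ⟨N, P, e, hN, hP, hPp, hr, hgood⟩ := h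
  by_cases hmt : m < r ∧ t < m
  swap
  · refine ⟨N, P, e, hN, hP, hPp, hr, ?_⟩
    intro i j hij hcond
    apply hgood i j hij
    rcases hcond with h | ⟨h, h'⟩
    · exact Or.inl h
    · refine Or.inr ⟨h, ?_⟩
      have := j.isLt
      by_contra hlt
      exact hmt ⟨by omega, by omega⟩
  obtain ⟨hmr, htm⟩ := hmt
  set H := N * M * P with hH
  obtain ⟨hHd, hHz, hHred⟩ := hr
  have hi₀ : m - 1 - t < r := by omega
  set i₀ : Fin r := ⟨m - 1 - t, hi₀⟩ with hi₀def
  set j₀ : Fin r := ⟨m, hmr⟩ with hj₀def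
  have hij₀ : i₀ < j₀ := by
    show m - 1 - t < m
    omega
  set b := H i₀ j₀ with hb
  set c : k⟦X⟧ := PowerSeries.mk (fun n => if p ∣ n then -coeff (e i₀ + n) b else 0) with hc
  have hcp : InRp p c := by
    intro n hn
    rw [hc, coeff_mk, if_neg hn]
  set T := transvection i₀ j₀ c with hT
  have hTdet : T.det = 1 := det_transvection_of_ne i₀ j₀ hij₀.ne c
  have hTu : IsUnit T := by rw [isUnit_iff_isUnit_det, hTdet]; exact isUnit_one
  set A := H * T with hA
  have hAne : ∀ l j, j ≠ j₀ → A l j = H l j := fun l j hj =>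
    mul_transvection_apply_of_ne i₀ j₀ l j hj c H
  have hAj₀ : ∀ l, A l j₀ = H l j₀ + c * H l i₀ := fun l =>
    mul_transvection_apply_same i₀ j₀ l c H
  have hAz : ∀ l j, j < l → A l j = 0 := by
    intro l j hjl
    by_cases hj : j = j₀
    · rw [hj, hAj₀, hHz l j₀ (hj ▸ hjl), hHz l i₀ (lt_trans hij₀ (hj ▸ hjl)), mul_zero, add_zero]
    · rw [hAne l j hj, hHz l j hjl]
  have hAd : ∀ l, A l l = X ^ e l := by
    intro l
    by_cases hl : l = j₀
    · rw [hl, hAj₀, hHz j₀ i₀ hij₀, mul_zero, add_zero, hHd]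
    · rw [hAne l l hl, hHd]
  have hHdet : H.det ≠ 0 := by
    rw [hH, det_mul, det_mul]
    exact mul_ne_zero (mul_ne_zero ((isUnit_iff_isUnit_det N).mp hN).ne_zero hM)
      ((isUnit_iff_isUnit_det P).mp hP).ne_zero
  have hAdet : A.det ≠ 0 := by
    rw [hA, det_mul, hTdet, mul_one]; exact hHdet
  obtain ⟨H'', e'', N'', ⟨hH''d, hH''z, hH''red⟩, hN'', hN''A⟩ := exists_hermite A hAdet
  have hL : rowLat H'' = rowLat A := by rw [← hN''A]; exact rowLat_mul_of_isUnit N'' A hN''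
  have hee : e'' = e := exp_eq A H'' e e'' hAd hAz hH''d hH''z hL
  subst hee
  -- the new entry at (i₀, j₀)
  have hAi₀ : A i₀ j₀ = b + c * X ^ e'' i₀ := by rw [hAj₀, hHd]
  have hAi₀red : ∀ n', e'' j₀ ≤ n' → coeff n' (A i₀ j₀) = 0 := by
    intro n' hn'
    rw [hAi₀, map_add, hHred i₀ j₀ hij₀ n' hn', zero_add, mul_comm, coeff_X_pow_mul']
    split_ifs with h1
    · rw [hc, coeff_mk]
      split_ifs with h2
      · rw [Nat.add_sub_cancel' h1, hHred i₀ j₀ hij₀ n' hn', neg_zero]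
      · rfl
    · rfl
  -- agreement of H'' and A
  have hagree1 : ∀ l j : Fin r, j.val < m → H'' l j = H l j := by
    intro l j hj
    have hjne : j ≠ j₀ := fun h => by rw [h] at hj; exact lt_irrefl _ hj
    rw [← hAne l j hjne]
    apply agree A H'' e'' hAd hAz hH''d hH''z hL l m _ j hj
    intro j' hlj' hj'
    have hj'ne : j' ≠ j₀ := fun h => by rw [h] at hj'; exact lt_irrefl _ hj'
    refine ⟨fun n' hn' => ?_, hH''red l j' hlj'⟩
    rw [hAne l j' hj'ne]; exact hHred l j' hlj' n' hn'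
  have hagree2 : ∀ l : Fin r, i₀ ≤ l → H'' l j₀ = A l j₀ := by
    intro l hl
    apply agree A H'' e'' hAd hAz hH''d hH''z hL l (m + 1) _ j₀ (Nat.lt_succ_self m)
    intro j' hlj' hj'
    refine ⟨fun n' hn' => ?_, hH''red l j' hlj'⟩
    by_cases hj'ne : j' = j₀
    · rw [hj'ne] at hn' ⊢
      rcases lt_or_eq_of_le hl with hlt | heq
      · rw [hAj₀, hHz l i₀ hlt, mul_zero, add_zero]
        exact hHred l j₀ (hj'ne ▸ hlj') n' hn'
      · rw [← heq]; exact hAi₀red n' hn'
    · rw [hAne l j' hj'ne]; exact hHred l j' hlj' n' hn'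
  refine ⟨N'' * N, P * T, e'', hN''.mul hN, hP.mul hTu, ?_, ?_, ?_⟩
  · intro a b'
    by_cases hb' : b' = j₀
    · rw [hb', mul_transvection_apply_same]
      exact (hPp a j₀).add (hcp.mul (hPp a i₀))
    · rw [mul_transvection_apply_of_ne i₀ j₀ a b' hb' c P]
      exact hPp a b'
  · have : N'' * N * M * (P * T) = H'' := by
      rw [← hN''A, hA, hH]
      simp only [Matrix.mul_assoc]
    rw [this]
    exact ⟨hH''d, hH''z, hH''red⟩
  · have hfin : N'' * N * M * (P * T) = H'' := by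
      rw [← hN''A, hA, hH]
      simp only [Matrix.mul_assoc]
    rw [hfin]
    intro i j hij hcond n hn hnp
    rcases hcond with h | ⟨h, h'⟩
    · rw [hagree1 i j h]
      exact hgood i j hij (Or.inl h) n hn hnp
    · have hj : j = j₀ := Fin.ext h
      rw [hj] at hij ⊢
      by_cases hi : m ≤ i.val + t
      · have hlt : i₀ < i := by
          show m - 1 - t < i.val
          omega
        rw [hagree2 i hlt.le, hAj₀, hHz i i₀ hlt, mul_zero, add_zero]
        exact hgood i j₀ hij (Or.inr ⟨rfl, hi⟩) n hn hnp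
      · have hi' : i = i₀ := by
          apply Fin.ext
          show i.val = m - 1 - t
          omega
        rw [hi'] at hn hnp ⊢
        rw [hagree2 i₀ le_rfl, hAi₀, map_add, mul_comm, coeff_X_pow_mul', if_pos hn, hc, coeff_mk]
        have hdvd : p ∣ n - e'' i₀ := (Nat.modEq_iff_dvd' hn).mp hnp.symm
        rw [if_pos hdvd, Nat.add_sub_cancel' hn, add_neg_cancel]

theorem Q_all (p : ℕ) (M : Matrix (Fin r) (Fin r) k⟦X⟧) (hM : M.det ≠ 0) :
    ∀ m, Q p M m 0 := by
  intro m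
  induction m with
  | zero => exact Q_zero p M hM
  | succ m ih =>
    apply Q_next
    have : ∀ t, Q p M m t := by
      intro t
      induction t with
      | zero => exact ih
      | succ t iht => exact Q_step p M hM m t iht
    exact this m

end Groth.Agent.Lib.Helper59.HermiteP
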