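import Mathlib

/-!
# A homomorphism of finite group schemes with trivial kernel is a closed immersion (helper59)

Hopf form: `f : B →ₐc[k] A` between commutative Hopf algebras with `A` finite over `k`
and `f(B⁺)A = A⁺` is surjective.  Proof: in `A ⊗[B] A` the two inclusions `L, R : A → A ⊗[B] A`
agree (convolution computation: `L⁻¹ * R` kills `f(B⁺)`, hence `A⁺`), so `B → A` is an epimorphism of
rings, and a finite epimorphism is surjective.
-/

namespace Groth.Agent.Lib.Helper59.HopfEpi

open TensorProduct WithConv

section

variable {k : Type*} [CommRing k] {A : Type*} [CommRing A] [HopfAlgebra k A]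

lemma id_antipode_cancel :
    toConv (AlgHom.id k A) * toConv (HopfAlgebra.antipodeAlgHom k A) = 1 := by
  apply WithConv.ofConv_injective
  apply AlgHom.toLinearMap_injective
  apply WithConv.toConv_injective
  rw [AlgHom.toLinearMap_convMul, AlgHom.toLinearMap_convOne]
  simp [LinearMap.id_mul_antipode]

variable {T : Type*} [CommRing T] [Algebra k T]

lemma comp_antipode_mul (L : A →ₐ[k] T) :
    toConv (L.comp (HopfAlgebra.antipodeAlgHom k A)) * toConv L = 1 := by
  have h := AlgHom.comp_convMul_distrib L (toConv (HopfAlgebra.antipodeAlgHom k A))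
    (toConv (AlgHom.id k A))
  rw [AlgHom.antipode_id_cancel] at h
  simp only [AlgHom.comp_id] at h
  apply WithConv.ofConv_injective
  rw [← h]
  ext c
  simp

lemma mul_comp_antipode (L : A →ₐ[k] T) :
    toConv L * toConv (L.comp (HopfAlgebra.antipodeAlgHom k A)) = 1 := by
  have h := AlgHom.comp_convMul_distrib L (toConv (AlgHom.id k A))
    (toConv (HopfAlgebra.antipodeAlgHom k A))
  rw [id_antipode_cancel] at h
  simp only [AlgHom.comp_id] at h
  apply WithConv.ofConv_injective
  rw [← h]
  ext c
  simp

end

section Main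

variable {k : Type*} [Field k] {A B : Type*} [CommRing A] [HopfAlgebra k A]
  [CommRing B] [HopfAlgebra k B]

theorem surjective_of_map_ker [Module.Finite k A] (f : B →ₐc[k] A)
    (hker : Ideal.map f (RingHom.ker (Bialgebra.counitAlgHom k B)) =
      RingHom.ker (Bialgebra.counitAlgHom k A)) : Function.Surjective f := by
  let _ : Algebra B A := ((f : B →ₐ[k] A) : B →+* A).toAlgebra
  have : IsScalarTower k B A := IsScalarTower.of_algebraMap_eq (fun r => ((f : B →ₐ[k] A).commutes r).symm)
  have : Module.Finite B A := Module.Finite.of_restrictScalars_finite k B A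
  let L : A →ₐ[k] A ⊗[B] A :=
    (Algebra.TensorProduct.includeLeft : A →ₐ[B] A ⊗[B] A).restrictScalars k
  let R : A →ₐ[k] A ⊗[B] A :=
    (Algebra.TensorProduct.includeRight : A →ₐ[B] A ⊗[B] A).restrictScalars k
  have hLR : L.comp (f : B →ₐ[k] A) = R.comp (f : B →ₐ[k] A) := by
    ext b
    change (f b) ⊗ₜ[B] (1 : A) = (1 : A) ⊗ₜ[B] (f b)
    have : f b = b • (1 : A) := by rw [Algebra.smul_def, mul_one]; rfl
    rw [this, smul_tmul]
  set Linv : A →ₐ[k] A ⊗[B] A := L.comp (HopfAlgebra.antipodeAlgHom k A) with hLinv
  have h1 : toConv Linv * toConv L = 1 := comp_antipode_mul L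
  have h2 : toConv L * toConv Linv = 1 := mul_comp_antipode L
  -- `φ = Linv * R` is trivial on `f(B)`
  have hφf : (toConv Linv * toConv R).ofConv.comp (f : B →ₐ[k] A) =
      (1 : WithConv (A →ₐ[k] A ⊗[B] A)).ofConv.comp (f : B →ₐ[k] A) := by
    rw [AlgHom.convMul_comp_bialgHom_distrib, ← h1, AlgHom.convMul_comp_bialgHom_distrib]
    rw [hLR]
  have hφ : toConv Linv * toConv R = 1 := by
    apply WithConv.ofConv_injective
    set φ := (toConv Linv * toConv R).ofConv with hφdef
    have hker' : RingHom.ker (Bialgebra.counitAlgHom k A) ≤ RingHom.ker φ := by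
      rw [← hker, Ideal.map_le_iff_le_comap]
      intro b hb
      rw [Ideal.mem_comap, RingHom.mem_ker]
      have := AlgHom.congr_fun hφf b
      simp only [AlgHom.coe_comp, Function.comp_apply] at this
      rw [RingHom.mem_ker] at hb
      change φ (f b) = 0
      have this' : φ (f b) = (ofConv (1 : WithConv (A →ₐ[k] A ⊗[B] A))) (f b) := this
      rw [this']
      change algebraMap k (A ⊗[B] A) (Coalgebra.counit (f b)) = 0
      have hcf : Coalgebra.counit (R := k) (f b) = Coalgebra.counit (R := k) b := by simp
      rw [hcf]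
      have : Coalgebra.counit (R := k) b = 0 := hb
      rw [this, map_zero]
    ext c
    have hc : c - algebraMap k A (Coalgebra.counit c) ∈ RingHom.ker (Bialgebra.counitAlgHom k A) := by
      rw [RingHom.mem_ker, map_sub]
      simp
    have := hker' hc
    rw [RingHom.mem_ker, map_sub, sub_eq_zero] at this
    rw [this, AlgHom.commutes]
    rfl
  have hRL : toConv R = toConv L := by
    calc toConv R = (toConv L * toConv Linv) * toConv R := by rw [h2, one_mul]
      _ = toConv L * (toConv Linv * toConv R) := mul_assoc _ _ _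
      _ = toConv L := by rw [hφ, mul_one]
  have hRL' : R = L := WithConv.toConv_injective hRL
  have hepi : Algebra.IsEpi B A := by
    rw [Algebra.isEpi_iff_forall_one_tmul_eq]
    intro a
    exact AlgHom.congr_fun hRL' a
  exact (Algebra.isEpi_iff_surjective_algebraMap_of_finite.mp hepi)

end Main

end Groth.Agent.Lib.Helper59.HopfEpi
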