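import Mathlib

/-!
# Separability over `k^{p^{-e}}` versus separability of `p^e`-th powers over `k`
-/

set_option autoImplicit false
universe u
open Polynomial

namespace Groth.Agent.Lib.Helper59.InsepComp

variable {k : Type u} [Field k] (p : ℕ) [Fact p.Prime] [CharP k p]
variable {L : Type u} [Field L] [Algebra k L] [IsAlgClosed L] (e : ℕ)

/-- the generating set of `k^{p^{-e}}` -/
def T (k L : Type u) [Field k] [Field L] [Algebra k L] (p e : ℕ) : Set L :=
  {y : L | y ^ (p ^ e) ∈ Set.range (algebraMap k L)}

/-- `k^{p^{-e}}` -/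
noncomputable def ke (k L : Type u) [Field k] [Field L] [Algebra k L] (p e : ℕ) :
    IntermediateField k L := IntermediateField.adjoin k (T k L p e)

omit [Fact p.Prime] [IsAlgClosed L] in
lemma charP_L (k : Type u) [Field k] [CharP k p] [Algebra k L] : CharP L p :=
  charP_of_injective_algebraMap (algebraMap k L).injective p

lemma pow_mem_range {y : L} (hy : y ∈ ke k L p e) :
    y ^ (p ^ e) ∈ Set.range (algebraMap k L) := by
  haveI := charP_L (L := L) p k
  unfold ke at hy
  induction hy using IntermediateField.adjoin_induction with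
  | mem x hx => exact hx
  | algebraMap c => exact ⟨c ^ (p ^ e), by rw [map_pow]⟩
  | add x y _ _ hx hy =>
    obtain ⟨a, ha⟩ := hx
    obtain ⟨b, hb⟩ := hy
    exact ⟨a + b, by rw [map_add, ha, hb, add_pow_char_pow]⟩
  | inv x _ hx =>
    obtain ⟨a, ha⟩ := hx
    exact ⟨a⁻¹, by rw [map_inv₀, ha, inv_pow]⟩
  | mul x y _ _ hx hy =>
    obtain ⟨a, ha⟩ := hx
    obtain ⟨b, hb⟩ := hy
    exact ⟨a * b, by rw [map_mul, ha, hb, mul_pow]⟩

lemma mem_ke_of_pow {y : L} (hy : y ^ (p ^ e) ∈ Set.range (algebraMap k L)) :
    y ∈ ke k L p e :=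
  IntermediateField.subset_adjoin _ _ hy

/-- forward direction -/
lemma sep_pow_of_sep {x : L} (hx : IsSeparable (ke k L p e) x) :
    IsSeparable k (x ^ (p ^ e)) := by
  haveI := charP_L (L := L) p k
  set h := minpoly (ke k L p e) x with hh
  have hsep : h.Separable := hx
  set H : L[X] := (h.map (algebraMap (ke k L p e) L)).map (iterateFrobenius L p e) with hH
  have hHsep : H.Separable := (hsep.map).map
  have hlift : H ∈ Polynomial.lifts (algebraMap k L) := by
    rw [Polynomial.lifts_iff_coeff_lifts]
    intro n
    rw [hH, Polynomial.coeff_map, Polynomial.coeff_map, iterateFrobenius_def]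
    exact pow_mem_range p e (h.coeff n).2
  obtain ⟨g, hg⟩ := (Polynomial.mem_lifts _).1 hlift
  have hgsep : g.Separable := by
    rw [← Polynomial.separable_map (algebraMap k L), hg]
    exact hHsep
  have hroot : Polynomial.aeval (x ^ (p ^ e)) g = 0 := by
    rw [Polynomial.aeval_def, ← Polynomial.eval_map, hg, hH, Polynomial.eval_map,
      ← iterateFrobenius_def (R := L), Polynomial.eval₂_hom, Polynomial.eval_map,
      ← Polynomial.aeval_def, hh, minpoly.aeval, map_zero]
  exact hgsep.of_dvd (minpoly.dvd k _ hroot)

/-- backward direction -/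
lemma sep_of_sep_pow {x : L} (hx : IsSeparable k (x ^ (p ^ e))) :
    IsSeparable (ke k L p e) x := by
  haveI := charP_L (L := L) p k
  haveI : PerfectRing L p := inferInstance
  set g := minpoly k (x ^ (p ^ e)) with hgdef
  have hgsep : g.Separable := hx
  set H' : L[X] := (g.map (algebraMap k L)).map
    ((iterateFrobeniusEquiv L p e).symm : L →+* L) with hH'
  have hH'sep : H'.Separable := (hgsep.map).map
  have hback : H'.map (iterateFrobenius L p e) = g.map (algebraMap k L) := by
    rw [hH', Polynomial.map_map]
    have : (iterateFrobenius L p e).comp ((iterateFrobeniusEquiv L p e).symm : L →+* L) =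
        RingHom.id L := by
      ext y
      simp only [RingHom.coe_comp, RingHom.coe_coe, Function.comp_apply, RingHom.id_apply]
      rw [← coe_iterateFrobeniusEquiv]
      exact (iterateFrobeniusEquiv L p e).apply_symm_apply y
    rw [this, Polynomial.map_id]
  have hlift : H' ∈ Polynomial.lifts (algebraMap (ke k L p e) L) := by
    rw [Polynomial.lifts_iff_coeff_lifts]
    intro n
    have hc : (H'.coeff n) ^ (p ^ e) = algebraMap k L (g.coeff n) := by
      have := congrArg (fun q => Polynomial.coeff q n) hback
      simp only [Polynomial.coeff_map, iterateFrobenius_def] at this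
      exact this
    have hmem : H'.coeff n ∈ ke k L p e := mem_ke_of_pow p e ⟨g.coeff n, hc.symm⟩
    exact ⟨⟨H'.coeff n, hmem⟩, rfl⟩
  obtain ⟨h, hh⟩ := (Polynomial.mem_lifts _).1 hlift
  have hhsep : h.Separable := by
    rw [← Polynomial.separable_map (algebraMap (ke k L p e) L), hh]
    exact hH'sep
  have hroot : Polynomial.aeval x h = 0 := by
    rw [Polynomial.aeval_def, ← Polynomial.eval_map, hh]
    have h1 : (Polynomial.eval x H') ^ (p ^ e) = 0 := by
      rw [← iterateFrobenius_def (R := L), ← Polynomial.eval₂_hom, ← Polynomial.eval_map, hback,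
        iterateFrobenius_def, Polynomial.eval_map, ← Polynomial.aeval_def, hgdef, minpoly.aeval]
    exact pow_eq_zero_iff (pow_ne_zero _ (Fact.out : p.Prime).ne_zero) |>.1 h1
  exact hhsep.of_dvd (minpoly.dvd _ _ hroot)

theorem sep_iff {x : L} : IsSeparable (ke k L p e) x ↔ IsSeparable k (x ^ (p ^ e)) :=
  ⟨sep_pow_of_sep p e, sep_of_sep_pow p e⟩

variable {K : Type u} [Field K] [Algebra k K] [Algebra K L] [IsScalarTower k K L]

theorem main :
    (∀ x : L, x ∈ IntermediateField.adjoin k {y : L | y ^ (p ^ e) ∈ Set.range (algebraMap k L)} ⊔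
        IntermediateField.adjoin k (Set.range (algebraMap K L)) →
      IsSeparable (IntermediateField.adjoin k {y : L | y ^ (p ^ e) ∈ Set.range (algebraMap k L)}) x) ↔
    ∀ x : K, x ^ (p ^ e) ∈ separableClosure k K := by
  change (∀ x : L, x ∈ ke k L p e ⊔ IntermediateField.adjoin k (Set.range (algebraMap K L)) →
      IsSeparable (ke k L p e) x) ↔ _
  constructor
  · intro H x
    rw [mem_separableClosure_iff]
    have hx : algebraMap K L x ∈ ke k L p e ⊔
        IntermediateField.adjoin k (Set.range (algebraMap K L)) :=
      (le_sup_right : _ ≤ ke k L p e ⊔ _) (IntermediateField.subset_adjoin _ _ ⟨x, rfl⟩)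
    have h1 := sep_pow_of_sep p e (H _ hx)
    rw [← map_pow] at h1
    have h2 : algebraMap K L (x ^ (p ^ e)) = (IsScalarTower.toAlgHom k K L) (x ^ (p ^ e)) := rfl
    rw [h2] at h1
    rw [← mem_separableClosure_iff] at h1 ⊢
    exact (map_mem_separableClosure_iff (IsScalarTower.toAlgHom k K L)).1 h1
  · intro H
    -- S = separable closure of ke in L, as intermediate field over k
    set S : IntermediateField k L :=
      (separableClosure (ke k L p e) L).restrictScalars k with hS
    have h1 : ke k L p e ≤ S := by
      intro y hy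
      rw [hS, IntermediateField.mem_restrictScalars, mem_separableClosure_iff]
      exact isSeparable_algebraMap (F := ke k L p e) (K := L) ⟨y, hy⟩
    have h2 : IntermediateField.adjoin k (Set.range (algebraMap K L)) ≤ S := by
      rw [IntermediateField.adjoin_le_iff]
      rintro _ ⟨x, rfl⟩
      rw [SetLike.mem_coe, hS, IntermediateField.mem_restrictScalars, mem_separableClosure_iff]
      apply sep_of_sep_pow p e
      have hx := H x
      rw [mem_separableClosure_iff] at hx
      rw [← map_pow]
      rw [← mem_separableClosure_iff] at hx ⊢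
      exact (map_mem_separableClosure_iff (IsScalarTower.toAlgHom k K L)).2 hx
    intro x hx
    have := (sup_le h1 h2) hx
    rw [hS, IntermediateField.mem_restrictScalars, mem_separableClosure_iff] at this
    exact this

end Groth.Agent.Lib.Helper59.InsepComp
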