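import Mathlib

/-!
# Finite presentation of rings of invariants of a finite group of invertible order (helper59)
-/

set_option autoImplicit false

namespace Groth.Agent.Lib.Helper59.InvFP

open scoped TensorProduct

universe u v w

section Reynolds

variable {R : Type u} {B : Type v} [CommRing R] [CommRing B] [Algebra R B]
  {G : Type w} [Group G] [Fintype G] [MulSemiringAction G B] [SMulCommClass G R B]

/-- the Reynolds operator, given an inverse `c` of the order of `G`. -/
noncomputable def rey (c : R) : B →ₗ[R] B :=
  c • ∑ g : G, (MulSemiringAction.toAlgHom R B g).toLinearMap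

lemma rey_apply (c : R) (b : B) : rey (G := G) c b = c • ∑ g : G, g • b := by
  simp [rey, LinearMap.sum_apply]

lemma smul_rey (c : R) (h : G) (b : B) : h • rey (G := G) c b = rey (G := G) c b := by
  rw [rey_apply, smul_comm h c, Finset.smul_sum]
  congr 1
  simp_rw [← mul_smul]
  exact Fintype.sum_equiv (Equiv.mulLeft h) _ _ (fun g => rfl)

lemma rey_of_fixed {c : R} (hc : c * (Fintype.card G : R) = 1) {b : B} (hb : ∀ g : G, g • b = b) :
    rey (G := G) c b = b := by
  rw [rey_apply]
  simp_rw [hb]
  rw [Finset.sum_const, Finset.card_univ, ← Nat.cast_smul_eq_nsmul R, smul_smul, hc, one_smul]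

lemma rey_mul_fixed (c : R) {a : B} (ha : ∀ g : G, g • a = a) (b : B) :
    rey (G := G) c (a * b) = a * rey (G := G) c b := by
  rw [rey_apply, rey_apply]
  simp_rw [smul_mul', ha]
  rw [← Finset.mul_sum, mul_smul_comm]

lemma map_rey {B' : Type*} [CommRing B'] [Algebra R B'] [MulSemiringAction G B']
    [SMulCommClass G R B'] (π : B →ₐ[R] B') (hπ : ∀ (g : G) (b : B), π (g • b) = g • π b)
    (c : R) (b : B) : π (rey (G := G) c b) = rey (G := G) c (π b) := by
  rw [rey_apply, rey_apply, map_smul, map_sum]
  simp_rw [hπ]

end Reynolds

section Perm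

variable (R : Type u) [CommRing R] (ι : Type v) (G : Type w) [Group G] [MulAction G ι]

/-- the permutation action on a polynomial ring. -/
@[reducible] noncomputable def permAction : MulSemiringAction G (MvPolynomial ι R) where
  smul g p := MvPolynomial.rename (fun i => g • i) p
  one_smul p := by
    change MvPolynomial.rename (fun i => (1 : G) • i) p = p
    have : (fun i : ι => (1 : G) • i) = id := by ext i; simp
    rw [this, MvPolynomial.rename_id_apply]
  mul_smul g h p := by
    change MvPolynomial.rename (fun i => (g * h) • i) p =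
      MvPolynomial.rename (fun i => g • i) (MvPolynomial.rename (fun i => h • i) p)
    rw [MvPolynomial.rename_rename]
    congr 1
    ext i
    simp [mul_smul]
  smul_zero g := map_zero _
  smul_add g p q := map_add _ p q
  smul_one g := map_one _
  smul_mul g p q := map_mul _ p q

attribute [local instance] permAction

lemma perm_smul_def (g : G) (p : MvPolynomial ι R) :
    g • p = MvPolynomial.rename (fun i => g • i) p := rfl

instance permSMulComm : SMulCommClass G R (MvPolynomial ι R) where
  smul_comm g r p := by
    rw [perm_smul_def, perm_smul_def, map_smul]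

lemma perm_smul_map {S : Type*} [CommRing S] (f : R →+* S) (g : G) (p : MvPolynomial ι R) :
    g • (MvPolynomial.map f p) = MvPolynomial.map f (g • p) := by
  rw [perm_smul_def, perm_smul_def, MvPolynomial.map_rename]

end Perm

section NoethFG

variable (S : Type u) [CommRing S] [IsNoetherianRing S] (ι : Type v) [Finite ι]
  (G : Type w) [Group G] [Finite G] [MulAction G ι]

attribute [local instance] permAction

/-- over a Noetherian ring the invariants of a permutation action are of finite type. -/
theorem fixed_finiteType :
    Algebra.FiniteType S (FixedPoints.subalgebra S (MvPolynomial ι S) G) := by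
  set B' := FixedPoints.subalgebra S (MvPolynomial ι S) G
  have : Algebra.IsInvariant B' (MvPolynomial ι S) G := ⟨fun b hb => ⟨⟨b, hb⟩, rfl⟩⟩
  have : Algebra.IsIntegral B' (MvPolynomial ι S) := Algebra.IsInvariant.isIntegral B' _ G
  have : Algebra.FiniteType B' (MvPolynomial ι S) :=
    Algebra.FiniteType.of_restrictScalars_finiteType S B' _
  have : Module.Finite B' (MvPolynomial ι S) := Algebra.IsIntegral.finite
  constructor
  exact fg_of_fg_of_fg S B' (MvPolynomial ι S) (Algebra.FiniteType.out) (Module.Finite.fg_top)
    Subtype.val_injective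

theorem fixed_finitePresentation :
    Algebra.FinitePresentation S (FixedPoints.subalgebra S (MvPolynomial ι S) G) :=
  Algebra.FinitePresentation.of_finiteType.mp (fixed_finiteType S ι G)

end NoethFG

section BaseChange

variable (S : Type u) (R : Type v) [CommRing S] [CommRing R] [Algebra S R]
  (ι : Type w) [Finite ι] (G : Type*) [Group G] [Fintype G] [MulAction G ι]

attribute [local instance] permAction

/-- the Reynolds operator as a map onto the invariants. -/
noncomputable def reyFix (c : S) :
    MvPolynomial ι S →ₗ[S] ↥(FixedPoints.subalgebra S (MvPolynomial ι S) G) where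
  toFun p := ⟨rey (G := G) c p, fun g => smul_rey c g p⟩
  map_add' p q := by ext1; simp
  map_smul' r p := by ext1; simp

lemma reyFix_val (c : S) (p : MvPolynomial ι S) :
    ((reyFix S ι G c p : ↥(FixedPoints.subalgebra S (MvPolynomial ι S) G)) : MvPolynomial ι S) =
      rey (G := G) c p := rfl

/-- the comparison map. -/
noncomputable def Φ : R ⊗[S] ↥(FixedPoints.subalgebra S (MvPolynomial ι S) G) →ₐ[R]
    MvPolynomial ι R :=
  (MvPolynomial.algebraTensorAlgEquiv S R).toAlgHom.comp
    (Algebra.TensorProduct.map (AlgHom.id R R)
      (FixedPoints.subalgebra S (MvPolynomial ι S) G).val)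

lemma Φ_tmul (r : R) (b : ↥(FixedPoints.subalgebra S (MvPolynomial ι S) G)) :
    Φ S R ι G (r ⊗ₜ b) = r • MvPolynomial.map (algebraMap S R) (b : MvPolynomial ι S) := by
  simp [Φ]

lemma map_rey_poly (c : S) (q : MvPolynomial ι S) :
    MvPolynomial.map (algebraMap S R) (rey (G := G) c q) =
      rey (G := G) (algebraMap S R c) (MvPolynomial.map (algebraMap S R) q) := by
  rw [rey_apply, rey_apply, MvPolynomial.smul_eq_C_mul, map_mul, MvPolynomial.map_C, map_sum,
    MvPolynomial.smul_eq_C_mul]
  simp_rw [perm_smul_map]

variable {S R ι G}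

theorem Φ_injective {c : S} (hc : c * (Fintype.card G : S) = 1) :
    Function.Injective (Φ S R ι G) := by
  have hleft : ∀ x : R ⊗[S] ↥(FixedPoints.subalgebra S (MvPolynomial ι S) G),
      LinearMap.lTensor R (reyFix S ι G c)
        ((Algebra.TensorProduct.map (AlgHom.id R R)
          (FixedPoints.subalgebra S (MvPolynomial ι S) G).val) x) = x := by
    intro x
    induction x using TensorProduct.induction_on with
    | zero => simp
    | tmul r b =>
      rw [Algebra.TensorProduct.map_tmul, LinearMap.lTensor_tmul]
      congr 1
      ext1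
      rw [reyFix_val]
      exact rey_of_fixed hc b.2
    | add x y hx hy => rw [map_add, map_add, hx, hy]
  intro x y hxy
  unfold Φ at hxy
  have h1 := (MvPolynomial.algebraTensorAlgEquiv S R).injective hxy
  rw [← hleft x, ← hleft y]
  exact congrArg (LinearMap.lTensor R (reyFix S ι G c)) h1

theorem Φ_fixed (x : R ⊗[S] ↥(FixedPoints.subalgebra S (MvPolynomial ι S) G)) (g : G) :
    g • Φ S R ι G x = Φ S R ι G x := by
  induction x using TensorProduct.induction_on with
  | zero => simp
  | tmul r b =>
    rw [Φ_tmul, smul_comm, perm_smul_map, b.2 g]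
  | add x y hx hy => rw [map_add, smul_add, hx, hy]

theorem Φ_surj {c : S} (hc : c * (Fintype.card G : S) = 1) (p : MvPolynomial ι R)
    (hp : ∀ g : G, g • p = p) : ∃ x, Φ S R ι G x = p := by
  have hcR : algebraMap S R c * (Fintype.card G : R) = 1 := by
    have := congrArg (algebraMap S R) hc
    simpa using this
  have key : ∀ t : R ⊗[S] MvPolynomial ι S,
      Φ S R ι G (LinearMap.lTensor R (reyFix S ι G c) t) =
        rey (G := G) (algebraMap S R c) (MvPolynomial.algebraTensorAlgEquiv S R t) := by
    intro t
    induction t using TensorProduct.induction_on with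
    | zero => simp
    | tmul r q =>
      rw [LinearMap.lTensor_tmul, Φ_tmul, reyFix_val, MvPolynomial.algebraTensorAlgEquiv_tmul,
        map_smul, map_rey_poly]
    | add x y hx hy => rw [map_add, map_add, map_add, map_add, hx, hy]
  refine ⟨LinearMap.lTensor R (reyFix S ι G c) ((MvPolynomial.algebraTensorAlgEquiv S R).symm p), ?_⟩
  rw [key, AlgEquiv.apply_symm_apply]
  exact rey_of_fixed hcR hp

theorem fixed_fp_of_baseChange {c : S} (hc : c * (Fintype.card G : S) = 1)
    [Algebra.FinitePresentation S (FixedPoints.subalgebra S (MvPolynomial ι S) G)] :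
    Algebra.FinitePresentation R (FixedPoints.subalgebra R (MvPolynomial ι R) G) := by
  have hrange : (Φ S R ι G).range = FixedPoints.subalgebra R (MvPolynomial ι R) G := by
    ext p
    constructor
    · rintro ⟨x, rfl⟩
      exact fun g => Φ_fixed x g
    · intro hp
      exact Φ_surj hc p hp
  have e : (R ⊗[S] ↥(FixedPoints.subalgebra S (MvPolynomial ι S) G)) ≃ₐ[R]
      ↥(FixedPoints.subalgebra R (MvPolynomial ι R) G) :=
    (AlgEquiv.ofInjective (Φ S R ι G) (Φ_injective hc)).trans (Subalgebra.equivOfEq _ _ hrange)
  exact Algebra.FinitePresentation.equiv e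

end BaseChange

section PermFP

variable (R : Type u) [CommRing R] (ι : Type v) [Finite ι] (G : Type w) [Group G] [Fintype G]
  [MulAction G ι]

attribute [local instance] permAction

/-- the invariants of a permutation action on a polynomial ring are finitely presented when the
order of the group is invertible. -/
theorem perm_fixed_fp {c : R} (hc : c * (Fintype.card G : R) = 1) :
    Algebra.FinitePresentation R (FixedPoints.subalgebra R (MvPolynomial ι R) G) := by
  let S : Subalgebra ℤ R := Algebra.adjoin ℤ {c}
  have hft : Algebra.FiniteType ℤ S := by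
    rw [← Subalgebra.fg_iff_finiteType]
    exact Subalgebra.fg_adjoin_finset {c} |> fun h => by simpa using h
  have : IsNoetherianRing S := Algebra.FiniteType.isNoetherianRing ℤ S
  let cS : S := ⟨c, Algebra.subset_adjoin (Set.mem_singleton c)⟩
  have hcS : cS * (Fintype.card G : S) = 1 := by
    apply Subtype.ext
    simpa using hc
  have := fixed_finitePresentation S ι G
  exact fixed_fp_of_baseChange (S := S) (R := R) (ι := ι) (G := G) hcS

/-- the polynomial ring is finite over the invariants. -/
theorem perm_finite :
    Module.Finite (FixedPoints.subalgebra R (MvPolynomial ι R) G) (MvPolynomial ι R) := by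
  set B' := FixedPoints.subalgebra R (MvPolynomial ι R) G
  have : Algebra.IsInvariant B' (MvPolynomial ι R) G := ⟨fun b hb => ⟨⟨b, hb⟩, rfl⟩⟩
  have : Algebra.IsIntegral B' (MvPolynomial ι R) := Algebra.IsInvariant.isIntegral B' _ G
  have : Algebra.FiniteType B' (MvPolynomial ι R) :=
    Algebra.FiniteType.of_restrictScalars_finiteType R B' _
  exact Algebra.IsIntegral.finite

end PermFP

section Main

/-- the index type `G × T` with `G` acting on the left factor. -/
def Idx (G : Type w) (T : Type v) := G × T

instance (G : Type w) (T : Type v) [Group G] : MulAction G (Idx G T) where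
  smul g i := (g * i.1, i.2)
  one_smul i := Prod.ext (one_mul _) rfl
  mul_smul g h i := Prod.ext (mul_assoc _ _ _) rfl

lemma Idx.smul_def (G : Type w) (T : Type v) [Group G] (g : G) (i : Idx G T) :
    g • i = (g * i.1, i.2) := rfl

instance (G : Type w) (T : Type v) [Finite G] [Finite T] : Finite (Idx G T) :=
  inferInstanceAs (Finite (G × T))

attribute [local instance] permAction

variable {R : Type u} {A : Type v} [CommRing R] [CommRing A] [Algebra R A]
  [Algebra.FinitePresentation R A]
  {G : Type w} [Group G] [Finite G] [MulSemiringAction G A] [SMulCommClass G R A]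

theorem main (hG : IsUnit ((Nat.card G : ℕ) : R)) :
    Algebra.FinitePresentation R (FixedPoints.subalgebra R A G) := by
  classical
  cases nonempty_fintype G
  obtain ⟨u, hu⟩ := hG
  set c : R := ↑u⁻¹ with hcdef
  have hc : c * (Fintype.card G : R) = 1 := by
    rw [← Nat.card_eq_fintype_card, ← hu]
    exact u.inv_mul
  obtain ⟨s, hs⟩ := (Algebra.FiniteType.out : (⊤ : Subalgebra R A).FG)
  let y : Idx G ↥s → A := fun i => i.1 • (i.2 : A)
  let π : MvPolynomial (Idx G ↥s) R →ₐ[R] A := MvPolynomial.aeval y
  have hsurj : Function.Surjective π := by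
    rw [← AlgHom.range_eq_top, eq_top_iff, ← hs]
    apply Algebra.adjoin_le
    intro a ha
    let i0 : Idx G ↥s := ((1 : G), (⟨a, ha⟩ : ↥s))
    refine ⟨MvPolynomial.X i0, ?_⟩
    change MvPolynomial.aeval y (MvPolynomial.X i0) = a
    rw [MvPolynomial.aeval_X]
    exact one_smul G a
  have hπ : ∀ (g : G) (p : MvPolynomial (Idx G ↥s) R), π (g • p) = g • π p := by
    intro g p
    have : π.comp (MvPolynomial.rename (fun i : Idx G ↥s => g • i)) =
        (MulSemiringAction.toAlgHom R A g).comp π := by
      apply MvPolynomial.algHom_ext
      intro i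
      change MvPolynomial.aeval y (MvPolynomial.rename _ (MvPolynomial.X i)) =
        g • MvPolynomial.aeval y (MvPolynomial.X i)
      rw [MvPolynomial.rename_X, MvPolynomial.aeval_X, MvPolynomial.aeval_X]
      exact mul_smul g i.1 _
    exact DFunLike.congr_fun this p
  have hJ : (RingHom.ker π.toRingHom).FG := Algebra.FinitePresentation.ker_fG_of_surjective π hsurj
  set P := MvPolynomial (Idx G ↥s) R with hP
  set PG := FixedPoints.subalgebra R P G with hPG
  have hfp : Algebra.FinitePresentation R PG := perm_fixed_fp R (Idx G ↥s) G hc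
  have hfin : Module.Finite PG P := perm_finite R (Idx G ↥s) G
  -- the restricted map
  let πG : PG →ₐ[R] FixedPoints.subalgebra R A G :=
    (π.comp PG.val).codRestrict (FixedPoints.subalgebra R A G) (fun p g => by
      change g • π (p : P) = π (p : P)
      rw [← hπ, p.2 g])
  have hπG : ∀ p : PG, ((πG p : FixedPoints.subalgebra R A G) : A) = π (p : P) := fun p => rfl
  have hsurjG : Function.Surjective πG := by
    intro b
    obtain ⟨p, hp⟩ := hsurj b.1
    refine ⟨⟨rey (G := G) c p, fun g => smul_rey c g p⟩, ?_⟩
    apply Subtype.ext
    rw [hπG]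
    change π (rey (G := G) c p) = b.1
    rw [map_rey π hπ, hp]
    exact rey_of_fixed hc b.2
  -- the kernel
  set J : Ideal P := RingHom.ker π.toRingHom with hJdef
  have : Module.Finite P ↥J := Module.Finite.iff_fg.mpr hJ
  have hJfin : Module.Finite PG ↥J := Module.Finite.trans P ↥J
  let ψ : ↥J →ₗ[PG] PG :=
    { toFun := fun j => ⟨rey (G := G) c (j : P), fun g => smul_rey c g _⟩
      map_add' := fun j j' => by ext1; simp
      map_smul' := fun b j => by
        ext1
        change rey (G := G) c ((b : P) * (j : P)) = (b : P) * rey (G := G) c (j : P)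
        exact rey_mul_fixed c b.2 _ }
  have hker : RingHom.ker πG.toRingHom = LinearMap.range ψ := by
    ext p
    constructor
    · intro hp
      have hp' : π (p : P) = 0 := by
        have := congrArg Subtype.val (RingHom.mem_ker.mp hp)
        exact this
      refine ⟨⟨(p : P), hp'⟩, ?_⟩
      apply Subtype.ext
      change rey (G := G) c (p : P) = (p : P)
      exact rey_of_fixed hc p.2
    · rintro ⟨j, rfl⟩
      rw [RingHom.mem_ker]
      apply Subtype.ext
      change π (rey (G := G) c (j : P)) = 0
      rw [map_rey π hπ]
      have : π (j : P) = 0 := j.2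
      rw [this, map_zero]
  have hkerfg : (RingHom.ker πG.toRingHom).FG := by
    rw [hker, LinearMap.range_eq_map]
    exact (Module.Finite.fg_top).map ψ
  exact Algebra.FinitePresentation.of_surjective hsurjG hkerfg

end Main

end Groth.Agent.Lib.Helper59.InvFP
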