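import Mathlib

/-!
# `(k₀(K₀^p))((T)) = k₀(K₀^p((T)))` when `[k₀ : k₀^p] < ∞`
-/

namespace Groth.Agent.Lib.Helper59.LaurentSubfield

universe u

variable (p : ℕ) {k₀ K₀ : Type u} [Field k₀] [Field K₀] [Algebra k₀ K₀]

/-- The subfield generated by `p`-th powers. -/
abbrev powField (K : Type u) [Field K] : Subfield K :=
  Subfield.closure (Set.range fun y : K => y ^ p)

/-- The composite `k₀(K₀^p)`. -/
abbrev compField (k₀ K₀ : Type u) [Field k₀] [Field K₀] [Algebra k₀ K₀] : Subfield K₀ :=
  Subfield.closure (Set.range (algebraMap k₀ K₀) ∪ Set.range fun y : K₀ => y ^ p)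

theorem map_powField {a : k₀} (ha : a ∈ powField p k₀) : algebraMap k₀ K₀ a ∈ powField p K₀ := by
  have h : (powField p k₀).map (algebraMap k₀ K₀) ≤ powField p K₀ := by
    rw [RingHom.map_field_closure]
    apply Subfield.closure_le.mpr
    rintro _ ⟨_, ⟨x, rfl⟩, rfl⟩
    exact Subfield.subset_closure ⟨algebraMap k₀ K₀ x, (map_pow _ _ _).symm⟩
  exact h ⟨a, ha, rfl⟩

theorem pow_mem_powField (c : K₀) : c ^ p ∈ powField p K₀ :=
  Subfield.subset_closure ⟨c, rfl⟩

section Span

variable {m : ℕ} (b : Fin m → k₀)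
  (hb : Submodule.span (powField p k₀) (Set.range b) = ⊤)

/-- The `K₀^p`-span of the images of the `b i`. -/
abbrev T : Submodule (powField p K₀) K₀ :=
  Submodule.span (powField p K₀) (Set.range fun i => algebraMap k₀ K₀ (b i))

include hb in
theorem algebraMap_mem_T (x : k₀) : algebraMap k₀ K₀ x ∈ T p b := by
  have hx : x ∈ Submodule.span (powField p k₀) (Set.range b) := by rw [hb]; trivial
  obtain ⟨a, rfl⟩ := (Submodule.mem_span_range_iff_exists_fun _).mp hx
  rw [map_sum]
  refine Submodule.sum_mem _ fun i _ => ?_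
  rw [Subfield.smul_def, smul_eq_mul, map_mul]
  have : algebraMap k₀ K₀ (a i : k₀) * algebraMap k₀ K₀ (b i) =
      (⟨algebraMap k₀ K₀ (a i : k₀), map_powField p (a i).2⟩ : powField p K₀) •
        algebraMap k₀ K₀ (b i) := by
    rw [Subfield.smul_def, smul_eq_mul]
  rw [this]
  exact Submodule.smul_mem _ _ (Submodule.subset_span ⟨i, rfl⟩)

include hb in
theorem mul_mem_T {u v : K₀} (hu : u ∈ T p b) (hv : v ∈ T p b) : u * v ∈ T p b := by
  refine Submodule.span_induction₂ (p := fun x y _ _ => x * y ∈ T p b) ?_ ?_ ?_ ?_ ?_ ?_ ?_ hu hv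
  · rintro _ _ ⟨i, rfl⟩ ⟨j, rfl⟩
    rw [← map_mul]
    exact algebraMap_mem_T p b hb _
  · intro y _
    rw [zero_mul]
    exact Submodule.zero_mem _
  · intro x _
    rw [mul_zero]
    exact Submodule.zero_mem _
  · intro x y z _ _ _ h1 h2
    rw [add_mul]
    exact Submodule.add_mem _ h1 h2
  · intro x y z _ _ _ h1 h2
    rw [mul_add]
    exact Submodule.add_mem _ h1 h2
  · intro r x y _ _ h
    rw [smul_mul_assoc]
    exact Submodule.smul_mem _ _ h
  · intro r x y _ _ h
    rw [mul_smul_comm]
    exact Submodule.smul_mem _ _ h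

include hb in
theorem one_mem_T : (1 : K₀) ∈ T p b := by
  rw [← map_one (algebraMap k₀ K₀)]
  exact algebraMap_mem_T p b hb 1

include hb in
theorem powField_le_T {d : K₀} (hd : d ∈ powField p K₀) : d ∈ T p b := by
  have : d = (⟨d, hd⟩ : powField p K₀) • (1 : K₀) := by
    rw [Subfield.smul_def, smul_eq_mul, mul_one]
  rw [this]
  exact Submodule.smul_mem _ _ (one_mem_T p b hb)

include hb in
theorem pow_mem_T {u : K₀} (hu : u ∈ T p b) (n : ℕ) : u ^ n ∈ T p b := by
  induction n with
  | zero => rw [pow_zero]; exact one_mem_T p b hb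
  | succ n ih => rw [pow_succ]; exact mul_mem_T p b hb ih hu

include hb in
theorem inv_mem_T (hp : 0 < p) {u : K₀} (hu : u ∈ T p b) : u⁻¹ ∈ T p b := by
  by_cases h0 : u = 0
  · rw [h0, inv_zero]
    exact Submodule.zero_mem _
  · have e : u⁻¹ = (u ^ p)⁻¹ * u ^ (p - 1) := by
      have : u ^ p = u ^ (p - 1) * u := by
        rw [← pow_succ]
        congr 1
        omega
      rw [this]
      field_simp
    rw [e]
    exact mul_mem_T p b hb
      (powField_le_T p b hb ((powField p K₀).inv_mem (pow_mem_powField p u)))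
      (pow_mem_T p b hb hu _)

include hb in
theorem compField_le_T (hp : 0 < p) {c : K₀} (hc : c ∈ compField p k₀ K₀) : c ∈ T p b := by
  refine Subfield.closure_induction (p := fun x _ => x ∈ T p b) ?_ ?_ ?_ ?_ ?_ ?_ hc
  · rintro _ (⟨x, rfl⟩ | ⟨y, rfl⟩)
    · exact algebraMap_mem_T p b hb x
    · exact powField_le_T p b hb (pow_mem_powField p y)
  · exact one_mem_T p b hb
  · intro x y _ _ hx hy
    exact add_mem hx hy
  · intro x _ hx
    exact neg_mem hx
  · intro x _ hx
    exact inv_mem_T p b hb hp hx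
  · intro x y _ _ hx hy
    exact mul_mem_T p b hb hx hy

include hb in
theorem exists_decomp (hp : 0 < p) {c : K₀} (hc : c ∈ compField p k₀ K₀) :
    ∃ d : Fin m → K₀, (∀ i, d i ∈ powField p K₀) ∧
      c = ∑ i, algebraMap k₀ K₀ (b i) * d i := by
  obtain ⟨d, hd⟩ := (Submodule.mem_span_range_iff_exists_fun _).mp (compField_le_T p b hb hp hc)
  refine ⟨fun i => (d i : K₀), fun i => (d i).2, ?_⟩
  rw [← hd]
  refine Finset.sum_congr rfl fun i _ => ?_
  rw [Subfield.smul_def, smul_eq_mul, mul_comm]

end Span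

section Main

theorem powField_le_compField : powField p K₀ ≤ compField p k₀ K₀ :=
  Subfield.closure_mono Set.subset_union_right

theorem main (p : ℕ) [Fact p.Prime] {k₀ K₀ : Type u} [Field k₀] [Field K₀] [Algebra k₀ K₀]
    (hfin : Module.Finite (Subfield.closure (Set.range fun x : k₀ => x ^ p)) k₀) (r : ℕ) :
    Subfield.closure (algebraMap (MvPowerSeries (Fin r) K₀)
        (FractionRing (MvPowerSeries (Fin r) K₀)) ''
        {f | ∀ n, MvPowerSeries.coeff n f ∈
          Subfield.closure (Set.range (algebraMap k₀ K₀) ∪ Set.range fun y : K₀ => y ^ p)}) =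
      Subfield.closure
        (Set.range (algebraMap k₀ (FractionRing (MvPowerSeries (Fin r) K₀))) ∪
          (Subfield.closure (algebraMap (MvPowerSeries (Fin r) K₀)
            (FractionRing (MvPowerSeries (Fin r) K₀)) ''
            {f | ∀ n, MvPowerSeries.coeff n f ∈ Subfield.closure (Set.range fun y : K₀ => y ^ p)}) :
            Set (FractionRing (MvPowerSeries (Fin r) K₀)))) := by
  have hp : 0 < p := (Fact.out : p.Prime).pos
  have hmap : ∀ x : k₀, algebraMap k₀ (FractionRing (MvPowerSeries (Fin r) K₀)) x =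
      algebraMap (MvPowerSeries (Fin r) K₀) (FractionRing (MvPowerSeries (Fin r) K₀))
        (MvPowerSeries.C (algebraMap k₀ K₀ x)) := by
    intro x
    rw [IsScalarTower.algebraMap_apply k₀ (MvPowerSeries (Fin r) K₀)
      (FractionRing (MvPowerSeries (Fin r) K₀)), MvPowerSeries.algebraMap_apply]
  apply le_antisymm
  · apply Subfield.closure_le.mpr
    rintro _ ⟨f, hf, rfl⟩
    obtain ⟨m, b, hb⟩ := Module.Finite.exists_fin
      (R := (Subfield.closure (Set.range fun x : k₀ => x ^ p))) (M := k₀)
    choose d hd1 hd2 using fun n => exists_decomp p b hb hp (hf n)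
    let g : Fin m → MvPowerSeries (Fin r) K₀ := fun i n => d n i
    have hg : ∀ i n, MvPowerSeries.coeff n (g i) = d n i := fun i n => rfl
    have hfe : f = ∑ i, MvPowerSeries.C (σ := Fin r) (algebraMap k₀ K₀ (b i)) * g i := by
      ext n
      rw [map_sum]
      simp_rw [MvPowerSeries.coeff_C_mul, hg]
      exact hd2 n
    rw [hfe, map_sum]
    refine sum_mem fun i _ => ?_
    rw [map_mul]
    refine mul_mem ?_ ?_
    · apply Subfield.subset_closure
      left
      exact ⟨b i, hmap (b i)⟩
    · apply Subfield.subset_closure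
      right
      exact Subfield.subset_closure ⟨g i, fun n => hd1 n i, rfl⟩
  · apply Subfield.closure_le.mpr
    rintro x (⟨x, rfl⟩ | hx)
    · rw [hmap]
      apply Subfield.subset_closure
      refine ⟨_, fun n => ?_, rfl⟩
      rw [MvPowerSeries.coeff_C]
      split_ifs
      · exact Subfield.subset_closure (Or.inl ⟨x, rfl⟩)
      · exact zero_mem _
    · refine Subfield.closure_mono (Set.image_mono ?_) hx
      intro f hf n
      exact powField_le_compField p (hf n)

end Main

end Groth.Agent.Lib.Helper59.LaurentSubfield
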