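import Mathlib
import Groth.Prelude.Def_Conn
import Groth.Prelude.Def_W4swconnpcurvhiggsLogLam
import Groth.Agent.Lib.Helper83.LogPiece

/-!
`span_B (gens) = layer` for logarithmic λ-connections (S16796).
-/

set_option autoImplicit false
universe v u

namespace Groth.Agent.Lib.Helper59.LogLayer

open TensorProduct LogConn Groth.Agent.Lib.Helper83.LogPiece

variable {A : Type v} {B L E : Type u} [CommRing A] [CommRing B]
    [Algebra A B] [AddCommGroup L] [Module B L] [Module A L] [IsScalarTower A B L]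
    [AddCommGroup E] [Module B E] [Module A E] [IsScalarTower A B E]
    {n : ℕ}

omit [Module A L] [IsScalarTower A B L] in
theorem coordE_tmul (ω : Module.Basis (Fin n) B L) (p : ℕ) (K : Set.powersetCard (Fin n) p)
    (e : E) (m : ⋀[B]^p L) :
    coordE ω p K (e ⊗ₜ[B] m) = ((ω.exteriorPower p).coord K m) • e := by
  unfold coordE
  simp [TensorProduct.rid_tmul]

omit [Module A L] [IsScalarTower A B L] in
theorem expand (ω : Module.Basis (Fin n) B L) (p : ℕ) (x : E ⊗[B] ⋀[B]^p L) :
    x = ∑ K : Set.powersetCard (Fin n) p, coordE ω p K x ⊗ₜ[B] (ω.exteriorPower p K) := by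
  induction x using TensorProduct.induction_on with
  | zero => simp
  | tmul e m =>
    simp only [coordE_tmul]
    conv_lhs => rw [← (ω.exteriorPower p).sum_repr m]
    rw [TensorProduct.tmul_sum]
    refine Finset.sum_congr rfl fun K _ => ?_
    rw [TensorProduct.smul_tmul, Module.Basis.coord_apply]
  | add x y hx hy =>
    conv_lhs => rw [hx, hy]
    rw [← Finset.sum_add_distrib]
    refine Finset.sum_congr rfl fun K _ => ?_
    rw [map_add, TensorProduct.add_tmul]

omit [Module A L] [IsScalarTower A B L] in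
/-- sign lemma -/
theorem ιMulti_comp_eq (ω : Module.Basis (Fin n) B L) (p : ℕ) (K : Set.powersetCard (Fin n) p)
    (f : Fin p → Fin n) (hf : Function.Injective f) (hfK : ∀ k, f k ∈ (K : Finset (Fin n))) :
    ∃ s : ℤˣ, exteriorPower.ιMulti B p (fun k => ω (f k)) = s • (ω.exteriorPower p K) := by
  let σ0 : Fin p → Fin p := fun k => (Set.powersetCard.orderIsoOfFin K).symm ⟨f k, hfK k⟩
  have hσ0 : Function.Injective σ0 := fun a b h => hf (by
    simpa [σ0] using congrArg Subtype.val ((Set.powersetCard.orderIsoOfFin K).symm.injective h))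
  let σ : Equiv.Perm (Fin p) := Equiv.ofBijective σ0 ⟨hσ0, Finite.injective_iff_surjective.1 hσ0⟩
  refine ⟨Equiv.Perm.sign σ, ?_⟩
  rw [exteriorPower.basis_apply]
  have h1 : (fun k => ω (f k)) = (ω ∘ (Set.powersetCard.ofFinEmbEquiv.symm K)) ∘ σ := by
    funext k
    simp only [Function.comp_apply]
    congr 1
    have h2 := (Set.powersetCard.orderIsoOfFin K).apply_symm_apply ⟨f k, hfK k⟩
    have h3 := congrArg Subtype.val h2
    simp only [Set.powersetCard.orderIsoOfFin] at h3
    rw [Set.powersetCard.ofFinEmbEquiv_symm_apply]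
    exact h3.symm
  rw [h1, AlternatingMap.map_perm]
  rfl

omit [Module A L] [IsScalarTower A B L] in
theorem gen_tmul_mem (t : Fin n → B) (ω : Module.Basis (Fin n) B L)
    (ι : KaehlerDifferential A B →ₗ[B] L)
    (hι : ∀ i, ι (KaehlerDifferential.D A B (t i)) = t i • ω i)
    (nabla : E →ₗ[A] E ⊗[B] L) (p : ℕ) (K : Set.powersetCard (Fin n) p) (J : Finset (Fin n))
    (hJ : J ⊆ (K : Finset (Fin n))) (e : E) :
    gen nabla ω t (K : Finset (Fin n)) J e ⊗ₜ[B] (ω.exteriorPower p K) ∈
      Submodule.span B (gens nabla ω ι p) := by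
  classical
  have hKc : (K : Finset (Fin n)).card = p := K.2
  have hl : J.card ≤ p := hKc ▸ Finset.card_le_card hJ
  have hKJ : ((K : Finset (Fin n)) \ J).card = p - J.card := by
    rw [Finset.card_sdiff_of_subset hJ, hKc]
  let f : Fin p → Fin n := fun k =>
    if hk : k.val < J.card then J.orderEmbOfFin rfl ⟨k.val, hk⟩
    else ((K : Finset (Fin n)) \ J).orderEmbOfFin hKJ ⟨k.val - J.card, by have := k.2; omega⟩
  have hf1 : ∀ (k : Fin p) (hk : k.val < J.card), f k = J.orderEmbOfFin rfl ⟨k.val, hk⟩ :=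
    fun k hk => dif_pos hk
  have hf2 : ∀ (k : Fin p) (hk : ¬ k.val < J.card), f k =
      ((K : Finset (Fin n)) \ J).orderEmbOfFin hKJ ⟨k.val - J.card, by have := k.2; omega⟩ :=
    fun k hk => dif_neg hk
  have hfJ : ∀ (k : Fin p), k.val < J.card → f k ∈ J := by
    intro k hk
    rw [hf1 k hk]; exact Finset.orderEmbOfFin_mem _ _ _
  have hfKJ : ∀ (k : Fin p), ¬ k.val < J.card → f k ∈ (K : Finset (Fin n)) \ J := by
    intro k hk
    rw [hf2 k hk]; exact Finset.orderEmbOfFin_mem _ _ _
  have hfK : ∀ k, f k ∈ (K : Finset (Fin n)) := by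
    intro k
    by_cases hk : k.val < J.card
    · exact hJ (hfJ k hk)
    · exact (Finset.mem_sdiff.1 (hfKJ k hk)).1
  have hf : Function.Injective f := by
    intro a b hab
    by_cases ha : a.val < J.card <;> by_cases hb : b.val < J.card
    · rw [hf1 a ha, hf1 b hb] at hab
      have := (J.orderEmbOfFin rfl).injective hab
      exact Fin.ext (by simpa using congrArg Fin.val this)
    · exfalso
      have h1 := hfJ a ha
      have h2 := hfKJ b hb
      rw [← hab] at h2
      exact (Finset.mem_sdiff.1 h2).2 h1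
    · exfalso
      have h1 := hfJ b hb
      have h2 := hfKJ a ha
      rw [hab] at h2
      exact (Finset.mem_sdiff.1 h2).2 h1
    · rw [hf2 a ha, hf2 b hb] at hab
      have := (((K : Finset (Fin n)) \ J).orderEmbOfFin hKJ).injective hab
      have h3 := congrArg Fin.val this
      simp only at h3
      exact Fin.ext (by omega)
  let c : Fin p → B := fun k => if k.val < J.card then 1 else t (f k)
  let v : Fin p → L := fun k =>
    if hk : k.val < J.card then ω (J.orderEmbOfFin rfl ⟨k.val, hk⟩)
    else ι (KaehlerDifferential.D A B (t (f k)))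
  have hv : ∀ k, v k = c k • ω (f k) := by
    intro k
    by_cases hk : k.val < J.card
    · simp only [v, c, dif_pos hk, if_pos hk, one_smul, hf1 k hk]
    · simp only [v, c, dif_neg hk, if_neg hk, hι]
  have hgen : compProd nabla ω J e ⊗ₜ[B] exteriorPower.ιMulti B p v ∈ gens nabla ω ι p := by
    refine ⟨J, hl, e, v, ?_, ?_, rfl⟩
    · intro k hk
      simp only [v, dif_pos hk]
    · intro k hk
      have hk' : ¬ k.val < J.card := by omega
      simp only [v, dif_neg hk']
      exact ⟨_, rfl⟩
  obtain ⟨s, hs⟩ := ιMulti_comp_eq ω p K f hf hfK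
  have hprod : ∏ k, c k = ∏ i ∈ (K : Finset (Fin n)) \ J, t i := by
    simp only [c]
    rw [Finset.prod_ite, Finset.prod_const_one, one_mul]
    refine Finset.prod_bij (fun k _ => f k) ?_ ?_ ?_ ?_
    · intro k hk
      exact hfKJ k (Finset.mem_filter.1 hk).2
    · intro a _ b _ hab
      exact hf hab
    · intro i hi
      have : i ∈ Set.range (((K : Finset (Fin n)) \ J).orderEmbOfFin hKJ) := by
        rw [Finset.range_orderEmbOfFin]; exact hi
      obtain ⟨j, rfl⟩ := this
      have hj := j.2
      refine ⟨⟨j.val + J.card, by omega⟩, ?_, ?_⟩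
      · simp
      · rw [hf2 _ (by simp)]
        congr 1
        exact Fin.ext (by simp)
    · intro k _
      rfl
  set σB : B := ((s : ℤ) : B) with hσB
  have hσσ : σB * σB = 1 := by
    rw [hσB, ← Int.cast_mul, ← Units.val_mul, Int.units_mul_self, Units.val_one, Int.cast_one]
  have hmulti : exteriorPower.ιMulti B p v =
      ((∏ i ∈ (K : Finset (Fin n)) \ J, t i) * σB) • (ω.exteriorPower p K) := by
    have h1 : v = fun k => c k • ω (f k) := funext hv
    rw [h1, AlternatingMap.map_smul_univ, hs, hprod, mul_smul, Units.smul_def,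
      ← Int.cast_smul_eq_zsmul B]
  have hfinal : gen nabla ω t (K : Finset (Fin n)) J e ⊗ₜ[B] (ω.exteriorPower p K) =
      σB • (compProd nabla ω J e ⊗ₜ[B] exteriorPower.ιMulti B p v) := by
    rw [hmulti]
    unfold gen
    rw [TensorProduct.smul_tmul, TensorProduct.smul_tmul', TensorProduct.smul_tmul, smul_smul,
      ← mul_assoc, mul_comm σB, mul_assoc, hσσ, mul_one]
  rw [hfinal]
  exact Submodule.smul_mem _ _ (Submodule.subset_span hgen)

omit [Module A L] [IsScalarTower A B L] in
theorem layer_le (t : Fin n → B) (ω : Module.Basis (Fin n) B L)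
    (ι : KaehlerDifferential A B →ₗ[B] L)
    (hι : ∀ i, ι (KaehlerDifferential.D A B (t i)) = t i • ω i)
    (nabla : E →ₗ[A] E ⊗[B] L) (p : ℕ) :
    layer nabla ω t p ≤ (Submodule.span B (gens nabla ω ι p)).restrictScalars A := by
  intro x hx
  rw [expand ω p x]
  refine Submodule.sum_mem _ fun K _ => ?_
  have hxK : coordE ω p K x ∈ piece nabla ω t (K : Finset (Fin n)) := by
    unfold layer at hx
    rw [Submodule.mem_iInf] at hx
    exact hx K
  have := piece_le nabla ω t (K : Finset (Fin n))
    (((Submodule.span B (gens nabla ω ι p)).restrictScalars A).comap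
      (((TensorProduct.mk B E (⋀[B]^p L)).flip (ω.exteriorPower p K)).restrictScalars A)) ?_
  · exact this hxK
  intro J hJ e
  exact gen_tmul_mem t ω ι hι nabla p K J hJ e

omit [Module A L] [IsScalarTower A B L] [AddCommGroup E] [Module B E] [Module A E]
  [IsScalarTower A B E] in
theorem coord_ι_gen (t : Fin n → B) (bΩ : Module.Basis (Fin n) B (KaehlerDifferential A B))
    (hbΩ : ∀ i, bΩ i = KaehlerDifferential.D A B (t i))
    (ω : Module.Basis (Fin n) B L) (ι : KaehlerDifferential A B →ₗ[B] L)
    (hι : ∀ i, ι (KaehlerDifferential.D A B (t i)) = t i • ω i) (a : Fin n)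
    (η : KaehlerDifferential A B) :
    ω.coord a (ι η) = bΩ.coord a η * t a := by
  classical
  conv_lhs => rw [← bΩ.sum_repr η]
  simp only [map_sum, map_smul, hbΩ, hι, Module.Basis.coord_apply, Module.Basis.repr_self,
    smul_eq_mul, Finsupp.single_apply]
  simp only [mul_ite, mul_one, mul_zero, Finset.sum_ite_eq', Finset.mem_univ, if_true]

theorem det_smul_mem (lam : B) (t : Fin n → B)
    (bΩ : Module.Basis (Fin n) B (KaehlerDifferential A B))
    (hbΩ : ∀ i, bΩ i = KaehlerDifferential.D A B (t i))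
    (ω : Module.Basis (Fin n) B L) (ι : KaehlerDifferential A B →ₗ[B] L)
    (hι : ∀ i, ι (KaehlerDifferential.D A B (t i)) = t i • ω i)
    (nabla : E →ₗ[A] E ⊗[B] L)
    (hc : Conn.IsLamConn (ι.compDer (KaehlerDifferential.D A B)) lam nabla)
    (p : ℕ) (K : Set.powersetCard (Fin n) p) (I : Finset (Fin n)) (hI : I.card ≤ p) (e : E)
    (v : Fin p → L)
    (hv1 : ∀ (k : Fin p) (hk : k.val < I.card), v k = ω (I.orderEmbOfFin rfl ⟨k.val, hk⟩))
    (hv2 : ∀ k : Fin p, I.card ≤ k.val → v k ∈ LinearMap.range ι) :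
    (Matrix.of fun i j => ω.coord (Set.powersetCard.ofFinEmbEquiv.symm K j) (v i)).det •
      compProd nabla ω I e ∈ piece nabla ω t (K : Finset (Fin n)) := by
  classical
  have hKj : ∀ j, Set.powersetCard.ofFinEmbEquiv.symm K j ∈ (K : Finset (Fin n)) := by
    intro j
    rw [Set.powersetCard.ofFinEmbEquiv_symm_apply]
    exact Finset.orderEmbOfFin_mem _ _ _
  by_cases hIK : I ⊆ (K : Finset (Fin n))
  · have hη : ∀ k : Fin p, ∃ η, I.card ≤ k.val → v k = ι η := by
      intro k
      by_cases hk : I.card ≤ k.val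
      · obtain ⟨η, hη⟩ := hv2 k hk
        exact ⟨η, fun _ => hη.symm⟩
      · exact ⟨0, fun h => absurd h hk⟩
    choose η hη using hη
    set Kj : Fin p → Fin n := fun j => Set.powersetCard.ofFinEmbEquiv.symm K j with hKjdef
    let d : Fin p → B := fun j => if Kj j ∈ I then 1 else t (Kj j)
    let M' : Matrix (Fin p) (Fin p) B := Matrix.of fun i j =>
      if Kj j ∈ I then ω.coord (Kj j) (v i)
      else (if i.val < I.card then 0 else bΩ.coord (Kj j) (η i))
    have hM : (Matrix.of fun i j => ω.coord (Set.powersetCard.ofFinEmbEquiv.symm K j) (v i)) =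
        Matrix.of fun i j => d j * M' i j := by
      ext i j
      simp only [Matrix.of_apply, d, M']
      by_cases hj : Kj j ∈ I
      · rw [if_pos hj, if_pos hj, one_mul]
      · rw [if_neg hj, if_neg hj]
        by_cases hi : i.val < I.card
        · rw [if_pos hi, mul_zero, hv1 i hi, Module.Basis.coord_apply, Module.Basis.repr_self,
            Finsupp.single_apply, if_neg]
          intro h
          apply hj
          show Set.powersetCard.ofFinEmbEquiv.symm K j ∈ I
          rw [← h]
          exact Finset.orderEmbOfFin_mem _ _ _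
        · rw [if_neg hi, hη i (by omega), coord_ι_gen t bΩ hbΩ ω ι hι, mul_comm]
    have hprod : ∏ j, d j = ∏ a ∈ (K : Finset (Fin n)) \ I, t a := by
      have h1 : ∏ j, d j = ∏ a ∈ (K : Finset (Fin n)), (if a ∈ I then 1 else t a) := by
        conv_rhs => rw [← Finset.map_orderEmbOfFin_univ (K : Finset (Fin n)) K.2]
        rw [Finset.prod_map]
        rfl
      rw [h1, Finset.prod_ite, Finset.prod_const_one, one_mul, Finset.sdiff_eq_filter]
    rw [hM, Matrix.det_mul_row, hprod, mul_comm, mul_smul]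
    exact smul_mem_piece lam t bΩ hbΩ ω ι hι nabla hc _ _ _
      (gen_mem nabla ω t (K : Finset (Fin n)) I hIK e)
  · obtain ⟨a, haI, haK⟩ := Finset.not_subset.1 hIK
    have : a ∈ Set.range (I.orderEmbOfFin rfl) := by
      rw [Finset.range_orderEmbOfFin]; exact haI
    obtain ⟨i0, rfl⟩ := this
    have hi0 : i0.val < p := lt_of_lt_of_le i0.2 hI
    rw [Matrix.det_eq_zero_of_row_eq_zero ⟨i0.val, hi0⟩, zero_smul]
    · exact Submodule.zero_mem _
    · intro j
      simp only [Matrix.of_apply]
      rw [hv1 ⟨i0.val, hi0⟩ i0.2, Module.Basis.coord_apply, Module.Basis.repr_self,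
        Finsupp.single_apply, if_neg]
      intro h
      apply haK
      have : (⟨i0.val, i0.2⟩ : Fin I.card) = i0 := rfl
      rw [this] at h
      rw [h]
      exact hKj j

theorem gens_subset_layer (lam : B) (t : Fin n → B)
    (bΩ : Module.Basis (Fin n) B (KaehlerDifferential A B))
    (hbΩ : ∀ i, bΩ i = KaehlerDifferential.D A B (t i))
    (ω : Module.Basis (Fin n) B L) (ι : KaehlerDifferential A B →ₗ[B] L)
    (hι : ∀ i, ι (KaehlerDifferential.D A B (t i)) = t i • ω i)
    (nabla : E →ₗ[A] E ⊗[B] L)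
    (hc : Conn.IsLamConn (ι.compDer (KaehlerDifferential.D A B)) lam nabla)
    (p : ℕ) (x : E ⊗[B] ⋀[B]^p L) (hx : x ∈ gens nabla ω ι p) :
    x ∈ layer nabla ω t p := by
  obtain ⟨I, hI, e, v, hv1, hv2, rfl⟩ := hx
  unfold layer
  rw [Submodule.mem_iInf]
  intro K
  rw [Submodule.mem_comap]
  show coordE ω p K (compProd nabla ω I e ⊗ₜ[B] exteriorPower.ιMulti B p v) ∈ _
  rw [coordE_tmul, exteriorPower.basis_coord, exteriorPower.ιMultiDual_apply_ιMulti]
  exact det_smul_mem lam t bΩ hbΩ ω ι hι nabla hc p K I hI e v hv1 hv2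

theorem smul_mem_layer (lam : B) (t : Fin n → B)
    (bΩ : Module.Basis (Fin n) B (KaehlerDifferential A B))
    (hbΩ : ∀ i, bΩ i = KaehlerDifferential.D A B (t i))
    (ω : Module.Basis (Fin n) B L) (ι : KaehlerDifferential A B →ₗ[B] L)
    (hι : ∀ i, ι (KaehlerDifferential.D A B (t i)) = t i • ω i)
    (nabla : E →ₗ[A] E ⊗[B] L)
    (hc : Conn.IsLamConn (ι.compDer (KaehlerDifferential.D A B)) lam nabla)
    (p : ℕ) (b : B) (x : E ⊗[B] ⋀[B]^p L) (hx : x ∈ layer nabla ω t p) :
    b • x ∈ layer nabla ω t p := by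
  unfold layer at hx ⊢
  rw [Submodule.mem_iInf] at hx ⊢
  intro K
  have := hx K
  rw [Submodule.mem_comap] at this ⊢
  show coordE ω p K (b • x) ∈ _
  rw [map_smul]
  exact smul_mem_piece lam t bΩ hbΩ ω ι hι nabla hc _ _ _ this

theorem main (lam : B) (t : Fin n → B)
    (bΩ : Module.Basis (Fin n) B (KaehlerDifferential A B))
    (hbΩ : ∀ i, bΩ i = KaehlerDifferential.D A B (t i))
    (ω : Module.Basis (Fin n) B L) (ι : KaehlerDifferential A B →ₗ[B] L)
    (hι : ∀ i, ι (KaehlerDifferential.D A B (t i)) = t i • ω i)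
    (nabla : E →ₗ[A] E ⊗[B] L)
    (hc : Conn.IsLamConn (ι.compDer (KaehlerDifferential.D A B)) lam nabla)
    (p : ℕ) :
    (Submodule.span B (gens nabla ω ι p)).restrictScalars A = layer nabla ω t p := by
  refine le_antisymm ?_ (layer_le t ω ι hι nabla p)
  intro x hx
  rw [Submodule.restrictScalars_mem] at hx
  induction hx using Submodule.span_induction with
  | mem x hx => exact gens_subset_layer lam t bΩ hbΩ ω ι hι nabla hc p x hx
  | zero => exact Submodule.zero_mem _
  | add x y _ _ hx hy => exact Submodule.add_mem _ hx hy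
  | smul b x _ hx => exact smul_mem_layer lam t bΩ hbΩ ω ι hι nabla hc p b x hx

end Groth.Agent.Lib.Helper59.LogLayer
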