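import Groth.Agent.Lib.Helper59.LogLayer
import Groth.Agent.Lib.Helper83.LogPiece2
import Groth.Prelude.Def_LogDiff

/-!
Stability of the layers under the extended connection (S16797), and tools for S16798.
-/

set_option autoImplicit false
universe v u

namespace Groth.Agent.Lib.Helper59.LogLayer

open TensorProduct LogConn Groth.Agent.Lib.Helper83.LogPiece

variable {A : Type v} {B L E : Type u} [CommRing A] [CommRing B]
    [Algebra A B] [AddCommGroup L] [Module B L] [Module A L] [IsScalarTower A B L]
    [AddCommGroup E] [Module B E] [Module A E] [IsScalarTower A B E]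
    {n : ℕ}

section Comm

variable (nabla : E →ₗ[A] E ⊗[B] L) (ω : Module.Basis (Fin n) B L)
  (hcomm : ∀ i j, comp nabla ω i ∘ₗ comp nabla ω j = comp nabla ω j ∘ₗ comp nabla ω i)

include hcomm in
omit [Module A L] [IsScalarTower A B L] in
theorem comp_compProd_comm (i : Fin n) (J : Finset (Fin n)) :
    comp nabla ω i ∘ₗ compProd nabla ω J = compProd nabla ω J ∘ₗ comp nabla ω i := by
  classical
  induction J using Finset.induction_on_min with
  | empty => rw [compProd_empty]; rfl
  | insert a s h ih =>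
    rw [compProd_insert nabla ω a s h, ← LinearMap.comp_assoc, hcomm i a, LinearMap.comp_assoc, ih,
      LinearMap.comp_assoc]

include hcomm in
omit [Module A L] [IsScalarTower A B L] in
theorem compProd_insert' (i : Fin n) (J : Finset (Fin n)) (hi : i ∉ J) :
    compProd nabla ω (insert i J) = comp nabla ω i ∘ₗ compProd nabla ω J := by
  classical
  induction J using Finset.induction_on_min with
  | empty => exact compProd_insert nabla ω i ∅ (fun x hx => absurd hx (Finset.notMem_empty x))
  | insert a s h ih =>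
    have hia : i ≠ a := fun hh => hi (hh ▸ Finset.mem_insert_self _ _)
    have his : i ∉ s := fun hh => hi (Finset.mem_insert_of_mem hh)
    rcases lt_or_gt_of_ne hia with hlt | hgt
    · exact compProd_insert nabla ω i (insert a s) (fun x hx => by
        rcases Finset.mem_insert.1 hx with rfl | hx
        · exact hlt
        · exact hlt.trans (h x hx))
    · rw [Finset.insert_comm, compProd_insert nabla ω a (insert i s) (fun x hx => by
        rcases Finset.mem_insert.1 hx with rfl | hx
        · exact hgt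
        · exact h x hx), ih his, compProd_insert nabla ω a s h, ← LinearMap.comp_assoc,
        ← LinearMap.comp_assoc, hcomm a i]

end Comm

section Piece

variable (lam : B) (t : Fin n → B)
    (bΩ : Module.Basis (Fin n) B (KaehlerDifferential A B))
    (hbΩ : ∀ i, bΩ i = KaehlerDifferential.D A B (t i))
    (ω : Module.Basis (Fin n) B L) (ι : KaehlerDifferential A B →ₗ[B] L)
    (hι : ∀ i, ι (KaehlerDifferential.D A B (t i)) = t i • ω i)
    (nabla : E →ₗ[A] E ⊗[B] L)
    (hc : Conn.IsLamConn (ι.compDer (KaehlerDifferential.D A B)) lam nabla)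
    (hcomm : ∀ i j, comp nabla ω i ∘ₗ comp nabla ω j = comp nabla ω j ∘ₗ comp nabla ω i)

include hbΩ hι hc hcomm in
theorem comp_gen' (i : Fin n) (K J : Finset (Fin n)) (hi : i ∉ K) (hJ : J ⊆ K) (e : E) :
    comp nabla ω i (gen nabla ω t K J e) = gen nabla ω t (insert i K) (insert i J) e := by
  classical
  unfold gen
  rw [comp_smul lam t bΩ hbΩ ω ι hι nabla hc, pd_prod t bΩ hbΩ i (K \ J)
    (fun hh => hi (Finset.mem_sdiff.mp hh).1), mul_zero, zero_smul, add_zero]
  have h1 : comp nabla ω i (compProd nabla ω J e) = compProd nabla ω (insert i J) e := by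
    rw [compProd_insert' nabla ω hcomm i J (fun hh => hi (hJ hh))]
    rfl
  have h2 : K \ J = insert i K \ insert i J := by
    ext x
    simp only [Finset.mem_sdiff, Finset.mem_insert]
    constructor
    · rintro ⟨k1, k2⟩
      refine ⟨Or.inr k1, ?_⟩
      rintro (k3 | k3)
      · exact hi (k3 ▸ k1)
      · exact k2 k3
    · rintro ⟨k1 | k1, k2⟩
      · exact absurd (Or.inl k1) k2
      · exact ⟨k1, fun k3 => k2 (Or.inr k3)⟩
  rw [h1, h2]

include hbΩ hι hc hcomm in
theorem comp_mem_piece_insert (i : Fin n) (K : Finset (Fin n)) (hi : i ∉ K) (y : E)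
    (hy : y ∈ piece nabla ω t K) : comp nabla ω i y ∈ piece nabla ω t (insert i K) := by
  classical
  have := piece_le nabla ω t K ((piece nabla ω t (insert i K)).comap (comp nabla ω i)) ?_
  · exact this hy
  intro J hJ e
  rw [Submodule.mem_comap, comp_gen' lam t bΩ hbΩ ω ι hι nabla hc hcomm i K J hi hJ e]
  exact gen_mem nabla ω t _ _ (Finset.insert_subset_insert i hJ) e

end Piece

section Wedge

omit [Module A L] [IsScalarTower A B L] [CommRing A] [Algebra A B] [Module A E]
  [IsScalarTower A B E] in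
theorem expand_one (ω : Module.Basis (Fin n) B L) (y : E ⊗[B] L) :
    y = ∑ i, (TensorProduct.rid B E (TensorProduct.map LinearMap.id (ω.coord i) y)) ⊗ₜ[B] ω i := by
  induction y using TensorProduct.induction_on with
  | zero => simp
  | tmul e l =>
    simp only [TensorProduct.map_tmul, LinearMap.id_apply, TensorProduct.rid_tmul]
    conv_lhs => rw [← ω.sum_repr l]
    rw [TensorProduct.tmul_sum]
    refine Finset.sum_congr rfl fun i _ => ?_
    rw [TensorProduct.smul_tmul, Module.Basis.coord_apply]
  | add x y hx hy =>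
    conv_lhs => rw [hx, hy]
    rw [← Finset.sum_add_distrib]
    refine Finset.sum_congr rfl fun i _ => ?_
    rw [map_add, map_add, TensorProduct.add_tmul]

omit [Module A L] [IsScalarTower A B L] in
theorem nabla_expand (nabla : E →ₗ[A] E ⊗[B] L) (ω : Module.Basis (Fin n) B L) (m : E) :
    nabla m = ∑ i, comp nabla ω i m ⊗ₜ[B] ω i := by
  conv_lhs => rw [expand_one ω (nabla m)]
  rfl

omit [Module A L] [IsScalarTower A B L] [CommRing A] [Algebra A B] in
theorem wedge_ιMulti (p : ℕ) (l : L) (u : Fin p → L) :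
    Conn.wedge p ((exteriorPower.oneEquiv B L).symm l) (exteriorPower.ιMulti B p u) =
      exteriorPower.ιMulti B (p + 1) (Fin.cons l u) := by
  apply Subtype.ext
  rw [Conn.wedge_apply_coe, exteriorPower.oneEquiv_symm_apply]
  simp only [exteriorPower.ιMulti_apply_coe]
  rw [ExteriorAlgebra.ιMulti_succ_apply (Fin.cons l u), ExteriorAlgebra.ιMulti_succ_apply]
  simp [Matrix.vecTail, ExteriorAlgebra.ιMulti_zero_apply]

omit [Module A L] [IsScalarTower A B L] [CommRing A] [Algebra A B] [Module A E]
  [IsScalarTower A B E] in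
theorem twedge_toOne_tmul (p : ℕ) (y : E) (l : L) (u : Fin p → L) :
    Conn.twedge p (Conn.toOne (y ⊗ₜ[B] l)) (exteriorPower.ιMulti B p u) =
      y ⊗ₜ[B] exteriorPower.ιMulti B (p + 1) (Fin.cons l u) := by
  rw [Conn.toOne_tmul, Conn.twedge_tmul, wedge_ιMulti]

end Wedge

section Integrable

variable (lam : B) (ω : Module.Basis (Fin n) B L) (ι : KaehlerDifferential A B →ₗ[B] L)
    (nabla : E →ₗ[A] E ⊗[B] L)
    (d : ∀ p : ℕ, ↥(⋀[B]^p L) →ₗ[A] ↥(⋀[B]^(p + 1) L))
    (nablas : ∀ p : ℕ, E ⊗[B] ↥(⋀[B]^p L) →ₗ[A] E ⊗[B] ↥(⋀[B]^(p + 1) L))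

/-- the one-forms with vanishing differential -/
def DClosed (l : Fin n → L) : Prop :=
  ∀ (p : ℕ) (u : Fin p → Fin n), d p (exteriorPower.ιMulti B p (fun k => l (u k))) = 0

omit [AddCommGroup E] [Module B E] [Module A E] [IsScalarTower A B E] in
theorem dClosed_of_isLogRule
    (hd : LogDiff.IsLogRule (KaehlerDifferential.D A B) ι (⇑ω) d) : DClosed d (⇑ω) := by
  intro p u
  have := hd p 1 (fun k => ω (u k)) (fun k => Or.inr ⟨u k, rfl⟩)
  rw [one_smul] at this
  rw [this]
  have h0 : ι (KaehlerDifferential.D A B 1) = 0 := by rw [Derivation.map_one_eq_zero, map_zero]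
  rw [h0]
  exact AlternatingMap.map_coord_zero _ (0 : Fin (p + 1)) (by simp)

theorem nablas_tmul_basis (hrule : Conn.IsCxRule nabla (fun p => lam • d p) nablas)
    (hcl : DClosed d (⇑ω)) (p : ℕ) (y : E) (u : Fin p → Fin n) :
    nablas p (y ⊗ₜ[B] exteriorPower.ιMulti B p (fun k => ω (u k))) =
      ∑ i, comp nabla ω i y ⊗ₜ[B]
        exteriorPower.ιMulti B (p + 1) (Fin.cons (ω i) (fun k => ω (u k))) := by
  rw [hrule p y]
  have h0 : (lam • d p) (exteriorPower.ιMulti B p (fun k => ω (u k))) = 0 := by
    rw [LinearMap.smul_apply, hcl p u, smul_zero]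
  rw [h0, TensorProduct.tmul_zero, add_zero, nabla_expand nabla ω y, map_sum, map_sum,
    LinearMap.sum_apply]
  refine Finset.sum_congr rfl fun i _ => ?_
  exact twedge_toOne_tmul p _ _ _

theorem comp_comm_of_integrable (hint : Conn.IsIntegrable nabla (fun p => lam • d p) nablas)
    (hcl : DClosed d (⇑ω)) (a b : Fin n) (m : E) :
    comp nabla ω a (comp nabla ω b m) = comp nabla ω b (comp nabla ω a m) := by
  classical
  have h0 := hint.2 m
  rw [nabla_expand nabla ω m, map_sum, map_sum] at h0
  have h1 : ∀ j, nablas 1 (Conn.toOne (comp nabla ω j m ⊗ₜ[B] ω j)) =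
      ∑ i, comp nabla ω i (comp nabla ω j m) ⊗ₜ[B]
        exteriorPower.ιMulti B 2 (Fin.cons (ω i) (fun _ : Fin 1 => ω j)) := by
    intro j
    rw [Conn.toOne_tmul, exteriorPower.oneEquiv_symm_apply]
    exact nablas_tmul_basis lam ω nabla d nablas hint.1 hcl 1 _ (fun _ => j)
  simp only [h1] at h0
  let φ : Module.Dual B (⋀[B]^2 L) :=
    exteriorPower.pairingDual B L 2 (exteriorPower.ιMulti B 2 ![ω.coord a, ω.coord b])
  let Φ : E ⊗[B] (⋀[B]^2 L) →ₗ[B] E :=
    (TensorProduct.rid B E).toLinearMap ∘ₗ TensorProduct.map LinearMap.id φ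
  have h2 := congrArg Φ h0
  rw [map_zero, map_sum] at h2
  simp only [map_sum] at h2
  have h3 : ∀ i j, Φ (comp nabla ω i (comp nabla ω j m) ⊗ₜ[B]
        exteriorPower.ιMulti B 2 (Fin.cons (ω i) (fun _ : Fin 1 => ω j))) =
      ((if i = a then (1 : B) else 0) * (if j = b then 1 else 0) -
        (if i = b then 1 else 0) * (if j = a then 1 else 0)) •
        comp nabla ω i (comp nabla ω j m) := by
    intro i j
    simp only [Φ, φ, LinearMap.coe_comp, LinearEquiv.coe_coe, Function.comp_apply,
      TensorProduct.map_tmul, LinearMap.id_apply, TensorProduct.rid_tmul,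
      exteriorPower.pairingDual_ιMulti_ιMulti, Matrix.det_fin_two, Matrix.of_apply]
    congr 1
    simp [Module.Basis.coord_apply, Module.Basis.repr_self, Finsupp.single_apply]
  simp only [h3] at h2
  simp only [sub_smul, Finset.sum_sub_distrib, mul_smul, ite_smul, one_smul, zero_smul,
    smul_ite, smul_zero] at h2
  have key : ∀ (a b : Fin n) (X : Fin n → Fin n → E),
      (∑ x, ∑ x1, if x = b then (if x1 = a then X x1 x else 0) else 0) = X a b := by
    intro a b X
    rw [Finset.sum_eq_single b (by intro x _ hx; simp [hx]) (by simp)]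
    rw [Finset.sum_eq_single a (by intro x _ hx; simp [hx]) (by simp)]
    simp
  simp only [key] at h2
  exact sub_eq_zero.1 h2

end Integrable

section Layer

omit [Module A L] [IsScalarTower A B L] in
theorem tmul_basis_mem_layer (nabla : E →ₗ[A] E ⊗[B] L) (ω : Module.Basis (Fin n) B L)
    (t : Fin n → B) (p : ℕ) (K' : Set.powersetCard (Fin n) p) (y : E)
    (hy : y ∈ piece nabla ω t (K' : Finset (Fin n))) :
    y ⊗ₜ[B] (ω.exteriorPower p K') ∈ layer nabla ω t p := by
  classical
  unfold layer
  rw [Submodule.mem_iInf]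
  intro K''
  rw [Submodule.mem_comap]
  show coordE ω p K'' (y ⊗ₜ[B] (ω.exteriorPower p K')) ∈ _
  rw [coordE_tmul, Module.Basis.coord_apply, Module.Basis.repr_self, Finsupp.single_apply]
  split_ifs with h
  · rw [one_smul, ← h]; exact hy
  · rw [zero_smul]; exact Submodule.zero_mem _

omit [Module A L] [IsScalarTower A B L] in
theorem tmul_cons_mem_layer (nabla : E →ₗ[A] E ⊗[B] L) (ω : Module.Basis (Fin n) B L)
    (t : Fin n → B) (p : ℕ) (K : Set.powersetCard (Fin n) p) (i : Fin n) (y : E)
    (hy : i ∉ (K : Finset (Fin n)) → y ∈ piece nabla ω t (insert i (K : Finset (Fin n)))) :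
    y ⊗ₜ[B] exteriorPower.ιMulti B (p + 1)
      (Fin.cons (ω i) (fun k => ω (Set.powersetCard.ofFinEmbEquiv.symm K k))) ∈
      layer nabla ω t (p + 1) := by
  classical
  by_cases hi : i ∈ (K : Finset (Fin n))
  · have : i ∈ Set.range (Set.powersetCard.ofFinEmbEquiv.symm K) :=
      (Set.powersetCard.mem_range_ofFinEmbEquiv_symm_iff_mem K i).2 hi
    obtain ⟨k, hk⟩ := this
    have h0 : exteriorPower.ιMulti B (p + 1)
        (Fin.cons (ω i) (fun k => ω (Set.powersetCard.ofFinEmbEquiv.symm K k))) = 0 := by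
      refine AlternatingMap.map_eq_zero_of_eq _ _ (i := 0) (j := k.succ) ?_ (Fin.succ_ne_zero k).symm
      simp [hk]
    rw [h0, TensorProduct.tmul_zero]
    exact Submodule.zero_mem _
  · let f : Fin (p + 1) → Fin n := Fin.cons i (fun k => Set.powersetCard.ofFinEmbEquiv.symm K k)
    have hKk : ∀ k, Set.powersetCard.ofFinEmbEquiv.symm K k ∈ (K : Finset (Fin n)) := by
      intro k
      rw [Set.powersetCard.ofFinEmbEquiv_symm_apply]
      exact Finset.orderEmbOfFin_mem _ _ _
    have hf : Function.Injective f := by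
      intro a b hab
      induction a using Fin.cases with
      | zero =>
        induction b using Fin.cases with
        | zero => rfl
        | succ b =>
          exfalso
          simp only [f, Fin.cons_zero, Fin.cons_succ] at hab
          exact hi (hab ▸ hKk b)
      | succ a =>
        induction b using Fin.cases with
        | zero =>
          exfalso
          simp only [f, Fin.cons_zero, Fin.cons_succ] at hab
          exact hi (hab ▸ hKk a)
        | succ b =>
          simp only [f, Fin.cons_succ] at hab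
          rw [(Set.powersetCard.ofFinEmbEquiv.symm K).injective hab]
    let K' : Set.powersetCard (Fin n) (p + 1) :=
      ⟨insert i (K : Finset (Fin n)), by
        show (insert i (K : Finset (Fin n))).card = p + 1
        rw [Finset.card_insert_of_notMem hi]
        exact congrArg (· + 1) K.2⟩
    have hfK : ∀ k, f k ∈ (K' : Finset (Fin n)) := by
      intro k
      induction k using Fin.cases with
      | zero => exact Finset.mem_insert_self _ _
      | succ k => exact Finset.mem_insert_of_mem (hKk k)
    obtain ⟨s, hs⟩ := ιMulti_comp_eq ω (p + 1) K' f hf hfK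
    have hfun : (Fin.cons (ω i) (fun k => ω (Set.powersetCard.ofFinEmbEquiv.symm K k)) :
        Fin (p + 1) → L) = fun k => ω (f k) := by
      funext k
      induction k using Fin.cases with
      | zero => rfl
      | succ k => rfl
    rw [hfun, hs, Units.smul_def, TensorProduct.tmul_smul]
    exact zsmul_mem (tmul_basis_mem_layer nabla ω t (p + 1) K' y (hy hi)) _

theorem nablas_mem_layer (lam : B) (t : Fin n → B)
    (bΩ : Module.Basis (Fin n) B (KaehlerDifferential A B))
    (hbΩ : ∀ i, bΩ i = KaehlerDifferential.D A B (t i))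
    (ω : Module.Basis (Fin n) B L) (ι : KaehlerDifferential A B →ₗ[B] L)
    (hι : ∀ i, ι (KaehlerDifferential.D A B (t i)) = t i • ω i)
    (nabla : E →ₗ[A] E ⊗[B] L)
    (hc : Conn.IsLamConn (ι.compDer (KaehlerDifferential.D A B)) lam nabla)
    (d : ∀ p : ℕ, ↥(⋀[B]^p L) →ₗ[A] ↥(⋀[B]^(p + 1) L))
    (nablas : ∀ p : ℕ, E ⊗[B] ↥(⋀[B]^p L) →ₗ[A] E ⊗[B] ↥(⋀[B]^(p + 1) L))
    (hrule : Conn.IsCxRule nabla (fun p => lam • d p) nablas)
    (hcl : DClosed d (⇑ω))
    (hcomm : ∀ i j, comp nabla ω i ∘ₗ comp nabla ω j = comp nabla ω j ∘ₗ comp nabla ω i)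
    (p : ℕ) (x : E ⊗[B] ↥(⋀[B]^p L)) (hx : x ∈ layer nabla ω t p) :
    nablas p x ∈ layer nabla ω t (p + 1) := by
  rw [expand ω p x, map_sum]
  refine Submodule.sum_mem _ fun K _ => ?_
  have hxK : coordE ω p K x ∈ piece nabla ω t (K : Finset (Fin n)) := by
    unfold layer at hx
    rw [Submodule.mem_iInf] at hx
    exact hx K
  rw [exteriorPower.basis_apply]
  show nablas p (_ ⊗ₜ[B] exteriorPower.ιMulti B p
    (fun k => ω (Set.powersetCard.ofFinEmbEquiv.symm K k))) ∈ _
  rw [nablas_tmul_basis lam ω nabla d nablas hrule hcl p _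
    (fun k => Set.powersetCard.ofFinEmbEquiv.symm K k)]
  refine Submodule.sum_mem _ fun i _ => ?_
  exact tmul_cons_mem_layer nabla ω t p K i _ (fun hi =>
    comp_mem_piece_insert lam t bΩ hbΩ ω ι hι nabla hc hcomm i _ hi _ hxK)

end Layer

end Groth.Agent.Lib.Helper59.LogLayer
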