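import Groth.Agent.Lib.Helper59.LogLayer2

/-!
Independence of the layers of the coordinate system (S16798).
-/

set_option autoImplicit false
universe v u

namespace Groth.Agent.Lib.Helper59.LogLayer

open TensorProduct LogConn Groth.Agent.Lib.Helper83.LogPiece

variable {A : Type v} {B L E : Type u} [CommRing A] [CommRing B]
    [Algebra A B] [AddCommGroup L] [Module B L] [Module A L] [IsScalarTower A B L]
    [AddCommGroup E] [Module B E] [Module A E] [IsScalarTower A B E]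
    {n : ℕ}

section One

variable (lam : B) (t : Fin n → B)
    (bΩ : Module.Basis (Fin n) B (KaehlerDifferential A B))
    (hbΩ : ∀ i, bΩ i = KaehlerDifferential.D A B (t i))
    (ω : Module.Basis (Fin n) B L) (ι : KaehlerDifferential A B →ₗ[B] L)
    (hι : ∀ i, ι (KaehlerDifferential.D A B (t i)) = t i • ω i)
    (nabla : E →ₗ[A] E ⊗[B] L)
    (hc : Conn.IsLamConn (ι.compDer (KaehlerDifferential.D A B)) lam nabla)
    (hcomm : ∀ i j, comp nabla ω i ∘ₗ comp nabla ω j = comp nabla ω j ∘ₗ comp nabla ω i)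

include hbΩ in
theorem pd_prod_mul (j : Fin n) (S : Finset (Fin n)) (hj : j ∈ S) :
    pd bΩ j (∏ a ∈ S, t a) * t j = ∏ a ∈ S, t a := by
  classical
  rw [← Finset.insert_erase hj, Finset.prod_insert (Finset.notMem_erase j S), pd_mul,
    pd_prod t bΩ hbΩ j (S.erase j) (Finset.notMem_erase j S), pd_t t bΩ hbΩ, if_pos rfl]
  ring

include hbΩ hι hc hcomm in
theorem comp_gen_any (j : Fin n) (K J : Finset (Fin n)) (e : E) :
    comp nabla ω j (gen nabla ω t K J e) =
      gen nabla ω t K J (comp nabla ω j e) +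
        (if j ∈ K \ J then lam • gen nabla ω t K J e else 0) := by
  classical
  unfold gen
  rw [comp_smul lam t bΩ hbΩ ω ι hι nabla hc]
  have h1 : comp nabla ω j (compProd nabla ω J e) = compProd nabla ω J (comp nabla ω j e) :=
    LinearMap.congr_fun (comp_compProd_comm nabla ω hcomm j J) e
  rw [h1]
  congr 1
  split_ifs with hj
  · rw [smul_smul, smul_smul, mul_assoc, pd_prod_mul t bΩ hbΩ j _ hj]
  · rw [pd_prod t bΩ hbΩ j _ hj, mul_zero, zero_smul]

include hbΩ hι hc hcomm in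
theorem comp_mem_piece (j : Fin n) (K : Finset (Fin n)) (y : E)
    (hy : y ∈ piece nabla ω t K) : comp nabla ω j y ∈ piece nabla ω t K := by
  classical
  have := piece_le nabla ω t K ((piece nabla ω t K).comap (comp nabla ω j)) ?_
  · exact this hy
  intro J hJ e
  rw [Submodule.mem_comap, comp_gen_any lam t bΩ hbΩ ω ι hι nabla hc hcomm j K J e]
  refine Submodule.add_mem _ (gen_mem nabla ω t K J hJ _) ?_
  split_ifs
  · exact smul_mem_piece lam t bΩ hbΩ ω ι hι nabla hc K lam _ (gen_mem nabla ω t K J hJ e)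
  · exact Submodule.zero_mem _

include hcomm in
omit [Module A L] [IsScalarTower A B L] in
theorem compProd_union (S T : Finset (Fin n)) (h : Disjoint S T) :
    compProd nabla ω (S ∪ T) = compProd nabla ω S ∘ₗ compProd nabla ω T := by
  classical
  induction S using Finset.induction_on with
  | empty => rw [Finset.empty_union, compProd_empty]; rfl
  | insert a S ha ih =>
    have h1 : Disjoint S T := Finset.disjoint_of_subset_left (Finset.subset_insert a S) h
    have h2 : a ∉ S ∪ T := by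
      rw [Finset.mem_union]
      rintro (h3 | h3)
      · exact ha h3
      · exact (Finset.disjoint_left.1 h) (Finset.mem_insert_self a S) h3
    rw [Finset.insert_union, compProd_insert' nabla ω hcomm a _ h2, ih h1,
      compProd_insert' nabla ω hcomm a S ha, LinearMap.comp_assoc]

include hbΩ hι hc hcomm in
theorem prod_smul_mem_piece (K K' : Finset (Fin n)) (y : E) (hy : y ∈ piece nabla ω t K) :
    (∏ a ∈ K' \ K, t a) • y ∈ piece nabla ω t K' := by
  classical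
  have := piece_le nabla ω t K ((piece nabla ω t K').comap
    ((LinearMap.lsmul B E (∏ a ∈ K' \ K, t a)).restrictScalars A)) ?_
  · exact this hy
  intro J hJ e
  rw [Submodule.mem_comap]
  change (∏ a ∈ K' \ K, t a) • gen nabla ω t K J e ∈ _
  unfold gen
  have hJeq : J = (J ∩ K') ∪ (J \ K') := by
    ext x
    simp only [Finset.mem_union, Finset.mem_inter, Finset.mem_sdiff]
    tauto
  have hdisj : Disjoint (J ∩ K') (J \ K') := by
    rw [Finset.disjoint_left]
    intro x hx1 hx2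
    exact (Finset.mem_sdiff.1 hx2).2 (Finset.mem_inter.1 hx1).2
  have hcp : compProd nabla ω J e = compProd nabla ω (J ∩ K') (compProd nabla ω (J \ K') e) := by
    conv_lhs => rw [hJeq, compProd_union ω nabla hcomm _ _ hdisj]
    rfl
  rw [hcp, smul_smul]
  have hsub : K' \ (J ∩ K') ⊆ (K' \ K) ∪ (K \ J) := by
    intro x hx
    simp only [Finset.mem_union, Finset.mem_inter, Finset.mem_sdiff] at hx ⊢
    by_cases hxK : x ∈ K
    · exact Or.inr ⟨hxK, fun h => hx.2 ⟨h, hx.1⟩⟩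
    · exact Or.inl ⟨hx.1, hxK⟩
  have hdisj2 : Disjoint (K' \ K) (K \ J) := by
    rw [Finset.disjoint_left]
    intro x hx1 hx2
    exact (Finset.mem_sdiff.1 hx1).2 (Finset.mem_sdiff.1 hx2).1
  have hprod : (∏ a ∈ K' \ K, t a) * (∏ a ∈ K \ J, t a) =
      (∏ a ∈ ((K' \ K) ∪ (K \ J)) \ (K' \ (J ∩ K')), t a) * ∏ a ∈ K' \ (J ∩ K'), t a := by
    rw [Finset.prod_sdiff hsub, Finset.prod_union hdisj2]
  rw [hprod, mul_smul]
  exact smul_mem_piece lam t bΩ hbΩ ω ι hι nabla hc K' _ _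
    (gen_mem nabla ω t K' (J ∩ K') Finset.inter_subset_right _)

end One

section Two

variable (lam : B) (ι : KaehlerDifferential A B →ₗ[B] L) (nabla : E →ₗ[A] E ⊗[B] L)
    (hc : Conn.IsLamConn (ι.compDer (KaehlerDifferential.D A B)) lam nabla)
    (t₁ : Fin n → B) (bΩ₁ : Module.Basis (Fin n) B (KaehlerDifferential A B))
    (hbΩ₁ : ∀ i, bΩ₁ i = KaehlerDifferential.D A B (t₁ i))
    (ω₁ : Module.Basis (Fin n) B L)
    (hι₁ : ∀ i, ι (KaehlerDifferential.D A B (t₁ i)) = t₁ i • ω₁ i)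
    (hcomm₁ : ∀ i j, comp nabla ω₁ i ∘ₗ comp nabla ω₁ j = comp nabla ω₁ j ∘ₗ comp nabla ω₁ i)
    (t₂ : Fin n → B) (bΩ₂ : Module.Basis (Fin n) B (KaehlerDifferential A B))
    (hbΩ₂ : ∀ i, bΩ₂ i = KaehlerDifferential.D A B (t₂ i))
    (ω₂ : Module.Basis (Fin n) B L)
    (hι₂ : ∀ i, ι (KaehlerDifferential.D A B (t₂ i)) = t₂ i • ω₂ i)
    (hcomm₂ : ∀ i j, comp nabla ω₂ i ∘ₗ comp nabla ω₂ j = comp nabla ω₂ j ∘ₗ comp nabla ω₂ i)
    (w : Fin n → B) (hw : ∀ i, t₂ i = w i * t₁ i)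
    (θ : Fin n → KaehlerDifferential A B) (hθ : ∀ j, ω₁ j = ω₂ j + ι (θ j))

include hbΩ₂ hι₂ hθ in
omit [Module A L] [IsScalarTower A B L] in
theorem coord_two (a j : Fin n) :
    ω₂.coord a (ω₁ j) = (if j = a then 1 else 0) + bΩ₂.coord a (θ j) * t₂ a := by
  classical
  rw [hθ, map_add, coord_ι_gen t₂ bΩ₂ hbΩ₂ ω₂ ι hι₂, Module.Basis.coord_apply,
    Module.Basis.repr_self, Finsupp.single_apply]

include hbΩ₂ hι₂ hθ in
omit [Module A L] [IsScalarTower A B L] in
theorem comp_two (a : Fin n) (e : E) :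
    comp nabla ω₂ a e = comp nabla ω₁ a e +
      t₂ a • ∑ j, bΩ₂.coord a (θ j) • comp nabla ω₁ j e := by
  classical
  have h : comp nabla ω₂ a e = ∑ j, (ω₂.coord a (ω₁ j)) • comp nabla ω₁ j e := by
    show Conn.along nabla (ω₂.coord a) e = _
    rw [Conn.along_apply, nabla_expand nabla ω₁ e, map_sum, map_sum]
    refine Finset.sum_congr rfl fun j _ => ?_
    rw [TensorProduct.map_tmul, TensorProduct.rid_tmul, LinearMap.id_apply]
  rw [h]
  simp only [coord_two ι ω₁ t₂ bΩ₂ hbΩ₂ ω₂ hι₂ θ hθ, add_smul, Finset.sum_add_distrib, ite_smul,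
    one_smul, zero_smul, Finset.sum_ite_eq', Finset.mem_univ, if_true]
  congr 1
  rw [Finset.smul_sum]
  refine Finset.sum_congr rfl fun j _ => ?_
  rw [smul_smul, mul_comm]

include hc hbΩ₁ hι₁ hcomm₁ hbΩ₂ hι₂ hcomm₂ hw hθ in
theorem piece_two_le (K : Finset (Fin n)) :
    piece nabla ω₂ t₂ K ≤ piece nabla ω₁ t₁ K := by
  classical
  induction K using Finset.induction_on with
  | empty =>
    apply piece_le
    intro J hJ e
    have : J = ∅ := Finset.subset_empty.1 hJ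
    subst this
    have : gen nabla ω₂ t₂ ∅ ∅ e = gen nabla ω₁ t₁ ∅ ∅ e := by
      unfold gen; simp [compProd_empty]
    rw [this]
    exact gen_mem _ _ _ _ _ (subset_refl _) e
  | insert k K₀ hk ih =>
    apply piece_le
    intro J hJ e
    by_cases hkJ : k ∈ J
    · have hJ₀ : J.erase k ⊆ K₀ := by
        intro x hx
        rcases Finset.mem_insert.1 (hJ (Finset.mem_of_mem_erase hx)) with rfl | h
        · exact absurd rfl (Finset.ne_of_mem_erase hx)
        · exact h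
      have hJeq : J = insert k (J.erase k) := (Finset.insert_erase hkJ).symm
      rw [hJeq, ← comp_gen' lam t₂ bΩ₂ hbΩ₂ ω₂ ι hι₂ nabla hc hcomm₂ k K₀ (J.erase k) hk hJ₀ e]
      have hy : gen nabla ω₂ t₂ K₀ (J.erase k) e ∈ piece nabla ω₁ t₁ K₀ :=
        ih (gen_mem _ _ _ _ _ hJ₀ e)
      rw [comp_two ι nabla ω₁ t₂ bΩ₂ hbΩ₂ ω₂ hι₂ θ hθ]
      refine Submodule.add_mem _
        (comp_mem_piece_insert lam t₁ bΩ₁ hbΩ₁ ω₁ ι hι₁ nabla hc hcomm₁ k K₀ hk _ hy) ?_
      rw [hw k, mul_smul]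
      refine smul_mem_piece lam t₁ bΩ₁ hbΩ₁ ω₁ ι hι₁ nabla hc _ (w k) _
        (t_smul_piece_mem nabla ω₁ t₁ k K₀ hk _ ?_)
      refine Submodule.sum_mem _ fun j _ =>
        smul_mem_piece lam t₁ bΩ₁ hbΩ₁ ω₁ ι hι₁ nabla hc _ _ _
          (comp_mem_piece lam t₁ bΩ₁ hbΩ₁ ω₁ ι hι₁ nabla hc hcomm₁ j K₀ _ hy)
    · have hJ₀ : J ⊆ K₀ := by
        intro x hx
        rcases Finset.mem_insert.1 (hJ hx) with rfl | h
        · exact absurd hx hkJ
        · exact h
      rw [← t_smul_gen nabla ω₂ t₂ k K₀ J hk hJ₀ e, hw k, mul_smul]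
      exact smul_mem_piece lam t₁ bΩ₁ hbΩ₁ ω₁ ι hι₁ nabla hc _ (w k) _
        (t_smul_piece_mem nabla ω₁ t₁ k K₀ hk _ (ih (gen_mem _ _ _ _ _ hJ₀ e)))

include hc hbΩ₂ hι₂ hcomm₂ hθ in
theorem det_two_smul_mem (p : ℕ) (K K' : Set.powersetCard (Fin n) p) (y : E)
    (hy : y ∈ piece nabla ω₂ t₂ (K : Finset (Fin n))) :
    (Matrix.of fun a b => ω₂.coord (Set.powersetCard.ofFinEmbEquiv.symm K' b)
      (ω₁ (Set.powersetCard.ofFinEmbEquiv.symm K a))).det • y ∈
      piece nabla ω₂ t₂ (K' : Finset (Fin n)) := by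
  classical
  have hKa : ∀ a, Set.powersetCard.ofFinEmbEquiv.symm K a ∈ (K : Finset (Fin n)) := by
    intro a
    rw [Set.powersetCard.ofFinEmbEquiv_symm_apply]
    exact Finset.orderEmbOfFin_mem _ _ _
  set Kb : Fin p → Fin n := fun b => Set.powersetCard.ofFinEmbEquiv.symm K' b with hKb
  let d : Fin p → B := fun b => if Kb b ∈ (K : Finset (Fin n)) then 1 else t₂ (Kb b)
  let M' : Matrix (Fin p) (Fin p) B := Matrix.of fun a b =>
    if Kb b ∈ (K : Finset (Fin n)) then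
      ω₂.coord (Kb b) (ω₁ (Set.powersetCard.ofFinEmbEquiv.symm K a))
    else bΩ₂.coord (Kb b) (θ (Set.powersetCard.ofFinEmbEquiv.symm K a))
  have hM : (Matrix.of fun a b => ω₂.coord (Set.powersetCard.ofFinEmbEquiv.symm K' b)
      (ω₁ (Set.powersetCard.ofFinEmbEquiv.symm K a))) = Matrix.of fun a b => d b * M' a b := by
    ext a b
    simp only [Matrix.of_apply, d, M']
    by_cases hb : Kb b ∈ (K : Finset (Fin n))
    · rw [if_pos hb, if_pos hb, one_mul]
    · rw [if_neg hb, if_neg hb]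
      show ω₂.coord (Kb b) _ = _
      rw [coord_two ι ω₁ t₂ bΩ₂ hbΩ₂ ω₂ hι₂ θ hθ, if_neg, zero_add, mul_comm]
      intro h
      exact hb (h ▸ hKa a)
  have hprod : ∏ b, d b = ∏ a ∈ (K' : Finset (Fin n)) \ (K : Finset (Fin n)), t₂ a := by
    have h1 : ∏ b, d b = ∏ a ∈ (K' : Finset (Fin n)),
        (if a ∈ (K : Finset (Fin n)) then 1 else t₂ a) := by
      conv_rhs => rw [← Finset.map_orderEmbOfFin_univ (K' : Finset (Fin n)) K'.2]
      rw [Finset.prod_map]
      rfl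
    rw [h1, Finset.prod_ite, Finset.prod_const_one, one_mul, Finset.sdiff_eq_filter]
  rw [hM, Matrix.det_mul_row, hprod, mul_comm, mul_smul]
  exact smul_mem_piece lam t₂ bΩ₂ hbΩ₂ ω₂ ι hι₂ nabla hc _ _ _
    (prod_smul_mem_piece lam t₂ bΩ₂ hbΩ₂ ω₂ ι hι₂ nabla hc hcomm₂ _ _ y hy)

include hc hbΩ₂ hι₂ hcomm₂ hθ in
theorem layer_two_le
    (hpiece : ∀ K, piece nabla ω₁ t₁ K ≤ piece nabla ω₂ t₂ K) (p : ℕ) :
    layer nabla ω₁ t₁ p ≤ layer nabla ω₂ t₂ p := by
  intro x hx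
  rw [expand ω₁ p x]
  refine Submodule.sum_mem _ fun K _ => ?_
  have hxK : coordE ω₁ p K x ∈ piece nabla ω₁ t₁ (K : Finset (Fin n)) := by
    unfold layer at hx
    rw [Submodule.mem_iInf] at hx
    exact hx K
  have hy := hpiece _ hxK
  unfold layer
  rw [Submodule.mem_iInf]
  intro K'
  rw [Submodule.mem_comap]
  show coordE ω₂ p K' (coordE ω₁ p K x ⊗ₜ[B] (ω₁.exteriorPower p K)) ∈ _
  rw [coordE_tmul, exteriorPower.basis_coord, exteriorPower.basis_apply]
  unfold exteriorPower.ιMulti_family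
  rw [exteriorPower.ιMultiDual_apply_ιMulti]
  exact det_two_smul_mem lam ι nabla hc ω₁ t₂ bΩ₂ hbΩ₂ ω₂ hι₂ hcomm₂ θ hθ p K K' _ hy

end Two

theorem layer_eq (lam : B) (ι : KaehlerDifferential A B →ₗ[B] L) (nabla : E →ₗ[A] E ⊗[B] L)
    (hc : Conn.IsLamConn (ι.compDer (KaehlerDifferential.D A B)) lam nabla)
    (t₁ : Fin n → B) (bΩ₁ : Module.Basis (Fin n) B (KaehlerDifferential A B))
    (hbΩ₁ : ∀ i, bΩ₁ i = KaehlerDifferential.D A B (t₁ i))
    (ω₁ : Module.Basis (Fin n) B L)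
    (hι₁ : ∀ i, ι (KaehlerDifferential.D A B (t₁ i)) = t₁ i • ω₁ i)
    (hcomm₁ : ∀ i j, comp nabla ω₁ i ∘ₗ comp nabla ω₁ j = comp nabla ω₁ j ∘ₗ comp nabla ω₁ i)
    (t₂ : Fin n → B) (bΩ₂ : Module.Basis (Fin n) B (KaehlerDifferential A B))
    (hbΩ₂ : ∀ i, bΩ₂ i = KaehlerDifferential.D A B (t₂ i))
    (ω₂ : Module.Basis (Fin n) B L)
    (hι₂ : ∀ i, ι (KaehlerDifferential.D A B (t₂ i)) = t₂ i • ω₂ i)
    (hcomm₂ : ∀ i j, comp nabla ω₂ i ∘ₗ comp nabla ω₂ j = comp nabla ω₂ j ∘ₗ comp nabla ω₂ i)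
    (w w' : Fin n → B) (hw : ∀ i, t₂ i = w i * t₁ i) (hw' : ∀ i, t₁ i = w' i * t₂ i)
    (θ : Fin n → KaehlerDifferential A B) (hθ : ∀ j, ω₁ j = ω₂ j + ι (θ j)) (p : ℕ) :
    layer nabla ω₁ t₁ p = layer nabla ω₂ t₂ p := by
  have hθ' : ∀ j, ω₂ j = ω₁ j + ι ((-θ) j) := by
    intro j
    rw [hθ j, Pi.neg_apply, map_neg, add_neg_cancel_right]
  have h21 := piece_two_le lam ι nabla hc t₁ bΩ₁ hbΩ₁ ω₁ hι₁ hcomm₁ t₂ bΩ₂ hbΩ₂ ω₂ hι₂ hcomm₂
    w hw θ hθ
  have h12 := piece_two_le lam ι nabla hc t₂ bΩ₂ hbΩ₂ ω₂ hι₂ hcomm₂ t₁ bΩ₁ hbΩ₁ ω₁ hι₁ hcomm₁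
    w' hw' (-θ) hθ'
  apply le_antisymm
  · exact layer_two_le lam ι nabla hc t₁ ω₁ t₂ bΩ₂ hbΩ₂ ω₂ hι₂ hcomm₂ θ hθ h12 p
  · exact layer_two_le lam ι nabla hc t₂ ω₂ t₁ bΩ₁ hbΩ₁ ω₁ hι₁ hcomm₁ (-θ) hθ' h21 p

section Final

variable (lam : B) (ω : Module.Basis (Fin n) B L) (ι : KaehlerDifferential A B →ₗ[B] L)
    (nabla : E →ₗ[A] E ⊗[B] L)
    (d : ∀ p : ℕ, ↥(⋀[B]^p L) →ₗ[A] ↥(⋀[B]^(p + 1) L))
    (nablas : ∀ p : ℕ, E ⊗[B] ↥(⋀[B]^p L) →ₗ[A] E ⊗[B] ↥(⋀[B]^(p + 1) L))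

theorem nablas_tmul_basis' (hrule : Conn.IsCxRule nabla (fun p => lam • d p) nablas)
    (p : ℕ) (y : E) (u : Fin p → Fin n)
    (hcl : d p (exteriorPower.ιMulti B p (fun k => ω (u k))) = 0) :
    nablas p (y ⊗ₜ[B] exteriorPower.ιMulti B p (fun k => ω (u k))) =
      ∑ i, comp nabla ω i y ⊗ₜ[B]
        exteriorPower.ιMulti B (p + 1) (Fin.cons (ω i) (fun k => ω (u k))) := by
  rw [hrule p y]
  have h0 : (lam • d p) (exteriorPower.ιMulti B p (fun k => ω (u k))) = 0 := by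
    rw [LinearMap.smul_apply, hcl, smul_zero]
  rw [h0, TensorProduct.tmul_zero, add_zero, nabla_expand nabla ω y, map_sum, map_sum,
    LinearMap.sum_apply]
  refine Finset.sum_congr rfl fun i _ => ?_
  exact twedge_toOne_tmul p _ _ _

theorem comp_comm_of_integrable' (hint : Conn.IsIntegrable nabla (fun p => lam • d p) nablas)
    (hcl : ∀ j, d 1 (exteriorPower.ιMulti B 1 (fun _ => ω j)) = 0) (a b : Fin n) (m : E) :
    comp nabla ω a (comp nabla ω b m) = comp nabla ω b (comp nabla ω a m) := by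
  classical
  have h0 := hint.2 m
  rw [nabla_expand nabla ω m, map_sum, map_sum] at h0
  have h1 : ∀ j, nablas 1 (Conn.toOne (comp nabla ω j m ⊗ₜ[B] ω j)) =
      ∑ i, comp nabla ω i (comp nabla ω j m) ⊗ₜ[B]
        exteriorPower.ιMulti B 2 (Fin.cons (ω i) (fun _ : Fin 1 => ω j)) := by
    intro j
    rw [Conn.toOne_tmul, exteriorPower.oneEquiv_symm_apply]
    exact nablas_tmul_basis' lam ω nabla d nablas hint.1 1 _ (fun _ => j) (hcl j)
  simp only [h1] at h0
  let φ : Module.Dual B (⋀[B]^2 L) :=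
    exteriorPower.pairingDual B L 2 (exteriorPower.ιMulti B 2 ![ω.coord a, ω.coord b])
  let Φ : E ⊗[B] (⋀[B]^2 L) →ₗ[B] E :=
    (TensorProduct.rid B E).toLinearMap ∘ₗ TensorProduct.map LinearMap.id φ
  have h2 := congrArg Φ h0
  rw [map_zero, map_sum] at h2
  simp only [map_sum] at h2
  have h3 : ∀ i j, Φ (comp nabla ω i (comp nabla ω j m) ⊗ₜ[B]
        exteriorPower.ιMulti B 2 (Fin.cons (ω i) (fun _ : Fin 1 => ω j))) =
      ((if i = a then (1 : B) else 0) * (if j = b then 1 else 0) -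
        (if i = b then 1 else 0) * (if j = a then 1 else 0)) •
        comp nabla ω i (comp nabla ω j m) := by
    intro i j
    simp only [Φ, φ, LinearMap.coe_comp, LinearEquiv.coe_coe, Function.comp_apply,
      TensorProduct.map_tmul, LinearMap.id_apply, TensorProduct.rid_tmul,
      exteriorPower.pairingDual_ιMulti_ιMulti, Matrix.det_fin_two, Matrix.of_apply]
    congr 1
    simp [Module.Basis.coord_apply, Module.Basis.repr_self, Finsupp.single_apply]
  simp only [h3] at h2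
  simp only [sub_smul, Finset.sum_sub_distrib, mul_smul, ite_smul, one_smul, zero_smul,
    smul_ite, smul_zero] at h2
  have key : ∀ (a b : Fin n) (X : Fin n → Fin n → E),
      (∑ x, ∑ x1, if x = b then (if x1 = a then X x1 x else 0) else 0) = X a b := by
    intro a b X
    rw [Finset.sum_eq_single b (by intro x _ hx; simp [hx]) (by simp)]
    rw [Finset.sum_eq_single a (by intro x _ hx; simp [hx]) (by simp)]
    simp
  simp only [key] at h2
  exact sub_eq_zero.1 h2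

omit [AddCommGroup E] [Module B E] [Module A E] [IsScalarTower A B E] in
theorem d_one_closed (hd : LogDiff.IsLogRule (KaehlerDifferential.D A B) ι (⇑ω) d)
    (u : Bˣ) (j : Fin n) :
    d 1 (exteriorPower.ιMulti B 1 (fun _ => ω j +
      ((u⁻¹ : Bˣ) : B) • ι (KaehlerDifferential.D A B (u : B)))) = 0 := by
  set c : B := ((u⁻¹ : Bˣ) : B) with hcdef
  set x : L := ι (KaehlerDifferential.D A B (u : B)) with hx
  have hcu : c * (u : B) = 1 := Units.inv_mul u
  have hDc : KaehlerDifferential.D A B c = -((c * c) • KaehlerDifferential.D A B (u : B)) := by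
    have h1 : KaehlerDifferential.D A B (c * (u : B)) = 0 := by
      rw [hcu, Derivation.map_one_eq_zero]
    rw [Derivation.leibniz] at h1
    have h2 : (u : B) • KaehlerDifferential.D A B c = -(c • KaehlerDifferential.D A B (u : B)) := by
      rw [eq_neg_iff_add_eq_zero, add_comm]; exact h1
    have h3 : KaehlerDifferential.D A B c = c • ((u : B) • KaehlerDifferential.D A B c) := by
      rw [smul_smul, hcu, one_smul]
    rw [h3, h2, smul_neg, smul_smul]
  have hsplit : exteriorPower.ιMulti B 1 (fun _ => ω j + c • x) =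
      exteriorPower.ιMulti B 1 (fun _ => ω j) + c • exteriorPower.ιMulti B 1 (fun _ => x) := by
    rw [← exteriorPower.oneEquiv_symm_apply, ← exteriorPower.oneEquiv_symm_apply,
      ← exteriorPower.oneEquiv_symm_apply, map_add, map_smul]
  rw [hsplit, map_add]
  have h1 := hd 1 1 (fun _ => ω j) (fun _ => Or.inr ⟨j, rfl⟩)
  rw [one_smul] at h1
  have h2 := hd 1 c (fun _ => x) (fun _ => Or.inl ⟨(u : B), rfl⟩)
  rw [h1, h2]
  have h0 : ι (KaehlerDifferential.D A B 1) = 0 := by rw [Derivation.map_one_eq_zero, map_zero]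
  rw [h0, AlternatingMap.map_coord_zero _ (0 : Fin 2) (by simp), zero_add, hDc, map_neg, map_smul]
  have h4 : (Fin.cons (-((c * c) • x)) (fun _ : Fin 1 => x) : Fin 2 → L) =
      Function.update (Fin.cons x (fun _ : Fin 1 => x)) 0 ((-(c * c)) • x) := by
    funext k
    fin_cases k
    · simp
    · simp
  rw [h4, AlternatingMap.map_update_smul]
  have h5 : Function.update (Fin.cons x (fun _ : Fin 1 => x) : Fin 2 → L) 0 x =
      Fin.cons x (fun _ : Fin 1 => x) := by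
    funext k
    fin_cases k
    · simp
    · simp
  rw [h5, AlternatingMap.map_eq_zero_of_eq _ _ (i := 0) (j := 1) (by simp) (by decide), smul_zero]

end Final

theorem main3 (lam : B) (t : Fin n → B) (bΩ : Module.Basis (Fin n) B (KaehlerDifferential A B))
    (hbΩ : ∀ i, bΩ i = KaehlerDifferential.D A B (t i))
    (ω : Module.Basis (Fin n) B L) (ι : KaehlerDifferential A B →ₗ[B] L)
    (hι : ∀ i, ι (KaehlerDifferential.D A B (t i)) = t i • ω i)
    (nabla : E →ₗ[A] E ⊗[B] L)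
    (hc : Conn.IsLamConn (ι.compDer (KaehlerDifferential.D A B)) lam nabla)
    (d : ∀ p : ℕ, ↥(⋀[B]^p L) →ₗ[A] ↥(⋀[B]^(p + 1) L))
    (hd : LogDiff.IsLogRule (KaehlerDifferential.D A B) ι (⇑ω) d)
    (nablas : ∀ p : ℕ, E ⊗[B] ↥(⋀[B]^p L) →ₗ[A] E ⊗[B] ↥(⋀[B]^(p + 1) L))
    (hint : Conn.IsIntegrable nabla (fun p => lam • d p) nablas)
    (u : Fin n → Bˣ) (bΩ' : Module.Basis (Fin n) B (KaehlerDifferential A B))
    (hbΩ' : ∀ i, bΩ' i = KaehlerDifferential.D A B ((u i : B) * t i))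
    (ω' : Module.Basis (Fin n) B L)
    (hω' : ∀ i, ω' i = ω i + ((u i)⁻¹ : Bˣ).val • ι (KaehlerDifferential.D A B (u i : B)))
    (p : ℕ) :
    LogConn.layer nabla ω t p = LogConn.layer nabla ω' (fun i => (u i : B) * t i) p := by
  have hcl := dClosed_of_isLogRule ω ι d hd
  have hcomm₁ : ∀ i j, comp nabla ω i ∘ₗ comp nabla ω j = comp nabla ω j ∘ₗ comp nabla ω i := by
    intro i j
    ext m
    exact comp_comm_of_integrable lam ω nabla d nablas hint hcl i j m
  have hcomm₂ : ∀ i j, comp nabla ω' i ∘ₗ comp nabla ω' j =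
      comp nabla ω' j ∘ₗ comp nabla ω' i := by
    intro i j
    ext m
    exact comp_comm_of_integrable' lam ω' nabla d nablas hint
      (fun j => by rw [hω' j]; exact d_one_closed ω ι d hd (u j) j) i j m
  have hι₂ : ∀ i, ι (KaehlerDifferential.D A B ((u i : B) * t i)) =
      ((u i : B) * t i) • ω' i := by
    intro i
    rw [Derivation.leibniz, map_add, map_smul, map_smul, hι, hω', smul_add, smul_smul, smul_smul]
    congr 2
    rw [mul_comm (u i : B) (t i), mul_assoc, Units.mul_inv, mul_one]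
  refine layer_eq lam ι nabla hc t bΩ hbΩ ω hι hcomm₁ (fun i => (u i : B) * t i) bΩ' hbΩ' ω' hι₂
    hcomm₂ (fun i => (u i : B)) (fun i => (((u i)⁻¹ : Bˣ) : B)) (fun i => rfl) (fun i => ?_)
    (fun j => -((((u j)⁻¹ : Bˣ) : B) • KaehlerDifferential.D A B (u j : B))) (fun j => ?_) p
  · rw [← mul_assoc, Units.inv_mul, one_mul]
  · rw [hω' j, map_neg, map_smul]
    abel

end Groth.Agent.Lib.Helper59.LogLayer
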