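import Mathlib

/-!
# Moore's theorem, abstractly: horn filling in simplicial groups

We phrase the filling algorithm for an ℕ-indexed family of groups with face and degeneracy
homomorphisms indexed by natural numbers (junk outside the valid range), satisfying the simplicial
identities inside the valid range, relative to a family of subgroups stable under faces and
degeneracies.
-/

namespace Groth.Agent.Lib.Helper59.Moore

universe u

section

variable {G : ℕ → Type u} [∀ n, Group (G n)]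
  (D : ∀ n, ℕ → G (n + 1) →* G n) (S : ∀ n, ℕ → G n →* G (n + 1))
  (K : ∀ n, Subgroup (G n))

/-- The filling algorithm. -/
@[to_additive exists_filler_add]
theorem exists_filler
    (dd : ∀ n a b, a ≤ b → b < n + 2 → ∀ y : G (n + 2),
      D n a (D (n + 1) (b + 1) y) = D n b (D (n + 1) a y))
    (ds_lt : ∀ n a b, a ≤ b → b < n + 1 → ∀ z : G (n + 1),
      D (n + 1) a (S (n + 1) (b + 1) z) = S n b (D n a z))
    (ds_self : ∀ n b, b < n + 1 → ∀ z : G n, D n b (S n b z) = z)
    (ds_succ : ∀ n b, b < n + 1 → ∀ z : G n, D n (b + 1) (S n b z) = z)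
    (ds_gt : ∀ n a b, b < a → a < n + 2 → ∀ z : G (n + 1),
      D (n + 1) (a + 1) (S (n + 1) b z) = S n b (D n a z))
    (hKS : ∀ n b, b < n + 1 → ∀ z ∈ K n, S n b z ∈ K (n + 1))
    (hKD : ∀ n b, b < n + 2 → ∀ z ∈ K (n + 1), D n b z ∈ K n)
    (m i : ℕ) (hi : i ≤ m + 2) (x : ℕ → G (m + 1))
    (hxK : ∀ j, j ≤ m + 2 → j ≠ i → x j ∈ K (m + 1))
    (hx : ∀ j k, j < k → k ≤ m + 2 → j ≠ i → k ≠ i → D m (k - 1) (x j) = D m j (x k)) :
    ∃ w ∈ K (m + 2), ∀ j, j ≤ m + 2 → j ≠ i → D (m + 1) j w = x j := by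
  -- Phase 1
  have phase1 : ∀ r, r ≤ i → ∃ y ∈ K (m + 2), ∀ j, j < r → D (m + 1) j y = x j := by
    intro r
    induction r with
    | zero => exact fun _ => ⟨1, one_mem _, fun j hj => absurd hj (Nat.not_lt_zero _)⟩
    | succ r ih =>
      intro hr
      obtain ⟨y, hyK, hy⟩ := ih (by omega)
      have hzK : x r * (D (m + 1) r y)⁻¹ ∈ K (m + 1) :=
        mul_mem (hxK r (by omega) (by omega)) (inv_mem (hKD _ _ (by omega) _ hyK))
      refine ⟨S (m + 1) r (x r * (D (m + 1) r y)⁻¹) * y,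
        mul_mem (hKS _ _ (by omega) _ hzK) hyK, fun j hj => ?_⟩
      rw [map_mul]
      rcases Nat.lt_succ_iff_lt_or_eq.mp hj with hj | rfl
      · obtain ⟨b, rfl⟩ : ∃ b, r = b + 1 := ⟨r - 1, by omega⟩
        rw [ds_lt m j b (by omega) (by omega), map_mul, map_inv,
          ← hx j (b + 1) (by omega) (by omega) (by omega) (by omega),
          dd m j b (by omega) (by omega), hy j hj]
        simp
      · rw [ds_self _ _ (by omega)]
        simp
  -- Phase 2
  have phase2 : ∀ t, t ≤ m + 2 - i → ∃ y ∈ K (m + 2), (∀ j, j < i → D (m + 1) j y = x j) ∧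
      ∀ j, m + 2 - t < j → j ≤ m + 2 → D (m + 1) j y = x j := by
    intro t
    induction t with
    | zero =>
      intro _
      obtain ⟨y, hyK, hy⟩ := phase1 i le_rfl
      exact ⟨y, hyK, hy, fun j h1 h2 => by omega⟩
    | succ t ih =>
      intro ht
      obtain ⟨y, hyK, hy1, hy2⟩ := ih (by omega)
      obtain ⟨r, hr⟩ : ∃ r, r + 1 = m + 2 - t := ⟨m + 1 - t, by omega⟩
      have hzK : x (r + 1) * (D (m + 1) (r + 1) y)⁻¹ ∈ K (m + 1) :=
        mul_mem (hxK (r + 1) (by omega) (by omega)) (inv_mem (hKD _ _ (by omega) _ hyK))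
      refine ⟨S (m + 1) r (x (r + 1) * (D (m + 1) (r + 1) y)⁻¹) * y,
        mul_mem (hKS _ _ (by omega) _ hzK) hyK, fun j hj => ?_, fun j hj1 hj2 => ?_⟩
      · rw [map_mul]
        obtain ⟨b, rfl⟩ : ∃ b, r = b + 1 := ⟨r - 1, by omega⟩
        rw [ds_lt m j b (by omega) (by omega), map_mul, map_inv,
          ← hx j (b + 1 + 1) (by omega) (by omega) (by omega) (by omega),
          dd m j (b + 1) (by omega) (by omega), hy1 j hj]
        simp
      · rw [map_mul]
        rcases (show j = r + 1 ∨ r + 1 < j by omega) with rfl | hj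
        · rw [ds_succ _ _ (by omega)]
          simp
        · obtain ⟨a, rfl⟩ : ∃ a, j = a + 1 := ⟨j - 1, by omega⟩
          have h1 := hx (r + 1) (a + 1) (by omega) (by omega) (by omega) (by omega)
          rw [Nat.add_sub_cancel] at h1
          rw [ds_gt m a r (by omega) (by omega), map_mul, map_inv, h1,
            ← dd m (r + 1) a (by omega) (by omega), hy2 (a + 1) (by omega) (by omega)]
          simp
  obtain ⟨y, hyK, hy1, hy2⟩ := phase2 (m + 2 - i) le_rfl
  refine ⟨y, hyK, fun j hj hji => ?_⟩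
  rcases Nat.lt_or_gt_of_ne hji with h | h
  · exact hy1 j h
  · exact hy2 j (by omega) hj

/-- Relative version of the filling algorithm: filling modulo a given simplex `w₀`. -/
@[to_additive exists_filler_rel_add]
theorem exists_filler_rel
    (dd : ∀ n a b, a ≤ b → b < n + 2 → ∀ y : G (n + 2),
      D n a (D (n + 1) (b + 1) y) = D n b (D (n + 1) a y))
    (ds_lt : ∀ n a b, a ≤ b → b < n + 1 → ∀ z : G (n + 1),
      D (n + 1) a (S (n + 1) (b + 1) z) = S n b (D n a z))
    (ds_self : ∀ n b, b < n + 1 → ∀ z : G n, D n b (S n b z) = z)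
    (ds_succ : ∀ n b, b < n + 1 → ∀ z : G n, D n (b + 1) (S n b z) = z)
    (ds_gt : ∀ n a b, b < a → a < n + 2 → ∀ z : G (n + 1),
      D (n + 1) (a + 1) (S (n + 1) b z) = S n b (D n a z))
    (hKS : ∀ n b, b < n + 1 → ∀ z ∈ K n, S n b z ∈ K (n + 1))
    (hKD : ∀ n b, b < n + 2 → ∀ z ∈ K (n + 1), D n b z ∈ K n)
    (m i : ℕ) (hi : i ≤ m + 2) (x : ℕ → G (m + 1)) (w₀ : G (m + 2))
    (hxK : ∀ j, j ≤ m + 2 → j ≠ i → x j * (D (m + 1) j w₀)⁻¹ ∈ K (m + 1))
    (hx : ∀ j k, j < k → k ≤ m + 2 → j ≠ i → k ≠ i → D m (k - 1) (x j) = D m j (x k)) :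
    ∃ w, w * w₀⁻¹ ∈ K (m + 2) ∧ ∀ j, j ≤ m + 2 → j ≠ i → D (m + 1) j w = x j := by
  obtain ⟨w₁, hw₁K, hw₁⟩ := exists_filler D S K dd ds_lt ds_self ds_succ ds_gt hKS hKD m i hi
    (fun j => x j * (D (m + 1) j w₀)⁻¹) hxK
    (fun j k hjk hk hji hki => by
      obtain ⟨b, rfl⟩ : ∃ b, k = b + 1 := ⟨k - 1, by omega⟩
      have h1 := hx j (b + 1) hjk hk hji hki
      rw [Nat.add_sub_cancel] at h1 ⊢
      rw [map_mul, map_mul, map_inv, map_inv, h1, dd m j b (by omega) (by omega)])
  refine ⟨w₁ * w₀, by simpa using hw₁K, fun j hj hji => ?_⟩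
  rw [map_mul, hw₁ j hj hji]
  simp

end

section SSetLevel

open CategoryTheory Simplicial SSet Opposite

/-- Horn filling for a simplicial set carrying degreewise group structures for which faces and
degeneracies are multiplicative, relative to a family of subgroups stable under faces and
degeneracies. -/
theorem exists_lift (Z : SSet.{u}) [∀ n : ℕ, Group (Z _⦋n⦌)]
    (hδ : ∀ (n : ℕ) (i : Fin (n + 2)) (a b : Z _⦋n + 1⦌), Z.δ i (a * b) = Z.δ i a * Z.δ i b)
    (hσ : ∀ (n : ℕ) (i : Fin (n + 1)) (a b : Z _⦋n⦌), Z.σ i (a * b) = Z.σ i a * Z.σ i b)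
    (K : ∀ n : ℕ, Subgroup (Z _⦋n⦌))
    (hKδ : ∀ (n : ℕ) (i : Fin (n + 2)), ∀ z ∈ K (n + 1), Z.δ i z ∈ K n)
    (hKσ : ∀ (n : ℕ) (i : Fin (n + 1)), ∀ z ∈ K n, Z.σ i z ∈ K (n + 1))
    {n : ℕ} {i : Fin (n + 2)} (f : ∀ j : Fin (n + 2), j ≠ i → (Δ[n] ⟶ Z))
    (hf : horn.IsCompatible f) (hfK : ∀ j hj, yonedaEquiv (f j hj) ∈ K n) :
    ∃ φ : Δ[n + 1] ⟶ Z, (∀ j hj, stdSimplex.δ j ≫ φ = f j hj) ∧ yonedaEquiv φ ∈ K (n + 1) := by
  obtain _ | m := n
  · -- the case of `Λ[1, i]`
    have h₀ : Fin.rev i ≠ i := by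
      intro h
      have := congrArg Fin.val h
      simp only [Fin.val_rev] at this
      omega
    refine ⟨yonedaEquiv.symm (Z.σ 0 (yonedaEquiv (f _ h₀))), fun j hj => ?_, ?_⟩
    · have hj' : j = Fin.rev i := by
        have h1 : j.val ≠ i.val := fun h => hj (Fin.ext h)
        apply Fin.ext
        simp only [Fin.val_rev]
        omega
      subst hj'
      rw [stdSimplex.δ_comp_yonedaEquiv_symm, Equiv.symm_apply_eq]
      have key : ∀ (j : Fin 2) (y : Z _⦋0⦌), Z.δ j (Z.σ 0 y) = y := by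
        intro j y
        fin_cases j
        · exact SSet.δ_comp_σ_self_apply (S := Z) 0 y
        · exact SSet.δ_comp_σ_succ_apply (S := Z) 0 y
      exact key _ _
    · rw [Equiv.apply_symm_apply]
      exact hKσ _ _ _ (hfK _ _)
  · let D : ∀ n : ℕ, ℕ → Z _⦋n + 1⦌ →* Z _⦋n⦌ := fun n a =>
      if h : a < n + 2 then MonoidHom.mk' (Z.δ ⟨a, h⟩) (hδ n _) else 1
    let S : ∀ n : ℕ, ℕ → Z _⦋n⦌ →* Z _⦋n + 1⦌ := fun n a =>
      if h : a < n + 1 then MonoidHom.mk' (Z.σ ⟨a, h⟩) (hσ n _) else 1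
    have hD : ∀ (n a : ℕ) (h : a < n + 2) (y : Z _⦋n + 1⦌), D n a y = Z.δ ⟨a, h⟩ y := by
      intro n a h y
      simp only [D, dif_pos h, MonoidHom.mk'_apply]
    have hS : ∀ (n a : ℕ) (h : a < n + 1) (y : Z _⦋n⦌), S n a y = Z.σ ⟨a, h⟩ y := by
      intro n a h y
      simp only [S, dif_pos h, MonoidHom.mk'_apply]
    let x : ℕ → Z _⦋m + 1⦌ := fun j =>
      if h : j < m + 3 then (if h' : (⟨j, h⟩ : Fin (m + 3)) ≠ i then yonedaEquiv (f ⟨j, h⟩ h') else 1)
      else 1
    have hxval : ∀ (j : Fin (m + 3)) (hj : j ≠ i), x j.val = yonedaEquiv (f j hj) := by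
      intro j hj
      simp only [x, dif_pos j.isLt, Fin.eta, dif_pos hj]
    obtain ⟨w, hwK, hw⟩ := exists_filler D S K
      (fun n a b hab hb y => by
        rw [hD n a (by omega), hD (n + 1) (b + 1) (by omega), hD n b (by omega),
          hD (n + 1) a (by omega)]
        exact SSet.δ_comp_δ_apply (S := Z) (i := ⟨a, by omega⟩) (j := ⟨b, by omega⟩) hab y)
      (fun n a b hab hb z => by
        rw [hS (n + 1) (b + 1) (by omega), hD (n + 1) a (by omega), hD n a (by omega),
          hS n b (by omega)]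
        exact SSet.δ_comp_σ_of_le_apply (S := Z) (i := ⟨a, by omega⟩) (j := ⟨b, by omega⟩) hab z)
      (fun n b hb z => by
        rw [hS n b (by omega), hD n b (by omega)]
        exact SSet.δ_comp_σ_self_apply (S := Z) ⟨b, by omega⟩ z)
      (fun n b hb z => by
        rw [hS n b (by omega), hD n (b + 1) (by omega)]
        exact SSet.δ_comp_σ_succ_apply (S := Z) ⟨b, by omega⟩ z)
      (fun n a b hab ha z => by
        rw [hS (n + 1) b (by omega), hD (n + 1) (a + 1) (by omega), hD n a (by omega),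
          hS n b (by omega)]
        exact SSet.δ_comp_σ_of_gt_apply (S := Z) (i := ⟨a, by omega⟩) (j := ⟨b, by omega⟩) hab z)
      (fun n b hb z hz => by
        rw [hS n b (by omega)]
        exact hKσ _ _ _ hz)
      (fun n b hb z hz => by
        rw [hD n b (by omega)]
        exact hKδ _ _ _ hz)
      m i.val (by have := i.isLt; omega) x
      (fun j hj hji => by
        have h' : (⟨j, by omega⟩ : Fin (m + 3)) ≠ i := fun h => hji (congrArg Fin.val h)
        have := hxval ⟨j, by omega⟩ h'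
        simp only at this
        rw [this]
        exact hfK _ _)
      (fun j k hjk hk hji hki => by
        have hj' : (⟨j, by omega⟩ : Fin (m + 3)) ≠ i := fun h => hji (congrArg Fin.val h)
        have hk' : (⟨k, by omega⟩ : Fin (m + 3)) ≠ i := fun h => hki (congrArg Fin.val h)
        have e1 := hxval ⟨j, by omega⟩ hj'
        have e2 := hxval ⟨k, by omega⟩ hk'
        simp only at e1 e2
        rw [e1, e2, hD m (k - 1) (by omega), hD m j (by omega)]
        have hc := hf ⟨j, by omega⟩ ⟨k, by omega⟩ hj' hk' (by simpa using hjk)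
        have hc' := congrArg yonedaEquiv hc
        rw [stdSimplex.yonedaEquiv_δ_comp, stdSimplex.yonedaEquiv_δ_comp] at hc'
        exact hc')
    refine ⟨yonedaEquiv.symm w, fun j hj => ?_, ?_⟩
    · rw [stdSimplex.δ_comp_yonedaEquiv_symm, Equiv.symm_apply_eq, ← hxval j hj,
        ← hw j.val (by have := j.isLt; omega) (fun h => hj (Fin.ext h)), hD (m + 1) j.val j.isLt]
    · rw [Equiv.apply_symm_apply]
      exact hwK

/-- Horn filling for a simplicial set carrying degreewise additive group structures for which faces and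
degeneracies are multiplicative, relative to a family of subgroups stable under faces and
degeneracies. -/
theorem exists_lift_add (Z : SSet.{u}) [∀ n : ℕ, AddGroup (Z _⦋n⦌)]
    (hδ : ∀ (n : ℕ) (i : Fin (n + 2)) (a b : Z _⦋n + 1⦌), Z.δ i (a + b) = Z.δ i a + Z.δ i b)
    (hσ : ∀ (n : ℕ) (i : Fin (n + 1)) (a b : Z _⦋n⦌), Z.σ i (a + b) = Z.σ i a + Z.σ i b)
    (K : ∀ n : ℕ, AddSubgroup (Z _⦋n⦌))
    (hKδ : ∀ (n : ℕ) (i : Fin (n + 2)), ∀ z ∈ K (n + 1), Z.δ i z ∈ K n)
    (hKσ : ∀ (n : ℕ) (i : Fin (n + 1)), ∀ z ∈ K n, Z.σ i z ∈ K (n + 1))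
    {n : ℕ} {i : Fin (n + 2)} (f : ∀ j : Fin (n + 2), j ≠ i → (Δ[n] ⟶ Z))
    (hf : horn.IsCompatible f) (hfK : ∀ j hj, yonedaEquiv (f j hj) ∈ K n) :
    ∃ φ : Δ[n + 1] ⟶ Z, (∀ j hj, stdSimplex.δ j ≫ φ = f j hj) ∧ yonedaEquiv φ ∈ K (n + 1) := by
  obtain _ | m := n
  · -- the case of `Λ[1, i]`
    have h₀ : Fin.rev i ≠ i := by
      intro h
      have := congrArg Fin.val h
      simp only [Fin.val_rev] at this
      omega
    refine ⟨yonedaEquiv.symm (Z.σ 0 (yonedaEquiv (f _ h₀))), fun j hj => ?_, ?_⟩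
    · have hj' : j = Fin.rev i := by
        have h1 : j.val ≠ i.val := fun h => hj (Fin.ext h)
        apply Fin.ext
        simp only [Fin.val_rev]
        omega
      subst hj'
      rw [stdSimplex.δ_comp_yonedaEquiv_symm, Equiv.symm_apply_eq]
      have key : ∀ (j : Fin 2) (y : Z _⦋0⦌), Z.δ j (Z.σ 0 y) = y := by
        intro j y
        fin_cases j
        · exact SSet.δ_comp_σ_self_apply (S := Z) 0 y
        · exact SSet.δ_comp_σ_succ_apply (S := Z) 0 y
      exact key _ _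
    · rw [Equiv.apply_symm_apply]
      exact hKσ _ _ _ (hfK _ _)
  · let D : ∀ n : ℕ, ℕ → Z _⦋n + 1⦌ →+ Z _⦋n⦌ := fun n a =>
      if h : a < n + 2 then AddMonoidHom.mk' (Z.δ ⟨a, h⟩) (hδ n _) else 0
    let S : ∀ n : ℕ, ℕ → Z _⦋n⦌ →+ Z _⦋n + 1⦌ := fun n a =>
      if h : a < n + 1 then AddMonoidHom.mk' (Z.σ ⟨a, h⟩) (hσ n _) else 0
    have hD : ∀ (n a : ℕ) (h : a < n + 2) (y : Z _⦋n + 1⦌), D n a y = Z.δ ⟨a, h⟩ y := by
      intro n a h y
      simp only [D, dif_pos h, AddMonoidHom.mk'_apply]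
    have hS : ∀ (n a : ℕ) (h : a < n + 1) (y : Z _⦋n⦌), S n a y = Z.σ ⟨a, h⟩ y := by
      intro n a h y
      simp only [S, dif_pos h, AddMonoidHom.mk'_apply]
    let x : ℕ → Z _⦋m + 1⦌ := fun j =>
      if h : j < m + 3 then (if h' : (⟨j, h⟩ : Fin (m + 3)) ≠ i then yonedaEquiv (f ⟨j, h⟩ h') else 0)
      else 0
    have hxval : ∀ (j : Fin (m + 3)) (hj : j ≠ i), x j.val = yonedaEquiv (f j hj) := by
      intro j hj
      simp only [x, dif_pos j.isLt, Fin.eta, dif_pos hj]
    obtain ⟨w, hwK, hw⟩ := exists_filler_add D S K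
      (fun n a b hab hb y => by
        rw [hD n a (by omega), hD (n + 1) (b + 1) (by omega), hD n b (by omega),
          hD (n + 1) a (by omega)]
        exact SSet.δ_comp_δ_apply (S := Z) (i := ⟨a, by omega⟩) (j := ⟨b, by omega⟩) hab y)
      (fun n a b hab hb z => by
        rw [hS (n + 1) (b + 1) (by omega), hD (n + 1) a (by omega), hD n a (by omega),
          hS n b (by omega)]
        exact SSet.δ_comp_σ_of_le_apply (S := Z) (i := ⟨a, by omega⟩) (j := ⟨b, by omega⟩) hab z)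
      (fun n b hb z => by
        rw [hS n b (by omega), hD n b (by omega)]
        exact SSet.δ_comp_σ_self_apply (S := Z) ⟨b, by omega⟩ z)
      (fun n b hb z => by
        rw [hS n b (by omega), hD n (b + 1) (by omega)]
        exact SSet.δ_comp_σ_succ_apply (S := Z) ⟨b, by omega⟩ z)
      (fun n a b hab ha z => by
        rw [hS (n + 1) b (by omega), hD (n + 1) (a + 1) (by omega), hD n a (by omega),
          hS n b (by omega)]
        exact SSet.δ_comp_σ_of_gt_apply (S := Z) (i := ⟨a, by omega⟩) (j := ⟨b, by omega⟩) hab z)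
      (fun n b hb z hz => by
        rw [hS n b (by omega)]
        exact hKσ _ _ _ hz)
      (fun n b hb z hz => by
        rw [hD n b (by omega)]
        exact hKδ _ _ _ hz)
      m i.val (by have := i.isLt; omega) x
      (fun j hj hji => by
        have h' : (⟨j, by omega⟩ : Fin (m + 3)) ≠ i := fun h => hji (congrArg Fin.val h)
        have := hxval ⟨j, by omega⟩ h'
        simp only at this
        rw [this]
        exact hfK _ _)
      (fun j k hjk hk hji hki => by
        have hj' : (⟨j, by omega⟩ : Fin (m + 3)) ≠ i := fun h => hji (congrArg Fin.val h)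
        have hk' : (⟨k, by omega⟩ : Fin (m + 3)) ≠ i := fun h => hki (congrArg Fin.val h)
        have e1 := hxval ⟨j, by omega⟩ hj'
        have e2 := hxval ⟨k, by omega⟩ hk'
        simp only at e1 e2
        rw [e1, e2, hD m (k - 1) (by omega), hD m j (by omega)]
        have hc := hf ⟨j, by omega⟩ ⟨k, by omega⟩ hj' hk' (by simpa using hjk)
        have hc' := congrArg yonedaEquiv hc
        rw [stdSimplex.yonedaEquiv_δ_comp, stdSimplex.yonedaEquiv_δ_comp] at hc'
        exact hc')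
    refine ⟨yonedaEquiv.symm w, fun j hj => ?_, ?_⟩
    · rw [stdSimplex.δ_comp_yonedaEquiv_symm, Equiv.symm_apply_eq, ← hxval j hj,
        ← hw j.val (by have := j.isLt; omega) (fun h => hj (Fin.ext h)), hD (m + 1) j.val j.isLt]
    · rw [Equiv.apply_symm_apply]
      exact hwK

/-- Relative horn filling (additive version): given `w₀` such that the differences
`f j - δ_j w₀` lie in a stable family of subgroups `K`, there is a filler `φ` with `φ - w₀ ∈ K`. -/
theorem exists_lift_rel_add (Z : SSet.{u}) [∀ n : ℕ, AddGroup (Z _⦋n⦌)]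
    (hδ : ∀ (n : ℕ) (i : Fin (n + 2)) (a b : Z _⦋n + 1⦌), Z.δ i (a + b) = Z.δ i a + Z.δ i b)
    (hσ : ∀ (n : ℕ) (i : Fin (n + 1)) (a b : Z _⦋n⦌), Z.σ i (a + b) = Z.σ i a + Z.σ i b)
    (K : ∀ n : ℕ, AddSubgroup (Z _⦋n⦌))
    (hKδ : ∀ (n : ℕ) (i : Fin (n + 2)), ∀ z ∈ K (n + 1), Z.δ i z ∈ K n)
    (hKσ : ∀ (n : ℕ) (i : Fin (n + 1)), ∀ z ∈ K n, Z.σ i z ∈ K (n + 1))
    {n : ℕ} {i : Fin (n + 2)} (f : ∀ j : Fin (n + 2), j ≠ i → (Δ[n] ⟶ Z))
    (hf : horn.IsCompatible f) (w₀ : Z _⦋n + 1⦌)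
    (hfK : ∀ j hj, yonedaEquiv (f j hj) + -(Z.δ j w₀) ∈ K n) :
    ∃ φ : Δ[n + 1] ⟶ Z, (∀ j hj, stdSimplex.δ j ≫ φ = f j hj) ∧
      yonedaEquiv φ + -w₀ ∈ K (n + 1) := by
  obtain _ | m := n
  · -- the case of `Λ[1, i]`
    have h₀ : Fin.rev i ≠ i := by
      intro h
      have := congrArg Fin.val h
      simp only [Fin.val_rev] at this
      omega
    have key : ∀ (j : Fin 2) (y : Z _⦋0⦌), Z.δ j (Z.σ 0 y) = y := by
      intro j y
      fin_cases j
      · exact SSet.δ_comp_σ_self_apply (S := Z) 0 y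
      · exact SSet.δ_comp_σ_succ_apply (S := Z) 0 y
    refine ⟨yonedaEquiv.symm
      (Z.σ 0 (yonedaEquiv (f _ h₀) + -(Z.δ (Fin.rev i) w₀)) + w₀), fun j hj => ?_, ?_⟩
    · have hj' : j = Fin.rev i := by
        have h1 : j.val ≠ i.val := fun h => hj (Fin.ext h)
        apply Fin.ext
        simp only [Fin.val_rev]
        omega
      subst hj'
      rw [stdSimplex.δ_comp_yonedaEquiv_symm, Equiv.symm_apply_eq, hδ, key]
      simp
    · rw [Equiv.apply_symm_apply, add_neg_cancel_right]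
      exact hKσ _ _ _ (hfK _ _)
  · let D : ∀ n : ℕ, ℕ → Z _⦋n + 1⦌ →+ Z _⦋n⦌ := fun n a =>
      if h : a < n + 2 then AddMonoidHom.mk' (Z.δ ⟨a, h⟩) (hδ n _) else 0
    let S : ∀ n : ℕ, ℕ → Z _⦋n⦌ →+ Z _⦋n + 1⦌ := fun n a =>
      if h : a < n + 1 then AddMonoidHom.mk' (Z.σ ⟨a, h⟩) (hσ n _) else 0
    have hD : ∀ (n a : ℕ) (h : a < n + 2) (y : Z _⦋n + 1⦌), D n a y = Z.δ ⟨a, h⟩ y := by
      intro n a h y
      simp only [D, dif_pos h, AddMonoidHom.mk'_apply]
    have hS : ∀ (n a : ℕ) (h : a < n + 1) (y : Z _⦋n⦌), S n a y = Z.σ ⟨a, h⟩ y := by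
      intro n a h y
      simp only [S, dif_pos h, AddMonoidHom.mk'_apply]
    let x : ℕ → Z _⦋m + 1⦌ := fun j =>
      if h : j < m + 3 then (if h' : (⟨j, h⟩ : Fin (m + 3)) ≠ i then yonedaEquiv (f ⟨j, h⟩ h') else 0)
      else 0
    have hxval : ∀ (j : Fin (m + 3)) (hj : j ≠ i), x j.val = yonedaEquiv (f j hj) := by
      intro j hj
      simp only [x, dif_pos j.isLt, Fin.eta, dif_pos hj]
    obtain ⟨w, hwK, hw⟩ := exists_filler_rel_add D S K
      (fun n a b hab hb y => by
        rw [hD n a (by omega), hD (n + 1) (b + 1) (by omega), hD n b (by omega),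
          hD (n + 1) a (by omega)]
        exact SSet.δ_comp_δ_apply (S := Z) (i := ⟨a, by omega⟩) (j := ⟨b, by omega⟩) hab y)
      (fun n a b hab hb z => by
        rw [hS (n + 1) (b + 1) (by omega), hD (n + 1) a (by omega), hD n a (by omega),
          hS n b (by omega)]
        exact SSet.δ_comp_σ_of_le_apply (S := Z) (i := ⟨a, by omega⟩) (j := ⟨b, by omega⟩) hab z)
      (fun n b hb z => by
        rw [hS n b (by omega), hD n b (by omega)]
        exact SSet.δ_comp_σ_self_apply (S := Z) ⟨b, by omega⟩ z)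
      (fun n b hb z => by
        rw [hS n b (by omega), hD n (b + 1) (by omega)]
        exact SSet.δ_comp_σ_succ_apply (S := Z) ⟨b, by omega⟩ z)
      (fun n a b hab ha z => by
        rw [hS (n + 1) b (by omega), hD (n + 1) (a + 1) (by omega), hD n a (by omega),
          hS n b (by omega)]
        exact SSet.δ_comp_σ_of_gt_apply (S := Z) (i := ⟨a, by omega⟩) (j := ⟨b, by omega⟩) hab z)
      (fun n b hb z hz => by
        rw [hS n b (by omega)]
        exact hKσ _ _ _ hz)
      (fun n b hb z hz => by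
        rw [hD n b (by omega)]
        exact hKδ _ _ _ hz)
      m i.val (by have := i.isLt; omega) x w₀
      (fun j hj hji => by
        have h' : (⟨j, by omega⟩ : Fin (m + 3)) ≠ i := fun h => hji (congrArg Fin.val h)
        have := hxval ⟨j, by omega⟩ h'
        simp only at this
        rw [this, hD (m + 1) j (by omega)]
        exact hfK _ _)
      (fun j k hjk hk hji hki => by
        have hj' : (⟨j, by omega⟩ : Fin (m + 3)) ≠ i := fun h => hji (congrArg Fin.val h)
        have hk' : (⟨k, by omega⟩ : Fin (m + 3)) ≠ i := fun h => hki (congrArg Fin.val h)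
        have e1 := hxval ⟨j, by omega⟩ hj'
        have e2 := hxval ⟨k, by omega⟩ hk'
        simp only at e1 e2
        rw [e1, e2, hD m (k - 1) (by omega), hD m j (by omega)]
        have hc := hf ⟨j, by omega⟩ ⟨k, by omega⟩ hj' hk' (by simpa using hjk)
        have hc' := congrArg yonedaEquiv hc
        rw [stdSimplex.yonedaEquiv_δ_comp, stdSimplex.yonedaEquiv_δ_comp] at hc'
        exact hc')
    refine ⟨yonedaEquiv.symm w, fun j hj => ?_, ?_⟩
    · rw [stdSimplex.δ_comp_yonedaEquiv_symm, Equiv.symm_apply_eq, ← hxval j hj,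
        ← hw j.val (by have := j.isLt; omega) (fun h => hj (Fin.ext h)), hD (m + 1) j.val j.isLt]
    · rw [Equiv.apply_symm_apply]
      exact hwK

end SSetLevel

end Groth.Agent.Lib.Helper59.Moore
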