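import Mathlib
import Groth.Agent.Lib.Helper73.DimFT.Catenary

/-!
# A polynomial relation among `r` elements of a finite type algebra of dimension `< r` (helper59)
-/

set_option autoImplicit false
universe u
open TensorProduct

namespace Groth.Agent.Lib.Helper59.MovDK

theorem exists_ne_zero_mem_ker {k : Type u} [Field k] {r : ℕ} (R : Type u) [CommRing R]
    [Algebra k R] [Algebra.FiniteType k R] (hdim : ringKrullDim R < (r : WithBot ℕ∞))
    (φ : MvPolynomial (Fin r) k →ₐ[k] R) : ∃ h : MvPolynomial (Fin r) k, h ≠ 0 ∧ φ h = 0 := by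
  by_contra hcon
  push Not at hcon
  -- `φ` is injective
  have hinj : ∀ h : MvPolynomial (Fin r) k, φ h = 0 → h = 0 := fun h hh => by
    by_contra hne
    exact hcon h hne hh
  -- the multiplicative set `φ(P \ 0)`
  let S : Submonoid R := Submonoid.map φ.toRingHom.toMonoidHom (nonZeroDivisors (MvPolynomial (Fin r) k))
  have hdisj : Disjoint ((⊥ : Ideal R) : Set R) (S : Set R) := by
    rw [Set.disjoint_left]
    rintro x hx ⟨h, hh, rfl⟩
    have hx0 : φ h = 0 := hx
    have := hinj h hx0
    rw [this] at hh
    exact zero_notMem_nonZeroDivisors hh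
  obtain ⟨q, hq, -, hqS⟩ := Ideal.exists_le_prime_disjoint (⊥ : Ideal R) S hdisj
  haveI := hq
  let D := R ⧸ q
  let ψ : MvPolynomial (Fin r) k →ₐ[k] D := (Ideal.Quotient.mkₐ k q).comp φ
  have hψinj : Function.Injective ψ := by
    rw [injective_iff_map_eq_zero]
    intro h hh
    by_contra hne
    have h1 : φ h ∈ q := by
      have : Ideal.Quotient.mk q (φ h) = 0 := hh
      exact Ideal.Quotient.eq_zero_iff_mem.1 this
    have h2 : φ h ∈ (S : Set R) := ⟨h, mem_nonZeroDivisors_of_ne_zero hne, rfl⟩
    exact Set.disjoint_left.1 hqS h1 h2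
  haveI : Algebra.FiniteType k D := Algebra.FiniteType.of_surjective (Ideal.Quotient.mkₐ k q)
    (Ideal.Quotient.mkₐ_surjective k q)
  haveI : IsDomain D := Ideal.Quotient.isDomain q
  obtain ⟨d, hd⟩ := Groth.Agent.Lib.Helper73.exists_nat_ringKrullDim_eq k D
  let K := FractionRing D
  have htr : Algebra.trdeg k K = d :=
    Groth.Agent.Lib.Helper73.trdeg_eq_of_ringKrullDim_eq k K d hd
  -- algebraic independence of the images of the variables
  let x : Fin r → K := fun i => algebraMap D K (ψ (MvPolynomial.X i))
  have hx : AlgebraicIndependent k x := by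
    rw [algebraicIndependent_iff_injective_aeval]
    have he : (MvPolynomial.aeval x : MvPolynomial (Fin r) k →ₐ[k] K) =
        (IsScalarTower.toAlgHom k D K).comp ψ := by
      apply MvPolynomial.algHom_ext
      intro i
      simp [x]
    rw [he]
    exact (IsFractionRing.injective D K).comp hψinj
  have hcard := hx.lift_cardinalMk_le_trdeg
  rw [htr, Cardinal.mk_fin] at hcard
  have hrd : r ≤ d := by
    simpa using hcard
  have h1 : ringKrullDim D ≤ ringKrullDim R := ringKrullDim_quotient_le q
  rw [hd] at h1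
  have h2 : (d : WithBot ℕ∞) < (r : WithBot ℕ∞) := lt_of_le_of_lt h1 hdim
  have h3 : d < r := by exact_mod_cast h2
  omega

end Groth.Agent.Lib.Helper59.MovDK
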