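import Mathlib

set_option autoImplicit false

namespace Groth.Agent.Lib.Helper59.MukaiInt

lemma mul_eq_one_pos {a b : ℤ} (ha : 0 < a) (hb : 0 < b) (h : a * b ≤ 1) : a = 1 ∧ b = 1 := by
  have h1 : a ≤ 1 := by nlinarith
  have h2 : b ≤ 1 := by nlinarith
  constructor <;> omega

theorem main (n r d χ p q m : ℤ) (hn : 0 < n) (hr : 2 ≤ r) (hd : 0 < d) (hχ : χ < 0) (hp : 0 ≤ p)
    (hodge : 4 * n * p * q ≤ m * m)
    (h1 : 1 ≤ |d * m - r * q - χ * p|) (h2 : |d * m - r * q - χ * p| ≤ 2)
    (hexc : ¬ (d = 1 ∧ χ = -1 ∧ m = 1 ∧ 2 * p * q = 0))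
    (hr2 : r = 2 → ¬ (p = 0 ∧ m = 0)) :
    (0 ≤ 2 * n * d * p - r * m ↔ 0 ≤ χ * m - 2 * n * d * q) := by
  rw [abs_le] at h2
  obtain ⟨h2l, h2u⟩ := h2
  have hnd : 0 < n * d := mul_pos hn hd
  constructor
  · intro ha
    by_contra hb
    push Not at hb
    rcases lt_trichotomy m 0 with hm | hm | hm
    · -- m < 0
      have hq : 0 < q := by
        by_contra hq
        push Not at hq
        have : 0 ≤ χ * m := by nlinarith
        have : 2 * n * d * q ≤ 0 := by nlinarith
        linarith
      rcases hp.eq_or_lt with hp0 | hp0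
      · -- p = 0
        subst hp0
        have : d * m ≤ -1 := by nlinarith
        have : r * q ≥ 2 := by nlinarith
        nlinarith
      · -- p > 0 : e * (-m) < ...
        -- |χ||m| < 2ndq ; m² ≥ 4npq
        have key : (d * m - r * q - χ * p) * (-m) * 2 < -(d * m * m) - 2 * r * q * (-m) := by
          -- χ p m *2 < 4 n d q p ≤ d m²
          have h3 : χ * m * p < 2 * n * d * q * p := by nlinarith
          have h4 : d * (4 * n * p * q) ≤ d * (m * m) := by nlinarith
          nlinarith
        have hm' : 0 < -m := by linarith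
        -- e ≥ -2 ⇒ e * (-m) * 2 ≥ -4 * (-m)
        have h5 : (d * m - r * q - χ * p) * (-m) * 2 ≥ -2 * (-m) * 2 := by nlinarith
        have h6 : d * m * m ≥ -m := by nlinarith
        have h7 : r * q * (-m) ≥ 2 * (-m) := by nlinarith
        nlinarith
    · -- m = 0
      subst hm
      have hq : 0 < q := by
        by_contra hq
        push Not at hq
        have : 2 * n * d * q ≤ 0 := by nlinarith
        linarith
      have hp0 : p = 0 := by
        by_contra hne
        have hp1 : 0 < p := lt_of_le_of_ne hp (Ne.symm hne)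
        have : 0 < n * p * q := by positivity
        nlinarith
      subst hp0
      have hrq : r * q ≤ 2 := by nlinarith
      have hr' : r = 2 := by nlinarith
      exact hr2 hr' ⟨rfl, rfl⟩
    · -- m > 0
      have hp0 : 0 < p := by
        by_contra hne
        push Not at hne
        have : p = 0 := le_antisymm hne hp
        subst this
        nlinarith
      rcases le_or_gt q 0 with hq | hq
      · have hdm : 1 ≤ d * m := by nlinarith
        have hχp : 1 ≤ -(χ * p) := by nlinarith
        have hrq : 0 ≤ -(r * q) := by nlinarith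
        have e1 : d * m ≤ 1 := by linarith
        have e2 : -(χ * p) ≤ 1 := by linarith
        have e3 : r * q = 0 := by linarith
        obtain ⟨hd1, hm1⟩ := mul_eq_one_pos hd hm e1
        have hχ' : 0 < -χ := by linarith
        have e2' : (-χ) * p ≤ 1 := by linarith
        obtain ⟨hχ1, hp1⟩ := mul_eq_one_pos hχ' hp0 e2'
        have hq0 : q = 0 := by
          rcases mul_eq_zero.1 e3 with h | h
          · omega
          · exact h
        exact hexc ⟨hd1, by omega, hm1, by rw [hq0]; ring⟩
      · -- q > 0
        have h3 : d * (4 * n * p * q) ≤ d * (m * m) := by nlinarith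
        have h4 : r * m * q ≤ 2 * n * d * p * q := by nlinarith
        -- d m² ≥ 2 r m q
        have h5 : (d * m - r * q - χ * p) * m ≥ r * q * m - χ * p * m := by nlinarith
        have h6 : r * q ≥ 2 := by nlinarith
        have h7 : -(χ * p) ≥ 1 := by nlinarith
        nlinarith
  · intro hb
    by_contra ha
    push Not at ha
    have hm : 0 < m := by
      by_contra hm
      push Not at hm
      have : 0 ≤ 2 * n * d * p := by positivity
      nlinarith
    have hq : q < 0 := by
      by_contra hq
      push Not at hq
      have : 0 ≤ 2 * n * d * q := by positivity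
      nlinarith
    have hdm : 1 ≤ d * m := by nlinarith
    have hrq : 2 ≤ -(r * q) := by nlinarith
    have hχp : 0 ≤ -(χ * p) := by nlinarith
    linarith

end Groth.Agent.Lib.Helper59.MukaiInt
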