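import Mathlib

/-!
# `ℓ(M/q^{n+1}M) ≤ C(n+d,d) · ℓ(M/qM)` for an ideal `q` generated by `d` elements (helper59)

Induction on the number of generators, avoiding monomial counts.
-/

namespace Groth.Agent.Lib.Helper59.MultUpper

universe u

variable {A : Type u} [CommRing A]

section Step

variable (M : Type u) [AddCommGroup M] [Module A M] (a : A) (q' : Ideal A)

/-- `M/aM` -/
abbrev Mbar : Type u := M ⧸ (Ideal.span {a} • (⊤ : Submodule A M))

/-- key step: `ℓ(M/q^{k+1}M) ≤ ℓ(M/q^kM) + ℓ(M̄/q'^{k+1}M̄)`, `q = (a) + q'`, `M̄ = M/aM`. -/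
theorem length_step (k : ℕ) :
    Module.length A (M ⧸ ((Ideal.span {a} ⊔ q') ^ (k + 1) • (⊤ : Submodule A M))) ≤
      Module.length A (M ⧸ ((Ideal.span {a} ⊔ q') ^ k • (⊤ : Submodule A M))) +
      Module.length A (Mbar M a ⧸ (q' ^ (k + 1) • (⊤ : Submodule A (Mbar M a)))) := by
  set q := Ideal.span {a} ⊔ q' with hq
  have haq : a ∈ q := Ideal.mem_sup_left (Ideal.mem_span_singleton_self a)
  -- multiplication by `a`
  have hmul : q ^ k • (⊤ : Submodule A M) ≤
      (q ^ (k + 1) • (⊤ : Submodule A M)).comap (a • (LinearMap.id : M →ₗ[A] M)) := by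
    rw [Submodule.smul_le]
    intro r hr m _
    rw [Submodule.mem_comap, LinearMap.smul_apply, LinearMap.id_apply, smul_smul]
    apply Submodule.smul_mem_smul _ Submodule.mem_top
    rw [pow_succ']
    exact Ideal.mul_mem_mul haq hr
  let f : (M ⧸ (q ^ k • (⊤ : Submodule A M))) →ₗ[A] (M ⧸ (q ^ (k + 1) • (⊤ : Submodule A M))) :=
    Submodule.mapQ _ _ (a • (LinearMap.id : M →ₗ[A] M)) hmul
  set S := LinearMap.range f with hS
  have h1 : Module.length A (M ⧸ (q ^ (k + 1) • (⊤ : Submodule A M))) =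
      Module.length A S + Module.length A ((M ⧸ (q ^ (k + 1) • (⊤ : Submodule A M))) ⧸ S) :=
    Module.length_eq_add_of_exact S.subtype S.mkQ (Submodule.subtype_injective _)
      (Submodule.mkQ_surjective _) (LinearMap.exact_subtype_mkQ S)
  have h2 : Module.length A S ≤ Module.length A (M ⧸ (q ^ k • (⊤ : Submodule A M))) :=
    Module.length_le_of_surjective f.rangeRestrict f.surjective_rangeRestrict
  -- the surjection `M̄/q'^{k+1}M̄ → N/S`
  let π : M →ₗ[A] ((M ⧸ (q ^ (k + 1) • (⊤ : Submodule A M))) ⧸ S) :=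
    S.mkQ ∘ₗ (q ^ (k + 1) • (⊤ : Submodule A M)).mkQ
  have hπ : Function.Surjective π :=
    (Submodule.mkQ_surjective _).comp (Submodule.mkQ_surjective _)
  have hk1 : Ideal.span {a} • (⊤ : Submodule A M) ≤ LinearMap.ker π := by
    rw [Submodule.smul_le]
    intro r hr m _
    obtain ⟨c, rfl⟩ := Ideal.mem_span_singleton'.mp hr
    rw [LinearMap.mem_ker, mul_smul, map_smul]
    have : π (a • m) = 0 := by
      change S.mkQ ((q ^ (k + 1) • (⊤ : Submodule A M)).mkQ (a • m)) = 0
      rw [Submodule.mkQ_apply, Submodule.Quotient.mk_eq_zero]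
      exact ⟨Submodule.Quotient.mk m, rfl⟩
    rw [this, smul_zero]
  let π₁ : Mbar M a →ₗ[A] ((M ⧸ (q ^ (k + 1) • (⊤ : Submodule A M))) ⧸ S) :=
    Submodule.liftQ _ π hk1
  have hπ₁ : Function.Surjective π₁ := by
    intro y
    obtain ⟨m, rfl⟩ := hπ y
    exact ⟨Submodule.Quotient.mk m, rfl⟩
  have hk2 : q' ^ (k + 1) • (⊤ : Submodule A (Mbar M a)) ≤ LinearMap.ker π₁ := by
    rw [Submodule.smul_le]
    intro r hr mb _
    obtain ⟨m, rfl⟩ := Submodule.Quotient.mk_surjective _ mb
    rw [LinearMap.mem_ker, map_smul]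
    change r • π m = 0
    rw [← map_smul]
    change S.mkQ ((q ^ (k + 1) • (⊤ : Submodule A M)).mkQ (r • m)) = 0
    have : (q ^ (k + 1) • (⊤ : Submodule A M)).mkQ (r • m) = 0 := by
      rw [Submodule.mkQ_apply, Submodule.Quotient.mk_eq_zero]
      apply Submodule.smul_mem_smul _ Submodule.mem_top
      exact Ideal.pow_right_mono le_sup_right (k + 1) hr
    rw [this, map_zero]
  let π₂ : (Mbar M a ⧸ (q' ^ (k + 1) • (⊤ : Submodule A (Mbar M a)))) →ₗ[A]
      ((M ⧸ (q ^ (k + 1) • (⊤ : Submodule A M))) ⧸ S) := Submodule.liftQ _ π₁ hk2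
  have hπ₂ : Function.Surjective π₂ := by
    intro y
    obtain ⟨m, rfl⟩ := hπ₁ y
    exact ⟨Submodule.Quotient.mk m, rfl⟩
  have h3 := Module.length_le_of_surjective π₂ hπ₂
  rw [h1]
  exact add_le_add h2 h3

/-- `ℓ(M̄/q'M̄) ≤ ℓ(M/qM)`. -/
theorem length_bar_le :
    Module.length A (Mbar M a ⧸ (q' • (⊤ : Submodule A (Mbar M a)))) ≤
      Module.length A (M ⧸ ((Ideal.span {a} ⊔ q') • (⊤ : Submodule A M))) := by
  let π : M →ₗ[A] (Mbar M a ⧸ (q' • (⊤ : Submodule A (Mbar M a)))) :=
    (q' • (⊤ : Submodule A (Mbar M a))).mkQ ∘ₗ (Ideal.span {a} • (⊤ : Submodule A M)).mkQ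
  have hπ : Function.Surjective π :=
    (Submodule.mkQ_surjective _).comp (Submodule.mkQ_surjective _)
  have hk : (Ideal.span {a} ⊔ q') • (⊤ : Submodule A M) ≤ LinearMap.ker π := by
    rw [Submodule.sup_smul, sup_le_iff]
    constructor
    · intro m hm
      rw [LinearMap.mem_ker]
      change (q' • (⊤ : Submodule A (Mbar M a))).mkQ ((Ideal.span {a} • (⊤ : Submodule A M)).mkQ m) = 0
      have : (Ideal.span {a} • (⊤ : Submodule A M)).mkQ m = 0 := by
        rw [Submodule.mkQ_apply, Submodule.Quotient.mk_eq_zero]; exact hm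
      rw [this, map_zero]
    · rw [Submodule.smul_le]
      intro r hr m _
      rw [LinearMap.mem_ker, map_smul]
      change r • (q' • (⊤ : Submodule A (Mbar M a))).mkQ ((Ideal.span {a} • (⊤ : Submodule A M)).mkQ m) = 0
      rw [← map_smul, Submodule.mkQ_apply, Submodule.mkQ_apply, Submodule.Quotient.mk_eq_zero]
      exact Submodule.smul_mem_smul hr Submodule.mem_top
  have hsurj : Function.Surjective (Submodule.liftQ _ π hk) := by
    intro y
    obtain ⟨m, rfl⟩ := hπ y
    exact ⟨Submodule.Quotient.mk m, rfl⟩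
  exact Module.length_le_of_surjective _ hsurj

end Step

/-- the main bound. -/
theorem length_quot_pow_le (d : ℕ) : ∀ (x : Fin d → A) (M : Type u) [AddCommGroup M] [Module A M]
    (n : ℕ),
    Module.length A (M ⧸ (Ideal.span (Set.range x) ^ (n + 1) • (⊤ : Submodule A M))) ≤
      (((n + d).choose d : ℕ) : ℕ∞) *
        Module.length A (M ⧸ (Ideal.span (Set.range x) • (⊤ : Submodule A M))) := by
  induction d with
  | zero =>
    intro x M _ _ n
    have : Set.range x = ∅ := Set.range_eq_empty x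
    rw [this, Ideal.span_empty]
    have h0 : (⊥ : Ideal A) ^ (n + 1) = ⊥ := by
      rw [← Ideal.zero_eq_bot, zero_pow (Nat.succ_ne_zero n)]
    rw [h0]
    simp
  | succ d ih =>
    intro x M _ _ n
    set a := x 0 with ha
    set x' := Fin.tail x with hx'
    have hx : Ideal.span (Set.range x) = Ideal.span {a} ⊔ Ideal.span (Set.range x') := by
      have : x = Fin.cons a x' := (Fin.cons_self_tail x).symm
      rw [this, Fin.range_cons, Ideal.span_insert]
    rw [hx]
    set q' := Ideal.span (Set.range x') with hq'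
    -- inner induction
    have key : ∀ n : ℕ,
        Module.length A (M ⧸ ((Ideal.span {a} ⊔ q') ^ (n + 1) • (⊤ : Submodule A M))) ≤
        ((∑ j ∈ Finset.range (n + 1), (j + d).choose d : ℕ) : ℕ∞) *
          Module.length A (M ⧸ ((Ideal.span {a} ⊔ q') • (⊤ : Submodule A M))) := by
      intro n
      induction n with
      | zero =>
        rw [zero_add, pow_one, Finset.sum_range_one, zero_add, Nat.choose_self, Nat.cast_one, one_mul]
      | succ n ihn =>
        have h1 := length_step M a q' (n + 1)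
        have h2 := ih x' (Mbar M a) (n + 1)
        have h3 := length_bar_le M a q'
        calc Module.length A (M ⧸ ((Ideal.span {a} ⊔ q') ^ (n + 1 + 1) • (⊤ : Submodule A M)))
            ≤ _ + _ := h1
          _ ≤ ((∑ j ∈ Finset.range (n + 1), (j + d).choose d : ℕ) : ℕ∞) *
                Module.length A (M ⧸ ((Ideal.span {a} ⊔ q') • (⊤ : Submodule A M))) +
              (((n + 1 + d).choose d : ℕ) : ℕ∞) *
                Module.length A (M ⧸ ((Ideal.span {a} ⊔ q') • (⊤ : Submodule A M))) := by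
              apply add_le_add ihn
              exact h2.trans (mul_le_mul_right h3 _)
          _ = _ := by
              rw [← add_mul, Finset.sum_range_succ (n := n + 1)]
              push_cast
              rfl
    have := key n
    rw [Nat.sum_range_add_choose] at this
    have e : n + d + 1 = n + (d + 1) := by ring
    rw [e] at this
    exact this

end Groth.Agent.Lib.Helper59.MultUpper
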