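import Mathlib
import Groth.Agent.Lib.Helper90.SamuelPrimary
import Groth.Agent.Lib.Helper90.PolyLim
import Groth.Agent.Lib.Helper32.SamuelAdd
import Groth.Agent.Lib.Helper59.MultUpper

/-!
# Samuel multiplicity of a parameter ideal (helper59)

`mult q d M = lim d! ℓ(M/q^t M) / t^d`; integrality, superadditivity, the bound `e(q,A) ≤ ℓ(A/q)`,
positivity on top-dimensional prime quotients; and the count of top-dimensional minimal primes.
-/

set_option autoImplicit false
set_option linter.unusedSectionVars false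

namespace Groth.Agent.Lib.Helper59.Mult

open Filter Topology Polynomial
open Groth.Agent.Lib.Helper90 Groth.Agent.Lib.Helper32

universe u

section Poly

/-- a rational polynomial of degree `≤ d` divided by `n^d` tends to its `d`-th coefficient. -/
lemma tendsto_eval_div_pow_coeff (P : ℚ[X]) (d : ℕ) (hP : P.natDegree ≤ d) :
    Tendsto (fun n : ℕ => ((P.eval (n : ℚ) : ℚ) : ℝ) / (n : ℝ) ^ d) atTop
      (𝓝 ((P.coeff d : ℚ) : ℝ)) := by
  by_cases h : P.degree = d
  · have := PolyLim.tendsto_eval_div_pow_leadingCoeff P d h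
    have h2 : P.leadingCoeff = P.coeff d := by
      rw [leadingCoeff, natDegree_eq_of_degree_eq_some h]
    rwa [h2] at this
  · have hlt : P.degree < d := by
      have h1 : P.degree ≤ d := by
        rcases eq_or_ne P 0 with rfl | h0
        · simp
        · rw [degree_eq_natDegree h0]; exact_mod_cast hP
      exact lt_of_le_of_ne h1 h
    have := PolyLim.tendsto_eval_div_pow_zero P d hlt
    rwa [coeff_eq_zero_of_degree_lt hlt, Rat.cast_zero]

end Poly

variable {A : Type u} [CommRing A]

/-- the normalized Samuel function. -/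
noncomputable def seq (q : Ideal A) (d : ℕ) (M : Type u) [AddCommGroup M] [Module A M] : ℕ → ℝ :=
  fun t : ℕ => (d.factorial : ℝ) *
    ((Module.length A (M ⧸ (q ^ t • (⊤ : Submodule A M)))).toNat : ℝ) / (t : ℝ) ^ d

/-- the multiplicity. -/
noncomputable def mult (q : Ideal A) (d : ℕ) (M : Type u) [AddCommGroup M] [Module A M] : ℝ :=
  limUnder atTop (seq q d M)

lemma seq_nonneg (q : Ideal A) (d : ℕ) (M : Type u) [AddCommGroup M] [Module A M] (t : ℕ) :
    0 ≤ seq q d M t := by
  unfold seq; positivity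

variable [IsNoetherianRing A] [IsLocalRing A]

section Exists

variable {d : ℕ} (x : Fin d → A)
  (hq : ∃ N : ℕ, IsLocalRing.maximalIdeal A ^ N ≤ Ideal.span (Set.range x))
  (M : Type u) [AddCommGroup M] [Module A M] [Module.Finite A M]

include hq in
theorem exists_int_tendsto :
    ∃ c : ℤ, Tendsto (seq (Ideal.span (Set.range x)) d M) atTop (𝓝 (c : ℝ)) := by
  have hfl : IsFiniteLength A (M ⧸ GrMod.I x • (⊤ : Submodule A M)) := by
    rw [← Module.length_ne_top_iff]
    have := SamuelAdd.length_ne_top (Ideal.span (Set.range x)) hq (N := M) 1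
      (Ideal.span (Set.range x) • ⊤) (by rw [pow_one])
    exact this
  have hPL := GrMod.samuel_PL (M := M) x hfl
  obtain ⟨c, N, hN⟩ := hPL.exists_coeff
  set P : ℚ[X] := ∑ k : Fin (d + 1), ((c k : ℤ) : ℚ) • preHilbertPoly ℚ k 0 with hPdef
  have hdeg : P.natDegree ≤ d := by
    apply natDegree_sum_le_of_forall_le
    intro k _
    refine (natDegree_smul_le _ _).trans ?_
    rw [natDegree_preHilbertPoly]
    have := k.2
    omega
  have hval : ∀ n, N ≤ n → ((GrMod.samuelFn (GrMod.I x) M n : ℤ) : ℚ) = P.eval (n : ℚ) := by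
    intro n hn
    rw [hN n hn, eval_finsetSum]
    push_cast
    apply Finset.sum_congr rfl
    intro k _
    rw [eval_smul, preHilbertPoly_eq_choose_sub_add ℚ k (Nat.zero_le n), smul_eq_mul,
      HilbPoly.B_apply]
    simp
  have hcoeff : P.coeff d = ((c (Fin.last d) : ℤ) : ℚ) * ((d.factorial : ℚ))⁻¹ := by
    rw [hPdef, finsetSum_coeff, Fin.sum_univ_castSucc]
    have h0 : ∀ k : Fin d, (((c k.castSucc : ℤ) : ℚ) •
        preHilbertPoly ℚ (k.castSucc : ℕ) 0).coeff d = 0 := by
      intro k
      rw [coeff_smul, coeff_eq_zero_of_natDegree_lt, smul_zero]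
      rw [natDegree_preHilbertPoly]
      exact k.2
    rw [Finset.sum_eq_zero (fun k _ => h0 k), zero_add, coeff_smul, Fin.val_last,
      coeff_preHilbertPoly_self, smul_eq_mul]
  refine ⟨c (Fin.last d), ?_⟩
  have h1 := (tendsto_eval_div_pow_coeff P d hdeg).const_mul (d.factorial : ℝ)
  have h2 : (d.factorial : ℝ) * ((P.coeff d : ℚ) : ℝ) = ((c (Fin.last d) : ℤ) : ℝ) := by
    rw [hcoeff]
    push_cast
    have : (d.factorial : ℝ) ≠ 0 := by positivity
    field_simp
  rw [h2] at h1
  refine h1.congr' ?_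
  filter_upwards [eventually_ge_atTop N] with n hn
  have h3 := hval n hn
  unfold seq
  rw [← h3]
  simp only [GrMod.samuelFn, GrMod.I]
  push_cast
  rw [mul_div_assoc]
  rfl

include hq in
theorem tendsto_mult :
    Tendsto (seq (Ideal.span (Set.range x)) d M) atTop (𝓝 (mult (Ideal.span (Set.range x)) d M)) := by
  obtain ⟨c, hc⟩ := exists_int_tendsto x hq M
  exact tendsto_nhds_limUnder ⟨_, hc⟩

include hq in
theorem exists_int_mult : ∃ c : ℤ, mult (Ideal.span (Set.range x)) d M = (c : ℝ) := by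
  obtain ⟨c, hc⟩ := exists_int_tendsto x hq M
  exact ⟨c, tendsto_nhds_unique (tendsto_mult x hq M) hc⟩

include hq in
theorem mult_nonneg : 0 ≤ mult (Ideal.span (Set.range x)) d M :=
  ge_of_tendsto' (tendsto_mult x hq M) (fun t => seq_nonneg _ _ _ t)

end Exists

section Add

variable {d : ℕ} (x : Fin d → A)
  (hq : ∃ N : ℕ, IsLocalRing.maximalIdeal A ^ N ≤ Ideal.span (Set.range x))
  {M' M M'' : Type u} [AddCommGroup M'] [Module A M'] [AddCommGroup M] [Module A M]
  [AddCommGroup M''] [Module A M''] [Module.Finite A M'] [Module.Finite A M] [Module.Finite A M'']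

include hq in
theorem mult_le_of_surjective (g : M →ₗ[A] M'') (hg : Function.Surjective g) :
    mult (Ideal.span (Set.range x)) d M'' ≤ mult (Ideal.span (Set.range x)) d M := by
  refine le_of_tendsto_of_tendsto' (tendsto_mult x hq M'') (tendsto_mult x hq M) (fun t => ?_)
  set q := Ideal.span (Set.range x)
  have hle : q ^ t • (⊤ : Submodule A M) ≤ (q ^ t • (⊤ : Submodule A M'')).comap g := by
    rw [Submodule.smul_le]
    intro r hr m _
    rw [Submodule.mem_comap, map_smul]
    exact Submodule.smul_mem_smul hr Submodule.mem_top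
  have hs : Function.Surjective (Submodule.mapQ _ _ g hle) := by
    intro y
    obtain ⟨m'', rfl⟩ := Submodule.Quotient.mk_surjective _ y
    obtain ⟨m, rfl⟩ := hg m''
    exact ⟨Submodule.Quotient.mk m, rfl⟩
  have h1 := Module.length_le_of_surjective _ hs
  have h2 : Module.length A (M ⧸ (q ^ t • (⊤ : Submodule A M))) ≠ ⊤ :=
    SamuelAdd.length_ne_top q hq t _ le_rfl
  have h3 := ENat.toNat_le_toNat h1 h2
  unfold seq
  gcongr

include hq in
/-- superadditivity on a complex `0 → M' → M → M'' → 0` exact at the ends. -/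
theorem mult_add_le (f : M' →ₗ[A] M) (g : M →ₗ[A] M'') (hf : Function.Injective f)
    (hg : Function.Surjective g) (hgf : g ∘ₗ f = 0) :
    mult (Ideal.span (Set.range x)) d M' + mult (Ideal.span (Set.range x)) d M'' ≤
      mult (Ideal.span (Set.range x)) d M := by
  set q := Ideal.span (Set.range x)
  -- `M ⧸ range f`
  have hle : LinearMap.range f ≤ LinearMap.ker g := by
    rintro _ ⟨m', rfl⟩
    rw [LinearMap.mem_ker, ← LinearMap.comp_apply, hgf, LinearMap.zero_apply]
  have hmain := SamuelAdd.main q hq f (LinearMap.range f).mkQ hf (Submodule.mkQ_surjective _)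
    (by rw [Submodule.ker_mkQ]) d _ _ (tendsto_mult x hq M')
    (tendsto_mult x hq (M ⧸ LinearMap.range f))
  have h1 : mult q d M = mult q d M' + mult q d (M ⧸ LinearMap.range f) :=
    tendsto_nhds_unique (tendsto_mult x hq M) hmain
  have hs : Function.Surjective ((LinearMap.range f).liftQ g hle) := by
    intro y
    obtain ⟨m, rfl⟩ := hg y
    exact ⟨Submodule.Quotient.mk m, rfl⟩
  have h2 := mult_le_of_surjective x hq ((LinearMap.range f).liftQ g hle) hs
  rw [h1]
  gcongr

end Add

section Upper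

variable {d : ℕ} (x : Fin d → A)
  (hq : ∃ N : ℕ, IsLocalRing.maximalIdeal A ^ N ≤ Ideal.span (Set.range x))
  (M : Type u) [AddCommGroup M] [Module A M] [Module.Finite A M]

lemma tendsto_ratio (d : ℕ) :
    Tendsto (fun n : ℕ => (((n : ℝ) + d) / ((n : ℝ) + 1)) ^ d) atTop (𝓝 1) := by
  have h1 : Tendsto (fun n : ℕ => ((d : ℝ) - 1) / ((n : ℝ) + 1)) atTop (𝓝 0) := by
    have := (tendsto_const_div_atTop_nhds_zero_nat ((d : ℝ) - 1))
    have h := (tendsto_add_atTop_iff_nat 1).2 this
    refine h.congr fun n => ?_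
    push_cast
    rfl
  have h2 : Tendsto (fun n : ℕ => 1 + ((d : ℝ) - 1) / ((n : ℝ) + 1)) atTop (𝓝 (1 + 0)) :=
    tendsto_const_nhds.add h1
  rw [add_zero] at h2
  have h3 := h2.pow d
  rw [one_pow] at h3
  refine h3.congr fun n => ?_
  congr 1
  have : ((n : ℝ) + 1) ≠ 0 := by positivity
  field_simp
  ring

include hq in
theorem mult_le_length :
    mult (Ideal.span (Set.range x)) d M ≤
      ((Module.length A (M ⧸ (Ideal.span (Set.range x) • (⊤ : Submodule A M)))).toNat : ℝ) := by
  set q := Ideal.span (Set.range x)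
  set L := (Module.length A (M ⧸ (q • (⊤ : Submodule A M)))).toNat
  have hL : Module.length A (M ⧸ (q • (⊤ : Submodule A M))) ≠ ⊤ :=
    SamuelAdd.length_ne_top q hq 1 _ (by rw [pow_one])
  have hLe : Module.length A (M ⧸ (q • (⊤ : Submodule A M))) = (L : ℕ∞) :=
    (ENat.natCast_toNat hL).symm
  have h1 : Tendsto (fun n : ℕ => seq q d M (n + 1)) atTop (𝓝 (mult q d M)) :=
    (tendsto_add_atTop_iff_nat 1).2 (tendsto_mult x hq M)
  have h2 : Tendsto (fun n : ℕ => (L : ℝ) * (((n : ℝ) + d) / ((n : ℝ) + 1)) ^ d) atTop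
      (𝓝 ((L : ℝ) * 1)) := (tendsto_ratio d).const_mul _
  rw [mul_one] at h2
  refine le_of_tendsto_of_tendsto' h1 h2 (fun n => ?_)
  have hb := MultUpper.length_quot_pow_le d x M n
  rw [hLe] at hb
  have hfin : Module.length A (M ⧸ (q ^ (n + 1) • (⊤ : Submodule A M))) ≠ ⊤ :=
    SamuelAdd.length_ne_top q hq (n + 1) _ le_rfl
  have hb' : (Module.length A (M ⧸ (q ^ (n + 1) • (⊤ : Submodule A M)))).toNat ≤
      (n + d).choose d * L := by
    have h := ENat.toNat_le_toNat hb (by
      rw [← Nat.cast_mul]; exact ENat.natCast_ne_top _)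
    rwa [← Nat.cast_mul, ENat.toNat_natCast] at h
  have hc : d.factorial * (n + d).choose d ≤ (n + d) ^ d := by
    rw [← Nat.ascFactorial_eq_factorial_mul_choose]
    exact Nat.ascFactorial_le_pow_add n d
  unfold seq
  rw [div_pow, div_le_iff₀ (by positivity)]
  have hpos : (0 : ℝ) < ((n : ℝ) + 1) ^ d := by positivity
  calc (d.factorial : ℝ) * ((Module.length A (M ⧸ (q ^ (n + 1) • (⊤ : Submodule A M)))).toNat : ℝ)
      ≤ (d.factorial : ℝ) * (((n + d).choose d * L : ℕ) : ℝ) := by
        gcongr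
    _ = ((d.factorial * (n + d).choose d : ℕ) : ℝ) * L := by push_cast; ring
    _ ≤ (((n + d) ^ d : ℕ) : ℝ) * L := by gcongr
    _ = (L : ℝ) * (((n : ℝ) + d) ^ d / ((n : ℝ) + 1) ^ d) * ((n + 1 : ℕ) : ℝ) ^ d := by
        push_cast
        field_simp

end Upper

section Lower

variable {d : ℕ} (x : Fin d → A)
  (hq : ∃ N : ℕ, IsLocalRing.maximalIdeal A ^ N ≤ Ideal.span (Set.range x))
  (hx : ∀ i, x i ∈ IsLocalRing.maximalIdeal A)

include hq hx in
/-- positivity (hence `≥ 1`) of the multiplicity on a finite module of dimension `d`. -/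
theorem one_le_mult (M : Type u) [AddCommGroup M] [Module A M] [Module.Finite A M] [Nontrivial M]
    (hdim : Module.supportDim A M = d) :
    1 ≤ mult (Ideal.span (Set.range x)) d M := by
  set q := Ideal.span (Set.range x)
  set m := IsLocalRing.maximalIdeal A
  have hqm : q ≤ m := by
    rw [Ideal.span_le]
    rintro _ ⟨i, rfl⟩
    exact hx i
  obtain ⟨P, ⟨N, hN⟩, hdeg⟩ := SamuelDim.exists_hilbertSamuel (A := A) M
  rw [hdim] at hdeg
  have hdeg' : P.natDegree = d := by exact_mod_cast hdeg
  have hjac : Ring.jacobson A = m := IsLocalRing.ringJacobson_eq_maximalIdeal A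
  have hm1 : ∃ N : ℕ, m ^ N ≤ m := ⟨1, by rw [pow_one]⟩
  have hfinm : ∀ t, Module.length A (M ⧸ (m ^ t • (⊤ : Submodule A M))) ≠ ⊤ :=
    fun t => SamuelAdd.length_ne_top m hm1 t _ le_rfl
  have hfinq : ∀ t, Module.length A (M ⧸ (q ^ t • (⊤ : Submodule A M))) ≠ ⊤ :=
    fun t => SamuelAdd.length_ne_top q hq t _ le_rfl
  have hval : ∀ n, N ≤ n →
      (((Module.length A (M ⧸ (m ^ n • (⊤ : Submodule A M)))).toNat : ℕ) : ℚ) = P.eval (n : ℚ) := by
    intro n hn
    rw [← hN n hn, hjac]
    simp only [GrMod.samuelFn]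
    push_cast
    rfl
  -- comparison
  have hcmp : ∀ t, (Module.length A (M ⧸ (m ^ t • (⊤ : Submodule A M)))).toNat ≤
      (Module.length A (M ⧸ (q ^ t • (⊤ : Submodule A M)))).toNat := by
    intro t
    have hle : q ^ t • (⊤ : Submodule A M) ≤ m ^ t • (⊤ : Submodule A M) :=
      Submodule.smul_mono_left (Ideal.pow_right_mono hqm t)
    exact ENat.toNat_le_toNat
      (Module.length_le_of_surjective (Submodule.factor hle) (Submodule.factor_surjective hle))
      (hfinq t)
  -- `P ≠ 0`
  have hpos : ∀ t, 1 ≤ t → 0 < (Module.length A (M ⧸ (m ^ t • (⊤ : Submodule A M)))).toNat := by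
    intro t ht
    rw [Nat.pos_iff_ne_zero, Ne, ENat.toNat_eq_zero, not_or]
    refine ⟨?_, hfinm t⟩
    rw [Module.length_eq_zero_iff, Submodule.Quotient.subsingleton_iff]
    have hle : m ^ t ≤ (Module.annihilator A M).jacobson :=
      (Ideal.pow_le_self (Nat.one_le_iff_ne_zero.mp ht)).trans
        (IsLocalRing.maximalIdeal_le_jacobson _)
    exact (Submodule.top_ne_ideal_smul_of_le_jacobson_annihilator hle).symm
  have hP0 : P ≠ 0 := by
    intro h0
    have h1 := hval (max N 1) (le_max_left _ _)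
    rw [h0, eval_zero] at h1
    have h2 := hpos (max N 1) (le_max_right _ _)
    have : ((Module.length A (M ⧸ (m ^ (max N 1) • (⊤ : Submodule A M)))).toNat : ℚ) ≠ 0 := by
      exact_mod_cast h2.ne'
    exact this h1
  have hlim := (tendsto_eval_div_pow_coeff P d hdeg'.le).const_mul (d.factorial : ℝ)
  have hlc : P.coeff d = P.leadingCoeff := by rw [leadingCoeff, hdeg']
  have hlc0 : P.coeff d ≠ 0 := by rw [hlc]; exact leadingCoeff_ne_zero.mpr hP0
  -- the limit is nonnegative
  have hnonneg : 0 ≤ (d.factorial : ℝ) * ((P.coeff d : ℚ) : ℝ) := by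
    apply ge_of_tendsto hlim
    filter_upwards [eventually_ge_atTop N] with n hn
    rw [← hval n hn]
    positivity
  have hposlim : 0 < (d.factorial : ℝ) * ((P.coeff d : ℚ) : ℝ) := by
    apply lt_of_le_of_ne hnonneg
    intro h
    have h3 : (d.factorial : ℝ) ≠ 0 := by positivity
    have h4 : ((P.coeff d : ℚ) : ℝ) ≠ 0 := by exact_mod_cast hlc0
    exact mul_ne_zero h3 h4 h.symm
  -- compare
  have hge : (d.factorial : ℝ) * ((P.coeff d : ℚ) : ℝ) ≤ mult q d M := by
    apply le_of_tendsto_of_tendsto hlim (tendsto_mult x hq M)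
    filter_upwards [eventually_ge_atTop N] with n hn
    rw [← hval n hn]
    unfold seq
    rw [mul_div_assoc]
    have := hcmp n
    push_cast
    gcongr
  obtain ⟨c, hc⟩ := exists_int_mult x hq M
  rw [hc] at hge ⊢
  have hc0 : (0 : ℝ) < (c : ℝ) := lt_of_lt_of_le hposlim hge
  have hc1 : 0 < c := by exact_mod_cast hc0
  have hc2 : 1 ≤ c := hc1
  exact_mod_cast hc2

end Lower

section Count

variable {d : ℕ} (x : Fin d → A)
  (hq : ∃ N : ℕ, IsLocalRing.maximalIdeal A ^ N ≤ Ideal.span (Set.range x))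
  (hx : ∀ i, x i ∈ IsLocalRing.maximalIdeal A)

include hq hx in
theorem card_le_mult (T : Finset (Ideal A))
    (hT : ∀ p ∈ T, p ∈ minimalPrimes A ∧ ringKrullDim (A ⧸ p) = d) :
    (T.card : ℝ) ≤ mult (Ideal.span (Set.range x)) d (A ⧸ T.inf id) := by
  classical
  induction T using Finset.induction_on with
  | empty =>
    rw [Finset.card_empty, Nat.cast_zero]
    exact mult_nonneg x hq _
  | insert p' T hp' ih =>
    have ih' := ih (fun p hp => hT p (Finset.mem_insert_of_mem hp))
    obtain ⟨hmin, hdim⟩ := hT p' (Finset.mem_insert_self _ _)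
    have hprime : p'.IsPrime := hmin.1.1
    rw [Finset.card_insert_of_notMem hp', Finset.inf_insert, id]
    set I := T.inf id with hI
    -- an element of `I` outside `p'`
    have hex : ∃ a ∈ I, a ∉ p' := by
      by_contra hcon
      push Not at hcon
      have hle : T.inf id ≤ p' := hcon
      obtain ⟨p, hpT, hpp'⟩ := (Ideal.IsPrime.inf_le' hprime).mp hle
      have hpmin := (hT p (Finset.mem_insert_of_mem hpT)).1
      have : p' ≤ p := hmin.2 ⟨hpmin.1.1, bot_le⟩ hpp'
      have heq : p = p' := le_antisymm hpp' this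
      exact hp' (heq ▸ hpT)
    obtain ⟨a, haI, hap'⟩ := hex
    -- the maps
    have hφ : p' ≤ Submodule.comap (a • (LinearMap.id : A →ₗ[A] A)) (p' ⊓ I) := by
      intro r hr
      rw [Submodule.mem_comap, LinearMap.smul_apply, LinearMap.id_apply, smul_eq_mul]
      exact ⟨Ideal.mul_mem_left _ _ hr, Ideal.mul_mem_right _ _ haI⟩
    let φ : (A ⧸ p') →ₗ[A] (A ⧸ (p' ⊓ I)) :=
      Submodule.mapQ p' (p' ⊓ I) (a • (LinearMap.id : A →ₗ[A] A)) hφ
    have hφinj : Function.Injective φ := by
      rw [← LinearMap.ker_eq_bot, LinearMap.ker_eq_bot']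
      intro y hy
      obtain ⟨r, rfl⟩ := Submodule.Quotient.mk_surjective _ y
      have h1 : φ (Submodule.Quotient.mk r) = Submodule.Quotient.mk (a * r) := rfl
      rw [h1, Submodule.Quotient.mk_eq_zero] at hy
      rw [Submodule.Quotient.mk_eq_zero]
      rcases hprime.mem_or_mem hy.1 with h | h
      · exact absurd h hap'
      · exact h
    let ψ : (A ⧸ (p' ⊓ I)) →ₗ[A] (A ⧸ I) := Submodule.factor (inf_le_right : p' ⊓ I ≤ I)
    have hψ : Function.Surjective ψ := Submodule.factor_surjective _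
    have hcomp : ψ ∘ₗ φ = 0 := by
      apply LinearMap.ext
      intro y
      obtain ⟨r, rfl⟩ := Submodule.Quotient.mk_surjective _ y
      have h1 : (ψ ∘ₗ φ) (Submodule.Quotient.mk r) = Submodule.Quotient.mk (a * r) := rfl
      rw [h1, LinearMap.zero_apply, Submodule.Quotient.mk_eq_zero]
      exact Ideal.mul_mem_right _ _ haI
    have hadd := mult_add_le x hq φ ψ hφinj hψ hcomp
    have : Nontrivial (A ⧸ p') := Ideal.Quotient.nontrivial_iff.mpr hprime.ne_top
    have hone := one_le_mult x hq hx (A ⧸ p')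
      (by rw [Module.supportDim_quotient_eq_ringKrullDim, hdim])
    push_cast
    linarith

end Count

end Groth.Agent.Lib.Helper59.Mult
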