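import Groth.Prelude.Def_SheafNL
import Mathlib

/-!
# Base change of the naive cotangent complex: surjectivity on `H^{-1}`
-/

namespace Groth.Agent.Lib.Helper59.NLBaseChange

open TensorProduct MvPolynomial

universe u

variable {R S R' S' : Type u} [CommRing R] [CommRing S] [CommRing R'] [CommRing S']
  [Algebra R S] [Algebra R' S'] [Algebra R R'] [Algebra S S'] [Algebra R S']
  [IsScalarTower R R' S'] [IsScalarTower R S S']

section KF

variable [Algebra.IsPushout R R' S S']
  {ι : Type u} (G : Algebra.Generators R S ι) (G' : Algebra.Generators R' S' ι)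
  (f : G.Hom G')

/-- The kernel of the base-changed presentation is the extension of the kernel. -/
theorem ker_le_map (hf : ∀ i, f.val i = X i) :
    G'.ker ≤ Ideal.map f.toAlgHom G.ker := by
  set J : Ideal G'.Ring := Ideal.map f.toAlgHom G.ker with hJ
  have hsurj : Function.Surjective (aeval (R := R) G.val) := by
    intro s
    obtain ⟨x, hx⟩ := G.algebraMap_surjective s
    exact ⟨x, by rw [← hx, G.algebraMap_apply]⟩
  have H : RingHom.ker (aeval (R := R) G.val).toRingHom ≤
      RingHom.ker ((Ideal.Quotient.mkₐ R J).comp f.toAlgHom).toRingHom := by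
    intro a ha
    have ha' : a ∈ G.ker := by rw [G.ker_eq_ker_aeval_val]; exact ha
    rw [RingHom.mem_ker]
    show (Ideal.Quotient.mk J) (f.toAlgHom a) = 0
    rw [Ideal.Quotient.eq_zero_iff_mem]
    exact Ideal.mem_map_of_mem _ ha'
  let gS : S →ₐ[R] (G'.Ring ⧸ J) :=
    AlgHom.liftOfSurjective (aeval (R := R) G.val) hsurj
      ((Ideal.Quotient.mkₐ R J).comp f.toAlgHom) H
  let gR' : R' →ₐ[R] (G'.Ring ⧸ J) := IsScalarTower.toAlgHom R R' (G'.Ring ⧸ J)
  let ψ : S' →ₐ[R] (G'.Ring ⧸ J) :=
    Algebra.pushoutDesc S' gR' gS (fun x y => mul_comm _ _)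
  have hψ : (ψ : S' →+* (G'.Ring ⧸ J)).comp (aeval (R := R') G'.val : G'.Ring →+* S') =
      Ideal.Quotient.mk J := by
    apply MvPolynomial.ringHom_ext
    · intro r'
      simp only [RingHom.coe_comp, Function.comp_apply]
      have h1 : (aeval (R := R') G'.val : G'.Ring →+* S') (C r') = algebraMap R' S' r' := by
        simp
      rw [h1]
      have h2 : ψ (algebraMap R' S' r') = gR' r' := Algebra.pushoutDesc_left S' gR' gS _ r'
      show ψ (algebraMap R' S' r') = _
      rw [h2]
      rfl
    · intro i
      simp only [RingHom.coe_comp, Function.comp_apply]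
      have h1 : (aeval (R := R') G'.val : G'.Ring →+* S') (X i) = algebraMap S S' (G.val i) := by
        have := f.aeval_val i
        rw [hf i] at this
        exact this
      rw [h1]
      have h2 : ψ (algebraMap S S' (G.val i)) = gS (G.val i) :=
        Algebra.pushoutDesc_right S' gR' gS _ (G.val i)
      show ψ (algebraMap S S' (G.val i)) = _
      rw [h2]
      have h3 : G.val i = aeval (R := R) G.val (X i) := by simp
      rw [h3]
      show AlgHom.liftOfSurjective (aeval (R := R) G.val) hsurj
        ((Ideal.Quotient.mkₐ R J).comp f.toAlgHom) H (aeval (R := R) G.val (X i)) = _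
      rw [AlgHom.liftOfSurjective_apply]
      show (Ideal.Quotient.mk J) (f.toAlgHom (X i)) = _
      rw [f.toAlgHom_X, hf i]
  intro z hz
  have hz' : aeval (R := R') G'.val z = 0 := by
    rw [G'.ker_eq_ker_aeval_val] at hz; exact hz
  have := congrArg (fun φ : G'.Ring →+* (G'.Ring ⧸ J) => φ z) hψ
  simp only [RingHom.coe_comp, Function.comp_apply] at this
  have h0 : (aeval (R := R') G'.val : G'.Ring →+* S') z = 0 := hz'
  rw [h0, map_zero] at this
  exact Ideal.Quotient.eq_zero_iff_mem.mp this.symm

open Algebra Algebra.Extension in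
theorem map_ker_le (f : G.Hom G') : Ideal.map f.toAlgHom G.ker ≤ G'.ker := by
  rw [Ideal.map_le_iff_le_comap]
  intro a ha
  rw [Ideal.mem_comap]
  have h1 : algebraMap G'.Ring S' (f.toAlgHom a) = algebraMap S S' (algebraMap G.Ring S a) := by
    rw [G'.algebraMap_apply, G.algebraMap_apply]
    exact f.algebraMap_toAlgHom a
  have h2 : algebraMap G.Ring S a = 0 := ha
  show algebraMap G'.Ring S' (f.toAlgHom a) = 0
  rw [h1, h2, map_zero]

open Algebra Algebra.Extension in
theorem liftBaseChange_cotangent_surjective (hf : ∀ i, f.val i = X i) :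
    Function.Surjective
      (LinearMap.liftBaseChange S' (Algebra.Extension.Cotangent.map f.toExtensionHom)) := by
  set Φ := LinearMap.liftBaseChange S' (Algebra.Extension.Cotangent.map f.toExtensionHom) with hΦ
  have hle : Ideal.map f.toExtensionHom.toAlgHom G.toExtension.ker ≤ G'.toExtension.ker :=
    map_ker_le G G' f
  have key : ∀ z : G'.toExtension.Ring,
      z ∈ Ideal.map f.toExtensionHom.toAlgHom G.toExtension.ker → ∀ hz : z ∈ G'.toExtension.ker,
      (Cotangent.mk (P := G'.toExtension) ⟨z, hz⟩) ∈ LinearMap.range Φ := by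
    intro z hz
    refine Submodule.span_induction (p := fun z _ => ∀ hz : z ∈ G'.toExtension.ker,
      (Cotangent.mk (P := G'.toExtension) ⟨z, hz⟩) ∈ LinearMap.range Φ) ?_ ?_ ?_ ?_ hz
    · rintro _ ⟨a, ha, rfl⟩ hz
      refine ⟨1 ⊗ₜ Cotangent.mk (P := G.toExtension) ⟨a, ha⟩, ?_⟩
      rw [hΦ, LinearMap.liftBaseChange_tmul, one_smul, Cotangent.map_mk]
    · intro hz
      have : (Cotangent.mk (P := G'.toExtension) ⟨0, hz⟩) = 0 :=
        map_zero (Cotangent.mk (P := G'.toExtension))
      rw [this]; exact Submodule.zero_mem _
    · intro x y hx hy ihx ihy hz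
      have hx' : x ∈ G'.toExtension.ker := hle hx
      have hy' : y ∈ G'.toExtension.ker := hle hy
      have : (Cotangent.mk (P := G'.toExtension) ⟨x + y, hz⟩) =
          Cotangent.mk (P := G'.toExtension) ⟨x, hx'⟩ +
            Cotangent.mk (P := G'.toExtension) ⟨y, hy'⟩ :=
        map_add (Cotangent.mk (P := G'.toExtension)) ⟨x, hx'⟩ ⟨y, hy'⟩
      rw [this]
      exact Submodule.add_mem _ (ihx hx') (ihy hy')
    · intro a x hx ihx hz
      have hx' : x ∈ G'.toExtension.ker := hle hx
      have e : (⟨a • x, hz⟩ : G'.toExtension.ker) = a • (⟨x, hx'⟩ : G'.toExtension.ker) :=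
        Subtype.ext rfl
      rw [e, LinearMap.map_smul, ← algebraMap_smul S' a]
      exact Submodule.smul_mem _ _ (ihx hx')
  intro y
  obtain ⟨⟨z, hz⟩, rfl⟩ := Cotangent.mk_surjective y
  exact key z (ker_le_map G G' f hf hz) hz

end KF

section Inj

variable {ι : Type u} (G : Algebra.Generators R S ι) (G' : Algebra.Generators R' S' ι)
  (f : G.Hom G')

open Algebra Algebra.Extension Algebra.Generators in
theorem liftBaseChange_cotangentSpace_injective (hf : ∀ i, f.val i = X i) :
    Function.Injective
      (LinearMap.liftBaseChange S' (Algebra.Extension.CotangentSpace.map f.toExtensionHom)) := by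
  set Ψ := LinearMap.liftBaseChange S'
    (Algebra.Extension.CotangentSpace.map f.toExtensionHom) with hΨ
  let bc := (G.cotangentSpaceBasis).baseChange S'
  let b' := G'.cotangentSpaceBasis
  have hΨe : Ψ = (bc.equiv b' (Equiv.refl ι)).toLinearMap := by
    apply bc.ext
    intro i
    rw [LinearEquiv.coe_coe, Module.Basis.equiv_apply, Equiv.refl_apply]
    show Ψ ((G.cotangentSpaceBasis).baseChange S' i) = G'.cotangentSpaceBasis i
    rw [Module.Basis.baseChange_apply, hΨ, LinearMap.liftBaseChange_tmul, one_smul,
      cotangentSpaceBasis_apply, cotangentSpaceBasis_apply]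
    have key := CotangentSpace.map_tmul (P := G.toExtension) (P' := G'.toExtension)
      f.toExtensionHom (1 : S) (X i : G.toExtension.Ring)
    have e : f.toExtensionHom.toAlgHom (X i : G.toExtension.Ring) =
        (X i : G'.toExtension.Ring) := by
      show f.toAlgHom (X i) = _
      rw [f.toAlgHom_X, hf i]
    rw [map_one, e] at key
    exact key
  rw [hΨe]
  exact (bc.equiv b' (Equiv.refl ι)).injective

end Inj

section Chase

open Algebra Algebra.Extension

variable {P : Algebra.Extension.{u} R S} {P' : Algebra.Extension.{u} R' S'}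

theorem comm_sq (F : P.Hom P') :
    P'.cotangentComplex ∘ₗ LinearMap.liftBaseChange S' (Algebra.Extension.Cotangent.map F) =
      LinearMap.liftBaseChange S' (Algebra.Extension.CotangentSpace.map F) ∘ₗ
        P.cotangentComplex.baseChange S' := by
  ext y
  simpa using (Algebra.Extension.CotangentSpace.map_cotangentComplex F y).symm

theorem bcH1Map_surjective_of (F : P.Hom P')
    (hsurj : Function.Surjective
      (LinearMap.liftBaseChange S' (Algebra.Extension.Cotangent.map F)))
    (hinj : Function.Injective
      (LinearMap.liftBaseChange S' (Algebra.Extension.CotangentSpace.map F))) :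
    Function.Surjective (NLCx.bcH1Map F) := by
  rintro ⟨y, hy⟩
  obtain ⟨x, hx⟩ := hsurj y
  have hx' : x ∈ NLCx.bcH1 P S' := by
    simp only [NLCx.bcH1, LinearMap.mem_ker]
    apply hinj
    rw [map_zero]
    have := congrArg (fun l => l x) (comm_sq F)
    simp only [LinearMap.coe_comp, Function.comp_apply] at this
    rw [← this, hx]
    exact hy
  refine ⟨⟨x, hx'⟩, ?_⟩
  apply Subtype.ext
  exact hx

end Chase

section Part1

variable [Algebra.IsPushout R R' S S']
  {ι : Type u} (G : Algebra.Generators R S ι) (G' : Algebra.Generators R' S' ι)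
  (h : ∀ i, G'.val i = algebraMap S S' (G.val i))

theorem part1 : Function.Surjective (NLCx.bcH1Map (NLCx.sameVarsHom G G' h).toExtensionHom) :=
  bcH1Map_surjective_of _
    (liftBaseChange_cotangent_surjective G G' (NLCx.sameVarsHom G G' h) (fun _ => rfl))
    (liftBaseChange_cotangentSpace_injective G G' (NLCx.sameVarsHom G G' h) (fun _ => rfl))

end Part1

section Part2

variable [Algebra.IsPushout R R' S S']

variable (R S R' S') in
include R in
theorem aeval_algebraMap_surjective :
    Function.Surjective (aeval (R := R') (fun s : S => algebraMap S S' s)) := by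
  intro x
  have hbc : IsBaseChange R' (IsScalarTower.toAlgHom R S S').toLinearMap :=
    Algebra.IsPushout.out
  refine hbc.inductionOn x (motive := fun x => ∃ a, aeval (R := R')
    (fun s : S => algebraMap S S' s) a = x) ⟨0, map_zero _⟩ ?_ ?_ ?_
  · intro s
    exact ⟨X s, by simp⟩
  · rintro r' x ⟨a, rfl⟩
    exact ⟨C r' * a, by rw [map_mul, aeval_C, Algebra.smul_def]⟩
  · rintro x y ⟨a, rfl⟩ ⟨b, rfl⟩
    exact ⟨a + b, map_add _ _ _⟩

variable (R S R' S') in
/-- The intermediate presentation of `S'` over `R'` on the variables `S`. -/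
noncomputable def midGen : Algebra.Generators R' S' S :=
  Algebra.Generators.ofSurjective (fun s : S => algebraMap S S' s)
    (aeval_algebraMap_surjective R S R' S')

variable (R S R' S') in
/-- The hom from the intermediate presentation to the canonical one. -/
noncomputable def midHom : (midGen R S R' S').Hom (Algebra.Generators.self R' S') where
  val s := X (algebraMap S S' s)
  aeval_val s := by simp [midGen]

variable (R S R' S') in
theorem toAlgHom_factor (a : MvPolynomial S R) :
    ((Algebra.Generators.self R S).defaultHom (Algebra.Generators.self R' S')).toAlgHom a =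
      (midHom R S R' S').toAlgHom
        ((NLCx.sameVarsHom (Algebra.Generators.self R S) (midGen R S R' S')
          (fun _ => rfl)).toAlgHom a) := by
  induction a using MvPolynomial.induction_on with
  | C r =>
    rw [Algebra.Generators.Hom.toAlgHom_C, Algebra.Generators.Hom.toAlgHom_C,
      Algebra.Generators.Hom.toAlgHom_C]
    simp
  | add p q hp hq => rw [map_add, map_add, map_add, hp, hq]
  | mul_X p s hp =>
    rw [map_mul, map_mul, map_mul, hp]
    congr 1
    rw [Algebra.Generators.Hom.toAlgHom_X, Algebra.Generators.Hom.toAlgHom_X]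
    show _ = (midHom R S R' S').toAlgHom (X s)
    rw [Algebra.Generators.Hom.toAlgHom_X]
    simp only [Algebra.Generators.defaultHom, midHom, Function.comp_apply]
    rfl

variable (R S R' S') in
theorem lift_factor (x : S' ⊗[S] (Algebra.Generators.self R S).toExtension.Cotangent) :
    LinearMap.liftBaseChange S' (Algebra.Extension.Cotangent.map
      ((Algebra.Generators.self R S).defaultHom
        (Algebra.Generators.self R' S')).toExtensionHom) x =
    Algebra.Extension.Cotangent.map (midHom R S R' S').toExtensionHom
      (LinearMap.liftBaseChange S' (Algebra.Extension.Cotangent.map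
        (NLCx.sameVarsHom (Algebra.Generators.self R S) (midGen R S R' S')
          (fun _ => rfl)).toExtensionHom) x) := by
  induction x using TensorProduct.induction_on with
  | zero => simp
  | add x y hx hy => rw [map_add, map_add, map_add, hx, hy]
  | tmul s' c =>
    rw [LinearMap.liftBaseChange_tmul, LinearMap.liftBaseChange_tmul, map_smul]
    congr 1
    obtain ⟨⟨a, ha⟩, rfl⟩ := Algebra.Extension.Cotangent.mk_surjective c
    rw [Algebra.Extension.Cotangent.map_mk, Algebra.Extension.Cotangent.map_mk,
      Algebra.Extension.Cotangent.map_mk]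
    congr 1
    apply Subtype.ext
    exact toAlgHom_factor R S R' S' a

variable (R S R' S') in
theorem part2 : Function.Surjective (NLCx.bcH1Map
    ((Algebra.Generators.self R S).defaultHom
      (Algebra.Generators.self R' S')).toExtensionHom) := by
  have h1 := part1 (Algebra.Generators.self R S) (midGen R S R' S') (fun _ => rfl)
  have h2 : Function.Surjective
      (Algebra.Extension.H1Cotangent.map (midHom R S R' S').toExtensionHom) :=
    (Algebra.Extension.H1Cotangent.equiv (midHom R S R' S').toExtensionHom
      ((Algebra.Generators.self R' S').defaultHom (midGen R S R' S')).toExtensionHom).surjective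
  intro y
  obtain ⟨z, hz⟩ := h2 y
  obtain ⟨x, hx⟩ := h1 z
  refine ⟨x, ?_⟩
  rw [← hz, ← hx]
  apply Subtype.ext
  exact lift_factor R S R' S' x.1

end Part2

end Groth.Agent.Lib.Helper59.NLBaseChange
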