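import Groth.Prelude.Def_SheafNL
import Mathlib

/-!
# `NL(G) → NL(G')` is an isomorphism for a localization of the base ring
-/

namespace Groth.Agent.Lib.Helper59.NLLocalization

open MvPolynomial CategoryTheory CategoryTheory.Limits

universe u

section IsoCriterion

variable {R S R' : Type u} [CommRing R] [CommRing S] [CommRing R'] [Algebra R S] [Algebra R' S]
  [Algebra R R'] [IsScalarTower R R' S]
  {P : Algebra.Extension.{u} R S} {P' : Algebra.Extension.{u} R' S}

theorem isIso_ofHom {M N : Type u} [AddCommGroup M] [AddCommGroup N] [Module S M] [Module S N]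
    (l : M →ₗ[S] N) (hl : Function.Bijective l) : IsIso (ModuleCat.ofHom l) := by
  have : ModuleCat.ofHom l = (LinearEquiv.ofBijective l hl).toModuleIso.hom := rfl
  rw [this]
  infer_instance

theorem isIso_map (F : P.Hom P')
    (h1 : Function.Bijective (Algebra.Extension.Cotangent.map F))
    (h2 : Function.Bijective (Algebra.Extension.CotangentSpace.map F)) :
    IsIso (NLCx.map F) := by
  have : ∀ n, IsIso ((NLCx.map F).f n) := by
    intro n
    by_cases h0 : n = -1
    · subst h0
      have e1 := isIso_ofHom _ h1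
      have e : (NLCx.map F).f (-1) = _ := HomologicalComplex.mkHomFromDouble_f₀ _ _ _ _ _ _
      rw [e]
      exact IsIso.comp_isIso' (Iso.isIso_hom _) (IsIso.comp_isIso' e1 (Iso.isIso_inv _))
    · by_cases h1' : n = 0
      · subst h1'
        have e2 := isIso_ofHom _ h2
        have e : (NLCx.map F).f 0 = _ := HomologicalComplex.mkHomFromDouble_f₁ _ _ _ _ _ _
        rw [e]
        exact IsIso.comp_isIso' (Iso.isIso_hom _) (IsIso.comp_isIso' e2 (Iso.isIso_inv _))
      · have hs : IsZero ((NLCx.cx P).X n) :=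
          HomologicalComplex.isZero_double_X _ _ n h0 h1'
        have ht : IsZero ((NLCx.cx P').X n) :=
          HomologicalComplex.isZero_double_X _ _ n h0 h1'
        exact ⟨⟨0, hs.eq_of_src _ _, ht.eq_of_src _ _⟩⟩
  exact HomologicalComplex.Hom.isIso_of_components _

end IsoCriterion

section Loc

open Algebra Algebra.Extension Algebra.Generators

variable {A A' B : Type u} [CommRing A] [CommRing A'] [CommRing B] [Algebra A A']
  (M : Submonoid A) [IsLocalization M A'] [Algebra A' B] [Algebra A B] [IsScalarTower A A' B]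
  {ι : Type u} (G : Algebra.Generators A B ι) (G' : Algebra.Generators A' B ι) (f : G.Hom G')
  (hf : ∀ i, f.val i = X i)

attribute [local instance] MvPolynomial.algebraMvPolynomial

include hf in
theorem toAlgHom_eq (z : MvPolynomial ι A) :
    f.toAlgHom z = algebraMap (MvPolynomial ι A) (MvPolynomial ι A') z := by
  rw [MvPolynomial.algebraMap_def]
  induction z using MvPolynomial.induction_on with
  | C a => rw [f.toAlgHom_C]; simp
  | add p q hp hq => rw [map_add, map_add, hp, hq]
  | mul_X p i hp => rw [map_mul, map_mul, hp, f.toAlgHom_X, hf i]; simp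

variable (A') in
include M A' in
theorem unit_of_mem (m : A) (hm : m ∈ M) : IsUnit (algebraMap A B m) := by
  rw [IsScalarTower.algebraMap_apply A A' B]
  exact (IsLocalization.map_units A' (⟨m, hm⟩ : M)).map _

theorem mem_ker_of (z : MvPolynomial ι A) (hz : f.toAlgHom z ∈ G'.ker) : z ∈ G.ker := by
  rw [G.ker_eq_ker_aeval_val, RingHom.mem_ker]
  rw [G'.ker_eq_ker_aeval_val, RingHom.mem_ker] at hz
  rw [← f.algebraMap_toAlgHom' z]; exact hz

include hf M in
theorem ker_eq_map :
    G'.ker = Ideal.map (algebraMap (MvPolynomial ι A) (MvPolynomial ι A')) G.ker := by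
  apply le_antisymm
  · intro z' hz'
    rw [IsLocalization.mem_map_algebraMap_iff (M.map (C (σ := ι)))]
    obtain ⟨⟨z, c⟩, hzc⟩ := IsLocalization.surj (M.map (C (σ := ι))) z'
    refine ⟨⟨⟨z, ?_⟩, c⟩, hzc⟩
    apply mem_ker_of G G' f
    rw [toAlgHom_eq G G' f hf, ← hzc]
    exact Ideal.mul_mem_right _ _ hz'
  · rw [Ideal.map_le_iff_le_comap]
    intro a ha
    rw [Ideal.mem_comap, ← toAlgHom_eq G G' f hf]
    rw [G'.ker_eq_ker_aeval_val, RingHom.mem_ker, f.algebraMap_toAlgHom']
    rw [G.ker_eq_ker_aeval_val, RingHom.mem_ker] at ha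
    exact ha

include hf M in
theorem cotangent_map_surjective :
    Function.Surjective (Algebra.Extension.Cotangent.map f.toExtensionHom) := by
  intro y
  obtain ⟨⟨z', hz'⟩, rfl⟩ := Algebra.Extension.Cotangent.mk_surjective y
  have hz'' : z' ∈ Ideal.map (algebraMap (MvPolynomial ι A) (MvPolynomial ι A')) G.ker := by
    rw [← ker_eq_map M G G' f hf]; exact hz'
  obtain ⟨⟨⟨z, hz⟩, ⟨c, m, hm, rfl⟩⟩, hzc⟩ :=
    (IsLocalization.mem_map_algebraMap_iff (M.map (C (σ := ι))) (MvPolynomial ι A')).mp hz''
  obtain ⟨u, hu⟩ := unit_of_mem (B := B) A' M m hm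
  refine ⟨(↑u⁻¹ : B) • Algebra.Extension.Cotangent.mk (P := G.toExtension) ⟨z, hz⟩, ?_⟩
  rw [map_smul, Algebra.Extension.Cotangent.map_mk]
  obtain ⟨cm, hcm⟩ : ∃ cm : G'.toExtension.Ring, cm = C (algebraMap A A' m) := ⟨_, rfl⟩
  have hfz : f.toExtensionHom.toAlgHom z = cm * z' := by
    show f.toAlgHom z = _
    rw [toAlgHom_eq G G' f hf, ← hzc, mul_comm, hcm]
    congr 1
    show (algebraMap (MvPolynomial ι A) (MvPolynomial ι A')) (C m) = C (algebraMap A A' m)
    rw [MvPolynomial.algebraMap_def, MvPolynomial.map_C]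
  have key : (Algebra.Extension.Cotangent.mk (P := G'.toExtension)
      ⟨f.toExtensionHom.toAlgHom z, by
        rw [hfz]; exact Ideal.mul_mem_left _ _ hz'⟩) =
      (algebraMap A B m) • Algebra.Extension.Cotangent.mk (P := G'.toExtension) ⟨z', hz'⟩ := by
    have e : (⟨f.toExtensionHom.toAlgHom z, by
        rw [hfz]; exact Ideal.mul_mem_left _ _ hz'⟩ : G'.toExtension.ker) =
        cm • (⟨z', hz'⟩ : G'.toExtension.ker) :=
      Subtype.ext hfz
    rw [e, LinearMap.map_smul, ← algebraMap_smul B cm]
    congr 1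
    rw [hcm]
    show algebraMap G'.Ring B (C (algebraMap A A' m)) = _
    rw [G'.algebraMap_apply, aeval_C, ← IsScalarTower.algebraMap_apply]
  rw [key, ← hu, smul_smul, Units.inv_mul, one_smul]

include hf M in
theorem exists_mul_mem_sq (z : MvPolynomial ι A) (hx' : f.toAlgHom z ∈ G'.ker ^ 2) :
    ∃ m ∈ M, C m * z ∈ G.ker ^ 2 := by
  have h1 : algebraMap (MvPolynomial ι A) (MvPolynomial ι A') z ∈
      Ideal.map (algebraMap (MvPolynomial ι A) (MvPolynomial ι A')) (G.ker ^ 2) := by
    rw [Ideal.map_pow, ← ker_eq_map M G G' f hf, ← toAlgHom_eq G G' f hf]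
    exact hx'
  obtain ⟨⟨⟨y, hy⟩, ⟨c, m, hm, rfl⟩⟩, hyc⟩ :=
    (IsLocalization.mem_map_algebraMap_iff (M.map (C (σ := ι))) (MvPolynomial ι A')).mp h1
  have hyc' : algebraMap (MvPolynomial ι A) (MvPolynomial ι A') (z * C m) =
      algebraMap (MvPolynomial ι A) (MvPolynomial ι A') y := by
    rw [map_mul]; exact hyc
  obtain ⟨⟨c', m', hm', rfl⟩, hc'⟩ := IsLocalization.exists_of_eq (M := M.map (C (σ := ι))) hyc'
  have hc'' : C m' * (z * C m) = C m' * y := hc'
  refine ⟨m' * m, M.mul_mem hm' hm, ?_⟩
  have : C (m' * m) * z = C m' * y := by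
    rw [← hc'', map_mul]; ring
  rw [this]
  exact Ideal.mul_mem_left _ _ hy

include hf M in
theorem cotangent_map_injective :
    Function.Injective (Algebra.Extension.Cotangent.map f.toExtensionHom) := by
  rw [injective_iff_map_eq_zero]
  intro x hx
  obtain ⟨⟨z, hz⟩, rfl⟩ := Algebra.Extension.Cotangent.mk_surjective x
  rw [Algebra.Extension.Cotangent.map_mk, Algebra.Extension.Cotangent.mk_eq_zero_iff] at hx
  obtain ⟨m, hm, hmem⟩ := exists_mul_mem_sq M G G' f hf z hx
  obtain ⟨cm, hcm⟩ : ∃ cm : G.toExtension.Ring, cm = C m := ⟨_, rfl⟩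
  have h0 : cm • Algebra.Extension.Cotangent.mk (P := G.toExtension) ⟨z, hz⟩ = 0 := by
    rw [← LinearMap.map_smul, Algebra.Extension.Cotangent.mk_eq_zero_iff, hcm]
    exact hmem
  rw [← algebraMap_smul B] at h0
  have hu : IsUnit (algebraMap G.toExtension.Ring B cm) := by
    have : algebraMap G.toExtension.Ring B cm = algebraMap A B m := by
      rw [hcm]
      show algebraMap G.Ring B (C m) = _
      rw [G.algebraMap_apply, aeval_C]
    rw [this]
    exact unit_of_mem (B := B) A' M m hm
  exact (hu.smul_eq_zero).mp h0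

include hf in
theorem cotangentSpace_map_bijective :
    Function.Bijective (Algebra.Extension.CotangentSpace.map f.toExtensionHom) := by
  let b := G.cotangentSpaceBasis
  let b' := G'.cotangentSpaceBasis
  have hΨe : Algebra.Extension.CotangentSpace.map f.toExtensionHom =
      (b.equiv b' (Equiv.refl ι)).toLinearMap := by
    apply b.ext
    intro i
    rw [LinearEquiv.coe_coe, Module.Basis.equiv_apply, Equiv.refl_apply]
    show Algebra.Extension.CotangentSpace.map f.toExtensionHom (G.cotangentSpaceBasis i) =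
      G'.cotangentSpaceBasis i
    rw [cotangentSpaceBasis_apply, cotangentSpaceBasis_apply]
    have key := CotangentSpace.map_tmul (P := G.toExtension) (P' := G'.toExtension)
      f.toExtensionHom (1 : B) (X i : G.toExtension.Ring)
    have e : f.toExtensionHom.toAlgHom (X i : G.toExtension.Ring) =
        (X i : G'.toExtension.Ring) := by
      show f.toAlgHom (X i) = _
      rw [f.toAlgHom_X, hf i]
    rw [map_one, e] at key
    exact key
  rw [hΨe]
  exact (b.equiv b' (Equiv.refl ι)).bijective

include M in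
theorem main (h : ∀ i, G'.val i = algebraMap B B (G.val i)) :
    IsIso (NLCx.map (NLCx.sameVarsHom (S' := B) G G' h).toExtensionHom) :=
  isIso_map _
    ⟨cotangent_map_injective M G G' (NLCx.sameVarsHom (S' := B) G G' h) (fun _ => rfl),
      cotangent_map_surjective M G G' (NLCx.sameVarsHom (S' := B) G G' h) (fun _ => rfl)⟩
    (cotangentSpace_map_bijective G G' (NLCx.sameVarsHom (S' := B) G G' h) (fun _ => rfl))

end Loc

end Groth.Agent.Lib.Helper59.NLLocalization
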