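import Groth.Agent.Lib.Helper59.NLBaseChange
import Groth.Agent.Lib.Helper59.NLLocalization

/-!
# Flat base change of the naive cotangent complex
-/

namespace Groth.Agent.Lib.Helper59.NLFlat

open TensorProduct MvPolynomial Groth.Agent.Lib.Helper59.NLBaseChange

universe u

variable {R S R' S' : Type u} [CommRing R] [CommRing S] [CommRing R'] [CommRing S']
  [Algebra R S] [Algebra R' S'] [Algebra R R'] [Algebra S S'] [Algebra R S']
  [IsScalarTower R R' S'] [IsScalarTower R S S'] [Algebra.IsPushout R R' S S']
  {ι : Type u} (G : Algebra.Generators R S ι) (G' : Algebra.Generators R' S' ι)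
  (f : G.Hom G') (hf : ∀ i, f.val i = X i)

local notation "P" => Algebra.Generators.toExtension G
local notation "P'" => Algebra.Generators.toExtension G'
local notation "F" => Algebra.Generators.Hom.toExtensionHom f

include hf in
theorem ker_eq_map : (P').ker = Ideal.map (F).toAlgHom (P).ker :=
  le_antisymm (ker_le_map G G' f hf) (map_ker_le G G' f)

/-- The `R`-linear inclusion `I/I² → P/I²`. -/
noncomputable def jmap : (P).Cotangent →ₗ[R] ((P).Ring ⧸ (P).ker ^ 2) where
  toFun x := (P).ker.cotangentToQuotientSquare x.val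
  map_add' x y := by rw [Algebra.Extension.Cotangent.val_add, map_add]
  map_smul' r x := by
    rw [Algebra.Extension.Cotangent.val_smul'', RingHom.id_apply, ← algebraMap_smul (P).Ring r,
      ← algebraMap_smul (P).Ring r ((P).ker.cotangentToQuotientSquare x.val), map_smul]

theorem jmap_injective : Function.Injective (jmap G) := by
  intro x y hxy
  apply Algebra.Extension.Cotangent.ext
  exact Ideal.cotangentToQuotientSquare_injective _ hxy

theorem jmap_mk (a : (P).ker) :
    jmap G (Algebra.Extension.Cotangent.mk a) = Ideal.Quotient.mk ((P).ker ^ 2) a.1 := rfl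

include hf in
theorem sq_le_comap : (P).ker ^ 2 ≤ ((P').ker ^ 2).comap (F).toAlgHom := by
  rw [← Ideal.map_le_iff_le_comap, Ideal.map_pow]
  exact Ideal.pow_right_mono (map_ker_le G G' f) 2

/-- The map `P/I² → P'/I'²` induced by `f`. -/
noncomputable def b0 : ((P).Ring ⧸ (P).ker ^ 2) →ₐ[R] ((P').Ring ⧸ (P').ker ^ 2) :=
  Ideal.quotientMapₐ ((P').ker ^ 2) (F).toAlgHom (sq_le_comap G G' f hf)

/-- The base-changed map `R' ⊗ P/I² → P'/I'²`. -/
noncomputable def beta : R' ⊗[R] ((P).Ring ⧸ (P).ker ^ 2) →ₗ[R'] ((P').Ring ⧸ (P').ker ^ 2) :=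
  LinearMap.liftBaseChange R' (b0 G G' f hf).toLinearMap

/-- The `R'`-algebra map `P' → R' ⊗ P/I²`. -/
noncomputable def gamma0 : (P').Ring →ₐ[R'] R' ⊗[R] ((P).Ring ⧸ (P).ker ^ 2) :=
  (aeval (fun i => (1 : R') ⊗ₜ[R] (Ideal.Quotient.mk ((P).ker ^ 2) (X i : (P).Ring))) :
    MvPolynomial ι R' →ₐ[R'] R' ⊗[R] ((P).Ring ⧸ (P).ker ^ 2))

include hf in
theorem gamma0_toAlgHom (a : (P).Ring) :
    gamma0 G G' ((F).toAlgHom a) = (1 : R') ⊗ₜ[R] (Ideal.Quotient.mk ((P).ker ^ 2) a) := by
  have : ((gamma0 G G').restrictScalars R).comp (F).toAlgHom =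
      (Algebra.TensorProduct.includeRight :
        ((P).Ring ⧸ (P).ker ^ 2) →ₐ[R] R' ⊗[R] ((P).Ring ⧸ (P).ker ^ 2)).comp
        (Ideal.Quotient.mkₐ R ((P).ker ^ 2)) := by
    apply MvPolynomial.algHom_ext
    intro i
    show gamma0 G G' ((F).toAlgHom (X i : (P).Ring)) =
      (1 : R') ⊗ₜ[R] (Ideal.Quotient.mk ((P).ker ^ 2) (X i : (P).Ring))
    have e : (F).toAlgHom (X i : (P).Ring) = (X i : (P').Ring) := by
      show f.toAlgHom (X i) = _
      rw [f.toAlgHom_X, hf i]
    rw [e]
    show (aeval _ : MvPolynomial ι R' →ₐ[R'] _) (X i) = _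
    rw [aeval_X]
    rfl
  exact congrArg (fun φ => φ a) this

include hf in
theorem gamma0_vanish : (P').ker ^ 2 ≤ RingHom.ker (gamma0 G G').toRingHom := by
  rw [ker_eq_map G G' f hf, ← Ideal.map_pow, Ideal.map_le_iff_le_comap]
  intro a ha
  rw [Ideal.mem_comap, RingHom.mem_ker]
  show gamma0 G G' ((F).toAlgHom a) = 0
  rw [gamma0_toAlgHom G G' f hf, (Ideal.Quotient.eq_zero_iff_mem).mpr ha, tmul_zero]

/-- The left inverse of `beta`. -/
noncomputable def gamma : ((P').Ring ⧸ (P').ker ^ 2) →+* R' ⊗[R] ((P).Ring ⧸ (P).ker ^ 2) :=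
  Ideal.Quotient.lift ((P').ker ^ 2) (gamma0 G G').toRingHom
    (fun a ha => (RingHom.mem_ker).mp (gamma0_vanish G G' f hf ha))

theorem gamma_beta (y : R' ⊗[R] ((P).Ring ⧸ (P).ker ^ 2)) :
    gamma G G' f hf (beta G G' f hf y) = y := by
  induction y using TensorProduct.induction_on with
  | zero => simp
  | add x y hx hy => rw [map_add, map_add, hx, hy]
  | tmul r' q =>
    obtain ⟨a, rfl⟩ := Ideal.Quotient.mk_surjective q
    rw [beta, LinearMap.liftBaseChange_tmul]
    show gamma G G' f hf (r' • (b0 G G' f hf) (Ideal.Quotient.mk ((P).ker ^ 2) a)) = _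
    rw [b0, Ideal.quotient_map_mkₐ, Algebra.smul_def, map_mul]
    have h1 : gamma G G' f hf (algebraMap R' ((P').Ring ⧸ (P').ker ^ 2) r') =
        r' ⊗ₜ[R] (1 : (P).Ring ⧸ (P).ker ^ 2) := by
      have : algebraMap R' ((P').Ring ⧸ (P').ker ^ 2) r' =
          Ideal.Quotient.mk ((P').ker ^ 2) (algebraMap R' (P').Ring r') := rfl
      rw [this, gamma, Ideal.Quotient.lift_mk]
      show gamma0 G G' (algebraMap R' (P').Ring r') = _
      rw [AlgHom.commutes]
      rfl
    have h2 : gamma G G' f hf (Ideal.Quotient.mkₐ R ((P').ker ^ 2) ((F).toAlgHom a)) =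
        (1 : R') ⊗ₜ[R] (Ideal.Quotient.mk ((P).ker ^ 2) a) := by
      show gamma G G' f hf (Ideal.Quotient.mk ((P').ker ^ 2) ((F).toAlgHom a)) = _
      rw [gamma, Ideal.Quotient.lift_mk]
      exact gamma0_toAlgHom G G' f hf a
    rw [h1, h2, Algebra.TensorProduct.tmul_mul_tmul, one_mul, mul_one]

theorem beta_injective : Function.Injective (beta G G' f hf) :=
  Function.LeftInverse.injective (gamma_beta G G' f hf)

open Algebra.Extension in
theorem key_identity (y : R' ⊗[R] (P).Cotangent) :
    (P').ker.cotangentToQuotientSquare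
      ((LinearMap.liftBaseChange S' (Algebra.Extension.Cotangent.map F))
        ((Algebra.IsPushout.cancelBaseChange R R' S S' (P).Cotangent).symm y)).val =
    beta G G' f hf (LinearMap.lTensor R' (jmap G) y) := by
  induction y using TensorProduct.induction_on with
  | zero => simp
  | add x y hx hy =>
    simp only [map_add, Cotangent.val_add, hx, hy]
  | tmul r' m =>
    obtain ⟨a, rfl⟩ := Cotangent.mk_surjective m
    rw [Algebra.IsPushout.cancelBaseChange_symm_tmul, LinearMap.liftBaseChange_tmul,
      Cotangent.map_mk, LinearMap.lTensor_tmul, jmap_mk, beta, LinearMap.liftBaseChange_tmul,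
      algebraMap_smul, Cotangent.val_smul'', ← algebraMap_smul (P').Ring r', map_smul,
      Cotangent.val_mk, Ideal.toCotangent_to_quotient_square]
    rw [algebraMap_smul]
    rfl

include hf in
open Algebra.Extension in
theorem liftBaseChange_cotangent_injective [Module.Flat R R'] :
    Function.Injective
      (LinearMap.liftBaseChange S' (Algebra.Extension.Cotangent.map F)) := by
  intro x₁ x₂ hx
  obtain ⟨y₁, rfl⟩ := (Algebra.IsPushout.cancelBaseChange R R' S S' (P).Cotangent).symm.surjective x₁
  obtain ⟨y₂, rfl⟩ := (Algebra.IsPushout.cancelBaseChange R R' S S' (P).Cotangent).symm.surjective x₂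
  have h1 : beta G G' f hf (LinearMap.lTensor R' (jmap G) y₁) =
      beta G G' f hf (LinearMap.lTensor R' (jmap G) y₂) := by
    rw [← key_identity, ← key_identity, hx]
  have h2 := beta_injective G G' f hf h1
  have h3 := Module.Flat.lTensor_preserves_injective_linearMap (M := R') (jmap G)
    (jmap_injective G) h2
  rw [h3]

include hf in
open Algebra Algebra.Extension Algebra.Generators in
theorem liftBaseChange_cotangentSpace_bijective :
    Function.Bijective
      (LinearMap.liftBaseChange S' (Algebra.Extension.CotangentSpace.map F)) := by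
  set Ψ := LinearMap.liftBaseChange S'
    (Algebra.Extension.CotangentSpace.map F) with hΨ
  let bc := (G.cotangentSpaceBasis).baseChange S'
  let b' := G'.cotangentSpaceBasis
  have hΨe : Ψ = (bc.equiv b' (Equiv.refl ι)).toLinearMap := by
    apply bc.ext
    intro i
    rw [LinearEquiv.coe_coe, Module.Basis.equiv_apply, Equiv.refl_apply]
    show Ψ ((G.cotangentSpaceBasis).baseChange S' i) = G'.cotangentSpaceBasis i
    rw [Module.Basis.baseChange_apply, hΨ, LinearMap.liftBaseChange_tmul, one_smul,
      cotangentSpaceBasis_apply, cotangentSpaceBasis_apply]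
    have key := CotangentSpace.map_tmul
      f.toExtensionHom (1 : S) (X i : G.toExtension.Ring)
    have e : f.toExtensionHom.toAlgHom (X i : G.toExtension.Ring) =
        (X i : G'.toExtension.Ring) := by
      show f.toAlgHom (X i) = _
      rw [f.toAlgHom_X, hf i]
    rw [map_one, e] at key
    exact key
  rw [hΨe]
  exact (bc.equiv b' (Equiv.refl ι)).bijective

section IsoBc

open CategoryTheory CategoryTheory.Limits

variable {Q : Algebra.Extension.{u} R S} {Q' : Algebra.Extension.{u} R' S'}

theorem isIso_bcMap (H : Q.Hom Q')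
    (h1 : Function.Bijective
      (LinearMap.liftBaseChange S' (Algebra.Extension.Cotangent.map H)))
    (h2 : Function.Bijective
      (LinearMap.liftBaseChange S' (Algebra.Extension.CotangentSpace.map H))) :
    IsIso (NLCx.bcMap (S' := S') H) := by
  have : ∀ n, IsIso ((NLCx.bcMap (S' := S') H).f n) := by
    intro n
    by_cases h0 : n = -1
    · subst h0
      have e1 := NLLocalization.isIso_ofHom _ h1
      have e : (NLCx.bcMap (S' := S') H).f (-1) = _ :=
        HomologicalComplex.mkHomFromDouble_f₀ _ _ _ _ _ _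
      rw [e]
      exact IsIso.comp_isIso' (Iso.isIso_hom _) (IsIso.comp_isIso' e1 (Iso.isIso_inv _))
    · by_cases h1' : n = 0
      · subst h1'
        have e2 := NLLocalization.isIso_ofHom _ h2
        have e : (NLCx.bcMap (S' := S') H).f 0 = _ :=
          HomologicalComplex.mkHomFromDouble_f₁ _ _ _ _ _ _
        rw [e]
        exact IsIso.comp_isIso' (Iso.isIso_hom _) (IsIso.comp_isIso' e2 (Iso.isIso_inv _))
      · have hs : IsZero ((NLCx.bcCx Q S').X n) :=
          HomologicalComplex.isZero_double_X _ _ n h0 h1'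
        have ht : IsZero ((NLCx.cx Q').X n) :=
          HomologicalComplex.isZero_double_X _ _ n h0 h1'
        exact ⟨⟨0, hs.eq_of_src _ _, ht.eq_of_src _ _⟩⟩
  exact HomologicalComplex.Hom.isIso_of_components _

end IsoBc

include hf in
theorem part1 [Module.Flat R R'] : CategoryTheory.IsIso (NLCx.bcMap (S' := S') F) := by
  have h1 : Function.Bijective
      (LinearMap.liftBaseChange S' (Algebra.Extension.Cotangent.map F)) :=
    ⟨liftBaseChange_cotangent_injective G G' f hf,
      liftBaseChange_cotangent_surjective G G' f hf⟩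
  have h2 := liftBaseChange_cotangentSpace_bijective G G' f hf
  exact isIso_bcMap (Q := G.toExtension) (Q' := G'.toExtension) F h1 h2

section Cx

open CategoryTheory CategoryTheory.Limits

variable {A B : Type u} [CommRing A] [CommRing B] [Algebra A B]

section SameTop

variable {A' : Type u} [CommRing A'] [Algebra A' B] [Algebra A A'] [IsScalarTower A A' B]
  {Q : Algebra.Extension.{u} A B} {Q' : Algebra.Extension.{u} A' B}

theorem map_f₀ (f : Q.Hom Q') : (NLCx.map f).f (-1) =
    (HomologicalComplex.doubleXIso₀ (ModuleCat.ofHom Q.cotangentComplex) _).hom ≫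
      ModuleCat.ofHom (Algebra.Extension.Cotangent.map f) ≫
      (HomologicalComplex.doubleXIso₀ (ModuleCat.ofHom Q'.cotangentComplex) _).inv :=
  HomologicalComplex.mkHomFromDouble_f₀ _ _ _ _ _ _

theorem map_f₁ (f : Q.Hom Q') : (NLCx.map f).f 0 =
    (HomologicalComplex.doubleXIso₁ (ModuleCat.ofHom Q.cotangentComplex) _ (by decide)).hom ≫
      ModuleCat.ofHom (Algebra.Extension.CotangentSpace.map f) ≫
      (HomologicalComplex.doubleXIso₁ (ModuleCat.ofHom Q'.cotangentComplex) _ (by decide)).inv :=
  HomologicalComplex.mkHomFromDouble_f₁ _ _ _ _ _ _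

end SameTop

section Htpy

variable {Q Q' : Algebra.Extension.{u} A B}

theorem cx_d (Q : Algebra.Extension.{u} A B) : (NLCx.cx Q).d (-1) 0 =
    (HomologicalComplex.doubleXIso₀ (ModuleCat.ofHom Q.cotangentComplex) _).hom ≫
      ModuleCat.ofHom Q.cotangentComplex ≫
      (HomologicalComplex.doubleXIso₁ (ModuleCat.ofHom Q.cotangentComplex) _ (by decide)).inv :=
  HomologicalComplex.double_d _ _ (by decide)

/-- Two homs of extensions induce homotopic maps on naive cotangent complexes. -/
noncomputable def homotopyMap (f g : Q.Hom Q') : Homotopy (NLCx.map f) (NLCx.map g) where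
  hom i j := if h : i = 0 ∧ j = -1 then
      eqToHom (show (NLCx.cx Q).X i = (NLCx.cx Q).X 0 by rw [h.1]) ≫
        (HomologicalComplex.doubleXIso₁ (ModuleCat.ofHom Q.cotangentComplex) _ (by decide)).hom ≫
        ModuleCat.ofHom (f.sub g) ≫
        (HomologicalComplex.doubleXIso₀ (ModuleCat.ofHom Q'.cotangentComplex) _).inv ≫
        eqToHom (show (NLCx.cx Q').X (-1) = (NLCx.cx Q').X j by rw [h.2])
    else 0
  zero i j hij := by
    apply dif_neg
    rintro ⟨rfl, rfl⟩
    exact hij (by simp)
  comm i := by
    by_cases h0 : i = -1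
    · subst h0
      rw [dNext_eq _ (show (ComplexShape.up ℤ).Rel (-1) 0 by simp),
        prevD_eq _ (show (ComplexShape.up ℤ).Rel (-2) (-1) by simp)]
      rw [dif_pos ⟨rfl, rfl⟩, dif_neg (by decide), map_f₀, map_f₀, cx_d]
      dsimp only [NLCx.cx]
      have key : ModuleCat.ofHom (Algebra.Extension.Cotangent.map f) =
          ModuleCat.ofHom Q.cotangentComplex ≫ ModuleCat.ofHom (f.sub g) +
            ModuleCat.ofHom (Algebra.Extension.Cotangent.map g) := by
        rw [← ModuleCat.ofHom_comp, ← ModuleCat.ofHom_add,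
          ← Algebra.Extension.Cotangent.map_sub_map f g, sub_add_cancel]
      rw [key]
      simp only [Preadditive.add_comp, Preadditive.comp_add, Category.assoc]
      erw [zero_comp, add_zero, eqToHom_refl, eqToHom_refl, Category.id_comp, Category.comp_id,
        Iso.inv_hom_id_assoc]
      rfl
    · by_cases h1 : i = 0
      · subst h1
        rw [dNext_eq _ (show (ComplexShape.up ℤ).Rel 0 1 by simp),
          prevD_eq _ (show (ComplexShape.up ℤ).Rel (-1) 0 by simp)]
        rw [dif_neg (by decide), dif_pos ⟨rfl, rfl⟩, map_f₁, map_f₁, cx_d]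
        dsimp only [NLCx.cx]
        have key : ModuleCat.ofHom (Algebra.Extension.CotangentSpace.map f) =
            ModuleCat.ofHom (f.sub g) ≫ ModuleCat.ofHom Q'.cotangentComplex +
              ModuleCat.ofHom (Algebra.Extension.CotangentSpace.map g) := by
          rw [← ModuleCat.ofHom_comp, ← ModuleCat.ofHom_add]
          congr 1
          apply LinearMap.ext
          intro x
          have := congr($(Algebra.Extension.CotangentSpace.map_sub_map f g) x)
          simp only [LinearMap.sub_apply, LinearMap.coe_comp, Function.comp_apply,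
            LinearMap.coe_restrictScalars] at this
          rw [LinearMap.add_apply, LinearMap.coe_comp, Function.comp_apply, ← this]
          abel
        rw [key]
        simp only [Preadditive.add_comp, Preadditive.comp_add, Category.assoc]
        erw [comp_zero, zero_add, eqToHom_refl, eqToHom_refl, Category.id_comp, Category.id_comp,
          Iso.inv_hom_id_assoc]
        rfl
      · exact (HomologicalComplex.isZero_double_X _ _ i h0 h1).eq_of_src _ _


theorem map_id' (Q : Algebra.Extension.{u} A B) : NLCx.map (Algebra.Extension.Hom.id Q) = 𝟙 _ := by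
  apply HomologicalComplex.from_double_hom_ext
  · rw [map_f₀, Algebra.Extension.Cotangent.map_id]
    erw [ModuleCat.ofHom_id, Category.id_comp, Iso.hom_inv_id]
    rfl
  · rw [map_f₁, Algebra.Extension.CotangentSpace.map_id]
    erw [ModuleCat.ofHom_id, Category.id_comp, Iso.hom_inv_id]
    rfl

theorem map_comp' {Q Q' Q'' : Algebra.Extension.{u} A B} (f : Q.Hom Q') (g : Q'.Hom Q'') :
    NLCx.map (g.comp f) = NLCx.map f ≫ NLCx.map g := by
  apply HomologicalComplex.from_double_hom_ext
  · rw [HomologicalComplex.comp_f, map_f₀, map_f₀, map_f₀,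
      Algebra.Extension.Cotangent.map_comp]
    dsimp only [NLCx.cx]
    simp only [Category.assoc, Iso.inv_hom_id_assoc]
    rfl
  · rw [HomologicalComplex.comp_f, map_f₁, map_f₁, map_f₁,
      Algebra.Extension.CotangentSpace.map_comp]
    dsimp only [NLCx.cx]
    simp only [Category.assoc, Iso.inv_hom_id_assoc]
    rfl

/-- A pair of homs in both directions gives a homotopy equivalence. -/
noncomputable def homotopyEquivOfHoms {Q Q' : Algebra.Extension.{u} A B}
    (f : Q.Hom Q') (g : Q'.Hom Q) : HomotopyEquiv (NLCx.cx Q) (NLCx.cx Q') where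
  hom := NLCx.map f
  inv := NLCx.map g
  homotopyHomInvId :=
    (Homotopy.ofEq (map_comp' f g).symm).trans
      ((homotopyMap (g.comp f) (Algebra.Extension.Hom.id Q)).trans (Homotopy.ofEq (map_id' Q)))
  homotopyInvHomId :=
    (Homotopy.ofEq (map_comp' g f).symm).trans
      ((homotopyMap (f.comp g) (Algebra.Extension.Hom.id Q')).trans (Homotopy.ofEq (map_id' Q')))

end Htpy

end Cx

section Final

open CategoryTheory CategoryTheory.Limits

omit [Algebra.IsPushout R R' S S'] in
theorem bcMap_f₀ {Q : Algebra.Extension.{u} R S} {Q' : Algebra.Extension.{u} R' S'}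
    (H : Q.Hom Q') : (NLCx.bcMap (S' := S') H).f (-1) =
    (HomologicalComplex.doubleXIso₀
      (ModuleCat.ofHom (Q.cotangentComplex.baseChange S')) _).hom ≫
      ModuleCat.ofHom (LinearMap.liftBaseChange S' (Algebra.Extension.Cotangent.map H)) ≫
      (HomologicalComplex.doubleXIso₀ (ModuleCat.ofHom Q'.cotangentComplex) _).inv :=
  HomologicalComplex.mkHomFromDouble_f₀ _ _ _ _ _ _

omit [Algebra.IsPushout R R' S S'] in
theorem bcMap_f₁ {Q : Algebra.Extension.{u} R S} {Q' : Algebra.Extension.{u} R' S'}
    (H : Q.Hom Q') : (NLCx.bcMap (S' := S') H).f 0 =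
    (HomologicalComplex.doubleXIso₁
      (ModuleCat.ofHom (Q.cotangentComplex.baseChange S')) _ (by decide)).hom ≫
      ModuleCat.ofHom (LinearMap.liftBaseChange S' (Algebra.Extension.CotangentSpace.map H)) ≫
      (HomologicalComplex.doubleXIso₁ (ModuleCat.ofHom Q'.cotangentComplex) _ (by decide)).inv :=
  HomologicalComplex.mkHomFromDouble_f₁ _ _ _ _ _ _

omit [Algebra.IsPushout R R' S S'] in
theorem bcMap_comp {Q : Algebra.Extension.{u} R S} {Q' Q'' : Algebra.Extension.{u} R' S'}
    (H₁ : Q.Hom Q') (H₂ : Q'.Hom Q'') (H₀ : Q.Hom Q'')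
    (h : ∀ x, H₀.toRingHom x = H₂.toRingHom (H₁.toRingHom x)) :
    NLCx.bcMap (S' := S') H₀ = NLCx.bcMap (S' := S') H₁ ≫ NLCx.map H₂ := by
  have hH : H₀ = H₂.comp H₁ := Algebra.Extension.Hom.ext (RingHom.ext h)
  subst hH
  apply HomologicalComplex.from_double_hom_ext
  · rw [HomologicalComplex.comp_f, bcMap_f₀, bcMap_f₀, map_f₀]
    have key : LinearMap.liftBaseChange S' (Algebra.Extension.Cotangent.map (H₂.comp H₁)) =
        (Algebra.Extension.Cotangent.map H₂) ∘ₗ
          LinearMap.liftBaseChange S' (Algebra.Extension.Cotangent.map H₁) := by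
      apply LinearMap.ext
      intro x
      induction x using TensorProduct.induction_on with
      | zero => simp
      | add x y hx hy => rw [map_add, map_add, hx, hy]
      | tmul s' c =>
        rw [LinearMap.liftBaseChange_tmul, LinearMap.coe_comp, Function.comp_apply,
          LinearMap.liftBaseChange_tmul, map_smul, Algebra.Extension.Cotangent.map_comp]
        rfl
    rw [key]
    dsimp only [NLCx.cx, NLCx.bcCx]
    simp only [Category.assoc, Iso.inv_hom_id_assoc]
    rfl
  · rw [HomologicalComplex.comp_f, bcMap_f₁, bcMap_f₁, map_f₁]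
    have key : LinearMap.liftBaseChange S' (Algebra.Extension.CotangentSpace.map (H₂.comp H₁)) =
        (Algebra.Extension.CotangentSpace.map H₂) ∘ₗ
          LinearMap.liftBaseChange S' (Algebra.Extension.CotangentSpace.map H₁) := by
      apply LinearMap.ext
      intro x
      induction x using TensorProduct.induction_on with
      | zero => simp
      | add x y hx hy => rw [map_add, map_add, hx, hy]
      | tmul s' c =>
        rw [LinearMap.liftBaseChange_tmul, LinearMap.coe_comp, Function.comp_apply,
          LinearMap.liftBaseChange_tmul, map_smul, Algebra.Extension.CotangentSpace.map_comp]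
        rfl
    rw [key]
    dsimp only [NLCx.cx, NLCx.bcCx]
    simp only [Category.assoc, Iso.inv_hom_id_assoc]
    rfl

variable (R S R' S') in
theorem bcMapSelf_eq : NLCx.bcMapSelf R S R' S' =
    NLCx.bcMap (S' := S') (NLCx.sameVarsHom (Algebra.Generators.self R S) (midGen R S R' S')
      (fun _ => rfl)).toExtensionHom ≫ NLCx.map (midHom R S R' S').toExtensionHom :=
  bcMap_comp _ _ _ (fun a => toAlgHom_factor R S R' S' a)

variable (R S R' S') in
theorem exists_homotopyEquiv [Module.Flat R R'] :
    ∃ e : HomotopyEquiv (NLCx.bcCx (Algebra.Generators.self R S).toExtension S')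
        (NLCx.cx (Algebra.Generators.self R' S').toExtension),
      e.hom = NLCx.bcMapSelf R S R' S' := by
  haveI : IsIso (NLCx.bcMap (S' := S') (NLCx.sameVarsHom (Algebra.Generators.self R S)
      (midGen R S R' S') (fun _ => rfl)).toExtensionHom) :=
    part1 (Algebra.Generators.self R S) (midGen R S R' S') _ (fun _ => rfl)
  refine ⟨(HomotopyEquiv.ofIso (asIso (NLCx.bcMap (S' := S')
      (NLCx.sameVarsHom (Algebra.Generators.self R S)
        (midGen R S R' S') (fun _ => rfl)).toExtensionHom))).trans
    (homotopyEquivOfHoms (midHom R S R' S').toExtensionHom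
      ((Algebra.Generators.self R' S').defaultHom (midGen R S R' S')).toExtensionHom), ?_⟩
  exact (bcMapSelf_eq R S R' S').symm

end Final

end Groth.Agent.Lib.Helper59.NLFlat
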