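import Mathlib

/-!
# Refined Noether normalization (helper59)

For a proper ideal `I` of `k[X_0..X_{n-1}]` there is an integral `k`-algebra endomorphism `φ` of the
polynomial ring with `φ⁻¹ I = (X_i : i ≥ d)`.  The change of variables making a polynomial monic is
copied from `Mathlib.RingTheory.NoetherNormalization` (where it is private).
-/

set_option autoImplicit false

namespace Groth.Agent.Lib.Helper59.NoetherRefined

open Polynomial MvPolynomial Ideal Nat RingHom List

section equivT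

variable {k : Type*} [Field k] {n : ℕ} (f : MvPolynomial (Fin (n + 1)) k)
variable (v w : Fin (n + 1) →₀ ℕ)

/-- `up` is defined as `2 + f.totalDegree`. Any big enough number would work. -/
local notation3 "up" => 2 + f.totalDegree

variable {f v} in
lemma lt_up (vlt : ∀ i, v i < up) : ∀ l ∈ ofFn v, l < up := by
  grind

/-- `r` maps `(i : Fin (n + 1))` to `up ^ i`. -/
local notation3 "r" => fun (i : Fin (n + 1)) ↦ up ^ i.1

/-- We construct an algebra map `T1 f c` which maps `X_i` into `X_i + c • X_0 ^ r_i` when `i ≠ 0`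
and `X_0` to `X_0`. -/
noncomputable abbrev T1 (c : k) :
    MvPolynomial (Fin (n + 1)) k →ₐ[k] MvPolynomial (Fin (n + 1)) k :=
  aeval fun i ↦ if i = 0 then X 0 else X i + c • X 0 ^ r i

lemma t1_comp_t1_neg (c : k) : (T1 f c).comp (T1 f (-c)) = AlgHom.id _ _ := by
  rw [comp_aeval, ← MvPolynomial.aeval_X_left]
  ext i v
  cases i using Fin.cases <;> simp

/-- `T1 f 1` leads to an algebra equiv `T f`. -/
noncomputable abbrev T := AlgEquiv.ofAlgHom (T1 f 1) (T1 f (-1))
  (t1_comp_t1_neg f 1) (by simpa using t1_comp_t1_neg f (-1))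

lemma sum_r_mul_ne (vlt : ∀ i, v i < up) (wlt : ∀ i, w i < up) (ne : v ≠ w) :
    ∑ x : Fin (n + 1), r x * v x ≠ ∑ x : Fin (n + 1), r x * w x := by
  intro h
  refine ne <| Finsupp.ext <| congrFun <| ofFn_inj.mp ?_
  apply ofDigits_inj_of_len_eq (Nat.lt_add_right f.totalDegree one_lt_two)
    (by simp) (lt_up vlt) (lt_up wlt)
  simpa only [ofDigits_eq_sum_mapIdx, mapIdx_eq_ofFn, get_ofFn, length_ofFn,
    Fin.val_cast, mul_comm, sum_ofFn] using! h

lemma degreeOf_zero_t {a : k} (ha : a ≠ 0) : ((T f) (monomial v a)).degreeOf 0 =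
    ∑ i : Fin (n + 1), (r i) * v i := by
  rw [← natDegree_finSuccEquiv, monomial_eq, Finsupp.prod_pow v fun a ↦ X a]
  simp only [Fin.prod_univ_succ, Fin.sum_univ_succ, map_mul, map_prod, map_pow,
    AlgEquiv.ofAlgHom_apply, MvPolynomial.aeval_C, MvPolynomial.aeval_X, if_pos, Fin.succ_ne_zero,
    ite_false, one_smul, map_add, finSuccEquiv_X_zero, finSuccEquiv_X_succ, algebraMap_eq]
  have h (i : Fin n) :
      (Polynomial.C (X (R := k) i) + Polynomial.X ^ r i.succ) ^ v i.succ ≠ 0 :=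
    pow_ne_zero (v i.succ) (leadingCoeff_ne_zero.mp <| by simp [add_comm, leadingCoeff_X_pow_add_C])
  rw [natDegree_mul (by simp [ha]) (mul_ne_zero (by simp) (Finset.prod_ne_zero_iff.mpr
    (fun i _ ↦ h i))), natDegree_mul (by simp) (Finset.prod_ne_zero_iff.mpr (fun i _ ↦ h i)),
    natDegree_prod _ _ (fun i _ ↦ h i), natDegree_finSuccEquiv, degreeOf_C]
  simpa only [natDegree_pow, zero_add, natDegree_X, mul_one, Fin.val_zero, pow_zero, one_mul,
    add_right_inj] using Finset.sum_congr rfl (fun i _ ↦ by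
    rw [add_comm (Polynomial.C _), natDegree_X_pow_add_C, mul_comm])

/-- `T` maps different monomials of `f` to polynomials with different degrees in `X_0`. -/
lemma degreeOf_t_ne_of_ne (hv : v ∈ f.support) (hw : w ∈ f.support) (ne : v ≠ w) :
    (T f <| monomial v <| coeff v f).degreeOf 0 ≠
    (T f <| monomial w <| coeff w f).degreeOf 0 := by
  rw [degreeOf_zero_t _ _ <| mem_support_iff.mp hv, degreeOf_zero_t _ _ <| mem_support_iff.mp hw]
  refine sum_r_mul_ne f v w (fun i ↦ ?_) (fun i ↦ ?_) ne <;>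
  exact lt_of_le_of_lt ((monomial_le_degreeOf i ‹_›).trans (degreeOf_le_totalDegree f i))
    (by lia)

lemma leadingCoeff_finSuccEquiv_t :
    (finSuccEquiv k n ((T f) ((monomial v) (coeff v f)))).leadingCoeff =
    algebraMap k _ (coeff v f) := by
  rw [monomial_eq, Finsupp.prod_fintype]
  · simp only [map_mul, map_prod, leadingCoeff_mul, leadingCoeff_prod]
    rw [AlgEquiv.ofAlgHom_apply, algHom_C, algebraMap_eq, finSuccEquiv_apply,
      eval₂Hom_C, coe_comp]
    simp only [AlgEquiv.ofAlgHom_apply, Function.comp_apply, leadingCoeff_C, map_pow,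
      leadingCoeff_pow, algebraMap_eq]
    have : ∀ j, ((finSuccEquiv k n) ((T1 f) 1 (X j))).leadingCoeff = 1 := fun j ↦ by
      by_cases h : j = 0
      · simp [h, finSuccEquiv_apply]
      · simp only [aeval_eq_bind₁, bind₁_X_right, if_neg h, one_smul, map_add, map_pow]
        obtain ⟨i, rfl⟩ := Fin.exists_succ_eq.mpr h
        simp [finSuccEquiv_X_succ, finSuccEquiv_X_zero, add_comm]
    simp only [this, one_pow, Finset.prod_const_one, mul_one]
  exact fun i ↦ pow_zero _

/-- `T` maps `f` into some polynomial in `X_0` such that the leading coefficient is invertible. -/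
lemma T_leadingcoeff_isUnit (fne : f ≠ 0) :
    IsUnit (finSuccEquiv k n (T f f)).leadingCoeff := by
  obtain ⟨v, vin, vs⟩ := Finset.exists_max_image f.support
    (fun v ↦ (T f ((monomial v) (coeff v f))).degreeOf 0) (support_nonempty.mpr fne)
  set h := fun w ↦ (MvPolynomial.monomial w) (coeff w f)
  simp only [← natDegree_finSuccEquiv] at vs
  replace vs : ∀ x ∈ f.support \ {v}, (finSuccEquiv k n ((T f) (h x))).degree <
      (finSuccEquiv k n ((T f) (h v))).degree := by
    intro x hx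
    obtain ⟨h1, h2⟩ := Finset.mem_sdiff.mp hx
    apply degree_lt_degree <| lt_of_le_of_ne (vs x h1) ?_
    simpa only [natDegree_finSuccEquiv]
      using degreeOf_t_ne_of_ne f _ _ h1 vin <| ne_of_not_mem_cons h2
  have coeff : (finSuccEquiv k n ((T f) (h v + ∑ x ∈ f.support \ {v}, h x))).leadingCoeff =
      (finSuccEquiv k n ((T f) (h v))).leadingCoeff := by
    simp only [map_add, map_sum]
    rw [add_comm]
    apply leadingCoeff_add_of_degree_lt <| (lt_of_le_of_lt <| degree_sum_le _ _) ?_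
    have h2 : h v ≠ 0 := by simpa [h] using mem_support_iff.mp vin
    replace h2 : (finSuccEquiv k n ((T f) (h v))) ≠ 0 := fun eq ↦ h2 <|
      by simpa only [map_eq_zero_iff _ (AlgEquiv.injective _)] using eq
    exact (Finset.sup_lt_iff <| Ne.bot_lt (fun x ↦ h2 <| degree_eq_bot.mp x)).mpr vs
  nth_rw 2 [← f.support_sum_monomial_coeff]
  rw [Finset.sum_eq_add_sum_sdiff_singleton_of_mem vin h]
  rw [leadingCoeff_finSuccEquiv_t] at coeff
  simpa only [coeff, algebraMap_eq] using (mem_support_iff.mp vin).isUnit.map MvPolynomial.C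

end equivT

section Aux

variable {k : Type*} [Field k]

/-- an algebra map into a polynomial ring is integral as soon as the variables are. -/
lemma isIntegral_of_X {σ τ : Type*} (θ : MvPolynomial σ k →ₐ[k] MvPolynomial τ k)
    (h : ∀ j, θ.toRingHom.IsIntegralElem (X j)) : θ.toRingHom.IsIntegral := by
  intro p
  induction p using MvPolynomial.induction_on with
  | C a =>
    have : (C a : MvPolynomial τ k) = θ.toRingHom (C a) := by simp
    rw [this]
    exact RingHom.isIntegralElem_map _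
  | add p q hp hq => exact RingHom.IsIntegralElem.add _ hp hq
  | mul_X p j hp => exact RingHom.IsIntegralElem.mul _ hp (h j)

/-- `rename Fin.succ` as a ring hom. -/
noncomputable abbrev ιR (n : ℕ) : MvPolynomial (Fin n) k →+* MvPolynomial (Fin (n + 1)) k :=
  ((rename Fin.succ : MvPolynomial (Fin n) k →ₐ[k] MvPolynomial (Fin (n + 1)) k) :
    MvPolynomial (Fin n) k →+* MvPolynomial (Fin (n + 1)) k)

lemma eval₂_finSuccEquiv (n : ℕ) (p : MvPolynomial (Fin (n + 1)) k) :
    Polynomial.eval₂ (ιR (k := k) n) (X 0)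
      ((finSuccEquiv k n p : Polynomial (MvPolynomial (Fin n) k))) = p := by
  have : ((Polynomial.eval₂RingHom (ιR (k := k) n) (X 0)).comp
      ((finSuccEquiv k n : MvPolynomial (Fin (n + 1)) k ≃ₐ[k] Polynomial (MvPolynomial (Fin n) k)) :
        MvPolynomial (Fin (n + 1)) k →+* Polynomial (MvPolynomial (Fin n) k))) = RingHom.id _ := by
    apply MvPolynomial.ringHom_ext
    · intro a
      simp [finSuccEquiv_apply]
    · intro i
      refine Fin.cases ?_ (fun j => ?_) i
      · simp [finSuccEquiv_X_zero]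
      · simp [finSuccEquiv_X_succ]
  exact DFunLike.congr_fun this p

end Aux

section Step

variable {k : Type*} [Field k] {n : ℕ}

/-- `rename Fin.castSucc`. -/
noncomputable abbrev cs (k : Type*) [Field k] (n : ℕ) :
    MvPolynomial (Fin n) k →ₐ[k] MvPolynomial (Fin (n + 1)) k := rename Fin.castSucc

/-- `rename Fin.castSucc` as a ring hom. -/
noncomputable abbrev csR (k : Type*) [Field k] (n : ℕ) :
    MvPolynomial (Fin n) k →+* MvPolynomial (Fin (n + 1)) k :=
  ((cs k n : MvPolynomial (Fin n) k →ₐ[k] MvPolynomial (Fin (n + 1)) k) :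
    MvPolynomial (Fin n) k →+* MvPolynomial (Fin (n + 1)) k)

/-- `rename Fin.succ`. -/
noncomputable abbrev ι (k : Type*) [Field k] (n : ℕ) :
    MvPolynomial (Fin n) k →ₐ[k] MvPolynomial (Fin (n + 1)) k := rename Fin.succ

/-- `X_last ↦ f₁`, `X_{castSucc i} ↦ X_{succ i}`. -/
noncomputable def θ₂ (f₁ : MvPolynomial (Fin (n + 1)) k) :
    MvPolynomial (Fin (n + 1)) k →ₐ[k] MvPolynomial (Fin (n + 1)) k :=
  aeval (Fin.lastCases f₁ (fun i => X i.succ))

lemma θ₂_last (f₁ : MvPolynomial (Fin (n + 1)) k) : θ₂ f₁ (X (Fin.last n)) = f₁ := by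
  simp [θ₂]

lemma θ₂_castSucc (f₁ : MvPolynomial (Fin (n + 1)) k) (i : Fin n) :
    θ₂ f₁ (X i.castSucc) = X i.succ := by
  simp [θ₂]

lemma θ₂_comp_cs (f₁ : MvPolynomial (Fin (n + 1)) k) : (θ₂ f₁).comp (cs k n) = ι k n := by
  apply MvPolynomial.algHom_ext
  intro i
  simp [θ₂_castSucc]

lemma θ₂_cs (f₁ : MvPolynomial (Fin (n + 1)) k) (p : MvPolynomial (Fin n) k) :
    θ₂ f₁ (cs k n p) = ι k n p := DFunLike.congr_fun (θ₂_comp_cs f₁) p

/-- `X_last ↦ X_last`, `X_{castSucc i} ↦ cs (ψ X_i)`. -/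
noncomputable def θ₁ (ψ : MvPolynomial (Fin n) k →ₐ[k] MvPolynomial (Fin n) k) :
    MvPolynomial (Fin (n + 1)) k →ₐ[k] MvPolynomial (Fin (n + 1)) k :=
  aeval (Fin.lastCases (X (Fin.last n)) (fun i => cs k n (ψ (X i))))

lemma θ₁_last (ψ : MvPolynomial (Fin n) k →ₐ[k] MvPolynomial (Fin n) k) :
    θ₁ ψ (X (Fin.last n)) = X (Fin.last n) := by
  simp [θ₁]

lemma θ₁_castSucc (ψ : MvPolynomial (Fin n) k →ₐ[k] MvPolynomial (Fin n) k) (i : Fin n) :
    θ₁ ψ (X i.castSucc) = cs k n (ψ (X i)) := by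
  simp [θ₁]

lemma θ₁_comp_cs (ψ : MvPolynomial (Fin n) k →ₐ[k] MvPolynomial (Fin n) k) :
    (θ₁ ψ).comp (cs k n) = (cs k n).comp ψ := by
  apply MvPolynomial.algHom_ext
  intro i
  simp [θ₁_castSucc]

lemma θ₁_cs (ψ : MvPolynomial (Fin n) k →ₐ[k] MvPolynomial (Fin n) k)
    (p : MvPolynomial (Fin n) k) : θ₁ ψ (cs k n p) = cs k n (ψ p) :=
  DFunLike.congr_fun (θ₁_comp_cs ψ) p

theorem θ₁_isIntegral (ψ : MvPolynomial (Fin n) k →ₐ[k] MvPolynomial (Fin n) k)
    (hψ : ψ.toRingHom.IsIntegral) : (θ₁ ψ).toRingHom.IsIntegral := by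
  apply isIntegral_of_X
  intro j
  refine Fin.lastCases ?_ (fun i => ?_) j
  · have : (X (Fin.last n) : MvPolynomial (Fin (n + 1)) k) = (θ₁ ψ).toRingHom (X (Fin.last n)) := by
      simp [θ₁_last]
    rw [this]
    exact RingHom.isIntegralElem_map _
  · obtain ⟨p, hp, hp0⟩ := hψ (X i)
    refine ⟨p.map (csR k n), hp.map _, ?_⟩
    rw [Polynomial.eval₂_map]
    have h1 : ((θ₁ ψ).toRingHom.comp (csR k n)) =
        (csR k n).comp ψ.toRingHom := by
      apply RingHom.ext
      intro q
      exact θ₁_cs ψ q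
    rw [h1]
    have h2 : (X i.castSucc : MvPolynomial (Fin (n + 1)) k) =
        (csR k n) (X i) := by simp
    rw [h2, ← Polynomial.hom_eval₂, hp0, map_zero]

theorem θ₂_isIntegral (f₁ : MvPolynomial (Fin (n + 1)) k)
    (hu : IsUnit (finSuccEquiv k n f₁).leadingCoeff)
    (hdeg : 1 ≤ (finSuccEquiv k n f₁).natDegree) : (θ₂ f₁).toRingHom.IsIntegral := by
  apply isIntegral_of_X
  intro j
  refine Fin.cases ?_ (fun i => ?_) j
  · obtain ⟨u, hu⟩ := hu
    set F := finSuccEquiv k n f₁ with hF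
    set csR : MvPolynomial (Fin n) k →+* MvPolynomial (Fin (n + 1)) k := csR k n with hcsR
    have hinj : Function.Injective csR := rename_injective _ (Fin.castSucc_injective n)
    set q : Polynomial (MvPolynomial (Fin (n + 1)) k) :=
      F.map csR - Polynomial.C (X (Fin.last n)) with hq
    have hdegmap : (F.map csR).natDegree = F.natDegree :=
      Polynomial.natDegree_map_eq_of_injective hinj F
    have hlt : (Polynomial.C (X (Fin.last n) : MvPolynomial (Fin (n + 1)) k)).degree <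
        (F.map csR).degree := by
      apply lt_of_le_of_lt Polynomial.degree_C_le
      rw [← Polynomial.natDegree_pos_iff_degree_pos, hdegmap]
      exact hdeg
    have hlc : q.leadingCoeff = csR F.leadingCoeff := by
      rw [hq, Polynomial.leadingCoeff_sub_of_degree_lt hlt,
        Polynomial.leadingCoeff_map_of_injective hinj]
    refine ⟨Polynomial.C (csR ↑u⁻¹) * q, ?_, ?_⟩
    · rw [Polynomial.Monic, Polynomial.leadingCoeff_mul, Polynomial.leadingCoeff_C, hlc, ← hu,
        ← map_mul, Units.inv_mul, map_one]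
    · rw [Polynomial.eval₂_mul, Polynomial.eval₂_C, hq, Polynomial.eval₂_sub, Polynomial.eval₂_C,
        Polynomial.eval₂_map]
      have h1 : ((θ₂ f₁).toRingHom.comp csR) = ιR (k := k) n := by
        apply RingHom.ext
        intro p
        exact θ₂_cs f₁ p
      rw [h1, hF, eval₂_finSuccEquiv]
      have h2 : (θ₂ f₁).toRingHom (X (Fin.last n)) = f₁ := θ₂_last f₁
      rw [h2, sub_self, mul_zero]
  · have : (X i.succ : MvPolynomial (Fin (n + 1)) k) = (θ₂ f₁).toRingHom (X i.castSucc) := by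
      simp [θ₂_castSucc]
    rw [this]
    exact RingHom.isIntegralElem_map _

/-- the ideal `(X_j : d ≤ j)`. -/
noncomputable def J (k : Type*) [Field k] (n d : ℕ) : Ideal (MvPolynomial (Fin n) k) :=
  Ideal.span (Set.range fun i : {i : Fin n // d ≤ (i : ℕ)} =>
    (X (i : Fin n) : MvPolynomial (Fin n) k))

lemma X_mem_J (k : Type*) [Field k] (n d : ℕ) (i : Fin n) (hi : d ≤ (i : ℕ)) :
    (X i : MvPolynomial (Fin n) k) ∈ J k n d :=
  Ideal.subset_span ⟨⟨i, hi⟩, rfl⟩

/-- kill the last variable. -/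
noncomputable def e₀ (k : Type*) [Field k] (n : ℕ) :
    MvPolynomial (Fin (n + 1)) k →ₐ[k] MvPolynomial (Fin n) k :=
  aeval (Fin.lastCases 0 (fun i => X i))

lemma sub_cs_e₀_mem (g : MvPolynomial (Fin (n + 1)) k) :
    g - cs k n (e₀ k n g) ∈ Ideal.span {(X (Fin.last n) : MvPolynomial (Fin (n + 1)) k)} := by
  set L : Ideal (MvPolynomial (Fin (n + 1)) k) := Ideal.span {X (Fin.last n)}
  have h : (Ideal.Quotient.mkₐ k L) = (Ideal.Quotient.mkₐ k L).comp ((cs k n).comp (e₀ k n)) := by
    apply MvPolynomial.algHom_ext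
    intro j
    refine Fin.lastCases ?_ (fun i => ?_) j
    · have h1 : e₀ k n (X (Fin.last n)) = 0 := by simp [e₀]
      rw [AlgHom.comp_apply, AlgHom.comp_apply, h1, map_zero, map_zero]
      exact Ideal.Quotient.eq_zero_iff_mem.mpr (Ideal.subset_span rfl)
    · have h1 : e₀ k n (X i.castSucc) = X i := by simp [e₀]
      rw [AlgHom.comp_apply, AlgHom.comp_apply, h1, rename_X]
  have h2 := DFunLike.congr_fun h g
  rw [AlgHom.comp_apply, AlgHom.comp_apply] at h2
  exact Ideal.Quotient.eq.mp h2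

theorem comap_step (I₁ : Ideal (MvPolynomial (Fin (n + 1)) k)) (f₁ : MvPolynomial (Fin (n + 1)) k)
    (hf₁ : f₁ ∈ I₁) (ψ : MvPolynomial (Fin n) k →ₐ[k] MvPolynomial (Fin n) k) (d' : ℕ)
    (hd' : d' ≤ n)
    (hψ : (I₁.comap (ι k n)).comap ψ = J k n d') :
    I₁.comap ((θ₂ f₁).comp (θ₁ ψ)) = J k (n + 1) d' := by
  set φ₁ := (θ₂ f₁).comp (θ₁ ψ) with hφ₁
  have hlast : φ₁ (X (Fin.last n)) = f₁ := by
    rw [hφ₁, AlgHom.comp_apply, θ₁_last, θ₂_last]
  have hcs : ∀ p : MvPolynomial (Fin n) k, φ₁ (cs k n p) = ι k n (ψ p) := by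
    intro p
    rw [hφ₁, AlgHom.comp_apply, θ₁_cs, θ₂_cs]
  have hcsJ : ∀ p ∈ J k n d', cs k n p ∈ J k (n + 1) d' := by
    intro p hp
    have hle : (J k n d').map (cs k n) ≤ J k (n + 1) d' := by
      rw [J, Ideal.map_span, Ideal.span_le]
      rintro _ ⟨_, ⟨⟨i, hi⟩, rfl⟩, rfl⟩
      rw [rename_X]
      exact X_mem_J k (n + 1) d' i.castSucc (by simpa using hi)
    exact hle (Ideal.mem_map_of_mem _ hp)
  apply le_antisymm
  · intro g hg
    rw [Ideal.mem_comap] at hg
    have h1 := sub_cs_e₀_mem g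
    obtain ⟨h, hh⟩ := Ideal.mem_span_singleton'.mp h1
    have h2 : φ₁ (cs k n (e₀ k n g)) ∈ I₁ := by
      have : φ₁ (cs k n (e₀ k n g)) = φ₁ g - φ₁ h * f₁ := by
        rw [← hlast, ← map_mul, hh, map_sub, sub_sub_cancel]
      rw [this]
      exact I₁.sub_mem hg (I₁.mul_mem_left _ hf₁)
    rw [hcs] at h2
    have h3 : e₀ k n g ∈ J k n d' := by
      rw [← hψ]
      exact h2
    have h4 : g = (g - cs k n (e₀ k n g)) + cs k n (e₀ k n g) := by ring
    rw [h4]
    refine (J k (n + 1) d').add_mem ?_ (hcsJ _ h3)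
    rw [← hh]
    exact Ideal.mul_mem_left _ _ (X_mem_J k (n + 1) d' (Fin.last n) (by simpa using hd'))
  · rw [J, Ideal.span_le]
    rintro _ ⟨⟨j, hj⟩, rfl⟩
    rw [SetLike.mem_coe, Ideal.mem_comap]
    revert hj
    refine Fin.lastCases ?_ (fun i => ?_) j
    · intro _
      change φ₁ (X (Fin.last n)) ∈ I₁
      rw [hlast]
      exact hf₁
    · intro hj
      have : (X i.castSucc : MvPolynomial (Fin (n + 1)) k) = cs k n (X i) := by rw [rename_X]
      change φ₁ (X i.castSucc) ∈ I₁
      rw [this, hcs]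
      have hi : (X i : MvPolynomial (Fin n) k) ∈ J k n d' := X_mem_J k n d' i (by simpa using hj)
      rw [← hψ] at hi
      exact hi

end Step

section Main

variable {k : Type*} [Field k]

lemma J_eq_bot_of_le (n d : ℕ) (h : n ≤ d) : J k n d = ⊥ := by
  have : IsEmpty {i : Fin n // d ≤ (i : ℕ)} := ⟨fun ⟨i, hi⟩ => absurd i.2 (by omega)⟩
  rw [J, Set.range_eq_empty, Ideal.span_empty]

theorem exists_refined : ∀ (n : ℕ) (I : Ideal (MvPolynomial (Fin n) k)), I ≠ ⊤ →
    ∃ (d : ℕ) (phi : MvPolynomial (Fin n) k →ₐ[k] MvPolynomial (Fin n) k),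
      d ≤ n ∧ phi.toRingHom.IsIntegral ∧ I.comap phi = J k n d := by
  intro n
  induction n with
  | zero =>
    intro I hI
    have hbot : I = ⊥ := by
      rw [eq_bot_iff]
      intro p hp
      rw [Ideal.mem_bot]
      by_contra hne
      have hC := eq_C_of_isEmpty p
      have hc : coeff 0 p ≠ 0 := by
        intro h0
        rw [h0, map_zero] at hC
        exact hne hC
      apply hI
      apply Ideal.eq_top_of_isUnit_mem I hp
      rw [hC]
      exact (hc.isUnit).map MvPolynomial.C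
    refine ⟨0, AlgHom.id k _, le_rfl, RingHom.isIntegral_of_surjective _ (fun x => ⟨x, rfl⟩), ?_⟩
    rw [J_eq_bot_of_le 0 0 le_rfl, hbot]
    rfl
  | succ n ih =>
    intro I hI
    by_cases hbot : I = ⊥
    · refine ⟨n + 1, AlgHom.id k _, le_rfl,
        RingHom.isIntegral_of_surjective _ (fun x => ⟨x, rfl⟩), ?_⟩
      rw [J_eq_bot_of_le (n + 1) (n + 1) le_rfl, hbot]
      rfl
    · obtain ⟨f, fi, fne⟩ := Submodule.exists_mem_ne_zero_of_ne_bot hbot
      set Tf := T f with hTf
      set TsA : MvPolynomial (Fin (n + 1)) k →ₐ[k] MvPolynomial (Fin (n + 1)) k :=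
        Tf.symm.toAlgHom with hTsA
      set I₁ : Ideal (MvPolynomial (Fin (n + 1)) k) := I.comap TsA with hI₁
      set f₁ := Tf f with hf₁def
      have hf₁ : f₁ ∈ I₁ := by
        rw [hI₁, Ideal.mem_comap]
        change Tf.symm (Tf f) ∈ I
        rw [AlgEquiv.symm_apply_apply]
        exact fi
      have hu : IsUnit (finSuccEquiv k n f₁).leadingCoeff := T_leadingcoeff_isUnit f fne
      have hI₁top : I₁ ≠ ⊤ := by
        intro h
        apply hI
        rw [Ideal.eq_top_iff_one] at h ⊢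
        rw [hI₁, Ideal.mem_comap] at h
        simpa using h
      have hdeg : 1 ≤ (finSuccEquiv k n f₁).natDegree := by
        by_contra hlt
        have h0 : (finSuccEquiv k n f₁).natDegree = 0 := by omega
        have hC := Polynomial.eq_C_of_natDegree_eq_zero h0
        have hlc : (finSuccEquiv k n f₁).leadingCoeff = (finSuccEquiv k n f₁).coeff 0 := by
          rw [Polynomial.leadingCoeff, h0]
        have hf : f₁ = ιR (k := k) n ((finSuccEquiv k n f₁).coeff 0) := by
          conv_lhs => rw [← eval₂_finSuccEquiv n f₁, hC, Polynomial.eval₂_C]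
        apply hI₁top
        apply Ideal.eq_top_of_isUnit_mem I₁ hf₁
        rw [hf]
        rw [hlc] at hu
        exact hu.map _
      have hI' : I₁.comap (ι k n) ≠ ⊤ := by
        intro h
        apply hI₁top
        rw [Ideal.eq_top_iff_one] at h ⊢
        rw [Ideal.mem_comap, map_one] at h
        exact h
      obtain ⟨d', ψ, hd', hψint, hψ⟩ := ih (I₁.comap (ι k n)) hI'
      refine ⟨d', TsA.comp ((θ₂ f₁).comp (θ₁ ψ)), by omega, ?_, ?_⟩
      · have h1 := (θ₁_isIntegral ψ hψint).trans _ _ (θ₂_isIntegral f₁ hu hdeg)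
        have h2 : TsA.toRingHom.IsIntegral :=
          RingHom.isIntegral_of_surjective _ Tf.symm.surjective
        exact h1.trans _ _ h2
      · have := comap_step I₁ f₁ hf₁ ψ d' hd' hψ
        rw [← this]
        ext x
        rw [Ideal.mem_comap, Ideal.mem_comap, Ideal.mem_comap, AlgHom.comp_apply]

end Main

section Trdeg

universe u

variable {k : Type u} [Field k] {n d : ℕ}

/-- restriction to the first `d` variables. -/
noncomputable def ρ (k : Type u) [Field k] (n d : ℕ) :
    MvPolynomial (Fin n) k →ₐ[k] MvPolynomial (Fin d) k :=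
  aeval (fun j : Fin n => if h : (j : ℕ) < d then (X ⟨j, h⟩ : MvPolynomial (Fin d) k) else 0)

lemma ρ_X_lt (j : Fin n) (h : (j : ℕ) < d) : ρ k n d (X j) = X ⟨j, h⟩ := by
  simp [ρ, h]

lemma ρ_X_ge (j : Fin n) (h : d ≤ (j : ℕ)) : ρ k n d (X j) = 0 := by
  simp [ρ, not_lt.mpr h]

lemma ρ_rename (hd : d ≤ n) (p : MvPolynomial (Fin d) k) :
    ρ k n d (rename (Fin.castLE hd) p) = p := by
  have : (ρ k n d).comp (rename (Fin.castLE hd)) = AlgHom.id k _ := by
    apply MvPolynomial.algHom_ext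
    intro i
    rw [AlgHom.comp_apply, rename_X, ρ_X_lt (Fin.castLE hd i) (by simp)]
    rfl
  exact DFunLike.congr_fun this p

lemma ρ_J (p : MvPolynomial (Fin n) k) (hp : p ∈ J k n d) : ρ k n d p = 0 := by
  have hle : J k n d ≤ RingHom.ker (ρ k n d).toRingHom := by
    rw [J, Ideal.span_le]
    rintro _ ⟨⟨j, hj⟩, rfl⟩
    exact ρ_X_ge j hj
  exact hle hp

theorem trdeg_eq (q : Ideal (MvPolynomial (Fin n) k)) [q.IsPrime]
    (phi : MvPolynomial (Fin n) k →ₐ[k] MvPolynomial (Fin n) k) (hint : phi.toRingHom.IsIntegral)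
    (hd : d ≤ n) (hq : q.comap phi = J k n d) :
    Algebra.trdeg k q.ResidueField = d := by
  set c : MvPolynomial (Fin d) k →ₐ[k] MvPolynomial (Fin n) k := rename (Fin.castLE hd) with hc
  set g : MvPolynomial (Fin d) k →ₐ[k] (MvPolynomial (Fin n) k ⧸ q) :=
    (Ideal.Quotient.mkₐ k q).comp (phi.comp c) with hg
  have hginj : Function.Injective g := by
    rw [injective_iff_map_eq_zero]
    intro p hp
    have h1 : phi (c p) ∈ q := Ideal.Quotient.eq_zero_iff_mem.mp hp
    have h2 : c p ∈ J k n d := by rw [← hq]; exact h1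
    have h3 := ρ_J _ h2
    rwa [hc, ρ_rename hd] at h3
  have hcomp : g.comp (ρ k n d) = (Ideal.Quotient.mkₐ k q).comp phi := by
    apply MvPolynomial.algHom_ext
    intro j
    by_cases h : (j : ℕ) < d
    · rw [AlgHom.comp_apply, ρ_X_lt j h, hg, AlgHom.comp_apply, AlgHom.comp_apply, hc, rename_X]
      rfl
    · rw [AlgHom.comp_apply, ρ_X_ge j (not_lt.mp h), map_zero, AlgHom.comp_apply]
      symm
      apply Ideal.Quotient.eq_zero_iff_mem.mpr
      have : (X j : MvPolynomial (Fin n) k) ∈ q.comap phi := by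
        rw [hq]; exact X_mem_J k n d j (not_lt.mp h)
      exact this
  have hgint : g.toRingHom.IsIntegral := by
    intro y
    obtain ⟨s, rfl⟩ := Ideal.Quotient.mk_surjective y
    obtain ⟨P, hP, hP0⟩ := hint s
    refine ⟨P.map (ρ k n d).toRingHom, hP.map _, ?_⟩
    rw [Polynomial.eval₂_map]
    have h1 : g.toRingHom.comp (ρ k n d).toRingHom =
        (Ideal.Quotient.mk q).comp phi.toRingHom := by
      apply RingHom.ext
      intro x
      exact DFunLike.congr_fun hcomp x
    rw [h1, ← Polynomial.hom_eval₂, hP0, map_zero]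
  -- transcendence degrees
  let _ := g.toRingHom.toAlgebra
  have hst : IsScalarTower k (MvPolynomial (Fin d) k) (MvPolynomial (Fin n) k ⧸ q) :=
    IsScalarTower.of_algebraMap_eq (fun x => (g.commutes x).symm)
  have hfaith : FaithfulSMul (MvPolynomial (Fin d) k) (MvPolynomial (Fin n) k ⧸ q) :=
    (faithfulSMul_iff_algebraMap_injective _ _).mpr hginj
  have halg : Algebra.IsAlgebraic (MvPolynomial (Fin d) k) (MvPolynomial (Fin n) k ⧸ q) := by
    have : Algebra.IsIntegral (MvPolynomial (Fin d) k) (MvPolynomial (Fin n) k ⧸ q) := ⟨hgint⟩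
    exact Algebra.IsIntegral.isAlgebraic
  have h1 := _root_.trdeg_add_eq k (MvPolynomial (Fin d) k) (A := MvPolynomial (Fin n) k ⧸ q)
  have hz1 : Algebra.trdeg (MvPolynomial (Fin d) k) (MvPolynomial (Fin n) k ⧸ q) = 0 :=
    _root_.trdeg_eq_zero
  rw [hz1, add_zero, MvPolynomial.trdeg_of_isDomain] at h1
  have hfaith2 : FaithfulSMul (MvPolynomial (Fin n) k ⧸ q) q.ResidueField :=
    (faithfulSMul_iff_algebraMap_injective _ _).mpr q.injective_algebraMap_quotient_residueField
  have halg2 : Algebra.IsAlgebraic (MvPolynomial (Fin n) k ⧸ q) q.ResidueField :=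
    IsLocalization.isAlgebraic q.ResidueField (nonZeroDivisors (MvPolynomial (Fin n) k ⧸ q))
  have h2 := _root_.trdeg_add_eq k (MvPolynomial (Fin n) k ⧸ q) (A := q.ResidueField)
  have hz2 : Algebra.trdeg (MvPolynomial (Fin n) k ⧸ q) q.ResidueField = 0 :=
    _root_.trdeg_eq_zero
  rw [hz2, add_zero, ← h1] at h2
  rw [← h2]
  simp

end Trdeg

end Groth.Agent.Lib.Helper59.NoetherRefined
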