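import Mathlib
import Groth.Agent.Lib.Helper59.NoetherRefined
import Groth.Agent.Lib.Helper73.DimFT.Basic

/-!
# Noether normalization adapted to a chain of ideals (helper59)
-/

set_option autoImplicit false

namespace Groth.Agent.Lib.Helper59.NoetherChain

open MvPolynomial
open Groth.Agent.Lib.Helper59.NoetherRefined

universe u

variable {k : Type u} [Field k]

section Rho

variable {n d e : ℕ}

lemma sub_rename_ρ_mem (hd : d ≤ n) (g : MvPolynomial (Fin n) k) :
    g - rename (Fin.castLE hd) (ρ k n d g) ∈ J k n d := by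
  have h : (Ideal.Quotient.mkₐ k (J k n d)) =
      (Ideal.Quotient.mkₐ k (J k n d)).comp ((rename (Fin.castLE hd)).comp (ρ k n d)) := by
    apply MvPolynomial.algHom_ext
    intro j
    by_cases hj : (j : ℕ) < d
    · rw [AlgHom.comp_apply, AlgHom.comp_apply, ρ_X_lt j hj, rename_X]
      rfl
    · rw [AlgHom.comp_apply, AlgHom.comp_apply, ρ_X_ge j (not_lt.mp hj), map_zero, map_zero]
      exact Ideal.Quotient.eq_zero_iff_mem.mpr (X_mem_J k n d j (not_lt.mp hj))
  have h2 := DFunLike.congr_fun h g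
  rw [AlgHom.comp_apply, AlgHom.comp_apply] at h2
  exact Ideal.Quotient.eq.mp h2

lemma mem_J_iff (hd : d ≤ n) (g : MvPolynomial (Fin n) k) : g ∈ J k n d ↔ ρ k n d g = 0 := by
  refine ⟨ρ_J g, fun h => ?_⟩
  have := sub_rename_ρ_mem hd g
  rwa [h, map_zero, sub_zero] at this

lemma ρ_ρ (he : e ≤ d) (g : MvPolynomial (Fin n) k) : ρ k d e (ρ k n d g) = ρ k n e g := by
  have : (ρ k d e).comp (ρ k n d) = ρ k n e := by
    apply MvPolynomial.algHom_ext
    intro j
    rw [AlgHom.comp_apply]
    by_cases hj : (j : ℕ) < e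
    · rw [ρ_X_lt j (by omega), ρ_X_lt j hj, ρ_X_lt _ (by simpa using hj)]
    · rw [ρ_X_ge j (not_lt.mp hj)]
      by_cases hj2 : (j : ℕ) < d
      · rw [ρ_X_lt j hj2, ρ_X_ge _ (by simpa using hj)]
      · rw [ρ_X_ge j (not_lt.mp hj2), map_zero]
  exact DFunLike.congr_fun this g

lemma J_le_J (h : e ≤ d) (hd : d ≤ n) : J k n d ≤ J k n e := by
  intro g hg
  rw [mem_J_iff (by omega)]
  rw [mem_J_iff hd] at hg
  rw [← ρ_ρ h, hg, map_zero]

/-- extension of an endomorphism of the first `d` variables by the identity. -/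
noncomputable def ext (hd : d ≤ n) (ψ : MvPolynomial (Fin d) k →ₐ[k] MvPolynomial (Fin d) k) :
    MvPolynomial (Fin n) k →ₐ[k] MvPolynomial (Fin n) k :=
  aeval (fun j : Fin n => if h : (j : ℕ) < d then rename (Fin.castLE hd) (ψ (X ⟨j, h⟩)) else X j)

lemma ext_X_lt (hd : d ≤ n) (ψ : MvPolynomial (Fin d) k →ₐ[k] MvPolynomial (Fin d) k)
    (j : Fin n) (h : (j : ℕ) < d) : ext hd ψ (X j) = rename (Fin.castLE hd) (ψ (X ⟨j, h⟩)) := by
  simp [ext, h]

lemma ext_X_ge (hd : d ≤ n) (ψ : MvPolynomial (Fin d) k →ₐ[k] MvPolynomial (Fin d) k)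
    (j : Fin n) (h : d ≤ (j : ℕ)) : ext hd ψ (X j) = X j := by
  simp [ext, not_lt.mpr h]

lemma ext_rename (hd : d ≤ n) (ψ : MvPolynomial (Fin d) k →ₐ[k] MvPolynomial (Fin d) k)
    (p : MvPolynomial (Fin d) k) :
    ext hd ψ (rename (Fin.castLE hd) p) = rename (Fin.castLE hd) (ψ p) := by
  have : (ext hd ψ).comp (rename (Fin.castLE hd)) = (rename (Fin.castLE hd)).comp ψ := by
    apply MvPolynomial.algHom_ext
    intro i
    rw [AlgHom.comp_apply, rename_X, ext_X_lt hd ψ _ (by simp), AlgHom.comp_apply]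
    rfl
  exact DFunLike.congr_fun this p

lemma ρ_ext (hd : d ≤ n) (ψ : MvPolynomial (Fin d) k →ₐ[k] MvPolynomial (Fin d) k)
    (g : MvPolynomial (Fin n) k) : ρ k n d (ext hd ψ g) = ψ (ρ k n d g) := by
  have : (ρ k n d).comp (ext hd ψ) = ψ.comp (ρ k n d) := by
    apply MvPolynomial.algHom_ext
    intro j
    rw [AlgHom.comp_apply, AlgHom.comp_apply]
    by_cases hj : (j : ℕ) < d
    · rw [ext_X_lt hd ψ j hj, ρ_rename hd, ρ_X_lt j hj]
    · rw [ext_X_ge hd ψ j (not_lt.mp hj), ρ_X_ge j (not_lt.mp hj), map_zero]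
  exact DFunLike.congr_fun this g

theorem ext_isIntegral (hd : d ≤ n) (ψ : MvPolynomial (Fin d) k →ₐ[k] MvPolynomial (Fin d) k)
    (hψ : ψ.toRingHom.IsIntegral) : (ext hd ψ).toRingHom.IsIntegral := by
  apply isIntegral_of_X
  intro j
  by_cases hj : (j : ℕ) < d
  · obtain ⟨p, hp, hp0⟩ := hψ (X ⟨j, hj⟩)
    set c : MvPolynomial (Fin d) k →+* MvPolynomial (Fin n) k :=
      ((rename (Fin.castLE hd) : MvPolynomial (Fin d) k →ₐ[k] MvPolynomial (Fin n) k) :
        MvPolynomial (Fin d) k →+* MvPolynomial (Fin n) k) with hc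
    refine ⟨p.map c, hp.map _, ?_⟩
    rw [Polynomial.eval₂_map]
    have h1 : ((ext hd ψ).toRingHom.comp c) = c.comp ψ.toRingHom := by
      apply RingHom.ext
      intro q
      exact ext_rename hd ψ q
    rw [h1]
    have h2 : (X j : MvPolynomial (Fin n) k) = c (X ⟨j, hj⟩) := by
      simp [hc]
    rw [h2, ← Polynomial.hom_eval₂, hp0, map_zero]
  · have : (X j : MvPolynomial (Fin n) k) = (ext hd ψ).toRingHom (X j) := by
      simp [ext_X_ge hd ψ j (not_lt.mp hj)]
    rw [this]
    exact RingHom.isIntegralElem_map _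

end Rho

section Inj

variable {n : ℕ}

/-- an integral endomorphism of a polynomial ring over a field is injective. -/
theorem injective_of_isIntegral (φ : MvPolynomial (Fin n) k →ₐ[k] MvPolynomial (Fin n) k)
    (hφ : φ.toRingHom.IsIntegral) : Function.Injective φ := by
  rw [injective_iff_map_eq_zero]
  intro x hx
  by_contra hx0
  set K : Ideal (MvPolynomial (Fin n) k) := RingHom.ker φ.toRingHom with hK
  -- the induced map on the quotient
  set φbar : (MvPolynomial (Fin n) k ⧸ K) →+* MvPolynomial (Fin n) k :=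
    RingHom.kerLift φ.toRingHom with hφbar
  have hinj : Function.Injective φbar := RingHom.kerLift_injective φ.toRingHom
  have hint : φbar.IsIntegral := by
    intro y
    obtain ⟨p, hp, hp0⟩ := hφ y
    refine ⟨p.map (Ideal.Quotient.mk K), hp.map _, ?_⟩
    rw [Polynomial.eval₂_map]
    have : φbar.comp (Ideal.Quotient.mk K) = φ.toRingHom := by
      apply RingHom.ext
      intro z
      rfl
    rw [this]
    exact hp0
  have h1 := Groth.Agent.Lib.Helper73.ringKrullDim_eq_of_ringHom φbar hint hinj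
  rw [Groth.Agent.Lib.Helper73.ringKrullDim_mvPolynomial_field] at h1
  have hxK : x ∈ K := hx
  have hle : Ideal.span {x} ≤ K := (Ideal.span_singleton_le_iff_mem K).mpr hxK
  have h2 : ringKrullDim (MvPolynomial (Fin n) k ⧸ K) ≤
      ringKrullDim (MvPolynomial (Fin n) k ⧸ Ideal.span {x}) :=
    ringKrullDim_le_of_surjective (Ideal.Quotient.factor hle) (Ideal.Quotient.factor_surjective hle)
  have h3 := ringKrullDim_quotient_succ_le_of_nonZeroDivisor (r := x)
    (mem_nonZeroDivisors_of_ne_zero hx0)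
  rw [Groth.Agent.Lib.Helper73.ringKrullDim_mvPolynomial_field] at h3
  rw [← h1] at h2
  have h4 : ((n : WithBot ℕ∞) + 1) ≤ (n : WithBot ℕ∞) := le_trans (by gcongr) h3
  have h5 : ((n + 1 : ℕ) : WithBot ℕ∞) ≤ ((n : ℕ) : WithBot ℕ∞) := by
    simpa using h4
  have h6 : n + 1 ≤ n := by exact_mod_cast h5
  omega

end Inj

section Chain

/-- Noether normalization adapted to a chain of ideals of a polynomial ring. -/
theorem exists_chain : ∀ (r n : ℕ) (I : Fin r → Ideal (MvPolynomial (Fin n) k)),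
    (∀ i, I i ≠ ⊤) → Monotone I →
    ∃ (phi : MvPolynomial (Fin n) k →ₐ[k] MvPolynomial (Fin n) k) (dd : Fin r → ℕ),
      phi.toRingHom.IsIntegral ∧ (∀ i, dd i ≤ n) ∧ ∀ i, (I i).comap phi = J k n (dd i) := by
  intro r
  induction r with
  | zero =>
    intro n I _ _
    exact ⟨AlgHom.id k _, Fin.elim0, RingHom.isIntegral_of_surjective _ (fun x => ⟨x, rfl⟩),
      fun i => i.elim0, fun i => i.elim0⟩
  | succ r ih =>
    intro n I hI hmono
    obtain ⟨d₁, φ₁, hd₁, hφ₁, hc₁⟩ := exists_refined n (I 0) (hI 0)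
    set c : MvPolynomial (Fin d₁) k →ₐ[k] MvPolynomial (Fin n) k := rename (Fin.castLE hd₁) with hc
    set I' : Fin r → Ideal (MvPolynomial (Fin d₁) k) :=
      fun j => ((I j.succ).comap φ₁).comap c with hI'
    have hI'top : ∀ j, I' j ≠ ⊤ := by
      intro j h
      apply hI j.succ
      rw [Ideal.eq_top_iff_one] at h ⊢
      rw [hI', Ideal.mem_comap, Ideal.mem_comap, map_one, map_one] at h
      exact h
    have hI'mono : Monotone I' := by
      intro a b hab x hx
      rw [hI', Ideal.mem_comap, Ideal.mem_comap] at hx ⊢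
      exact hmono (Fin.succ_le_succ_iff.mpr hab) hx
    obtain ⟨φ', dd', hφ', hdd', hc'⟩ := ih d₁ I' hI'top hI'mono
    have hinj' := injective_of_isIntegral φ' hφ'
    refine ⟨φ₁.comp (ext hd₁ φ'), Fin.cons d₁ dd', ?_, ?_, ?_⟩
    · exact (ext_isIntegral hd₁ φ' hφ').trans _ _ hφ₁
    · intro i
      refine Fin.cases ?_ (fun j => ?_) i
      · simpa using hd₁
      · simpa using (hdd' j).trans hd₁
    · intro i
      refine Fin.cases ?_ (fun j => ?_) i
      · rw [Fin.cons_zero]
        ext f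
        rw [Ideal.mem_comap, AlgHom.comp_apply]
        change ext hd₁ φ' f ∈ (I 0).comap φ₁ ↔ _
        rw [hc₁, mem_J_iff hd₁, mem_J_iff hd₁, ρ_ext, map_eq_zero_iff φ' hinj']
      · rw [Fin.cons_succ]
        ext f
        rw [Ideal.mem_comap, AlgHom.comp_apply]
        change ext hd₁ φ' f ∈ (I j.succ).comap φ₁ ↔ _
        have hJle : J k n d₁ ≤ (I j.succ).comap φ₁ := by
          rw [← hc₁]
          exact Ideal.comap_mono (hmono (Fin.zero_le _))
        have h1 : ext hd₁ φ' f ∈ (I j.succ).comap φ₁ ↔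
            c (ρ k n d₁ (ext hd₁ φ' f)) ∈ (I j.succ).comap φ₁ := by
          have hsub := hJle (sub_rename_ρ_mem hd₁ (ext hd₁ φ' f))
          constructor
          · intro h
            have := Ideal.sub_mem _ h hsub
            rwa [sub_sub_cancel] at this
          · intro h
            have := Ideal.add_mem _ h hsub
            rwa [add_sub_cancel] at this
        rw [h1, ρ_ext]
        have h2 : c (φ' (ρ k n d₁ f)) ∈ (I j.succ).comap φ₁ ↔ ρ k n d₁ f ∈ (I' j).comap φ' := by
          rw [Ideal.mem_comap (f := φ'), hI', Ideal.mem_comap (f := c)]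
        rw [h2, hc', mem_J_iff (hdd' j), ρ_ρ (hdd' j), mem_J_iff ((hdd' j).trans hd₁)]

end Chain

section Transfer

variable {n d e : ℕ}

lemma le_of_J_le (hd : d ≤ n) (he : e ≤ n) (h : J k n d ≤ J k n e) : e ≤ d := by
  by_contra hlt
  push Not at hlt
  have hdn : d < n := by omega
  have h1 : (X ⟨d, hdn⟩ : MvPolynomial (Fin n) k) ∈ J k n e := h (X_mem_J k n d ⟨d, hdn⟩ le_rfl)
  rw [mem_J_iff he, ρ_X_lt _ (by simpa using hlt)] at h1
  exact X_ne_zero _ h1

/-- If an integral map from a polynomial ring has kernel `(X_j : e ≤ j)`, its restriction to the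
first `e` variables is finite and injective. -/
theorem finite_injective_of_ker {B : Type u} [CommRing B] [Algebra k B] [Algebra.FiniteType k B]
    {m e : ℕ} (he : e ≤ m) (θ : MvPolynomial (Fin m) k →ₐ[k] B) (hθ : θ.toRingHom.IsIntegral)
    (hker : ∀ f, θ f = 0 ↔ f ∈ J k m e) :
    Function.Injective (θ.comp (rename (Fin.castLE he))) ∧
      (θ.comp (rename (Fin.castLE he))).toRingHom.Finite := by
  set g := θ.comp (rename (Fin.castLE he)) with hg
  have hinj : Function.Injective g := by
    rw [injective_iff_map_eq_zero]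
    intro p hp
    rw [hg, AlgHom.comp_apply, hker, mem_J_iff he, ρ_rename he] at hp
    exact hp
  refine ⟨hinj, ?_⟩
  have hcomp : g.comp (ρ k m e) = θ := by
    apply MvPolynomial.algHom_ext
    intro j
    by_cases h : (j : ℕ) < e
    · rw [AlgHom.comp_apply, ρ_X_lt j h, hg, AlgHom.comp_apply, rename_X]
      rfl
    · rw [AlgHom.comp_apply, ρ_X_ge j (not_lt.mp h), map_zero]
      symm
      rw [hker]
      exact X_mem_J k m e j (not_lt.mp h)
  have hint : g.toRingHom.IsIntegral := by
    have h1 : (g.toRingHom.comp (ρ k m e).toRingHom).IsIntegral := by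
      have : g.toRingHom.comp (ρ k m e).toRingHom = θ.toRingHom := by
        rw [← hcomp]; rfl
      rw [this]; exact hθ
    exact RingHom.IsIntegral.tower_top _ _ h1
  apply RingHom.IsIntegral.to_finite hint
  have hft : ((algebraMap k B)).FiniteType := RingHom.finiteType_algebraMap.mpr inferInstance
  have hcomp2 : g.toRingHom.comp (algebraMap k (MvPolynomial (Fin e) k)) = algebraMap k B := by
    apply RingHom.ext
    intro x
    exact g.commutes x
  rw [← hcomp2] at hft
  exact RingHom.FiniteType.of_comp_finiteType hft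

theorem ringKrullDim_eq_of_ker {B : Type u} [CommRing B] [Algebra k B] [Algebra.FiniteType k B]
    {m e : ℕ} (he : e ≤ m) (θ : MvPolynomial (Fin m) k →ₐ[k] B) (hθ : θ.toRingHom.IsIntegral)
    (hker : ∀ f, θ f = 0 ↔ f ∈ J k m e) : ringKrullDim B = (e : WithBot ℕ∞) := by
  obtain ⟨hinj, hfin⟩ := finite_injective_of_ker he θ hθ hker
  exact Groth.Agent.Lib.Helper73.ringKrullDim_eq_of_finite_injective _ hinj hfin

/-- reversing the variables. -/
lemma comap_rename_rev (d e hh : ℕ) (he : e + hh = d) :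
    (J k d e).comap (rename (Fin.rev : Fin d → Fin d)) =
      Ideal.span (MvPolynomial.X '' {l : Fin d | (l : ℕ) < hh}) := by
  apply le_antisymm
  · intro f hf
    rw [Ideal.mem_comap] at hf
    have hrr : rename (Fin.rev : Fin d → Fin d) (rename (Fin.rev : Fin d → Fin d) f) = f := by
      rw [rename_rename]
      have : (Fin.rev : Fin d → Fin d) ∘ Fin.rev = id := by
        funext x; simp
      rw [this, rename_id_apply]
    rw [← hrr]
    have hle : J k d e ≤ (Ideal.span (MvPolynomial.X '' {l : Fin d | (l : ℕ) < hh})).comap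
        (rename (Fin.rev : Fin d → Fin d)) := by
      rw [J, Ideal.span_le]
      rintro _ ⟨⟨j, hj⟩, rfl⟩
      rw [SetLike.mem_coe, Ideal.mem_comap, rename_X]
      apply Ideal.subset_span
      refine ⟨Fin.rev j, ?_, rfl⟩
      simp only [Set.mem_ofPred_eq, Fin.val_rev]
      have := j.2
      omega
    exact hle hf
  · rw [Ideal.span_le]
    rintro _ ⟨l, hl, rfl⟩
    rw [SetLike.mem_coe, Ideal.mem_comap, rename_X]
    apply X_mem_J
    simp only [Set.mem_ofPred_eq] at hl
    simp only [Fin.val_rev]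
    have := l.2
    omega

/-- Part (1): Noether normalization adapted to a chain of primes. -/
theorem exists_adapted (A : Type u) [CommRing A] [IsDomain A] [Algebra k A]
    [Algebra.FiniteType k A] (d : ℕ) (hd : ringKrullDim A = (d : WithBot ℕ∞))
    (r : ℕ) (q : Fin r → PrimeSpectrum A) (hq : StrictMono q) (h : Fin r → ℕ) (hh : ∀ i, h i ≤ d)
    (hdim : ∀ i, ringKrullDim (A ⧸ (q i).asIdeal) = ((d - h i : ℕ) : WithBot ℕ∞)) :
    ∃ φ : MvPolynomial (Fin d) k →ₐ[k] A, φ.toRingHom.Finite ∧ Function.Injective φ ∧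
      ∀ i, (q i).asIdeal.comap φ = Ideal.span (MvPolynomial.X '' {l : Fin d | (l : ℕ) < h i}) := by
  obtain ⟨n, π, hπ⟩ := (Algebra.FiniteType.iff_quotient_mvPolynomial'' (R := k) (S := A)).mp
    inferInstance
  set I : Fin (r + 1) → Ideal (MvPolynomial (Fin n) k) :=
    Fin.cons (RingHom.ker π.toRingHom) (fun i => (q i).asIdeal.comap π) with hI
  have hItop : ∀ i, I i ≠ ⊤ := by
    intro i
    refine Fin.cases ?_ (fun j => ?_) i
    · rw [hI, Fin.cons_zero]
      exact RingHom.ker_ne_top _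
    · rw [hI, Fin.cons_succ]
      exact (Ideal.IsPrime.comap π).ne_top
  have hI0le : ∀ i, I 0 ≤ I i := by
    intro i
    refine Fin.cases ?_ (fun j => ?_) i
    · exact le_rfl
    · rw [hI, Fin.cons_zero, Fin.cons_succ]
      intro x hx
      rw [Ideal.mem_comap]
      have : π x = 0 := hx
      rw [this]
      exact Ideal.zero_mem _
  have hImono : Monotone I := by
    intro a b hab
    induction a using Fin.cases with
    | zero => exact hI0le b
    | succ a' =>
      induction b using Fin.cases with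
      | zero => exact absurd hab (by simp)
      | succ b' =>
        rw [hI, Fin.cons_succ, Fin.cons_succ]
        apply Ideal.comap_mono
        exact hq.monotone (Fin.succ_le_succ_iff.mp hab)
  obtain ⟨ψ, dd, hψ, hdd, hcomap⟩ := exists_chain (r + 1) n I hItop hImono
  have hπint : π.toRingHom.IsIntegral := RingHom.isIntegral_of_surjective _ hπ
  have hθint : (π.comp ψ).toRingHom.IsIntegral := hψ.trans _ _ hπint
  -- the kernel of `π ∘ ψ`
  have hker0 : ∀ f, (π.comp ψ) f = 0 ↔ f ∈ J k n (dd 0) := by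
    intro f
    rw [← hcomap 0, Ideal.mem_comap, hI, Fin.cons_zero]
    rfl
  have hdim0 := ringKrullDim_eq_of_ker (hdd 0) (π.comp ψ) hθint hker0
  rw [hd] at hdim0
  have hd0 : dd 0 = d := by
    have : (d : WithBot ℕ∞) = ((dd 0 : ℕ) : WithBot ℕ∞) := hdim0
    exact_mod_cast this.symm
  -- the quotients
  have hdi : ∀ i : Fin r, dd i.succ + h i = d := by
    intro i
    have hkeri : ∀ f, ((Ideal.Quotient.mkₐ k (q i).asIdeal).comp (π.comp ψ)) f = 0 ↔
        f ∈ J k n (dd i.succ) := by
      intro f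
      rw [← hcomap i.succ, Ideal.mem_comap, hI, Fin.cons_succ, Ideal.mem_comap, AlgHom.comp_apply]
      exact Ideal.Quotient.eq_zero_iff_mem
    have hint : ((Ideal.Quotient.mkₐ k (q i).asIdeal).comp (π.comp ψ)).toRingHom.IsIntegral :=
      hθint.trans _ _ (RingHom.isIntegral_of_surjective _ (Ideal.Quotient.mkₐ_surjective k _))
    have h1 := ringKrullDim_eq_of_ker (hdd i.succ) _ hint hkeri
    rw [hdim i] at h1
    have h2 : d - h i = dd i.succ := by exact_mod_cast h1
    have := hh i
    omega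
  have hle : ∀ i : Fin r, dd i.succ ≤ dd 0 := by
    intro i
    apply le_of_J_le (k := k) (hdd 0) (hdd i.succ)
    rw [← hcomap 0, ← hcomap i.succ]
    exact Ideal.comap_mono (hI0le i.succ)
  obtain ⟨hinj, hfin⟩ := finite_injective_of_ker (hdd 0) (π.comp ψ) hθint hker0
  set φ₀ := (π.comp ψ).comp (rename (Fin.castLE (hdd 0))) with hφ₀
  have hcomap0 : ∀ i : Fin r, (q i).asIdeal.comap φ₀ = J k (dd 0) (dd i.succ) := by
    intro i
    ext f
    rw [Ideal.mem_comap, hφ₀, AlgHom.comp_apply, AlgHom.comp_apply]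
    have h1 : π (ψ (rename (Fin.castLE (hdd 0)) f)) ∈ (q i).asIdeal ↔
        rename (Fin.castLE (hdd 0)) f ∈ (I i.succ).comap ψ := by
      rw [Ideal.mem_comap, hI, Fin.cons_succ, Ideal.mem_comap]
    rw [h1, hcomap i.succ, mem_J_iff (hdd i.succ), ← ρ_ρ (hle i), ρ_rename, mem_J_iff (hle i)]
  clear_value φ₀
  subst hd0
  refine ⟨φ₀.comp (rename Fin.rev), ?_, ?_, ?_⟩
  · have hrev : (rename (Fin.rev : Fin (dd 0) → Fin (dd 0)) :
        MvPolynomial (Fin (dd 0)) k →ₐ[k] MvPolynomial (Fin (dd 0)) k).toRingHom.Finite := by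
      apply RingHom.Finite.of_surjective
      intro f
      refine ⟨rename Fin.rev f, ?_⟩
      change rename Fin.rev (rename Fin.rev f) = f
      rw [rename_rename]
      have : (Fin.rev : Fin (dd 0) → Fin (dd 0)) ∘ Fin.rev = id := by
        funext x; simp
      rw [this, rename_id_apply]
    exact RingHom.Finite.comp (g := φ₀.toRingHom) hfin hrev
  · exact hinj.comp (rename_injective _ Fin.rev_injective)
  · intro i
    rw [← comap_rename_rev (dd 0) (dd i.succ) (h i) (hdi i), ← hcomap0 i]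
    rfl

end Transfer

section GoingDown

variable {n d e : ℕ}

lemma J_isPrime (he : e ≤ n) : (J k n e).IsPrime := by
  have : J k n e = RingHom.ker (ρ k n e).toRingHom := by
    ext f
    rw [mem_J_iff he, RingHom.mem_ker]
    rfl
  rw [this]
  exact RingHom.ker_isPrime _

lemma J_self (n : ℕ) : J k n n = ⊥ := J_eq_bot_of_le n n le_rfl

lemma J_ne_J (he : e ≤ n) (h1 : 1 ≤ e) : J k n e ≠ J k n (e - 1) := by
  intro h
  have := le_of_J_le (k := k) (n := n) (d := e) (e := e - 1) he (by omega) (by rw [h])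
  have h2 := le_of_J_le (k := k) (n := n) (d := e - 1) (e := e) (by omega) he (by rw [h])
  omega

lemma apply_rename_ρ_of_ker {B : Type u} [CommRing B] [Algebra k B] {m e : ℕ} (he : e ≤ m)
    (θ : MvPolynomial (Fin m) k →ₐ[k] B) (hker : ∀ f, θ f = 0 ↔ f ∈ J k m e)
    (f : MvPolynomial (Fin m) k) : θ (rename (Fin.castLE he) (ρ k m e f)) = θ f := by
  have := (hker _).mpr (sub_rename_ρ_mem he f)
  rw [map_sub, sub_eq_zero] at this
  exact this.symm

variable {A : Type u} [CommRing A] [IsDomain A] [Algebra k A] [Algebra.FiniteType k A]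

/-- one step of going down, between two primes. -/
theorem exists_between (φ₀ : MvPolynomial (Fin d) k →ₐ[k] A) (hfin : φ₀.toRingHom.Finite)
    (Q Q' : Ideal A) [hQp : Q.IsPrime] [hQ'p : Q'.IsPrime] (hQQ' : Q ≤ Q') {e e' : ℕ} (he : e ≤ d)
    (hee' : e' < e) (hQ : Q.comap φ₀ = J k d e) (hQ' : Q'.comap φ₀ = J k d e') :
    ∃ Q'' : Ideal A, Q''.IsPrime ∧ Q < Q'' ∧ Q'' ≤ Q' ∧ Q''.comap φ₀ = J k d (e - 1) := by
  set θ : MvPolynomial (Fin d) k →ₐ[k] (A ⧸ Q) := (Ideal.Quotient.mkₐ k Q).comp φ₀ with hθ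
  have hθint : θ.toRingHom.IsIntegral :=
    (hfin.to_isIntegral).trans _ _
      (RingHom.isIntegral_of_surjective _ (Ideal.Quotient.mkₐ_surjective k Q))
  have hker : ∀ f, θ f = 0 ↔ f ∈ J k d e := by
    intro f
    rw [← hQ, Ideal.mem_comap]
    exact Ideal.Quotient.eq_zero_iff_mem
  obtain ⟨hinj, hfinψ⟩ := finite_injective_of_ker he θ hθint hker
  set ψ := θ.comp (rename (Fin.castLE he)) with hψ
  letI : Algebra (MvPolynomial (Fin e) k) (A ⧸ Q) := ψ.toRingHom.toAlgebra
  have hint : Algebra.IsIntegral (MvPolynomial (Fin e) k) (A ⧸ Q) := ⟨hfinψ.to_isIntegral⟩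
  have hfaith : FaithfulSMul (MvPolynomial (Fin e) k) (A ⧸ Q) :=
    (faithfulSMul_iff_algebraMap_injective _ _).mpr hinj
  set Qb' : Ideal (A ⧸ Q) := Q'.map (Ideal.Quotient.mk Q) with hQb'
  have hQb'p : Qb'.IsPrime :=
    Ideal.map_isPrime_of_surjective Ideal.Quotient.mk_surjective (by rw [Ideal.mk_ker]; exact hQQ')
  have hQb'comap : Qb'.comap (Ideal.Quotient.mk Q) = Q' := by
    rw [hQb', Ideal.comap_map_of_surjective _ Ideal.Quotient.mk_surjective,
      ← RingHom.ker_eq_comap_bot, Ideal.mk_ker, sup_eq_left.mpr hQQ']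
  have hover' : Qb'.comap (algebraMap (MvPolynomial (Fin e) k) (A ⧸ Q)) = J k e e' := by
    ext f
    rw [Ideal.mem_comap]
    change Ideal.Quotient.mk Q (φ₀ (rename (Fin.castLE he) f)) ∈ Qb' ↔ _
    rw [← Ideal.mem_comap, hQb'comap, ← Ideal.mem_comap (f := φ₀), hQ', mem_J_iff (by omega),
      ← ρ_ρ (Nat.le_of_lt hee'), ρ_rename, mem_J_iff (Nat.le_of_lt hee')]
  have hp1 : (J k e (e - 1)).IsPrime := J_isPrime (by omega)
  have hp2 : (J k e e').IsPrime := J_isPrime (by omega)
  have hlo : Qb'.LiesOver (J k e e') := ⟨hover'.symm⟩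
  have hle : J k e (e - 1) ≤ J k e e' := J_le_J (by omega) (by omega)
  obtain ⟨P, hPle, hPp, hPo⟩ := Ideal.exists_ideal_le_liesOver_of_le (p := J k e (e - 1))
    (q := J k e e') Qb' hle
  refine ⟨P.comap (Ideal.Quotient.mk Q), Ideal.IsPrime.comap _, ?_, ?_, ?_⟩
  · have hcm : (P.comap (Ideal.Quotient.mk Q)).comap φ₀ = J k d (e - 1) := by
      ext f
      rw [Ideal.mem_comap, Ideal.mem_comap]
      change θ f ∈ P ↔ _
      rw [← apply_rename_ρ_of_ker he θ hker f]
      change algebraMap (MvPolynomial (Fin e) k) (A ⧸ Q) (ρ k d e f) ∈ P ↔ _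
      rw [← Ideal.mem_comap]
      have := hPo.over
      rw [Ideal.under_def] at this
      rw [← this, mem_J_iff (by omega), ρ_ρ (by omega), mem_J_iff (by omega)]
    have hle2 : Q ≤ P.comap (Ideal.Quotient.mk Q) := by
      intro x hx
      rw [Ideal.mem_comap, Ideal.Quotient.eq_zero_iff_mem.mpr hx]
      exact P.zero_mem
    refine lt_of_le_of_ne hle2 ?_
    intro heq
    rw [← heq, hQ] at hcm
    exact J_ne_J he (by omega) hcm
  · rw [← hQb'comap]
    exact Ideal.comap_mono hPle
  · ext f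
    rw [Ideal.mem_comap, Ideal.mem_comap]
    change θ f ∈ P ↔ _
    rw [← apply_rename_ρ_of_ker he θ hker f]
    change algebraMap (MvPolynomial (Fin e) k) (A ⧸ Q) (ρ k d e f) ∈ P ↔ _
    rw [← Ideal.mem_comap]
    have := hPo.over
    rw [Ideal.under_def] at this
    rw [← this, mem_J_iff (by omega), ρ_ρ (by omega), mem_J_iff (by omega)]

/-- Part (2) in the `J`-convention. -/
theorem exists_extension_J (φ₀ : MvPolynomial (Fin d) k →ₐ[k] A) (hfin : φ₀.toRingHom.Finite)
    (hinj : Function.Injective φ₀)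
    (r : ℕ) (q : Fin r → PrimeSpectrum A) (hq : StrictMono q) (h : Fin r → ℕ) (hh : ∀ i, h i ≤ d)
    (hq₀ : ∀ i, (q i).asIdeal.comap φ₀ = J k d (d - h i)) :
    ∃ Q : ℕ → PrimeSpectrum A, (∀ j, j ≤ d → (Q j).asIdeal.comap φ₀ = J k d (d - j)) ∧
      (∀ j, j < d → Q j < Q (j + 1)) ∧ ∀ i, Q (h i) = q i := by
  let _ : Algebra (MvPolynomial (Fin d) k) A := φ₀.toRingHom.toAlgebra
  have hint : Algebra.IsIntegral (MvPolynomial (Fin d) k) A := ⟨hfin.to_isIntegral⟩
  have hcomap_def : ∀ I : Ideal A, I.comap (algebraMap (MvPolynomial (Fin d) k) A) = I.comap φ₀ :=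
    fun I => rfl
  -- order comparison lemmas
  have HL : ∀ a b, q a < q b → h a < h b := by
    intro a b hab
    have h1 : (q a).asIdeal < (q b).asIdeal := hab
    have h2 := Ideal.IsIntegral.comap_lt_comap (R := MvPolynomial (Fin d) k) h1
    rw [hcomap_def, hcomap_def, hq₀, hq₀] at h2
    have h3 := le_of_J_le (k := k) (n := d) (by omega) (by omega) h2.le
    have h4 : d - h b ≠ d - h a := by
      intro heq
      rw [heq] at h2
      exact lt_irrefl _ h2
    have := hh a
    have := hh b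
    omega
  have HM : ∀ a b, h a ≤ h b → q a ≤ q b := by
    intro a b hab
    by_contra hnle
    have hba : b < a := by
      by_contra hnlt
      exact hnle (hq.monotone (not_lt.mp hnlt))
    have := HL b a (hq hba)
    omega
  -- the invariant
  let Inv : ℕ → PrimeSpectrum A → Prop := fun j Q =>
    Q.asIdeal.comap φ₀ = J k d (d - j) ∧ (∀ i, j ≤ h i → Q ≤ q i) ∧ (∀ i, h i = j → Q = q i)
  have hstep : ∀ j, j < d → ∀ Q, Inv j Q → ∃ Q', Inv (j + 1) Q' ∧ Q < Q' := by
    intro j hj Q ⟨c1, c2, c3⟩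
    by_cases hA : ∃ i, h i = j + 1
    · obtain ⟨i, hi⟩ := hA
      refine ⟨q i, ⟨?_, ?_, ?_⟩, ?_⟩
      · rw [hq₀, hi]
      · intro i' hi'
        exact HM i i' (by omega)
      · intro i' hi'
        exact le_antisymm (HM i i' (by omega)) (HM i' i (by omega))
      · refine lt_of_le_of_ne (c2 i (by omega)) ?_
        intro heq
        rw [heq, hq₀, hi] at c1
        exact J_ne_J (k := k) (n := d) (e := d - j) (by omega) (by omega) (by
          rw [← c1]; congr 1)
    · by_cases hB : ∃ i, j + 1 < h i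
      · obtain ⟨i₁, hi₁⟩ := hB
        obtain ⟨i₀, hi₀S, hi₀min⟩ := Finset.exists_min_image
          (Finset.univ.filter (fun i => j + 1 < h i)) h ⟨i₁, by simp [hi₁]⟩
        have hi₀ : j + 1 < h i₀ := by simpa using hi₀S
        have := hh i₀
        obtain ⟨Q'', hQ''p, hlt, hle, hcm⟩ := exists_between φ₀ hfin Q.asIdeal (q i₀).asIdeal
          (c2 i₀ (by omega)) (e := d - j) (e' := d - h i₀) (by omega) (by omega) c1 (hq₀ i₀)
        refine ⟨⟨Q'', hQ''p⟩, ⟨?_, ?_, ?_⟩, hlt⟩
        · rw [hcm]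
          congr 1
        · intro i' hi'
          have hne : h i' ≠ j + 1 := fun he => hA ⟨i', he⟩
          have hi'S : i' ∈ Finset.univ.filter (fun i => j + 1 < h i) := by
            simp only [Finset.mem_filter, Finset.mem_univ, true_and]
            omega
          exact le_trans (show (⟨Q'', hQ''p⟩ : PrimeSpectrum A) ≤ q i₀ from hle)
            (HM i₀ i' (hi₀min i' hi'S))
        · intro i' hi'
          exact absurd ⟨i', hi'⟩ hA
      · push Not at hA hB
        have hle : Q.asIdeal.comap (algebraMap (MvPolynomial (Fin d) k) A) ≤ J k d (d - (j + 1)) := by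
          rw [hcomap_def, c1]
          exact J_le_J (by omega) (by omega)
        have hJp : (J k d (d - (j + 1))).IsPrime := J_isPrime (by omega)
        obtain ⟨Q', hQQ', hQ'p, hQ'c⟩ := Ideal.exists_ideal_over_prime_of_isIntegral
          (J k d (d - (j + 1))) Q.asIdeal hle
        rw [hcomap_def] at hQ'c
        refine ⟨⟨Q', hQ'p⟩, ⟨hQ'c, ?_, ?_⟩, ?_⟩
        · intro i' hi'
          have := hB i'
          have := hA i'
          omega
        · intro i' hi'
          exact absurd hi' (hA i')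
        · refine lt_of_le_of_ne (show Q ≤ ⟨Q', hQ'p⟩ from hQQ') ?_
          intro heq
          rw [heq] at c1
          simp only at c1
          rw [hQ'c] at c1
          exact J_ne_J (k := k) (n := d) (e := d - j) (by omega) (by omega) (by
            rw [← c1]; congr 1)
  have hbase : Inv 0 ⟨⊥, Ideal.isPrime_bot⟩ := by
    refine ⟨?_, ?_, ?_⟩
    · rw [Nat.sub_zero, J_self]
      ext f
      rw [Ideal.mem_comap, Ideal.mem_bot, Ideal.mem_bot]
      exact map_eq_zero_iff φ₀ hinj
    · intro i _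
      exact bot_le
    · intro i hi
      have h1 := hq₀ i
      rw [hi, Nat.sub_zero, J_self] at h1
      have h2 : (q i).asIdeal = ⊥ :=
        Ideal.eq_bot_of_comap_eq_bot (R := MvPolynomial (Fin d) k) h1
      apply PrimeSpectrum.ext
      exact h2.symm
  have hseq : ∀ j, j ≤ d → ∃ Qs : ℕ → PrimeSpectrum A,
      (∀ m, m ≤ j → Inv m (Qs m)) ∧ ∀ m, m < j → Qs m < Qs (m + 1) := by
    intro j
    induction j with
    | zero =>
      intro _
      refine ⟨fun _ => ⟨⊥, Ideal.isPrime_bot⟩, ?_, ?_⟩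
      · intro m hm
        have : m = 0 := by omega
        subst this
        exact hbase
      · intro m hm
        omega
    | succ j ih =>
      intro hj
      obtain ⟨Qs, hQs1, hQs2⟩ := ih (by omega)
      obtain ⟨Q', hQ'1, hQ'2⟩ := hstep j (by omega) (Qs j) (hQs1 j le_rfl)
      refine ⟨Function.update Qs (j + 1) Q', ?_, ?_⟩
      · intro m hm
        by_cases hmj : m = j + 1
        · subst hmj
          rw [Function.update_self]
          exact hQ'1
        · rw [Function.update_of_ne hmj]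
          exact hQs1 m (by omega)
      · intro m hm
        by_cases hmj : m = j
        · subst hmj
          rw [Function.update_self, Function.update_of_ne (by omega)]
          exact hQ'2
        · rw [Function.update_of_ne (by omega), Function.update_of_ne (by omega)]
          exact hQs2 m (by omega)
  obtain ⟨Qs, hQs1, hQs2⟩ := hseq d le_rfl
  refine ⟨Qs, fun j hj => (hQs1 j hj).1, hQs2, fun i => (hQs1 (h i) (hh i)).2.2 i rfl⟩

lemma rename_rev_rev (f : MvPolynomial (Fin d) k) :
    rename (Fin.rev : Fin d → Fin d) (rename (Fin.rev : Fin d → Fin d) f) = f := by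
  rw [rename_rename]
  have : (Fin.rev : Fin d → Fin d) ∘ Fin.rev = id := by
    funext x; simp
  rw [this, rename_id_apply]

lemma comap_rev_rev (I : Ideal (MvPolynomial (Fin d) k)) :
    (I.comap (rename (Fin.rev : Fin d → Fin d))).comap (rename (Fin.rev : Fin d → Fin d)) = I := by
  ext f
  rw [Ideal.mem_comap, Ideal.mem_comap, rename_rev_rev]

/-- Part (2): extension of the chain. -/
theorem exists_extension (φ : MvPolynomial (Fin d) k →ₐ[k] A) (hfin : φ.toRingHom.Finite)
    (hinj : Function.Injective φ)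
    (r : ℕ) (q : Fin r → PrimeSpectrum A) (hq : StrictMono q) (h : Fin r → ℕ) (hh : ∀ i, h i ≤ d)
    (hcomap : ∀ i, (q i).asIdeal.comap φ =
      Ideal.span (MvPolynomial.X '' {l : Fin d | (l : ℕ) < h i})) :
    ∃ Q : ℕ → PrimeSpectrum A,
      (∀ j, j ≤ d → (Q j).asIdeal.comap φ =
        Ideal.span (MvPolynomial.X '' {l : Fin d | (l : ℕ) < j})) ∧
      (∀ j, j < d → Q j < Q (j + 1)) ∧ (∀ i, Q (h i) = q i) := by
  set φ₀ := φ.comp (rename (Fin.rev : Fin d → Fin d)) with hφ₀
  have hfin₀ : φ₀.toRingHom.Finite := by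
    have hrev : (rename (Fin.rev : Fin d → Fin d) :
        MvPolynomial (Fin d) k →ₐ[k] MvPolynomial (Fin d) k).toRingHom.Finite := by
      apply RingHom.Finite.of_surjective
      intro f
      exact ⟨rename Fin.rev f, rename_rev_rev f⟩
    exact RingHom.Finite.comp (g := φ.toRingHom) hfin hrev
  have hinj₀ : Function.Injective φ₀ := hinj.comp (rename_injective _ Fin.rev_injective)
  have hc : ∀ I : Ideal A, I.comap φ₀ = (I.comap φ).comap (rename (Fin.rev : Fin d → Fin d)) :=
    fun I => rfl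
  have hspan : ∀ j, j ≤ d → (Ideal.span (MvPolynomial.X '' {l : Fin d | (l : ℕ) < j})) =
      (J k d (d - j)).comap (rename (Fin.rev : Fin d → Fin d)) := by
    intro j hj
    rw [comap_rename_rev d (d - j) j (by omega)]
  obtain ⟨Q, hQ1, hQ2, hQ3⟩ := exists_extension_J φ₀ hfin₀ hinj₀ r q hq h hh (by
    intro i
    rw [hc, hcomap, hspan (h i) (hh i), comap_rev_rev])
  refine ⟨Q, ?_, hQ2, hQ3⟩
  intro j hj
  rw [hspan j hj, ← hQ1 j hj, hc, comap_rev_rev]

end GoingDown

end Groth.Agent.Lib.Helper59.NoetherChain
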