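import Groth.Agent.Lib.Helper59.OrdValReg

set_option autoImplicit false
universe u
open MvPolynomial Groth.Agent.Lib.Helper59.QuasiReg IsLocalRing

namespace Groth.Agent.Lib.Helper59.OrdVal

section General

variable {A : Type u} [CommRing A] [IsLocalRing A] {d : ℕ}
  (K : Type u) [Field K] [Algebra A K]
  (y : Fin (d + 1) → A)

/-- the prime ideal `m A[X]`. -/
noncomputable abbrev PP (A : Type u) [CommRing A] [IsLocalRing A] (d : ℕ) : Ideal (MvPolynomial (Fin (d + 1)) A) :=
  Ideal.map C (maximalIdeal A)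

theorem PP_eq_ker : PP A d = RingHom.ker (MvPolynomial.map (σ := Fin (d + 1)) (residue A)) := by
  rw [MvPolynomial.ker_map, IsLocalRing.ker_residue]

instance PP_isPrime : (PP A d).IsPrime := by
  rw [PP_eq_ker]
  exact RingHom.ker_isPrime _

/-- `z = F(y)/G(y)` with `F, G` homogeneous of degree `n`, `G ∉ m A[X]`. -/
structure IsRep (z : K) (n : ℕ) (F G : MvPolynomial (Fin (d + 1)) A) : Prop where
  hF : F.IsHomogeneous n
  hG : G.IsHomogeneous n
  hGP : G ∉ PP A d
  eq : z * algebraMap A K (eval y G) = algebraMap A K (eval y F)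

/-- hypotheses on `y`: it generates the maximal ideal and is quasi-regular. -/
structure Hyp : Prop where
  span : Ideal.span (Set.range y) = maximalIdeal A
  qr : ∀ (n : ℕ) (F : MvPolynomial (Fin (d + 1)) A), F.IsHomogeneous n →
    eval y F ∈ maximalIdeal A ^ (n + 1) → F ∈ PP A d
  krull : ∀ a : A, a ≠ 0 → ∃ N : ℕ, a ∉ maximalIdeal A ^ (N + 1)

variable {y}

theorem Hyp.eval_mem (h : Hyp y) {n : ℕ} {F : MvPolynomial (Fin (d + 1)) A}
    (hF : F.IsHomogeneous n) (hFP : F ∈ PP A d) : eval y F ∈ maximalIdeal A ^ (n + 1) := by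
  have := eval_mem_pow_succ y hF (by rw [h.span]; exact hFP)
  rwa [h.span] at this

theorem Hyp.eval_mem_pow (h : Hyp y) {n : ℕ} {F : MvPolynomial (Fin (d + 1)) A}
    (hF : F.IsHomogeneous n) : eval y F ∈ maximalIdeal A ^ n := by
  rw [← h.span]
  exact (Ideal.mem_span_pow_iff_exists_isHomogeneous y _).2 ⟨F, hF, rfl⟩

theorem Hyp.eval_ne_zero (h : Hyp y) {n : ℕ} {G : MvPolynomial (Fin (d + 1)) A}
    (hG : G.IsHomogeneous n) (hGP : G ∉ PP A d) : eval y G ≠ 0 := by
  intro h0
  exact hGP (h.qr n G hG (by rw [h0]; exact zero_mem _))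

theorem X_notMem_PP (i : Fin (d + 1)) : (X i : MvPolynomial (Fin (d + 1)) A) ∉ PP A d := by
  intro hX
  have := mem_map_C_iff.1 hX (Finsupp.single i 1)
  rw [coeff_X] at this
  exact (maximalIdeal.isMaximal A).ne_top ((Ideal.eq_top_iff_one _).2 (by simpa using this))

theorem one_notMem_PP : (1 : MvPolynomial (Fin (d + 1)) A) ∉ PP A d :=
  fun h => (PP_isPrime (A := A) (d := d)).ne_top ((Ideal.eq_top_iff_one _).2 h)

variable (y) in
/-- the subring of degree-zero homogeneous fractions. -/
def VV : Subalgebra A K where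
  carrier := {z | ∃ n F G, IsRep K y z n F G}
  mul_mem' := by
    rintro z z' ⟨n, F, G, hr⟩ ⟨n', F', G', hr'⟩
    refine ⟨n + n', F * F', G * G', hr.hF.mul hr'.hF, hr.hG.mul hr'.hG, ?_, ?_⟩
    · intro hmem
      rcases (PP_isPrime (A := A) (d := d)).mem_or_mem hmem with h1 | h1
      · exact hr.hGP h1
      · exact hr'.hGP h1
    · rw [map_mul, map_mul, map_mul, map_mul, ← hr.eq, ← hr'.eq]; ring
  add_mem' := by
    rintro z z' ⟨n, F, G, hr⟩ ⟨n', F', G', hr'⟩
    refine ⟨n + n', F * G' + G * F', G * G', (hr.hF.mul hr'.hG).add (hr.hG.mul hr'.hF),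
      hr.hG.mul hr'.hG, ?_, ?_⟩
    · intro hmem
      rcases (PP_isPrime (A := A) (d := d)).mem_or_mem hmem with h1 | h1
      · exact hr.hGP h1
      · exact hr'.hGP h1
    · simp only [map_mul, map_add]
      rw [← hr.eq, ← hr'.eq]; ring
  algebraMap_mem' := by
    intro a
    refine ⟨0, C a, 1, isHomogeneous_C _ _, isHomogeneous_one _ _, one_notMem_PP, ?_⟩
    simp

theorem mem_VV {z : K} : z ∈ VV K y ↔ ∃ n F G, IsRep K y z n F G := Iff.rfl

variable [IsFractionRing A K]

/-- a fraction with numerator outside `m A[X]` is invertible in `VV`. -/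
theorem exists_inv (h : Hyp y) {z : K} {n : ℕ} {F G : MvPolynomial (Fin (d + 1)) A}
    (hr : IsRep K y z n F G) (hFP : F ∉ PP A d) : ∃ z' ∈ VV K y, z * z' = 1 := by
  have hF0 : algebraMap A K (eval y F) ≠ 0 := by
    rw [Ne, map_eq_zero_iff _ (IsFractionRing.injective A K)]
    exact h.eval_ne_zero hr.hF hFP
  have hG0 : algebraMap A K (eval y G) ≠ 0 := by
    rw [Ne, map_eq_zero_iff _ (IsFractionRing.injective A K)]
    exact h.eval_ne_zero hr.hG hr.hGP
  refine ⟨algebraMap A K (eval y G) / algebraMap A K (eval y F),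
    ⟨n, G, F, hr.hG, hr.hF, hFP, by field_simp⟩, ?_⟩
  have := hr.eq
  field_simp
  exact this

/-- a fraction with numerator in `m A[X]` is not invertible in `VV`. -/
theorem not_inv (h : Hyp y) {z : K} {n : ℕ} {F G : MvPolynomial (Fin (d + 1)) A}
    (hr : IsRep K y z n F G) (hFP : F ∈ PP A d) {z' : K} (hz' : z' ∈ VV K y) : z * z' ≠ 1 := by
  intro h1
  obtain ⟨n', F', G', hr'⟩ := hz'
  have e : algebraMap A K (eval y (F * F')) = algebraMap A K (eval y (G * G')) := by
    simp only [map_mul]
    rw [← hr.eq, ← hr'.eq]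
    calc z * algebraMap A K (eval y G) * (z' * algebraMap A K (eval y G'))
        = (z * z') * (algebraMap A K (eval y G) * algebraMap A K (eval y G')) := by ring
      _ = _ := by rw [h1, one_mul]
  have e' := IsFractionRing.injective A K e
  have h2 : eval y (G * G') ∈ maximalIdeal A ^ (n + n' + 1) := by
    rw [← e']
    exact h.eval_mem (hr.hF.mul hr'.hF) (Ideal.mul_mem_right _ _ hFP)
  have h3 := h.qr _ _ (hr.hG.mul hr'.hG) h2
  rcases (PP_isPrime (A := A) (d := d)).mem_or_mem h3 with h4 | h4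
  · exact hr.hGP h4
  · exact hr'.hGP h4

theorem algebraMap_eval_ne_zero (h : Hyp y) {n : ℕ} {G : MvPolynomial (Fin (d + 1)) A}
    (hG : G.IsHomogeneous n) (hGP : G ∉ PP A d) : algebraMap A K (eval y G) ≠ 0 := by
  rw [Ne, map_eq_zero_iff _ (IsFractionRing.injective A K)]
  exact h.eval_ne_zero hG hGP

theorem isUnit_iff (h : Hyp y) (z : VV K y) :
    IsUnit z ↔ ∃ n F G, IsRep K y z.val n F G ∧ F ∉ PP A d := by
  constructor
  · intro hz
    obtain ⟨n, F, G, hr⟩ := z.2
    refine ⟨n, F, G, hr, fun hFP => ?_⟩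
    obtain ⟨z', hz'⟩ := hz.exists_right_inv
    exact not_inv K h hr hFP z'.2 (by simpa using congrArg Subtype.val hz')
  · rintro ⟨n, F, G, hr, hFP⟩
    obtain ⟨z', hz', hzz'⟩ := exists_inv K h hr hFP
    exact IsUnit.of_mul_eq_one ⟨z', hz'⟩ (Subtype.ext hzz')

theorem mem_nonunits_iff' (h : Hyp y) (z : VV K y) :
    z ∈ nonunits (VV K y) ↔ ∃ n F G, IsRep K y z.val n F G ∧ F ∈ PP A d := by
  rw [mem_nonunits_iff, isUnit_iff K h]
  constructor
  · intro hz
    obtain ⟨n, F, G, hr⟩ := z.2
    refine ⟨n, F, G, hr, ?_⟩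
    by_contra hFP
    exact hz ⟨n, F, G, hr, hFP⟩
  · rintro ⟨n, F, G, hr, hFP⟩ ⟨n', F', G', hr', hFP'⟩
    -- z is a unit by the second representation, and a non-unit by the first
    obtain ⟨z', hz', hzz'⟩ := exists_inv K h hr' hFP'
    exact not_inv K h hr hFP hz' hzz'

theorem isLocalRing_VV (h : Hyp y) : IsLocalRing (VV K y) := by
  apply IsLocalRing.of_nonunits_add
  intro a b ha hb
  rw [mem_nonunits_iff' K h] at ha hb ⊢
  obtain ⟨n, F, G, hr, hFP⟩ := ha
  obtain ⟨n', F', G', hr', hFP'⟩ := hb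
  refine ⟨n + n', F * G' + G * F', G * G', ⟨(hr.hF.mul hr'.hG).add (hr.hG.mul hr'.hF),
      hr.hG.mul hr'.hG, ?_, ?_⟩, ?_⟩
  · intro hmem
    rcases (PP_isPrime (A := A) (d := d)).mem_or_mem hmem with h1 | h1
    · exact hr.hGP h1
    · exact hr'.hGP h1
  · simp only [map_mul, map_add, Subalgebra.coe_add]
    rw [← hr.eq, ← hr'.eq]; ring
  · exact Ideal.add_mem _ (Ideal.mul_mem_right _ _ hFP) (Ideal.mul_mem_left _ _ hFP')

theorem y_mem (h : Hyp y) (i : Fin (d + 1)) : y i ∈ maximalIdeal A := by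
  rw [← h.span]; exact Ideal.subset_span ⟨i, rfl⟩

/-- the uniformizer `y 0`. -/
noncomputable def TT : VV K y := algebraMap A (VV K y) (y 0)

theorem TT_val : (TT K (y := y)).val = algebraMap A K (y 0) := rfl

theorem algebraMap_mem_nonunits (h : Hyp y) {a : A} (ha : a ∈ maximalIdeal A) :
    algebraMap A (VV K y) a ∈ nonunits (VV K y) := by
  rw [mem_nonunits_iff' K h]
  refine ⟨0, C a, 1, ⟨isHomogeneous_C _ _, isHomogeneous_one _ _, one_notMem_PP, ?_⟩,
    Ideal.mem_map_of_mem _ ha⟩
  show algebraMap A K a * _ = _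
  simp

theorem y0_ne_zero (h : Hyp y) : algebraMap A K (y 0) ≠ 0 := by
  have := algebraMap_eval_ne_zero K h (isHomogeneous_X A (0 : Fin (d + 1))) (X_notMem_PP 0)
  simpa using this

/-- nonunits are multiples of the uniformizer. -/
theorem exists_eq_TT_mul (h : Hyp y) {z : VV K y} (hz : z ∈ nonunits (VV K y)) :
    ∃ w : VV K y, z = TT K * w := by
  rw [mem_nonunits_iff' K h] at hz
  obtain ⟨n, F, G, hr, hFP⟩ := hz
  have h1 := h.eval_mem hr.hF hFP
  rw [← h.span] at h1
  obtain ⟨F₁, hF₁, hF₁e⟩ := (Ideal.mem_span_pow_iff_exists_isHomogeneous y _).1 h1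
  have hGX : G * X 0 ∉ PP A d := by
    intro hmem
    rcases (PP_isPrime (A := A) (d := d)).mem_or_mem hmem with h2 | h2
    · exact hr.hGP h2
    · exact X_notMem_PP 0 h2
  have hG0 := algebraMap_eval_ne_zero K h hr.hG hr.hGP
  have hy0 := y0_ne_zero K h
  refine ⟨⟨algebraMap A K (eval y F₁) / algebraMap A K (eval y (G * X 0)),
    ⟨n + 1, F₁, G * X 0, hF₁, hr.hG.mul (isHomogeneous_X A 0), hGX, ?_⟩⟩, ?_⟩
  · have := algebraMap_eval_ne_zero K h (hr.hG.mul (isHomogeneous_X A 0)) hGX
    field_simp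
  · apply Subtype.ext
    show z.val = algebraMap A K (y 0) * (algebraMap A K (eval y F₁) / algebraMap A K (eval y (G * X 0)))
    have e := hr.eq
    rw [← hF₁e] at e
    have e2 : z.val = algebraMap A K (eval y F₁) / algebraMap A K (eval y G) := by
      rw [eq_div_iff hG0]; exact e
    rw [e2, map_mul, eval_X, map_mul]
    field_simp

theorem exists_eq_pow_mul_unit (h : Hyp y) {z : VV K y} (hz : z ≠ 0) :
    ∃ (j : ℕ) (u : (VV K y)ˣ), z = TT K (y := y) ^ j * u := by
  classical
  obtain ⟨n, F, G, hr⟩ := z.2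
  have hG0 := algebraMap_eval_ne_zero K h hr.hG hr.hGP
  have hy0 := y0_ne_zero K h
  have ha : eval y F ≠ 0 := by
    intro h0
    apply hz
    apply Subtype.ext
    have e := hr.eq
    rw [h0, map_zero] at e
    rcases mul_eq_zero.1 e with e | e
    · exact e
    · exact absurd e hG0
  let N := Nat.find (h.krull _ ha)
  have hN : eval y F ∉ maximalIdeal A ^ (N + 1) := Nat.find_spec (h.krull _ ha)
  have hN' : eval y F ∈ maximalIdeal A ^ N := by
    rcases Nat.eq_zero_or_pos N with h0 | h0
    · rw [h0, pow_zero, Ideal.one_eq_top]; trivial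
    · have := Nat.find_min (h.krull _ ha) (Nat.pred_lt (Nat.pos_iff_ne_zero.1 h0))
      rw [not_not] at this
      rwa [Nat.pred_eq_sub_one, Nat.sub_add_cancel h0] at this
  have hnN : n ≤ N := by
    by_contra hlt
    rw [not_le] at hlt
    exact hN (Ideal.pow_le_pow_right hlt (h.eval_mem_pow hr.hF))
  obtain ⟨j, hj⟩ := Nat.exists_eq_add_of_le hnN
  rw [← h.span] at hN'
  obtain ⟨F₁, hF₁, hF₁e⟩ := (Ideal.mem_span_pow_iff_exists_isHomogeneous y _).1 hN'
  have hF₁P : F₁ ∉ PP A d := fun hmem => hN (by rw [← hF₁e]; exact h.eval_mem hF₁ hmem)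
  have hGX : G * X 0 ^ j ∉ PP A d := by
    intro hmem
    rcases (PP_isPrime (A := A) (d := d)).mem_or_mem hmem with h2 | h2
    · exact hr.hGP h2
    · exact X_notMem_PP 0 ((PP_isPrime (A := A) (d := d)).mem_of_pow_mem _ h2)
  have hGXh : (G * X 0 ^ j).IsHomogeneous N := by
    have := hr.hG.mul ((isHomogeneous_X A (0 : Fin (d + 1))).pow j)
    rwa [one_mul, ← hj] at this
  have hGX0 := algebraMap_eval_ne_zero K h hGXh hGX
  have hrep : IsRep K y (algebraMap A K (eval y F₁) / algebraMap A K (eval y (G * X 0 ^ j))) N F₁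
      (G * X 0 ^ j) := ⟨hF₁, hGXh, hGX, by field_simp⟩
  let u₀ : VV K y := ⟨_, ⟨N, F₁, G * X 0 ^ j, hrep⟩⟩
  have hu : IsUnit u₀ := (isUnit_iff K h u₀).2 ⟨N, F₁, G * X 0 ^ j, hrep, hF₁P⟩
  refine ⟨j, hu.unit, ?_⟩
  apply Subtype.ext
  show z.val = (algebraMap A K (y 0)) ^ j *
    (algebraMap A K (eval y F₁) / algebraMap A K (eval y (G * X 0 ^ j)))
  have e := hr.eq
  have e2 : z.val = algebraMap A K (eval y F) / algebraMap A K (eval y G) := by
    rw [eq_div_iff hG0]; exact e
  rw [e2, map_mul, map_pow, eval_X, map_mul, map_pow, hF₁e]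
  field_simp

theorem isDiscreteValuationRing_VV (h : Hyp y) : IsDiscreteValuationRing (VV K y) := by
  have := isLocalRing_VV K h
  have hT0 : (TT K : VV K y) ≠ 0 := by
    intro h0
    exact y0_ne_zero K h (congrArg Subtype.val h0)
  have hmax : maximalIdeal (VV K y) = Ideal.span {TT K} := by
    apply le_antisymm
    · intro z hz
      obtain ⟨w, rfl⟩ := exists_eq_TT_mul K h hz
      exact Ideal.mul_mem_right _ _ (Ideal.mem_span_singleton_self _)
    · rw [Ideal.span_le, Set.singleton_subset_iff]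
      exact algebraMap_mem_nonunits K h (y_mem h 0)
  have hirr : Irreducible (TT K : VV K y) :=
    IsDiscreteValuationRing.irreducible_of_span_eq_maximalIdeal _ hT0 hmax
  apply IsDiscreteValuationRing.ofHasUnitMulPowIrreducibleFactorization
  refine ⟨TT K, hirr, fun {x} hx => ?_⟩
  obtain ⟨j, u, rfl⟩ := exists_eq_pow_mul_unit K h hx
  exact ⟨j, u, rfl⟩

end General

section Residue

variable {A : Type u} [CommRing A] [IsLocalRing A] {d : ℕ}
  (K : Type u) [Field K] [Algebra A K] [IsFractionRing A K]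
  {y : Fin (d + 1) → A}

theorem isFractionRing_VV : IsFractionRing (VV K y) K := by
  haveI : FaithfulSMul (VV K y) K :=
    (faithfulSMul_iff_algebraMap_injective (VV K y) K).2 Subtype.val_injective
  apply IsFractionRing.of_field
  intro z
  obtain ⟨a, b, _, rfl⟩ := IsFractionRing.div_surjective (A := A) z
  exact ⟨algebraMap A (VV K y) a, algebraMap A (VV K y) b, rfl⟩

theorem comap_maximalIdeal (h : Hyp y) [IsLocalRing (VV K y)] :
    (maximalIdeal (VV K y)).comap (algebraMap A (VV K y)) = maximalIdeal A := by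
  ext a
  rw [Ideal.mem_comap, mem_maximalIdeal, mem_maximalIdeal]
  constructor
  · intro ha hu
    exact ha (hu.map _)
  · intro ha
    exact algebraMap_mem_nonunits K h ha

theorem isLocalHom_algebraMap (h : Hyp y) : IsLocalHom (algebraMap A (VV K y)) := by
  constructor
  intro a ha
  by_contra hna
  exact algebraMap_mem_nonunits K h hna ha

/-- `y i / y 0` as an element of `VV`. -/
noncomputable def uV (h : Hyp y) (i : Fin (d + 1)) : VV K y :=
  ⟨algebraMap A K (y i) / algebraMap A K (y 0),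
    ⟨1, X i, X 0, ⟨isHomogeneous_X A i, isHomogeneous_X A 0, X_notMem_PP 0, by
      have := y0_ne_zero K h
      simp only [eval_X]
      field_simp⟩⟩⟩

theorem uV_zero (h : Hyp y) : uV K h 0 = 1 := by
  apply Subtype.ext
  show algebraMap A K (y 0) / algebraMap A K (y 0) = 1
  exact div_self (y0_ne_zero K h)

theorem KI_K {n : ℕ} (q : Fin (d + 1) → K) (c : K) (hq : ∀ i, c * q i = algebraMap A K (y i))
    {F : MvPolynomial (Fin (d + 1)) A} (hF : F.IsHomogeneous n) :
    c ^ n * eval₂ (algebraMap A K) q F = algebraMap A K (eval y F) := by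
  rw [eval₂_eq', eval_eq', map_sum, Finset.mul_sum]
  refine Finset.sum_congr rfl fun α hα => ?_
  have hsum : ∑ i, α i = n := sum_eq_of_isHomogeneous hF (mem_support_iff.1 hα)
  rw [map_mul, map_prod]
  simp_rw [map_pow, ← hq, mul_pow]
  rw [Finset.prod_mul_distrib, Finset.prod_pow_eq_pow_sum, hsum]
  ring

/-- `θ F = F(y)/y_0^n = F(1, y_1/y_0, …)`. -/
noncomputable def theta (h : Hyp y) (F : MvPolynomial (Fin (d + 1)) A) : VV K y :=
  eval₂ (algebraMap A (VV K y)) (uV K h) F

theorem theta_val (h : Hyp y) (F : MvPolynomial (Fin (d + 1)) A) :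
    (theta K h F).val = eval₂ (algebraMap A K) (fun i => (uV K h i).val) F := by
  have := hom_eval₂ F (algebraMap A (VV K y)) ((VV K y).val : VV K y →+* K) (uV K h)
  exact this

theorem KI (h : Hyp y) {n : ℕ} {F : MvPolynomial (Fin (d + 1)) A} (hF : F.IsHomogeneous n) :
    algebraMap A K (y 0) ^ n * (theta K h F).val = algebraMap A K (eval y F) := by
  rw [theta_val]
  refine KI_K K _ _ (fun i => ?_) hF
  show algebraMap A K (y 0) * (algebraMap A K (y i) / algebraMap A K (y 0)) = _
  have := y0_ne_zero K h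
  field_simp

theorem mem_PP_of_theta_nonunit (h : Hyp y) {n : ℕ} {F : MvPolynomial (Fin (d + 1)) A}
    (hF : F.IsHomogeneous n) (hθ : theta K h F ∈ nonunits (VV K y)) : F ∈ PP A d := by
  rw [mem_nonunits_iff' K h] at hθ
  obtain ⟨n', F', G', hr', hFP'⟩ := hθ
  have e1 := KI K h hF
  have e2 := hr'.eq
  have e : algebraMap A K (eval y (F * G')) = algebraMap A K (eval y (X 0 ^ n * F')) := by
    simp only [map_mul, map_pow, eval_X]
    rw [← e1, ← e2]; ring
  have e' := IsFractionRing.injective A K e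
  have h2 : eval y (F * G') ∈ maximalIdeal A ^ (n + n' + 1) := by
    rw [e']
    have hh : (X 0 ^ n * F' : MvPolynomial (Fin (d + 1)) A).IsHomogeneous (n + n') := by
      have := ((isHomogeneous_X A (0 : Fin (d + 1))).pow n).mul hr'.hF
      rwa [one_mul] at this
    exact h.eval_mem hh (Ideal.mul_mem_left _ _ hFP')
  have h3 := h.qr _ _ (hF.mul hr'.hG) h2
  rcases (PP_isPrime (A := A) (d := d)).mem_or_mem h3 with h4 | h4
  · exact h4
  · exact absurd h4 hr'.hGP

variable [IsLocalRing (VV K y)] [IsLocalHom (algebraMap A (VV K y))]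

/-- the residue classes of `y (i+1) / y 0`. -/
noncomputable def tt (h : Hyp y) (i : Fin d) : ResidueField (VV K y) :=
  residue (VV K y) (uV K h (Fin.succ i))

theorem residue_comp_uV (h : Hyp y) :
    (fun i => residue (VV K y) (uV K h i)) = Fin.cons 1 (tt K h) := by
  funext i
  refine Fin.cases ?_ (fun j => ?_) i
  · rw [uV_zero, map_one]; rfl
  · rfl

/-- residue of `θ F`. -/
theorem residue_theta (h : Hyp y) (F : MvPolynomial (Fin (d + 1)) A) :
    residue (VV K y) (theta K h F) =
      eval₂ (ResidueField.map (algebraMap A (VV K y))) (Fin.cons 1 (tt K h))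
        (MvPolynomial.map (residue A) F) := by
  rw [eval₂_map, ← residue_comp_uV]
  exact hom_eval₂ F (algebraMap A (VV K y)) (residue (VV K y)) (uV K h)

theorem mem_PP_of_residue_theta_eq_zero (h : Hyp y) {n : ℕ} {F : MvPolynomial (Fin (d + 1)) A}
    (hF : F.IsHomogeneous n) (h0 : residue (VV K y) (theta K h F) = 0) : F ∈ PP A d := by
  apply mem_PP_of_theta_nonunit K h hF
  rwa [residue_eq_zero_iff, mem_maximalIdeal] at h0

/-- dehomogenization `X 0 ↦ 1`. -/
noncomputable def dehom (k : Type u) [CommRing k] (d : ℕ) :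
    MvPolynomial (Fin (d + 1)) k →+* MvPolynomial (Fin d) k :=
  eval₂Hom C (Fin.cons 1 X)

theorem eval₂_dehom {k L : Type u} [CommRing k] [CommRing L] (φ : k →+* L) (t : Fin d → L)
    (R : MvPolynomial (Fin (d + 1)) k) :
    eval₂ φ t (dehom k d R) = eval₂ φ (Fin.cons 1 t) R := by
  unfold dehom
  rw [coe_eval₂Hom]
  have := hom_eval₂ R C (eval₂Hom φ t) (Fin.cons 1 X)
  rw [coe_eval₂Hom] at this
  rw [this]
  congr 1
  · ext a; simp
  · funext i
    refine Fin.cases ?_ (fun j => ?_) i <;> simp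

theorem dehom_monomial_cons {k : Type u} [CommRing k] (a : ℕ) (β : Fin d →₀ ℕ) (c : k) :
    dehom k d (monomial (Finsupp.cons a β) c) = monomial β c := by
  unfold dehom
  rw [coe_eval₂Hom, eval₂_monomial, Finsupp.prod_fintype _ _ (fun i => pow_zero _),
    Fin.prod_univ_succ, monomial_eq, Finsupp.prod_fintype _ _ (fun i => pow_zero _)]
  simp

/-- no nonzero polynomial over the residue field of `A` kills the `y i / y 0`. -/
theorem eq_zero_of_eval₂_tt (h : Hyp y) (Q : MvPolynomial (Fin d) (ResidueField A))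
    (hQ : eval₂ (ResidueField.map (algebraMap A (VV K y))) (tt K h) Q = 0) : Q = 0 := by
  classical
  set n := Q.totalDegree with hn
  let lift : ResidueField A → A := Function.surjInv (residue_surjective (R := A))
  have hlift : ∀ c, residue A (lift c) = c := Function.surjInv_eq _
  let Fh : MvPolynomial (Fin (d + 1)) A :=
    ∑ β ∈ Q.support, monomial (Finsupp.cons (n - β.degree) β) (lift (coeff β Q))
  have hFh : Fh.IsHomogeneous n := by
    refine IsHomogeneous.sum _ _ _ fun β hβ => isHomogeneous_monomial _ ?_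
    have hle : β.degree ≤ n := by
      have := le_totalDegree hβ
      rw [Finsupp.degree_eq_sum]
      rwa [Finsupp.sum_fintype _ _ (fun _ => rfl)] at this
    rw [Finsupp.degree_eq_sum, Fin.sum_univ_succ, Finsupp.cons_zero]
    simp only [Finsupp.cons_succ]
    rw [← Finsupp.degree_eq_sum]
    omega
  have hmap : dehom (ResidueField A) d (MvPolynomial.map (residue A) Fh) = Q := by
    simp only [Fh, map_sum, map_monomial, hlift, dehom_monomial_cons]
    exact support_sum_monomial_coeff Q
  have h0 : residue (VV K y) (theta K h Fh) = 0 := by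
    rw [residue_theta, ← eval₂_dehom, hmap]; exact hQ
  have hP := mem_PP_of_residue_theta_eq_zero K h hFh h0
  rw [PP_eq_ker, RingHom.mem_ker] at hP
  rw [← hmap, hP, map_zero]

theorem algebraicIndependent_tt (h : Hyp y) :
    letI := (ResidueField.map (algebraMap A (VV K y))).toAlgebra
    AlgebraicIndependent (ResidueField A) (tt K h) := by
  letI := (ResidueField.map (algebraMap A (VV K y))).toAlgebra
  rw [algebraicIndependent_iff]
  intro Q hQ
  exact eq_zero_of_eval₂_tt K h Q hQ

theorem eval₂_mem_adjoin (h : Hyp y) (R : MvPolynomial (Fin (d + 1)) (ResidueField A)) :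
    letI := (ResidueField.map (algebraMap A (VV K y))).toAlgebra
    eval₂ (ResidueField.map (algebraMap A (VV K y))) (Fin.cons 1 (tt K h)) R ∈
      IntermediateField.adjoin (ResidueField A) (Set.range (tt K h)) := by
  letI := (ResidueField.map (algebraMap A (VV K y))).toAlgebra
  induction R using MvPolynomial.induction_on with
  | C a =>
    rw [eval₂_C]
    exact IntermediateField.algebraMap_mem _ a
  | add p q hp hq => rw [eval₂_add]; exact add_mem hp hq
  | mul_X p i hp =>
    rw [eval₂_mul, eval₂_X]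
    refine mul_mem hp ?_
    refine Fin.cases ?_ (fun j => ?_) i
    · rw [Fin.cons_zero]; exact one_mem _
    · rw [Fin.cons_succ]; exact IntermediateField.subset_adjoin _ _ ⟨j, rfl⟩

theorem adjoin_tt_eq_top (h : Hyp y) :
    letI := (ResidueField.map (algebraMap A (VV K y))).toAlgebra
    IntermediateField.adjoin (ResidueField A) (Set.range (tt K h)) = ⊤ := by
  letI := (ResidueField.map (algebraMap A (VV K y))).toAlgebra
  rw [eq_top_iff]
  rintro w -
  obtain ⟨z, rfl⟩ := residue_surjective w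
  by_cases hz : IsUnit z
  · obtain ⟨n, F, G, hr, hFP⟩ := (isUnit_iff K h z).1 hz
    have hy0 := y0_ne_zero K h
    have hmul : z * theta K h G = theta K h F := by
      apply Subtype.ext
      show z.val * (theta K h G).val = (theta K h F).val
      have e1 := KI K h hr.hF
      have e2 := KI K h hr.hG
      have e3 := hr.eq
      have hpow : algebraMap A K (y 0) ^ n ≠ 0 := pow_ne_zero _ hy0
      apply mul_left_cancel₀ hpow
      rw [e1, ← e3, ← e2]; ring
    have hG0 : residue (VV K y) (theta K h G) ≠ 0 := fun h0 =>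
      hr.hGP (mem_PP_of_residue_theta_eq_zero K h hr.hG h0)
    have hres : residue (VV K y) z =
        residue (VV K y) (theta K h F) / residue (VV K y) (theta K h G) := by
      rw [eq_div_iff hG0, ← map_mul, hmul]
    rw [hres, residue_theta, residue_theta]
    exact div_mem (eval₂_mem_adjoin K h _) (eval₂_mem_adjoin K h _)
  · have : residue (VV K y) z = 0 := by
      rw [residue_eq_zero_iff, mem_maximalIdeal]; exact hz
    rw [this]
    exact zero_mem _

theorem exists_transcendence_basis (h : Hyp y) :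
    letI := (ResidueField.map (algebraMap A (VV K y))).toAlgebra
    ∃ (ι : Type u) (t : ι → ResidueField (VV K y)),
      AlgebraicIndependent (ResidueField A) t ∧
        IntermediateField.adjoin (ResidueField A) (Set.range t) = ⊤ := by
  letI := (ResidueField.map (algebraMap A (VV K y))).toAlgebra
  refine ⟨ULift.{u} (Fin d), tt K h ∘ ULift.down, ?_, ?_⟩
  · exact (algebraicIndependent_tt K h).comp ULift.down ULift.down_injective
  · rw [Function.Surjective.range_comp ULift.down_surjective]
    exact adjoin_tt_eq_top K h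

end Residue

end Groth.Agent.Lib.Helper59.OrdVal
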