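import Groth.Agent.Lib.Helper59.QuasiReg
import Groth.Agent.Lib.Helper76.RegularLocal

set_option autoImplicit false
universe u
open MvPolynomial Groth.Agent.Lib.Helper59.QuasiReg

namespace Groth.Agent.Lib.Helper59.OrdVal

variable {A : Type u} [CommRing A]

theorem revReg_of_forall : ∀ {s : ℕ} (y : Fin s → A),
    (∀ (i : Fin s) (a : A), y i * a ∈ Ideal.span (y '' Set.Ioi i) →
      a ∈ Ideal.span (y '' Set.Ioi i)) → RevReg y := by
  intro s
  induction s with
  | zero => intro y _; trivial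
  | succ s ih =>
    intro y h
    have e0 : y '' Set.Ioi (0 : Fin (s + 1)) = Set.range fun i => y (Fin.succ i) := by
      ext z
      constructor
      · rintro ⟨j, hj, rfl⟩
        obtain ⟨k, rfl⟩ := Fin.exists_succ_eq.2 (ne_of_gt hj)
        exact ⟨k, rfl⟩
      · rintro ⟨k, rfl⟩
        exact ⟨Fin.succ k, Fin.succ_pos k, rfl⟩
    refine ⟨?_, ih _ ?_⟩
    · intro a ha
      rw [← e0] at ha ⊢
      exact h 0 a ha
    · intro i a ha
      have e1 : (fun i => y (Fin.succ i)) '' Set.Ioi i = y '' Set.Ioi (Fin.succ i) := by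
        ext z
        constructor
        · rintro ⟨j, hj, rfl⟩
          exact ⟨Fin.succ j, Fin.succ_lt_succ_iff.2 hj, rfl⟩
        · rintro ⟨j, hj, rfl⟩
          obtain ⟨k, rfl⟩ := Fin.exists_succ_eq.2 (ne_of_gt (lt_of_le_of_lt (Fin.zero_le _) hj))
          exact ⟨k, Fin.succ_lt_succ_iff.1 hj, rfl⟩
      rw [e1] at ha ⊢
      exact h (Fin.succ i) a ha

theorem reg_of_isWeaklyRegular {d : ℕ} (x : Fin d → A)
    (h : RingTheory.Sequence.IsWeaklyRegular A (List.ofFn x)) (i : Fin d) (a : A)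
    (ha : x i * a ∈ Ideal.span (x '' Set.Iio i)) : a ∈ Ideal.span (x '' Set.Iio i) := by
  have hi : i.val < (List.ofFn x).length := by simp
  have hreg := h.regular_mod_prev i.val hi
  have hN : (Ideal.ofList (List.take i.val (List.ofFn x)) • (⊤ : Submodule A A) : Submodule A A) =
      Ideal.span (x '' Set.Iio i) := by
    rw [Ideal.smul_top_eq_map, Algebra.algebraMap_self, Ideal.map_id]
    show Submodule.restrictScalars A (Ideal.ofList _) = _
    rw [Submodule.restrictScalars_self, Ideal.ofList]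
    congr 1
    ext z
    simp only [Set.mem_ofPred_eq, List.mem_take_iff_getElem, List.getElem_ofFn, List.length_ofFn,
      Set.mem_image, Set.mem_Iio]
    constructor
    · rintro ⟨j, hj, rfl⟩
      have hj' : j < i.val ∧ j < d := lt_min_iff.1 hj
      exact ⟨⟨j, hj'.2⟩, hj'.1, rfl⟩
    · rintro ⟨j, hj, rfl⟩
      exact ⟨j.val, lt_min_iff.2 ⟨hj, j.2⟩, rfl⟩
  have hx : (List.ofFn x)[i.val] = x i := by simp
  rw [hx] at hreg
  have hmk : (Submodule.Quotient.mk a : A ⧸ (Ideal.ofList (List.take i.val (List.ofFn x)) •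
      (⊤ : Submodule A A))) = 0 := by
    apply hreg
    show x i • Submodule.Quotient.mk a = x i • 0
    rw [smul_zero, ← Submodule.Quotient.mk_smul, Submodule.Quotient.mk_eq_zero, hN]
    exact ha
  rw [Submodule.Quotient.mk_eq_zero, hN] at hmk
  exact hmk

theorem revReg_rev {d : ℕ} (x : Fin d → A)
    (h : RingTheory.Sequence.IsWeaklyRegular A (List.ofFn x)) : RevReg (fun i => x (Fin.rev i)) := by
  apply revReg_of_forall
  intro i a ha
  have e : (fun i => x (Fin.rev i)) '' Set.Ioi i = x '' Set.Iio (Fin.rev i) := by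
    ext z
    constructor
    · rintro ⟨j, hj, rfl⟩
      exact ⟨Fin.rev j, Fin.rev_lt_rev.2 hj, rfl⟩
    · rintro ⟨j, hj, rfl⟩
      refine ⟨Fin.rev j, ?_, by simp⟩
      have : Fin.rev (Fin.rev i) < Fin.rev j := Fin.rev_lt_rev.2 hj
      simpa using this
  rw [e] at ha ⊢
  exact reg_of_isWeaklyRegular x h (Fin.rev i) a ha

end Groth.Agent.Lib.Helper59.OrdVal
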