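import Mathlib
import Groth.Prelude.Def_W4c1stackycurvesGalP1

/-!
# `GL₂(k)` and Galois-stable sets of at most three points of `ℙ¹(K)` (helper59)
-/

set_option autoImplicit false

namespace Groth.Agent.Lib.Helper59.P1Galois

open W4c1stackycurves Matrix

universe u

section Basic

variable {K : Type u} [Field K]

/-- the projective line. -/
abbrev P1 (K : Type u) [Field K] := Projectivization K (Fin 2 → K)

/-- the action of an invertible matrix on a point. -/
noncomputable def act (h : GL (Fin 2) K) (x : P1 K) : P1 K :=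
  (Matrix.GeneralLinearGroup.toLin h) • x

lemma act_one (x : P1 K) : act 1 x = x := by
  unfold act; rw [map_one, one_smul]

lemma act_mul (g h : GL (Fin 2) K) (x : P1 K) : act (g * h) x = act g (act h x) := by
  unfold act; rw [map_mul, mul_smul]

lemma act_inv_act (h : GL (Fin 2) K) (x : P1 K) : act h⁻¹ (act h x) = x := by
  rw [← act_mul, inv_mul_cancel, act_one]

lemma act_act_inv (h : GL (Fin 2) K) (x : P1 K) : act h (act h⁻¹ x) = x := by
  rw [← act_mul, mul_inv_cancel, act_one]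

lemma mulVec_ne_zero (h : GL (Fin 2) K) {v : Fin 2 → K} (hv : v ≠ 0) : h.1 *ᵥ v ≠ 0 := by
  intro h0
  apply hv
  have : (h⁻¹).1 *ᵥ (h.1 *ᵥ v) = v := by
    rw [Matrix.mulVec_mulVec, ← Units.val_mul, inv_mul_cancel, Units.val_one, Matrix.one_mulVec]
  rw [← this, h0, Matrix.mulVec_zero]

lemma act_mk (h : GL (Fin 2) K) (v : Fin 2 → K) (hv : v ≠ 0) :
    act h (Projectivization.mk K v hv) = Projectivization.mk K (h.1 *ᵥ v) (mulVec_ne_zero h hv) := by
  unfold act
  rw [Projectivization.smul_mk]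
  rfl

/-- the determinant of two vectors. -/
def dt (u v : Fin 2 → K) : K := u 0 * v 1 - u 1 * v 0

lemma mk_eq_mk_iff_dt (u v : Fin 2 → K) (hu : u ≠ 0) (hv : v ≠ 0) :
    Projectivization.mk K u hu = Projectivization.mk K v hv ↔ dt u v = 0 := by
  rw [Projectivization.mk_eq_mk_iff']
  constructor
  · rintro ⟨a, rfl⟩
    simp only [dt, Pi.smul_apply, smul_eq_mul]
    ring
  · intro h
    unfold dt at h
    by_cases h0 : v 0 = 0
    · have h1 : v 1 ≠ 0 := by
        intro h1
        apply hv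
        ext i
        fin_cases i
        · exact h0
        · exact h1
      refine ⟨u 1 / v 1, ?_⟩
      ext i
      fin_cases i
      · simp only [Fin.zero_eta, Pi.smul_apply, smul_eq_mul]
        rw [h0, mul_zero] at h ⊢
        rw [sub_zero] at h
        rcases mul_eq_zero.mp h with h | h
        · exact h.symm
        · exact absurd h h1
      · simp only [Fin.mk_one, Pi.smul_apply, smul_eq_mul]
        field_simp
    · refine ⟨u 0 / v 0, ?_⟩
      ext i
      fin_cases i
      · simp only [Fin.zero_eta, Pi.smul_apply, smul_eq_mul]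
        field_simp
      · simp only [Fin.mk_one, Pi.smul_apply, smul_eq_mul]
        field_simp
        linear_combination h

lemma dt_mulVec (h : Matrix (Fin 2) (Fin 2) K) (u v : Fin 2 → K) :
    dt (h *ᵥ u) (h *ᵥ v) = h.det * dt u v := by
  simp only [dt, Matrix.mulVec, dotProduct, Fin.sum_univ_two, Matrix.det_fin_two]
  ring

end Basic

section Frame

variable {K : Type u} [Field K]

lemma vec10_ne : (![1, 0] : Fin 2 → K) ≠ 0 := by
  intro h; have := congrFun h 0; simp at this

lemma vec01_ne : (![0, 1] : Fin 2 → K) ≠ 0 := by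
  intro h; have := congrFun h 1; simp at this

lemma vec11_ne : (![1, 1] : Fin 2 → K) ≠ 0 := by
  intro h; have := congrFun h 0; simp at this

/-- the three standard points. -/
noncomputable def E1 : P1 K := Projectivization.mk K ![1, 0] vec10_ne
noncomputable def E2 : P1 K := Projectivization.mk K ![0, 1] vec01_ne
noncomputable def E3 : P1 K := Projectivization.mk K ![1, 1] vec11_ne

lemma E1_ne_E2 : (E1 : P1 K) ≠ E2 := by
  unfold E1 E2; rw [Ne, mk_eq_mk_iff_dt]; simp [dt]

lemma E1_ne_E3 : (E1 : P1 K) ≠ E3 := by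
  unfold E1 E3; rw [Ne, mk_eq_mk_iff_dt]; simp [dt]

lemma E2_ne_E3 : (E2 : P1 K) ≠ E3 := by
  unfold E2 E3; rw [Ne, mk_eq_mk_iff_dt]; simp [dt]

/-- the frame matrix. -/
def frameMat (u1 u2 u3 : Fin 2 → K) : Matrix (Fin 2) (Fin 2) K :=
  !![dt u3 u2 * u1 0, dt u1 u3 * u2 0; dt u3 u2 * u1 1, dt u1 u3 * u2 1]

lemma det_frameMat (u1 u2 u3 : Fin 2 → K) :
    (frameMat u1 u2 u3).det = dt u3 u2 * dt u1 u3 * dt u1 u2 := by
  simp only [frameMat, Matrix.det_fin_two_of, dt]
  ring

lemma frameMat_mulVec_10 (u1 u2 u3 : Fin 2 → K) :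
    frameMat u1 u2 u3 *ᵥ ![1, 0] = dt u3 u2 • u1 := by
  ext i; fin_cases i <;> simp [frameMat, Matrix.mulVec, dotProduct, Fin.sum_univ_two]

lemma frameMat_mulVec_01 (u1 u2 u3 : Fin 2 → K) :
    frameMat u1 u2 u3 *ᵥ ![0, 1] = dt u1 u3 • u2 := by
  ext i; fin_cases i <;> simp [frameMat, Matrix.mulVec, dotProduct, Fin.sum_univ_two]

lemma frameMat_mulVec_11 (u1 u2 u3 : Fin 2 → K) :
    frameMat u1 u2 u3 *ᵥ ![1, 1] = dt u1 u2 • u3 := by
  ext i; fin_cases i <;>
    simp [frameMat, Matrix.mulVec, dotProduct, Fin.sum_univ_two, dt] <;> ring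

lemma mk_smul_eq (a : K) (ha : a ≠ 0) (v : Fin 2 → K) (hv : v ≠ 0) (hav : a • v ≠ 0) :
    Projectivization.mk K (a • v) hav = Projectivization.mk K v hv := by
  rw [Projectivization.mk_eq_mk_iff']
  exact ⟨a, rfl⟩

theorem exists_frame (p1 p2 p3 : P1 K) (h12 : p1 ≠ p2) (h13 : p1 ≠ p3) (h23 : p2 ≠ p3) :
    ∃ H : GL (Fin 2) K, act H E1 = p1 ∧ act H E2 = p2 ∧ act H E3 = p3 := by
  induction p1 using Projectivization.ind with | h u1 hu1 => ?_
  induction p2 using Projectivization.ind with | h u2 hu2 => ?_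
  induction p3 using Projectivization.ind with | h u3 hu3 => ?_
  rw [Ne, mk_eq_mk_iff_dt] at h12 h13 h23
  have h32 : dt u3 u2 ≠ 0 := by
    intro h; apply h23; unfold dt at h ⊢; linear_combination -h
  have hdet : (frameMat u1 u2 u3).det ≠ 0 := by
    rw [det_frameMat]
    exact mul_ne_zero (mul_ne_zero h32 h13) h12
  refine ⟨Matrix.GeneralLinearGroup.mkOfDetNeZero _ hdet, ?_, ?_, ?_⟩
  · unfold E1
    rw [act_mk]
    have : (Matrix.GeneralLinearGroup.mkOfDetNeZero _ hdet).1 = frameMat u1 u2 u3 := rfl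
    simp only [this, frameMat_mulVec_10]
    exact mk_smul_eq _ h32 _ hu1 _
  · unfold E2
    rw [act_mk]
    have : (Matrix.GeneralLinearGroup.mkOfDetNeZero _ hdet).1 = frameMat u1 u2 u3 := rfl
    simp only [this, frameMat_mulVec_01]
    exact mk_smul_eq _ h13 _ hu2 _
  · unfold E3
    rw [act_mk]
    have : (Matrix.GeneralLinearGroup.mkOfDetNeZero _ hdet).1 = frameMat u1 u2 u3 := rfl
    simp only [this, frameMat_mulVec_11]
    exact mk_smul_eq _ h12 _ hu3 _

theorem scalar_of_fix_frame (h : GL (Fin 2) K) (h1 : act h E1 = E1) (h2 : act h E2 = E2)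
    (h3 : act h E3 = E3) : ∃ c : K, h.1 = c • (1 : Matrix (Fin 2) (Fin 2) K) := by
  unfold E1 at h1
  unfold E2 at h2
  unfold E3 at h3
  rw [act_mk, mk_eq_mk_iff_dt] at h1 h2 h3
  simp only [dt, Matrix.mulVec, dotProduct, Fin.sum_univ_two, Matrix.cons_val_zero,
    Matrix.cons_val_one] at h1 h2 h3
  refine ⟨h.1 0 0, ?_⟩
  ext i j
  fin_cases i <;> fin_cases j
  · simp
  · simp only [Fin.zero_eta, Fin.mk_one, Matrix.smul_apply, smul_eq_mul]
    rw [Matrix.one_apply_ne (by decide), mul_zero]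
    linear_combination h2
  · simp only [Fin.zero_eta, Fin.mk_one, Matrix.smul_apply, smul_eq_mul]
    rw [Matrix.one_apply_ne (by decide), mul_zero]
    linear_combination -h1
  · simp only [Fin.mk_one, Matrix.smul_apply, smul_eq_mul, Matrix.one_apply_eq, mul_one]
    linear_combination -h3 + h2 + h1

theorem scalar_of_fix_three (h : GL (Fin 2) K) (p1 p2 p3 : P1 K) (h12 : p1 ≠ p2) (h13 : p1 ≠ p3)
    (h23 : p2 ≠ p3) (h1 : act h p1 = p1) (h2 : act h p2 = p2) (h3 : act h p3 = p3) :
    ∃ c : K, h.1 = c • (1 : Matrix (Fin 2) (Fin 2) K) := by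
  obtain ⟨H, rfl, rfl, rfl⟩ := exists_frame p1 p2 p3 h12 h13 h23
  obtain ⟨c, hc⟩ := scalar_of_fix_frame (H⁻¹ * h * H)
    (by rw [act_mul, act_mul, h1, act_inv_act])
    (by rw [act_mul, act_mul, h2, act_inv_act])
    (by rw [act_mul, act_mul, h3, act_inv_act])
  refine ⟨c, ?_⟩
  have e : h = H * (H⁻¹ * h * H) * H⁻¹ := by group
  rw [e, Units.val_mul, Units.val_mul, hc, Matrix.mul_smul, Matrix.mul_one, Matrix.smul_mul,
    ← Units.val_mul, mul_inv_cancel, Units.val_one]

theorem exists_act_eq (p1 p2 p3 q1 q2 q3 : P1 K) (h12 : p1 ≠ p2) (h13 : p1 ≠ p3) (h23 : p2 ≠ p3)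
    (k12 : q1 ≠ q2) (k13 : q1 ≠ q3) (k23 : q2 ≠ q3) :
    ∃ h : GL (Fin 2) K, act h p1 = q1 ∧ act h p2 = q2 ∧ act h p3 = q3 := by
  obtain ⟨H, rfl, rfl, rfl⟩ := exists_frame p1 p2 p3 h12 h13 h23
  obtain ⟨H', rfl, rfl, rfl⟩ := exists_frame q1 q2 q3 k12 k13 k23
  exact ⟨H' * H⁻¹, by rw [act_mul, act_inv_act], by rw [act_mul, act_inv_act],
    by rw [act_mul, act_inv_act]⟩

theorem smul_of_agree_three (h h' : GL (Fin 2) K) (p1 p2 p3 : P1 K) (h12 : p1 ≠ p2)
    (h13 : p1 ≠ p3) (h23 : p2 ≠ p3) (h1 : act h' p1 = act h p1) (h2 : act h' p2 = act h p2)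
    (h3 : act h' p3 = act h p3) :
    ∃ c : K, h'.1 = c • h.1 := by
  obtain ⟨c, hc⟩ := scalar_of_fix_three (h⁻¹ * h') p1 p2 p3 h12 h13 h23
    (by rw [act_mul, h1, act_inv_act]) (by rw [act_mul, h2, act_inv_act])
    (by rw [act_mul, h3, act_inv_act])
  refine ⟨c, ?_⟩
  have e : h' = h * (h⁻¹ * h') := by group
  rw [e, Units.val_mul, hc, Matrix.mul_smul, Matrix.mul_one]

end Frame

section Galois

variable {k K : Type u} [Field k] [Field K] [Algebra k K]

/-- the Galois action on matrices. -/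
noncomputable def gmap (σ : K ≃ₐ[k] K) (h : GL (Fin 2) K) : GL (Fin 2) K :=
  Matrix.GeneralLinearGroup.map ((σ : K ≃ₐ[k] K) : K →+* K) h

lemma gmap_val (σ : K ≃ₐ[k] K) (h : GL (Fin 2) K) (i j : Fin 2) :
    (gmap σ h).1 i j = σ (h.1 i j) := rfl

lemma galVec_ne_zero (σ : K ≃ₐ[k] K) {v : Fin 2 → K} (hv : v ≠ 0) : galVec σ (Fin 2) v ≠ 0 := by
  intro h
  apply hv
  apply galVec_injective σ (Fin 2)
  rw [h, map_zero]

lemma galP_mk (σ : K ≃ₐ[k] K) (v : Fin 2 → K) (hv : v ≠ 0) :
    galP σ (Projectivization.mk K v hv) =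
      Projectivization.mk K (galVec σ (Fin 2) v) (galVec_ne_zero σ hv) := by
  unfold galP
  rw [Projectivization.map_mk]

theorem galP_act (σ : K ≃ₐ[k] K) (h : GL (Fin 2) K) (x : P1 K) :
    galP σ (act h x) = act (gmap σ h) (galP σ x) := by
  induction x using Projectivization.ind with | h v hv => ?_
  rw [act_mk, galP_mk, galP_mk, act_mk]
  congr 1
  ext i
  rw [galVec_apply]
  have := RingHom.map_mulVec ((σ : K ≃ₐ[k] K) : K →+* K) h.1 v i
  exact this

lemma galP_E1 (σ : K ≃ₐ[k] K) : galP σ (E1 : P1 K) = E1 := by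
  unfold E1
  rw [galP_mk]
  congr 1
  ext i
  fin_cases i <;> simp [galVec_apply]

lemma galP_E2 (σ : K ≃ₐ[k] K) : galP σ (E2 : P1 K) = E2 := by
  unfold E2
  rw [galP_mk]
  congr 1
  ext i
  fin_cases i <;> simp [galVec_apply]

lemma galP_E3 (σ : K ≃ₐ[k] K) : galP σ (E3 : P1 K) = E3 := by
  unfold E3
  rw [galP_mk]
  congr 1
  ext i
  fin_cases i <;> simp [galVec_apply]

lemma galP_symm_galP (σ : K ≃ₐ[k] K) (x : P1 K) : galP σ (galP σ.symm x) = x := by
  induction x using Projectivization.ind with | h v hv => ?_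
  rw [galP_mk, galP_mk]
  congr 1
  ext i
  simp [galVec_apply]

/-- scalar multiples act in the same way. -/
lemma act_eq_of_smul (h h' : GL (Fin 2) K) (c : K) (hc : h'.1 = c • h.1) (x : P1 K) :
    act h' x = act h x := by
  have hc0 : c ≠ 0 := by
    rintro rfl
    rw [zero_smul] at hc
    have h1 : (h' * h'⁻¹).1 = 1 := by rw [mul_inv_cancel, Units.val_one]
    rw [Units.val_mul, hc, Matrix.zero_mul] at h1
    exact zero_ne_one h1
  induction x using Projectivization.ind with | h v hv => ?_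
  rw [act_mk, act_mk, Projectivization.mk_eq_mk_iff']
  refine ⟨c, ?_⟩
  rw [hc, Matrix.smul_mulVec]

variable [FiniteDimensional k K] [IsGalois k K]

theorem descent (h : GL (Fin 2) K) (hσ : ∀ σ : K ≃ₐ[k] K, ∃ c : K, (gmap σ h).1 = c • h.1) :
    ∃ (g : GL (Fin 2) k) (c : K),
      (Matrix.GeneralLinearGroup.map (algebraMap k K) g).1 = c • h.1 := by
  -- a nonzero entry
  have hex : ∃ i j, h.1 i j ≠ 0 := by
    by_contra hcon
    push Not at hcon
    have h0 : h.1 = 0 := by ext i j; exact hcon i j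
    have h1 : (h * h⁻¹).1 = 1 := by rw [mul_inv_cancel, Units.val_one]
    rw [Units.val_mul, h0, Matrix.zero_mul] at h1
    exact zero_ne_one h1
  obtain ⟨i, j, ha⟩ := hex
  set a := h.1 i j with hadef
  set m : Matrix (Fin 2) (Fin 2) K := a⁻¹ • h.1 with hm
  have hfix : ∀ (σ : K ≃ₐ[k] K) (i' j' : Fin 2), σ (m i' j') = m i' j' := by
    intro σ i' j'
    obtain ⟨c, hc⟩ := hσ σ
    have hca : σ a = c * a := by
      have := congrFun (congrFun hc i) j
      rw [gmap_val, Matrix.smul_apply, smul_eq_mul] at this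
      exact this
    have hc0 : c ≠ 0 := by
      rintro rfl
      rw [zero_mul] at hca
      exact ha ((map_eq_zero σ).mp hca)
    have hce : σ (h.1 i' j') = c * h.1 i' j' := by
      have := congrFun (congrFun hc i') j'
      rw [gmap_val, Matrix.smul_apply, smul_eq_mul] at this
      exact this
    rw [hm, Matrix.smul_apply, smul_eq_mul, map_mul, map_inv₀, hca, hce]
    field_simp
  have hrange : ∀ i' j', ∃ r : k, algebraMap k K r = m i' j' := by
    intro i' j'
    exact (IsGalois.mem_range_algebraMap_iff_fixed (F := k) (E := K) (m i' j')).mpr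
      (fun σ => hfix σ i' j')
  choose r hr using hrange
  set g₀ : Matrix (Fin 2) (Fin 2) k := Matrix.of r with hg₀
  have hmap : g₀.map (algebraMap k K) = m := by
    ext i' j'
    rw [Matrix.map_apply, hg₀, Matrix.of_apply, hr]
  have hdetm : m.det ≠ 0 := by
    rw [hm, Matrix.det_smul]
    apply mul_ne_zero (pow_ne_zero _ (inv_ne_zero ha))
    have : IsUnit h.1.det := (Matrix.isUnit_iff_isUnit_det _).mp h.isUnit
    exact this.ne_zero
  have hdet : g₀.det ≠ 0 := by
    intro h0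
    apply hdetm
    rw [← hmap, ← RingHom.mapMatrix_apply, ← RingHom.map_det, h0, map_zero]
  refine ⟨Matrix.GeneralLinearGroup.mkOfDetNeZero g₀ hdet, a⁻¹, ?_⟩
  ext i' j'
  rw [Matrix.GeneralLinearGroup.map_apply]
  change algebraMap k K (g₀ i' j') = _
  rw [← Matrix.map_apply (f := algebraMap k K), hmap]

/-- the case of exactly three points. -/
theorem main_three (p1 p2 p3 : P1 K) (h12 : p1 ≠ p2) (h13 : p1 ≠ p3) (h23 : p2 ≠ p3)
    (hS : ∀ (σ : K ≃ₐ[k] K) (x : P1 K), x ∈ ({p1, p2, p3} : Set (P1 K)) →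
      galP σ x ∈ ({p1, p2, p3} : Set (P1 K)))
    (B : P1 K → P1 K) (hinj : Set.InjOn B ({p1, p2, p3} : Set (P1 K)))
    (hB : ∀ (σ : K ≃ₐ[k] K), ∀ x ∈ ({p1, p2, p3} : Set (P1 K)), B (galP σ x) = galP σ (B x)) :
    ∃ g : GL (Fin 2) k, ∀ x ∈ ({p1, p2, p3} : Set (P1 K)),
      act (Matrix.GeneralLinearGroup.map (algebraMap k K) g) x = B x := by
  have m1 : p1 ∈ ({p1, p2, p3} : Set (P1 K)) := by simp
  have m2 : p2 ∈ ({p1, p2, p3} : Set (P1 K)) := by simp
  have m3 : p3 ∈ ({p1, p2, p3} : Set (P1 K)) := by simp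
  obtain ⟨h, e1, e2, e3⟩ := exists_act_eq p1 p2 p3 (B p1) (B p2) (B p3) h12 h13 h23
    (fun e => h12 (hinj m1 m2 e)) (fun e => h13 (hinj m1 m3 e)) (fun e => h23 (hinj m2 m3 e))
  have hall : ∀ x ∈ ({p1, p2, p3} : Set (P1 K)), act h x = B x := by
    intro x hx
    rcases hx with rfl | rfl | rfl
    · exact e1
    · exact e2
    · exact e3
  have hσ : ∀ σ : K ≃ₐ[k] K, ∃ c : K, (gmap σ h).1 = c • h.1 := by
    intro σ
    have hag : ∀ x ∈ ({p1, p2, p3} : Set (P1 K)), act (gmap σ h) x = act h x := by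
      intro x hx
      have hy : galP σ.symm x ∈ ({p1, p2, p3} : Set (P1 K)) := hS σ.symm x hx
      have hxy : x = galP σ (galP σ.symm x) := (galP_symm_galP σ x).symm
      rw [hall x hx]
      conv_lhs => rw [hxy]
      rw [← galP_act, hall _ hy, ← hB σ _ hy, ← hxy]
    exact smul_of_agree_three h (gmap σ h) p1 p2 p3 h12 h13 h23 (hag p1 m1) (hag p2 m2) (hag p3 m3)
  obtain ⟨g, c, hg⟩ := descent h hσ
  refine ⟨g, fun x hx => ?_⟩
  rw [act_eq_of_smul h _ c hg x, hall x hx]

/-- the general case, by adding rational points. -/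
theorem main : ∀ (n : ℕ) (S : Set (P1 K)), S.Finite → S.ncard + n = 3 →
    (∀ (σ : K ≃ₐ[k] K) (x : P1 K), x ∈ S → galP σ x ∈ S) →
    ∀ B : P1 K → P1 K, Set.InjOn B S →
    (∀ (σ : K ≃ₐ[k] K), ∀ x ∈ S, B (galP σ x) = galP σ (B x)) →
    ∃ g : GL (Fin 2) k, ∀ x ∈ S,
      act (Matrix.GeneralLinearGroup.map (algebraMap k K) g) x = B x := by
  intro n
  induction n with
  | zero =>
    intro S hfin hcard hS B hinj hB
    rw [add_zero] at hcard
    obtain ⟨p1, p2, p3, h12, h13, h23, rfl⟩ := Set.ncard_eq_three.mp hcard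
    exact main_three p1 p2 p3 h12 h13 h23 hS B hinj hB
  | succ n ih =>
    intro S hfin hcard hS B hinj hB
    classical
    have hlt : S.ncard < 3 := by omega
    have h3 : ({E1, E2, E3} : Set (P1 K)).ncard = 3 :=
      Set.ncard_eq_three.mpr ⟨E1, E2, E3, E1_ne_E2, E1_ne_E3, E2_ne_E3, rfl⟩
    -- a rational point outside `S`
    have hex : ∃ e ∈ ({E1, E2, E3} : Set (P1 K)), e ∉ S := by
      by_contra hcon
      push Not at hcon
      have hsub : ({E1, E2, E3} : Set (P1 K)) ⊆ S := hcon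
      have := Set.ncard_le_ncard hsub hfin
      omega
    have himfin : (B '' S).Finite := hfin.image B
    have himcard : (B '' S).ncard = S.ncard := hinj.ncard_image
    have hex' : ∃ e' ∈ ({E1, E2, E3} : Set (P1 K)), e' ∉ B '' S := by
      by_contra hcon
      push Not at hcon
      have hsub : ({E1, E2, E3} : Set (P1 K)) ⊆ B '' S := hcon
      have := Set.ncard_le_ncard hsub himfin
      omega
    obtain ⟨e, he, heS⟩ := hex
    obtain ⟨e', he', heS'⟩ := hex'
    have hrat : ∀ y ∈ ({E1, E2, E3} : Set (P1 K)), ∀ σ : K ≃ₐ[k] K, galP σ y = y := by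
      intro y hy σ
      rcases hy with rfl | rfl | rfl
      · exact galP_E1 σ
      · exact galP_E2 σ
      · exact galP_E3 σ
    have hBne : ∀ x ∈ S, Function.update B e e' x = B x := by
      intro x hx
      rw [Function.update_of_ne]
      rintro rfl
      exact heS hx
    obtain ⟨g, hg⟩ := ih (insert e S) (hfin.insert e)
      (by rw [Set.ncard_insert_of_notMem heS hfin]; omega)
      (by
        intro σ x hx
        rcases hx with rfl | hx
        · rw [hrat _ he σ]; exact Set.mem_insert _ _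
        · exact Set.mem_insert_of_mem _ (hS σ x hx))
      (Function.update B e e')
      (by
        intro x hx y hy hxy
        rcases hx with rfl | hx <;> rcases hy with rfl | hy
        · rfl
        · exfalso
          rw [Function.update_self, hBne y hy] at hxy
          exact heS' ⟨y, hy, hxy.symm⟩
        · exfalso
          rw [Function.update_self, hBne x hx] at hxy
          exact heS' ⟨x, hx, hxy⟩
        · rw [hBne x hx, hBne y hy] at hxy
          exact hinj hx hy hxy)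
      (by
        intro σ x hx
        rcases hx with rfl | hx
        · rw [hrat _ he σ, Function.update_self, hrat _ he' σ]
        · rw [hBne _ (hS σ x hx), hBne x hx]
          exact hB σ x hx)
    refine ⟨g, fun x hx => ?_⟩
    rw [hg x (Set.mem_insert_of_mem _ hx), hBne x hx]

end Galois

end Groth.Agent.Lib.Helper59.P1Galois
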