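import Mathlib

/-!
# Embedding `k[[t₁,t₂]]_(t₁)` into a complete DVR with algebraically closed residue field (helper59)
-/

set_option autoImplicit false
universe u

namespace Groth.Agent.Lib.Helper59.PowSerDVREmb

open PowerSeries

variable (k : Type u) [Field k]

abbrev S1 := MvPowerSeries (Fin 1) k
abbrev Om := AlgebraicClosure (FractionRing (S1 k))

noncomputable def iota : S1 k →+* Om k :=
  (algebraMap (FractionRing (S1 k)) (Om k)).comp (algebraMap (S1 k) (FractionRing (S1 k)))

theorem iota_injective : Function.Injective (iota k) :=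
  (algebraMap (FractionRing (S1 k)) (Om k)).injective.comp
    (IsFractionRing.injective (S1 k) (FractionRing (S1 k)))

/-- the embedding `k[[t₁,t₂]] → Ω[[t₁]]` -/
noncomputable def psi : MvPowerSeries (Fin 2) k →+* PowerSeries (Om k) :=
  (PowerSeries.map (iota k)).comp (MvPowerSeries.finSuccEquiv k 1).toRingEquiv.toRingHom

theorem map_iota_injective : Function.Injective (PowerSeries.map (iota k)) := by
  intro f g h
  refine PowerSeries.ext fun n => ?_
  have := congrArg (PowerSeries.coeff n) h
  rw [PowerSeries.coeff_map, PowerSeries.coeff_map] at this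
  exact iota_injective k this

theorem psi_apply (y : MvPowerSeries (Fin 2) k) :
    psi k y = PowerSeries.map (iota k) (MvPowerSeries.finSuccEquiv k 1 y) := rfl

theorem psi_injective : Function.Injective (psi k) := by
  intro a b h
  rw [psi_apply, psi_apply] at h
  exact (MvPowerSeries.finSuccEquiv k 1).injective (map_iota_injective k h)

theorem psi_X0 : psi k (MvPowerSeries.X 0) = PowerSeries.X := by
  rw [psi_apply, MvPowerSeries.finSuccEquiv_X_zero, PowerSeries.map_X]

theorem isUnit_psi_of_not_mem {y : MvPowerSeries (Fin 2) k}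
    (hy : y ∉ Ideal.span {(MvPowerSeries.X 0 : MvPowerSeries (Fin 2) k)}) :
    IsUnit (psi k y) := by
  rw [PowerSeries.isUnit_iff_constantCoeff]
  rw [isUnit_iff_ne_zero]
  intro h0
  apply hy
  have h1 : PowerSeries.constantCoeff (MvPowerSeries.finSuccEquiv k 1 y) = 0 := by
    have : PowerSeries.constantCoeff (psi k y) =
        iota k (PowerSeries.constantCoeff (MvPowerSeries.finSuccEquiv k 1 y)) := by
      rw [psi_apply, ← PowerSeries.coeff_zero_eq_constantCoeff_apply, PowerSeries.coeff_map,
        PowerSeries.coeff_zero_eq_constantCoeff_apply]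
    rw [this] at h0
    exact iota_injective k (by rw [h0, map_zero])
  rw [← PowerSeries.X_dvd_iff] at h1
  obtain ⟨z, hz⟩ := h1
  rw [Ideal.mem_span_singleton]
  refine ⟨(MvPowerSeries.finSuccEquiv k 1).symm z, ?_⟩
  apply (MvPowerSeries.finSuccEquiv k 1).injective
  rw [map_mul, MvPowerSeries.finSuccEquiv_X_zero, AlgEquiv.apply_symm_apply, hz]

theorem not_isUnit_psi_of_mem {y : MvPowerSeries (Fin 2) k}
    (hy : y ∈ Ideal.span {(MvPowerSeries.X 0 : MvPowerSeries (Fin 2) k)}) :
    ¬ IsUnit (psi k y) := by
  rw [Ideal.mem_span_singleton] at hy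
  obtain ⟨z, rfl⟩ := hy
  rw [map_mul, psi_X0]
  intro h
  have := isUnit_of_mul_isUnit_left h
  exact PowerSeries.X_irreducible.not_isUnit this

theorem main (k : Type u) [Field k]
    (P : Ideal (MvPowerSeries (Fin 2) k))
    (hP : P = Ideal.span {(MvPowerSeries.X 0 : MvPowerSeries (Fin 2) k)}) [P.IsPrime] :
    ∃ (A : Type u) (_ : CommRing A) (_ : IsDomain A) (_ : IsDiscreteValuationRing A)
      (_ : Algebra k A) (φ : Localization.AtPrime P →ₐ[k] A),
      IsAdicComplete (IsLocalRing.maximalIdeal A) A ∧ IsAlgClosed (IsLocalRing.ResidueField A) ∧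
        Function.Injective φ ∧ IsLocalHom φ.toRingHom ∧
          Irreducible (φ (algebraMap (MvPowerSeries (Fin 2) k) (Localization.AtPrime P)
            (MvPowerSeries.X 0))) := by
  letI alg : Algebra k (PowerSeries (Om k)) :=
    ((psi k).comp (algebraMap k (MvPowerSeries (Fin 2) k))).toAlgebra
  let ψ : MvPowerSeries (Fin 2) k →ₐ[k] PowerSeries (Om k) :=
    { psi k with commutes' := fun c => rfl }
  have hψ : ∀ y, ψ y = psi k y := fun y => rfl
  have hunit : ∀ y : P.primeCompl, IsUnit (ψ y) := fun y =>
    isUnit_psi_of_not_mem k (by rw [← hP]; exact y.2)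
  let φ : Localization.AtPrime P →ₐ[k] PowerSeries (Om k) :=
    IsLocalization.liftAlgHom (M := P.primeCompl) hunit
  have hφ : ∀ x, φ (algebraMap (MvPowerSeries (Fin 2) k) (Localization.AtPrime P) x) = psi k x := by
    intro x
    exact IsLocalization.lift_eq (M := P.primeCompl) hunit x
  refine ⟨PowerSeries (Om k), inferInstance, inferInstance, inferInstance, alg, φ, ?_, ?_, ?_, ?_, ?_⟩
  · rw [PowerSeries.maximalIdeal_eq_span_X]; infer_instance
  · exact IsAlgClosed.of_ringEquiv (k := Om k) _
      (PowerSeries.residueFieldOfPowerSeries (k := Om k)).symm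
  · change Function.Injective (IsLocalization.lift (M := P.primeCompl) hunit)
    rw [IsLocalization.lift_injective_iff]
    intro x y
    constructor
    · intro h; exact congrArg _ (IsLocalization.injective (Localization.AtPrime P)
        P.primeCompl_le_nonZeroDivisors h)
    · intro h
      exact congrArg _ (psi_injective k h)
  · refine ⟨fun a ha => ?_⟩
    obtain ⟨x, s, rfl⟩ := IsLocalization.exists_mk'_eq P.primeCompl a
    have h1 : φ (IsLocalization.mk' (Localization.AtPrime P) x s) * psi k s = psi k x := by
      rw [← hφ, ← hφ, ← map_mul, IsLocalization.mk'_spec]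
    have h2 : IsUnit (psi k x) := by
      rw [← h1]; exact ha.mul (hunit s)
    have hx : x ∈ P.primeCompl := by
      intro hx
      exact not_isUnit_psi_of_mem k (by rw [← hP]; exact hx) h2
    have h3 : IsUnit (algebraMap (MvPowerSeries (Fin 2) k) (Localization.AtPrime P) x) :=
      IsLocalization.map_units (Localization.AtPrime P) ⟨x, hx⟩
    have h4 : IsLocalization.mk' (Localization.AtPrime P) x s *
        algebraMap (MvPowerSeries (Fin 2) k) (Localization.AtPrime P) s =
        algebraMap (MvPowerSeries (Fin 2) k) (Localization.AtPrime P) x :=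
      IsLocalization.mk'_spec _ x s
    exact isUnit_of_mul_isUnit_left (h4 ▸ h3)
  · rw [hφ, psi_X0]
    exact PowerSeries.X_irreducible

end Groth.Agent.Lib.Helper59.PowSerDVREmb
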