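import Mathlib
import Groth.Agent.Lib.Helper59.EtaleHoms

/-!
# Counting primitive elements `c • z + t` of a finite étale algebra generated by `z, t`
-/

set_option autoImplicit false
universe u
open Module

namespace Groth.Agent.Lib.Helper59.PrimEltCount

open Groth.Agent.Lib.Helper59.EtaleHoms

lemma arith (d : ℕ) : d * d - d < d ^ (4 * d) := by
  rcases Nat.eq_zero_or_pos d with rfl | hd
  · simp
  · have h1 : d * d ≤ d ^ (4 * d) := by
      calc d * d = d ^ 2 := (sq d).symm
        _ ≤ d ^ (4 * d) := Nat.pow_le_pow_right hd (by omega)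
    have h2 : 0 < d * d := Nat.mul_pos hd hd
    omega

variable {K L : Type u} [Field K] [CommRing L] [Algebra K L]

/-- a pair of distinct homomorphisms agrees on `c • z + t` for at most one `c` -/
lemma unique_bad {Ω : Type u} [Field Ω] [Algebra K Ω] (z t : L)
    (hgen : Algebra.adjoin K ({z, t} : Set L) = ⊤) {σ τ : L →ₐ[K] Ω} (hne : σ ≠ τ) {c c' : K}
    (h : σ (c • z + t) = τ (c • z + t)) (h' : σ (c' • z + t) = τ (c' • z + t)) : c = c' := by
  simp only [map_add, map_smul] at h h'
  by_cases hz : σ z = τ z
  · exfalso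
    apply hne
    have ht : σ t = τ t := by
      rw [hz] at h
      exact add_left_cancel h
    apply AlgHom.ext_of_adjoin_eq_top hgen
    intro x hx
    rcases hx with rfl | rfl
    · exact hz
    · exact ht
  · have hsub : (c - c') • (σ z - τ z) = 0 := by
      rw [sub_smul, smul_sub, smul_sub]
      have e1 : c • σ z - c • τ z = τ t - σ t := by
        rw [sub_eq_sub_iff_add_eq_add]
        rw [h]
        ring
      have e2 : c' • σ z - c' • τ z = τ t - σ t := by
        rw [sub_eq_sub_iff_add_eq_add]
        rw [h']
        ring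
      rw [e1, e2, sub_self]
    rcases smul_eq_zero.1 hsub with h0 | h0
    · exact sub_eq_zero.1 h0
    · exact absurd (sub_eq_zero.1 h0) hz

variable [Module.Finite K L] [IsReduced L] [Algebra.IsSeparable K L]

theorem main (z t : L) (hgen : Algebra.adjoin K ({z, t} : Set L) = ⊤) (S : Finset K)
    (hS : finrank K L ^ (4 * finrank K L) ≤ S.card) :
    ∃ c ∈ S, Algebra.adjoin K ({c • z + t} : Set L) = ⊤ := by
  classical
  set Ω := AlgebraicClosure K with hΩ
  haveI : Fintype (L →ₐ[K] Ω) := Fintype.ofFinite _
  set d := finrank K L with hd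
  have hge : d ≤ Fintype.card (L →ₐ[K] Ω) := by
    rw [Fintype.card_eq_nat_card]
    exact finrank_le_card K L Ω
  have hle : Fintype.card (L →ₐ[K] Ω) ≤ d := by
    rw [Fintype.card_eq_nat_card]
    exact card_algHom_le_finrank K L Ω
  have hcard : Fintype.card (L →ₐ[K] Ω) = d := le_antisymm hle hge
  -- the bad values
  let g : (L →ₐ[K] Ω) × (L →ₐ[K] Ω) → K := fun p =>
    if h : ∃ c : K, p.1 (c • z + t) = p.2 (c • z + t) then h.choose else 0
  set B' : Finset K := (Finset.univ : Finset (L →ₐ[K] Ω)).offDiag.image g with hB'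
  have hB'card : B'.card < S.card := by
    calc B'.card ≤ (Finset.univ : Finset (L →ₐ[K] Ω)).offDiag.card := Finset.card_image_le
      _ = d * d - d := by rw [Finset.offDiag_card, Finset.card_univ, hcard]
      _ < d ^ (4 * d) := arith d
      _ ≤ S.card := hS
  obtain ⟨c, hcS, hcB⟩ := Finset.exists_mem_notMem_of_card_lt_card hB'card
  refine ⟨c, hcS, ?_⟩
  set w := c • z + t with hw
  have hinj : Function.Injective (fun σ : L →ₐ[K] Ω => σ w) := by
    intro σ τ hστ
    by_contra hne
    apply hcB
    rw [hB', Finset.mem_image]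
    refine ⟨(σ, τ), ?_, ?_⟩
    · rw [Finset.mem_offDiag]
      exact ⟨Finset.mem_univ _, Finset.mem_univ _, hne⟩
    · have hex : ∃ c : K, σ (c • z + t) = τ (c • z + t) := ⟨c, hστ⟩
      have : g (σ, τ) = hex.choose := dif_pos hex
      rw [this]
      exact unique_bad z t hgen hne hex.choose_spec hστ
  have hwint : IsIntegral K w := Algebra.IsIntegral.isIntegral w
  have hdeg : d ≤ (minpoly K w).natDegree := by
    by_contra hlt
    push Not at hlt
    set P := (minpoly K w).map (algebraMap K Ω) with hP
    have hPmonic : P.Monic := (minpoly.monic hwint).map _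
    have hP0 : P = 0 := by
      refine Polynomial.eq_zero_of_natDegree_lt_card_of_eval_eq_zero P hinj ?_ ?_
      · intro σ
        rw [hP, Polynomial.eval_map_algebraMap, Polynomial.aeval_algHom_apply, minpoly.aeval,
          map_zero]
      · rw [hcard]
        exact lt_of_le_of_lt (Polynomial.natDegree_map_le) hlt
    exact hPmonic.ne_zero hP0
  have hfin : finrank K (Algebra.adjoin K ({w} : Set L)) = (minpoly K w).natDegree := by
    rw [(Algebra.adjoin.powerBasis hwint).finrank, Algebra.adjoin.powerBasis_dim]
  have hfr : finrank K (Algebra.adjoin K ({w} : Set L)) = finrank K L := by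
    apply le_antisymm
    · rw [← Subalgebra.finrank_toSubmodule]
      exact Submodule.finrank_le _
    · rw [hfin]
      exact hdeg
  exact Algebra.toSubmodule_eq_top.1 (Submodule.eq_top_of_finrank_eq
    ((Subalgebra.finrank_toSubmodule _).trans hfr))

end Groth.Agent.Lib.Helper59.PrimEltCount
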