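import Mathlib

/-!
# Uniform bound on the number of nonzero summands of a Noetherian module (helper59)
-/

set_option autoImplicit false

universe u v w

namespace Groth.Agent.Lib.Helper59.SummandBound

variable {R : Type u} [CommRing R] {M : Type v} [AddCommGroup M] [Module R M]

/-- in an independent family, a finite sum of members vanishes only if all terms vanish. -/
lemma eq_zero_of_sum_eq_zero {ι : Type w} [DecidableEq ι] {N : ι → Submodule R M}
    (hN : iSupIndep N) (s : Finset ι) (m : ι → M) (hm : ∀ i ∈ s, m i ∈ N i)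
    (hsum : ∑ i ∈ s, m i = 0) : ∀ i ∈ s, m i = 0 := by
  intro i hi
  have h1 : m i = -∑ j ∈ s.erase i, m j := by
    rw [← Finset.add_sum_erase s m hi] at hsum
    exact eq_neg_of_add_eq_zero_left hsum
  have h2 : m i ∈ ⨆ (j : ι) (_ : j ≠ i), N j := by
    rw [h1]
    apply Submodule.neg_mem
    apply Submodule.sum_mem
    intro j hj
    have hji : j ≠ i := Finset.ne_of_mem_erase hj
    exact Submodule.mem_iSup_of_mem j (Submodule.mem_iSup_of_mem hji
      (hm j (Finset.mem_of_mem_erase hj)))
  have h3 := (hN i).le_bot ⟨hm i hi, h2⟩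
  exact (Submodule.mem_bot R).mp h3

/-- elementwise independence of a family of submodules. -/
def SumIndep {ι : Type w} [DecidableEq ι] (N : ι → Submodule R M) : Prop :=
  ∀ (s : Finset ι) (m : ι → M), (∀ i ∈ s, m i ∈ N i) → ∑ i ∈ s, m i = 0 → ∀ i ∈ s, m i = 0

lemma sumIndep_of_iSupIndep {ι : Type w} [DecidableEq ι] {N : ι → Submodule R M}
    (hN : iSupIndep N) : SumIndep N :=
  fun s m hm hsum => eq_zero_of_sum_eq_zero hN s m hm hsum

/-- members of an independent family containing an element with annihilator `p` are bounded. -/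
lemma card_le_finrank [IsNoetherianRing R] [Module.Finite R M] (p : Ideal R) [p.IsPrime]
    {ι : Type w} [DecidableEq ι] {N : ι → Submodule R M} (hN : SumIndep N) :
    ∃ s : Finset ι, s.card ≤ Module.finrank (R ⧸ p) (Submodule.torsionBySet R M p) ∧
      ∀ i, (∃ x ∈ N i, ∀ r : R, r • x = 0 ↔ r ∈ p) → i ∈ s := by
  classical
  let S : Set ι := {i | ∃ x ∈ N i, ∀ r : R, r • x = 0 ↔ r ∈ p}
  have hS : ∀ i : S, ∃ x ∈ N i, ∀ r : R, r • x = 0 ↔ r ∈ p := fun i => i.2
  choose x hxN hx using hS
  have hxT : ∀ i : S, x i ∈ Submodule.torsionBySet R M p := by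
    intro i
    rw [Submodule.mem_torsionBySet_iff]
    intro a
    exact (hx i a).mpr a.2
  let v : S → Submodule.torsionBySet R M p := fun i => ⟨x i, hxT i⟩
  have hli : LinearIndependent (R ⧸ p) v := by
    rw [linearIndependent_iff']
    intro s g hg i hi
    obtain ⟨c, hc⟩ : ∃ c : S → R, ∀ j, g j = Ideal.Quotient.mk p (c j) :=
      ⟨fun j => (g j).out, fun j => (Ideal.Quotient.mk_out (g j)).symm⟩
    have h1 : ∑ j ∈ s, c j • x j = 0 := by
      have h2 := congrArg (fun z : Submodule.torsionBySet R M p => (z : M)) hg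
      simp only [Submodule.coe_sum, ZeroMemClass.coe_zero] at h2
      rw [← h2]
      apply Finset.sum_congr rfl
      intro j _
      rw [hc j, Submodule.torsionBySet.mk_smul]
      rfl
    -- transport to ι
    have h3 : ∑ j ∈ s.map ⟨Subtype.val, Subtype.val_injective⟩,
        (if hj : j ∈ S then c ⟨j, hj⟩ • x ⟨j, hj⟩ else 0) = 0 := by
      rw [Finset.sum_map]
      refine Eq.trans ?_ h1
      apply Finset.sum_congr rfl
      intro j _
      simp only [Function.Embedding.coeFn_mk]
      rw [dif_pos j.2]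
    have h4 := hN _ _ (by
      intro j _
      split_ifs with hj
      · exact Submodule.smul_mem _ _ (hxN ⟨j, hj⟩)
      · exact Submodule.zero_mem _) h3 (i : ι) (by
        rw [Finset.mem_map]
        exact ⟨i, hi, rfl⟩)
    rw [dif_pos i.2] at h4
    have h5 : c i ∈ p := (hx i (c i)).mp h4
    rw [hc i]
    exact Ideal.Quotient.eq_zero_iff_mem.mpr h5
  have hfinM : Module.Finite (R ⧸ p) (Submodule.torsionBySet R M p) := by
    have : IsNoetherian R M := isNoetherian_of_isNoetherianRing_of_finite R M
    exact Module.Finite.of_restrictScalars_finite R (R ⧸ p) _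
  have hfin : Finite S := hli.finite
  have : Fintype S := Fintype.ofFinite S
  refine ⟨S.toFinset, ?_, ?_⟩
  · rw [Set.toFinset_card]
    exact hli.fintype_card_le_finrank
  · intro i hi
    rw [Set.mem_toFinset]
    exact hi

/-- the uniform bound, for elementwise independent families. -/
theorem exists_bound_of_sumIndep [IsNoetherianRing R] [Module.Finite R M] :
    ∃ n : ℕ, ∀ (ι : Type w) [DecidableEq ι] (N : ι → Submodule R M), SumIndep N →
      ∃ s : Finset ι, s.card ≤ n ∧ ∀ i, N i ≠ ⊥ → i ∈ s := by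
  classical
  have hfin : (associatedPrimes R M).Finite := associatedPrimes.finite R M
  refine ⟨∑ p ∈ hfin.toFinset,
    Module.finrank (R ⧸ p) (Submodule.torsionBySet R M p), ?_⟩
  intro ι _ N hind
  have hp : ∀ p : Ideal R, p ∈ hfin.toFinset → ∃ s : Finset ι,
      s.card ≤ Module.finrank (R ⧸ p) (Submodule.torsionBySet R M p) ∧
      ∀ i, (∃ x ∈ N i, ∀ r : R, r • x = 0 ↔ r ∈ p) → i ∈ s := by
    intro p hp
    have hpp : p.IsPrime := ((hfin.mem_toFinset).mp hp).isPrime
    exact card_le_finrank p hind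
  choose! s hs1 hs2 using hp
  refine ⟨hfin.toFinset.biUnion s, ?_, ?_⟩
  · refine Finset.card_biUnion_le.trans ?_
    exact Finset.sum_le_sum (fun p hp => hs1 p hp)
  · intro i hi
    have hnt : Nontrivial (N i) := (Submodule.nontrivial_iff_ne_bot).mpr hi
    obtain ⟨p, hp⟩ := associatedPrimes.nonempty R (N i)
    have hpM : p ∈ associatedPrimes R M :=
      associatedPrimes.subset_of_injective (f := (N i).subtype) (N i).injective_subtype hp
    obtain ⟨hpp, y, hy⟩ := (isAssociatedPrime_iff).mp hp
    rw [Finset.mem_biUnion]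
    refine ⟨p, (hfin.mem_toFinset).mpr hpM, hs2 p ((hfin.mem_toFinset).mpr hpM) i
      ⟨(y : M), y.2, ?_⟩⟩
    intro r
    rw [hy, Submodule.mem_colon_singleton, Submodule.mem_bot]
    constructor
    · intro h
      exact Subtype.ext (by simpa using h)
    · intro h
      have := congrArg Subtype.val h
      simpa using this

/-- the uniform bound. -/
theorem exists_bound [IsNoetherianRing R] [Module.Finite R M] :
    ∃ n : ℕ, ∀ (ι : Type w) [DecidableEq ι] (N : ι → Submodule R M), DirectSum.IsInternal N →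
      ∃ s : Finset ι, s.card ≤ n ∧ ∀ i, N i ≠ ⊥ → i ∈ s := by
  obtain ⟨n, hn⟩ := exists_bound_of_sumIndep (R := R) (M := M)
  exact ⟨n, fun ι _ N hN => hn ι N (sumIndep_of_iSupIndep hN.submodule_iSupIndep)⟩

/-- the uniform bound for families inside a finitely generated submodule. -/
theorem exists_bound_of_fg [IsNoetherianRing R] (W : Submodule R M) (hW : W.FG) :
    ∃ n : ℕ, ∀ (ι : Type w) [DecidableEq ι] (N : ι → Submodule R M), (∀ i, N i ≤ W) →
      SumIndep N → ∃ s : Finset ι, s.card ≤ n ∧ ∀ i, N i ≠ ⊥ → i ∈ s := by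
  have : Module.Finite R W := Module.Finite.iff_fg.mpr hW
  obtain ⟨n, hn⟩ := exists_bound_of_sumIndep (R := R) (M := W)
  refine ⟨n, ?_⟩
  intro ι _ N hNW hN
  obtain ⟨s, hs1, hs2⟩ := hn ι (fun i => (N i).comap W.subtype) (by
    intro t m hm hsum i hi
    have h1 := hN t (fun j => ((m j : W) : M)) (fun j hj => hm j hj) (by
      have := congrArg (fun z : W => (z : M)) hsum
      simpa using this) i hi
    exact Subtype.ext h1)
  refine ⟨s, hs1, ?_⟩
  intro i hi
  apply hs2 i
  intro h
  apply hi
  rw [eq_bot_iff]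
  intro x hx
  have h1 : (⟨x, hNW i hx⟩ : W) ∈ (N i).comap W.subtype := hx
  rw [h] at h1
  have h2 := (Submodule.mem_bot R).mp h1
  exact (Submodule.mem_bot R).mpr (congrArg Subtype.val h2)

end Groth.Agent.Lib.Helper59.SummandBound
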