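import Mathlib
import Groth.Agent.Lib.Helper59.SummandBound

/-!
# Simultaneous diagonalisation of commuting families over a Noetherian base (helper59)
-/

set_option autoImplicit false

universe u v w x

namespace Groth.Agent.Lib.Helper59.SimDiag

open Groth.Agent.Lib.Helper59.SummandBound

section LemmaL

variable {k : Type u} [Field k] {V : Type w} [AddCommGroup V] [Module k V]

/-- components of an eigen-decomposition of an element of an invariant subspace lie in it. -/
lemma mem_of_sum_mem (g : Module.End k V) (P : Submodule k V) (hP : ∀ x ∈ P, g x ∈ P)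
    (F : Finset k) : ∀ (m : k → V), (∀ μ ∈ F, g (m μ) = μ • m μ) → ∑ μ ∈ F, m μ ∈ P →
      ∀ μ ∈ F, m μ ∈ P := by
  classical
  induction F using Finset.induction_on with
  | empty => intro m _ _ μ hμ; simp at hμ
  | insert μ₁ F' hμ₁ ih =>
    intro m hm hsum
    have h1 : g (∑ μ ∈ insert μ₁ F', m μ) - μ₁ • ∑ μ ∈ insert μ₁ F', m μ ∈ P :=
      P.sub_mem (hP _ hsum) (P.smul_mem _ hsum)
    have h2 : g (∑ μ ∈ insert μ₁ F', m μ) - μ₁ • ∑ μ ∈ insert μ₁ F', m μ =
        ∑ μ ∈ F', (μ - μ₁) • m μ := by
      rw [map_sum, Finset.smul_sum, ← Finset.sum_sub_distrib, Finset.sum_insert hμ₁,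
        hm μ₁ (Finset.mem_insert_self _ _), sub_self, zero_add]
      apply Finset.sum_congr rfl
      intro μ hμ
      rw [hm μ (Finset.mem_insert_of_mem hμ), sub_smul]
    rw [h2] at h1
    have h3 := ih (fun μ => (μ - μ₁) • m μ) (by
      intro μ hμ
      rw [map_smul, hm μ (Finset.mem_insert_of_mem hμ), smul_comm]) h1
    have h4 : ∀ μ ∈ F', m μ ∈ P := by
      intro μ hμ
      have hne : μ - μ₁ ≠ 0 := sub_ne_zero.mpr (fun h => hμ₁ (h ▸ hμ))
      have := P.smul_mem (μ - μ₁)⁻¹ (h3 μ hμ)
      rwa [smul_smul, inv_mul_cancel₀ hne, one_smul] at this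
    intro μ hμ
    rcases Finset.mem_insert.mp hμ with rfl | hμF
    · have h5 : m μ = ∑ ν ∈ insert μ F', m ν - ∑ ν ∈ F', m ν := by
        rw [Finset.sum_insert hμ₁, add_sub_cancel_right]
      rw [h5]
      exact P.sub_mem hsum (P.sum_mem h4)
    · exact h4 μ hμF

/-- invariant subspaces are spanned by their intersections with the eigenspaces. -/
lemma inf_iSup_eigenspace_le (g : Module.End k V) (P : Submodule k V) (hP : ∀ x ∈ P, g x ∈ P) :
    P ⊓ ⨆ μ, Module.End.eigenspace g μ ≤ ⨆ μ, P ⊓ Module.End.eigenspace g μ := by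
  classical
  intro x hx
  obtain ⟨hxP, hx2⟩ := hx
  obtain ⟨m, hm, rfl⟩ := (Submodule.mem_iSup_iff_exists_finsupp _ _).mp hx2
  have h1 : ∀ μ ∈ m.support, m μ ∈ P := by
    apply mem_of_sum_mem g P hP m.support (fun μ => m μ)
    · intro μ _
      exact Module.End.mem_eigenspace_iff.mp (hm μ)
    · exact hxP
  rw [Finsupp.sum]
  apply Submodule.sum_mem
  intro μ hμ
  exact Submodule.mem_iSup_of_mem μ ⟨h1 μ hμ, hm μ⟩

end LemmaL

section Main

variable {k : Type u} [Field k] {R : Type v} [CommRing R] [Algebra k R]
  {V : Type w} [AddCommGroup V] [Module R V] [Module k V] [IsScalarTower k R V]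
  {ι : Type x} (f : ι → Module.End R V)

/-- eigenspaces as `R`-submodules. -/
def E (i : ι) (μ : k) : Submodule R V := Module.End.eigenspace (f i) (algebraMap k R μ)

lemma mem_E {i : ι} {μ : k} {x : V} : x ∈ E f i μ ↔ f i x = μ • x := by
  rw [E, Module.End.mem_eigenspace_iff, algebraMap_smul]

lemma mem_eigenspace_restrictScalars {i : ι} {μ : k} {x : V} :
    x ∈ Module.End.eigenspace ((f i).restrictScalars k) μ ↔ f i x = μ • x := by
  rw [Module.End.mem_eigenspace_iff]
  rfl

/-- boundedness of independent families inside `U`. -/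
def Bdd (U : Submodule R V) (n : ℕ) : Prop :=
  ∀ (κ : Type) [DecidableEq κ] (N : κ → Submodule R V), (∀ a, N a ≤ U) → SumIndep N →
    ∃ s : Finset κ, s.card ≤ n ∧ ∀ a, N a ≠ ⊥ → a ∈ s

lemma eq_bot_of_bdd_zero {U : Submodule R V} (h : Bdd U 0) : U = ⊥ := by
  classical
  obtain ⟨s, hs1, hs2⟩ := h Unit (fun _ => U) (fun _ => le_rfl) (by
    intro s m hm hsum a ha
    have hs : s = {()} := by
      ext b
      simp only [Finset.mem_singleton, iff_true]
      exact ha
    rw [hs, Finset.sum_singleton] at hsum
    exact hsum)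
  by_contra hU
  have := hs2 () hU
  have h0 : s = ∅ := Finset.card_eq_zero.mp (Nat.le_zero.mp hs1)
  rw [h0] at this
  simp at this

/-- extending an independent family by a submodule in a different eigenspace. -/
lemma sumIndep_option {κ : Type} [DecidableEq κ] (i : ι) (μ μ' : k) (hμ : μ' ≠ μ)
    (U : Submodule R V) (N : κ → Submodule R V) (hNU : ∀ a, N a ≤ U ⊓ E f i μ)
    (hN : SumIndep N) :
    SumIndep (fun o : Option κ => o.elim (U ⊓ E f i μ') N) := by
  classical
  intro s m hm hsum
  have hy : ∑ a ∈ Finset.eraseNone s, m (some a) ∈ U ⊓ E f i μ := by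
    apply Submodule.sum_mem
    intro a ha
    exact hNU a (hm (some a) (Finset.mem_eraseNone.mp ha))
  have hrest : ∑ a ∈ Finset.eraseNone s, m (some a) = 0 → ∀ o ∈ s, o ≠ none → m o = 0 := by
    intro h0 o ho hne
    obtain ⟨a, rfl⟩ := Option.ne_none_iff_exists'.mp hne
    exact hN (Finset.eraseNone s) (fun a => m (some a))
      (fun a ha => hm (some a) (Finset.mem_eraseNone.mp ha)) h0 a (Finset.mem_eraseNone.mpr ho)
  by_cases hnone : none ∈ s
  · have hs : s = Finset.insertNone (Finset.eraseNone s) := by
      rw [Finset.insertNone_eraseNone, Finset.insert_eq_of_mem hnone]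
    have h1 : m none + ∑ a ∈ Finset.eraseNone s, m (some a) = 0 := by
      rw [← Finset.sum_insertNone, ← hs]
      exact hsum
    have h2 : m none ∈ U ⊓ E f i μ' := hm none hnone
    have h3 : m none ∈ U ⊓ E f i μ := by
      rw [eq_neg_of_add_eq_zero_left h1]
      exact Submodule.neg_mem _ hy
    have h4 : m none = 0 := by
      have e1 := (mem_E f).mp h2.2
      have e2 := (mem_E f).mp h3.2
      have e3 : (μ' - μ) • m none = 0 := by
        rw [sub_smul, ← e1, ← e2, sub_self]
      rcases smul_eq_zero.mp e3 with h | h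
      · exact absurd (sub_eq_zero.mp h) hμ
      · exact h
    rw [h4, zero_add] at h1
    intro o ho
    by_cases hne : o = none
    · rw [hne]; exact h4
    · exact hrest h1 o ho hne
  · have h1 : ∑ a ∈ Finset.eraseNone s, m (some a) = 0 := by
      rw [← hsum]
      have : s = (Finset.eraseNone s).map Function.Embedding.some := by
        rw [Finset.map_some_eraseNone, Finset.erase_eq_of_notMem hnone]
      conv_rhs => rw [this]
      rw [Finset.sum_map]
      rfl
    intro o ho
    have hne : o ≠ none := fun h => hnone (h ▸ ho)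
    exact hrest h1 o ho hne

theorem key (hcomm : ∀ i j, Commute (f i) (f j))
    (hdiag : ∀ i, ⨆ μ : k, Module.End.eigenspace ((f i).restrictScalars k) μ = ⊤) :
    ∀ (n : ℕ) (U : Submodule R V), (∀ i, ∀ u ∈ U, f i u ∈ U) → Bdd U n →
      U.restrictScalars k ≤
        ⨆ χ : ι → k, ⨅ i, Module.End.eigenspace ((f i).restrictScalars k) (χ i) := by
  classical
  intro n
  induction n with
  | zero =>
    intro U _ hB
    rw [eq_bot_of_bdd_zero hB]
    intro x hx
    have : x = 0 := (Submodule.mem_bot R).mp hx
    rw [this]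
    exact Submodule.zero_mem _
  | succ n ih =>
    intro U hst hB
    by_cases h : ∀ i, ∃ μ : k, U ≤ E f i μ
    · choose χ hχ using h
      refine le_trans ?_ (le_iSup _ χ)
      intro x hx
      rw [Submodule.mem_iInf]
      intro i
      exact (mem_eigenspace_restrictScalars f).mpr ((mem_E f).mp (hχ i hx))
    · push Not at h
      obtain ⟨i, hi⟩ := h
      set P : Submodule k V := U.restrictScalars k with hP
      have hPst : ∀ x ∈ P, ((f i).restrictScalars k) x ∈ P := fun x hx => hst i x hx
      have hdec : P ≤ ⨆ μ, P ⊓ Module.End.eigenspace ((f i).restrictScalars k) μ := by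
        refine le_trans ?_ (inf_iSup_eigenspace_le _ P hPst)
        rw [hdiag i, inf_top_eq]
      refine hdec.trans (iSup_le ?_)
      intro μ
      -- the piece `U ⊓ E i μ`
      have hle : P ⊓ Module.End.eigenspace ((f i).restrictScalars k) μ ≤
          (U ⊓ E f i μ).restrictScalars k := by
        intro x hx
        exact ⟨hx.1, (mem_E f).mpr ((mem_eigenspace_restrictScalars f).mp hx.2)⟩
      refine hle.trans (ih (U ⊓ E f i μ) ?_ ?_)
      · intro j u hu
        refine ⟨hst j u hu.1, (mem_E f).mpr ?_⟩
        have e1 : f i (f j u) = f j (f i u) := by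
          have := congrArg (fun g : Module.End R V => g u) (hcomm i j).eq
          simpa using this
        rw [e1, (mem_E f).mp hu.2, LinearMap.map_smul_of_tower]
      · intro κ _ N hNU hN
        -- another nonzero eigenspace
        obtain ⟨μ', hμ', hne⟩ : ∃ μ', μ' ≠ μ ∧ U ⊓ E f i μ' ≠ ⊥ := by
          by_contra hno
          push Not at hno
          apply hi μ
          intro x hx
          have hx' : x ∈ P := hx
          have h1 := hdec hx'
          have h2 : ⨆ ν, P ⊓ Module.End.eigenspace ((f i).restrictScalars k) ν ≤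
              (E f i μ).restrictScalars k := by
            apply iSup_le
            intro ν y hy
            by_cases hν : ν = μ
            · subst hν
              exact (mem_E f).mpr ((mem_eigenspace_restrictScalars f).mp hy.2)
            · have h3 : y ∈ U ⊓ E f i ν :=
                ⟨hy.1, (mem_E f).mpr ((mem_eigenspace_restrictScalars f).mp hy.2)⟩
              rw [hno ν hν] at h3
              rw [(Submodule.mem_bot R).mp h3]
              exact Submodule.zero_mem _
          exact h2 h1
        obtain ⟨s', hs1, hs2⟩ := hB (Option κ) (fun o : Option κ => o.elim (U ⊓ E f i μ') N)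
          (by
            intro o
            cases o with
            | none => exact inf_le_left
            | some a => exact (hNU a).trans inf_le_left)
          (sumIndep_option f i μ μ' hμ' U N hNU hN)
        have hnone : none ∈ s' := hs2 none hne
        refine ⟨Finset.eraseNone s', ?_, ?_⟩
        · have hs : s' = Finset.insertNone (Finset.eraseNone s') := by
            rw [Finset.insertNone_eraseNone, Finset.insert_eq_of_mem hnone]
          rw [hs, Finset.card_insertNone] at hs1
          omega
        · intro a ha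
          exact Finset.mem_eraseNone.mpr (hs2 (some a) ha)

/-- Simultaneous diagonalisation over a Noetherian base. -/
theorem main [IsNoetherianRing R] (hcomm : ∀ i j, Commute (f i) (f j))
    (hdiag : ∀ i, ⨆ μ : k, Module.End.eigenspace ((f i).restrictScalars k) μ = ⊤)
    (hfin : ∀ v : V, ∃ W : Submodule R V, v ∈ W ∧ W.FG ∧ ∀ i, ∀ w ∈ W, f i w ∈ W) :
    ⨆ χ : ι → k, ⨅ i, Module.End.eigenspace ((f i).restrictScalars k) (χ i) = ⊤ := by
  rw [eq_top_iff]
  intro v _
  obtain ⟨W, hvW, hWfg, hWst⟩ := hfin v
  obtain ⟨n, hn⟩ := exists_bound_of_fg.{v, w, 0} W hWfg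
  exact key f hcomm hdiag n W hWst (fun κ _ N hNW hN => hn κ N hNW hN) hvW

end Main

end Groth.Agent.Lib.Helper59.SimDiag
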