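import Groth.Prelude.Def_W4c3madredgrpAct
import Groth.Agent.Lib.Helper96.Comod
import Groth.Agent.Lib.Helper59.SimDiag

/-!
# Right translations by points on `R ⊗ A` (helper59)
-/

set_option autoImplicit false

universe u v w

open TensorProduct

namespace Groth.Agent.Lib.Helper59.PtAct

section Bialg

variable (k : Type u) [CommRing k] (A : Type v) [CommRing A] [Bialgebra k A]
  (R : Type w) [CommRing R] [Algebra k R]

lemma translAux_eq_sum (g : A →ₐ[k] R) (a : A) {ι : Type*} (𝓡 : Coalgebra.Repr k a ι) :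
    MadRed.translAux k A R g a = ∑ i ∈ 𝓡.index, g (𝓡.right i) ⊗ₜ[k] 𝓡.left i := by
  unfold MadRed.translAux
  simp only [AlgHom.comp_apply, Bialgebra.comulAlgHom_apply]
  rw [← 𝓡.eq, map_sum, map_sum]
  apply Finset.sum_congr rfl
  intro i _
  simp

lemma ptAct_tmul (g : A →ₐ[k] R) (r : R) (a : A) :
    MadRed.ptAct k A R g (r ⊗ₜ[k] a) = r • MadRed.translAux k A R g a := by
  unfold MadRed.ptAct
  rw [Algebra.TensorProduct.lift_tmul, Algebra.TensorProduct.includeLeft_apply, Algebra.smul_def,
    Algebra.TensorProduct.algebraMap_apply, Algebra.algebraMap_self_apply]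

/-- the contraction `x ⊗ (y ⊗ z) ↦ (h y * g z) ⊗ x`. -/
noncomputable def contr (h g : A →ₐ[k] R) : A ⊗[k] (A ⊗[k] A) →ₗ[k] R ⊗[k] A :=
  (TensorProduct.comm k A R).toLinearMap ∘ₗ
    (TensorProduct.map LinearMap.id
      (LinearMap.mul' k R ∘ₗ TensorProduct.map h.toLinearMap g.toLinearMap))

lemma contr_tmul (h g : A →ₐ[k] R) (x y z : A) :
    contr k A R h g (x ⊗ₜ (y ⊗ₜ z)) = (h y * g z) ⊗ₜ x := by
  simp [contr]

/-- composition of translations is translation by the convolution product. -/
lemma ptAct_ptAct_one_tmul (h g : A →ₐ[k] R) (a : A) :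
    MadRed.ptAct k A R h (MadRed.ptAct k A R g (1 ⊗ₜ[k] a)) =
      MadRed.translAux k A R (WithConv.toConv h * WithConv.toConv g).ofConv a := by
  classical
  let 𝓡 := Coalgebra.Repr.arbitrary k a
  let 𝓡₁ := fun i => Coalgebra.Repr.arbitrary k (𝓡.left i)
  let 𝓡₂ := fun i => Coalgebra.Repr.arbitrary k (𝓡.right i)
  have key := congrArg (contr k A R h g) (Coalgebra.sum_tmul_tmul_eq 𝓡 𝓡₁ 𝓡₂)
  simp only [map_sum, contr_tmul] at key
  rw [ptAct_tmul, one_smul, translAux_eq_sum k A R g a 𝓡, map_sum,
    translAux_eq_sum k A R _ a 𝓡]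
  have lhs : ∀ i ∈ 𝓡.index, MadRed.ptAct k A R h (g (𝓡.right i) ⊗ₜ[k] 𝓡.left i) =
      ∑ j ∈ (𝓡₁ i).index, (h ((𝓡₁ i).right j) * g (𝓡.right i)) ⊗ₜ[k] (𝓡₁ i).left j := by
    intro i _
    rw [ptAct_tmul, translAux_eq_sum k A R h _ (𝓡₁ i), Finset.smul_sum]
    apply Finset.sum_congr rfl
    intro j _
    rw [TensorProduct.smul_tmul', smul_eq_mul, mul_comm]
  rw [Finset.sum_congr rfl lhs, key]
  apply Finset.sum_congr rfl
  intro i _
  rw [← TensorProduct.sum_tmul]
  congr 1
  have e : (WithConv.toConv h * WithConv.toConv g).ofConv (𝓡.right i) =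
      Algebra.TensorProduct.lmul' k (Algebra.TensorProduct.map h g
        (Coalgebra.comul (R := k) (𝓡.right i))) := rfl
  rw [e, ← (𝓡₂ i).eq, map_sum, map_sum]
  apply Finset.sum_congr rfl
  intro j _
  simp

lemma ptAct_comp (h g : A →ₐ[k] R) :
    (MadRed.ptAct k A R h).comp (MadRed.ptAct k A R g) =
      MadRed.ptAct k A R (WithConv.toConv h * WithConv.toConv g).ofConv := by
  apply Algebra.TensorProduct.ext
  · ext
  · ext a
    simp only [AlgHom.comp_apply, AlgHom.restrictScalars_apply,
      Algebra.TensorProduct.includeRight_apply]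
    rw [ptAct_ptAct_one_tmul, ptAct_tmul, one_smul]

lemma commute_ptAct (h g : A →ₐ[k] R)
    (hc : WithConv.toConv g * WithConv.toConv h = WithConv.toConv h * WithConv.toConv g) :
    Commute (MadRed.ptAct k A R g).toLinearMap (MadRed.ptAct k A R h).toLinearMap := by
  have h1 := ptAct_comp k A R g h
  have h2 := ptAct_comp k A R h g
  rw [hc] at h1
  have h3 := h1.trans h2.symm
  change (MadRed.ptAct k A R g).toLinearMap ∘ₗ (MadRed.ptAct k A R h).toLinearMap =
    (MadRed.ptAct k A R h).toLinearMap ∘ₗ (MadRed.ptAct k A R g).toLinearMap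
  ext x
  exact congrArg (fun φ : R ⊗[k] A →ₐ[R] R ⊗[k] A => φ (1 ⊗ₜ x)) h3

end Bialg

section Field

open Groth.Agent.Lib.Helper96

variable (k : Type u) [Field k] (A : Type v) [CommRing A] [Bialgebra k A]
  (R : Type w) [CommRing R] [Algebra k R]

/-- every element of `R ⊗ A` lies in a finitely generated `R`-submodule stable under all
translations. -/
lemma exists_stable (v : R ⊗[k] A) :
    ∃ W : Submodule R (R ⊗[k] A), v ∈ W ∧ W.FG ∧
      ∀ g : A →ₐ[k] R, ∀ w ∈ W, MadRed.ptAct k A R g w ∈ W := by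
  classical
  induction v using TensorProduct.induction_on with
  | zero => exact ⟨⊥, Submodule.zero_mem _, Submodule.fg_bot, fun g w hw => by
      rw [(Submodule.mem_bot R).mp hw, map_zero]; exact Submodule.zero_mem _⟩
  | add x y hx hy =>
    obtain ⟨W₁, h1, h2, h3⟩ := hx
    obtain ⟨W₂, h4, h5, h6⟩ := hy
    refine ⟨W₁ ⊔ W₂, Submodule.add_mem _ (Submodule.mem_sup_left h1) (Submodule.mem_sup_right h4),
      h2.sup h5, ?_⟩
    intro g w hw
    obtain ⟨a, ha, b, hb, rfl⟩ := Submodule.mem_sup.mp hw
    rw [map_add]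
    exact Submodule.add_mem _ (Submodule.mem_sup_left (h3 g a ha))
      (Submodule.mem_sup_right (h6 g b hb))
  | tmul r a =>
    obtain ⟨X, hXfin, haX, hXsub⟩ := exists_finite_isSub_mem (HopfRep.Comod.regular k A) a
    obtain ⟨s, hs⟩ := (Module.Finite.iff_fg.mp hXfin)
    have hs' : Submodule.span k (s : Set A) = X := hs
    set W : Submodule R (R ⊗[k] A) :=
      Submodule.span R ((fun x : A => (1 : R) ⊗ₜ[k] x) '' (s : Set A))
      with hW
    have hmem : ∀ x ∈ X, ∀ r : R, r ⊗ₜ[k] x ∈ W := by
      intro x hx r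
      have h1 : (1 : R) ⊗ₜ[k] x ∈ W := by
        rw [← hs'] at hx
        induction hx using Submodule.span_induction with
        | mem y hy => exact Submodule.subset_span ⟨y, hy, rfl⟩
        | zero => rw [TensorProduct.tmul_zero]; exact Submodule.zero_mem _
        | add y z _ _ hy hz => rw [TensorProduct.tmul_add]; exact Submodule.add_mem _ hy hz
        | smul c y _ hy =>
          rw [TensorProduct.tmul_smul, ← algebraMap_smul R c ((1 : R) ⊗ₜ[k] y)]
          exact Submodule.smul_mem _ _ hy
      have h2 : r ⊗ₜ[k] x = r • ((1 : R) ⊗ₜ[k] x) := by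
        rw [TensorProduct.smul_tmul', smul_eq_mul, mul_one]
      rw [h2]
      exact Submodule.smul_mem _ _ h1
    refine ⟨W, hmem a haX r, Submodule.fg_span (Set.Finite.image _ (Finset.finite_toSet _)), ?_⟩
    intro g w hw
    induction hw using Submodule.span_induction with
    | mem y hy =>
      obtain ⟨x, hx, rfl⟩ := hy
      have hxX : x ∈ X := by
        rw [← hs']
        exact Submodule.subset_span hx
      dsimp only
      rw [ptAct_tmul, one_smul]
      have claim : ∀ z : X ⊗[k] A, Algebra.TensorProduct.map g (AlgHom.id k A)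
          ((Algebra.TensorProduct.comm k A A) (X.subtype.rTensor A z)) ∈ W := by
        intro z
        induction z using TensorProduct.induction_on with
        | zero => simp
        | add z₁ z₂ h₁ h₂ =>
          rw [map_add, map_add, map_add]
          exact Submodule.add_mem _ h₁ h₂
        | tmul x' b =>
          simp only [LinearMap.rTensor_tmul, Submodule.subtype_apply,
            Algebra.TensorProduct.comm_tmul, Algebra.TensorProduct.map_tmul, AlgHom.coe_id, id_eq]
          exact hmem x' x'.2 (g b)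
      obtain ⟨z, hz⟩ := hXsub x hxX
      have hz' : Coalgebra.comul (R := k) x = X.subtype.rTensor A z := hz.symm
      unfold MadRed.translAux
      simp only [AlgHom.comp_apply, Bialgebra.comulAlgHom_apply]
      rw [hz']
      exact claim z
    | zero => rw [map_zero]; exact Submodule.zero_mem _
    | add y z _ _ hy hz => rw [map_add]; exact Submodule.add_mem _ hy hz
    | smul c y _ hy => rw [map_smul]; exact Submodule.smul_mem _ _ hy

/-- Simultaneous diagonalisability of commuting points. -/
theorem main [IsNoetherianRing R] (H : Set (A →ₐ[k] R))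
    (hcomm : ∀ g ∈ H, ∀ h ∈ H,
      WithConv.toConv g * WithConv.toConv h = WithConv.toConv h * WithConv.toConv g)
    (hdiag : ∀ g ∈ H, ⨆ μ : k,
      Module.End.eigenspace (((MadRed.ptAct k A R g).toLinearMap).restrictScalars k) μ = ⊤) :
    ⨆ χ : H → k, ⨅ g : H,
      Module.End.eigenspace (((MadRed.ptAct k A R g.1).toLinearMap).restrictScalars k) (χ g) =
        ⊤ := by
  apply SimDiag.main (fun g : H => (MadRed.ptAct k A R g.1).toLinearMap)
  · intro i j
    exact commute_ptAct k A R j.1 i.1 (hcomm i.1 i.2 j.1 j.2)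
  · intro i
    exact hdiag i.1 i.2
  · intro v
    obtain ⟨W, h1, h2, h3⟩ := exists_stable k A R v
    exact ⟨W, h1, h2, fun i w hw => h3 i.1 w hw⟩

end Field

end Groth.Agent.Lib.Helper59.PtAct
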