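import Mathlib

/-!
# `μ ∣ w - 1 ↔ μ^p ∣ w^p - 1` when `μ^(p-1) ∣ p`
-/

set_option autoImplicit false
universe u
open Polynomial

namespace Groth.Agent.Lib.Helper59.PthPowerStep

variable {A : Type u} [CommRing A] (p : ℕ) [hp : Fact p.Prime]

/-- binomial expansion of `(1 + z)^p` with the middle terms isolated -/
lemma one_add_pow (z : A) :
    (1 + z) ^ p = 1 + ∑ j ∈ Finset.Ico 1 p, (p.choose j : A) * z ^ j + z ^ p := by
  rw [add_comm 1 z, add_pow]
  have hp1 : 1 ≤ p := hp.out.one_le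
  rw [Finset.sum_range_succ, Finset.range_eq_Ico, Finset.sum_eq_sum_Ico_succ_bot hp.out.pos]
  simp only [one_pow, mul_one, pow_zero, Nat.choose_zero_right, Nat.cast_one, Nat.choose_self,
    zero_add]
  have : ∑ j ∈ Finset.Ico 1 p, z ^ j * (p.choose j : A) =
      ∑ j ∈ Finset.Ico 1 p, (p.choose j : A) * z ^ j :=
    Finset.sum_congr rfl fun j _ => mul_comm _ _
  rw [this]

/-- `choose p j = p * b j` for `0 < j < p` -/
lemma exists_b : ∃ b : ℕ → ℕ, ∀ j ∈ Finset.Ico 1 p, p.choose j = p * b j := by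
  have : ∀ j, ∃ c : ℕ, j ∈ Finset.Ico 1 p → p.choose j = p * c := by
    intro j
    by_cases hj : j ∈ Finset.Ico 1 p
    · rw [Finset.mem_Ico] at hj
      obtain ⟨c, hc⟩ := hp.out.dvd_choose_self (by omega) hj.2
      exact ⟨c, fun _ => hc⟩
    · exact ⟨0, fun h => absurd h hj⟩
  choose b hb using this
  exact ⟨b, hb⟩

/-- going up -/
theorem up (μ w : A) (hμ : μ ^ (p - 1) ∣ (p : A)) (h : μ ∣ w - 1) : μ ^ p ∣ w ^ p - 1 := by
  obtain ⟨t, ht⟩ := h
  obtain ⟨s, hs⟩ := hμ
  have hw : w = 1 + μ * t := by rw [← ht]; ring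
  rw [hw, one_add_pow]
  have : 1 + ∑ j ∈ Finset.Ico 1 p, (p.choose j : A) * (μ * t) ^ j + (μ * t) ^ p - 1 =
      ∑ j ∈ Finset.Ico 1 p, (p.choose j : A) * (μ * t) ^ j + (μ * t) ^ p := by ring
  rw [this]
  refine dvd_add (Finset.dvd_sum fun j hj => ?_) ?_
  · obtain ⟨b, hb⟩ := exists_b p
    rw [hb j hj, Nat.cast_mul, hs, mul_pow]
    rw [Finset.mem_Ico] at hj
    have hpow : μ ^ p ∣ μ ^ (p - 1) * μ ^ j := by
      rw [← pow_add]
      exact pow_dvd_pow _ (by omega)
    obtain ⟨c, hc⟩ := hpow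
    refine ⟨c * s * (b j : A) * t ^ j, ?_⟩
    calc μ ^ (p - 1) * s * (b j : A) * (μ ^ j * t ^ j)
        = (μ ^ (p - 1) * μ ^ j) * (s * (b j : A) * t ^ j) := by ring
      _ = μ ^ p * (c * s * (b j : A) * t ^ j) := by rw [hc]; ring
  · rw [mul_pow]
    exact dvd_mul_right _ _

variable [IsDomain A] [IsIntegrallyClosed A]

/-- going down in an integrally closed domain -/
theorem down (μ w : A) (hμ0 : μ ≠ 0) (hμ : μ ^ (p - 1) ∣ (p : A)) (h : μ ^ p ∣ w ^ p - 1) :
    μ ∣ w - 1 := by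
  obtain ⟨u, hu⟩ := h
  obtain ⟨s, hs⟩ := hμ
  obtain ⟨b, hb⟩ := exists_b p
  let K := FractionRing A
  set ι := algebraMap A K with hι
  have hιinj : Function.Injective ι := IsFractionRing.injective A K
  have hμK : ι μ ≠ 0 := by
    intro h0
    exact hμ0 (hιinj (by rw [h0, map_zero]))
  set y : K := ι (w - 1) / ι μ with hy
  have hμy : ι μ * y = ι (w - 1) := by
    rw [hy, mul_div_cancel₀ _ hμK]
  -- the monic polynomial
  set q : A[X] := ∑ j ∈ Finset.Ico 1 p, C ((b j : A) * s * μ ^ (j - 1)) * X ^ j - C u with hq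
  have hqdeg : q.degree < p := by
    rw [← Polynomial.mem_degreeLT]
    refine Submodule.sub_mem _ (Submodule.sum_mem _ fun j hj => ?_) ?_
    · rw [Polynomial.mem_degreeLT]
      rw [Finset.mem_Ico] at hj
      exact lt_of_le_of_lt (Polynomial.degree_C_mul_X_pow_le _ _) (by exact_mod_cast hj.2)
    · rw [Polynomial.mem_degreeLT]
      exact lt_of_le_of_lt Polynomial.degree_C_le (by exact_mod_cast hp.out.pos)
  have hmonic : (X ^ p + q).Monic := Polynomial.monic_X_pow_add hqdeg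
  have hroot : Polynomial.eval₂ ι y (X ^ p + q) = 0 := by
    have hmul : ι μ ^ p * Polynomial.eval₂ ι y (X ^ p + q) = 0 := by
      rw [hq]
      simp only [Polynomial.eval₂_add, Polynomial.eval₂_sub, Polynomial.eval₂_finsetSum,
        Polynomial.eval₂_mul, Polynomial.eval₂_C, Polynomial.eval₂_X_pow]
      have hterm : ∀ j ∈ Finset.Ico 1 p,
          ι μ ^ p * (ι ((b j : A) * s * μ ^ (j - 1)) * y ^ j) =
            ι ((p.choose j : A) * (w - 1) ^ j) := by
        intro j hj
        have hj' := Finset.mem_Ico.1 hj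
        have hjj : μ ^ j = μ ^ (j - 1) * μ := by
          rw [← pow_succ]
          congr 1
          omega
        have hpp : μ ^ p = μ ^ (p - 1) * μ := by
          rw [← pow_succ]
          congr 1
          have := hp.out.pos
          omega
        rw [hb j hj, Nat.cast_mul, hs, map_mul, map_mul, map_mul, map_mul, map_pow, map_pow,
          map_mul, map_pow, ← hμy, mul_pow]
        rw [← map_pow ι μ p, hpp, map_mul, map_pow]
        have : ι μ ^ j = ι μ ^ (j - 1) * ι μ := by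
          rw [← map_pow, hjj, map_mul, map_pow]
        rw [this]
        ring
      have hlast : ι μ ^ p * y ^ p = ι ((w - 1) ^ p) := by
        rw [← mul_pow, hμy, map_pow]
      rw [mul_add, mul_sub, Finset.mul_sum, Finset.sum_congr rfl hterm, hlast]
      have e1 : ι μ ^ p * ι u = ι (w ^ p - 1) := by rw [hu, map_mul, map_pow]
      rw [e1, ← map_sum, ← map_sub, ← map_add]
      have hexp := one_add_pow p (w - 1)
      have h1w : (1 : A) + (w - 1) = w := by ring
      rw [h1w] at hexp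
      have hin : (w - 1) ^ p + (∑ j ∈ Finset.Ico 1 p, (p.choose j : A) * (w - 1) ^ j -
          (w ^ p - 1)) = 0 := by
        rw [hexp]
        ring
      rw [hin, map_zero]
    rcases mul_eq_zero.1 hmul with h0 | h0
    · exact absurd ((pow_eq_zero_iff hp.out.ne_zero).1 h0) hμK
    · exact h0
  have hint : IsIntegral A y := ⟨X ^ p + q, hmonic, hroot⟩
  obtain ⟨a, ha⟩ := IsIntegrallyClosed.isIntegral_iff.1 hint
  refine ⟨a, ?_⟩
  apply hιinj
  rw [map_mul, ha, hμy]

theorem iterate (l x : A) (n : ℕ) (hn : 1 ≤ n) (hl0 : l ≠ 0)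
    (H : l ^ (p ^ (n - 1) * (p - 1)) ∣ (p : A)) :
    (l ^ p ^ n ∣ x ^ p ^ n - 1) ↔ (l ∣ x - 1) := by
  have key : ∀ m, m ≤ n → ((l ^ p ^ m ∣ x ^ p ^ m - 1) ↔ (l ∣ x - 1)) := by
    intro m
    induction m with
    | zero =>
      intro _
      rw [pow_zero, pow_one, pow_one]
    | succ m ih =>
      intro hm
      rw [← ih (by omega)]
      have hμ : (l ^ p ^ m) ^ (p - 1) ∣ (p : A) := by
        rw [← pow_mul]
        refine dvd_trans (pow_dvd_pow _ ?_) H
        exact Nat.mul_le_mul_right _ (Nat.pow_le_pow_right hp.out.pos (by omega))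
      have e1 : l ^ p ^ (m + 1) = (l ^ p ^ m) ^ p := by rw [← pow_mul, pow_succ]
      have e2 : x ^ p ^ (m + 1) = (x ^ p ^ m) ^ p := by rw [← pow_mul, pow_succ]
      rw [e1, e2]
      exact ⟨down p _ _ (pow_ne_zero _ hl0) hμ, up p _ _ hμ⟩
  exact key n le_rfl

end Groth.Agent.Lib.Helper59.PthPowerStep
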