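import Groth.Prelude.Def_QuadGrp
import Groth.Agent.S17014
import Mathlib

/-
Helper59: consequences of non-degeneracy (perfect polar form / unit half-discriminant) for a quadratic
form on `Fin n → R` in the standard basis: dual / adjugate vectors, and the ideal `(2, B_ij (i ≠ j)) = R`
in odd rank. Uses helper58's `Groth.Agent.S17014` (`polarMat`, `hd`, `two_mul_hd`, `hd_map`).
-/

set_option autoImplicit false
universe u v w

open QuadraticMap QuadGrp

namespace Groth.Agent.Lib.Helper59.QuadCentreDisc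

open Groth.Agent.S17014

variable {R : Type u} [CommRing R] {n : ℕ}

/-- The coefficient family of `Q` in the standard basis. -/
noncomputable def cf (Q : QuadraticForm R (Fin n → R)) : Sym2 (Fin n) → R :=
  QuadGrp.coeffs (Pi.basisFun R (Fin n)) (LinearEquiv.refl R R) Q

theorem halfDisc_eq_hd (Q : QuadraticForm R (Fin n → R)) :
    QuadGrp.halfDisc (Pi.basisFun R (Fin n)) (LinearEquiv.refl R R) Q = hd (cf Q) := rfl

theorem cf_diag (Q : QuadraticForm R (Fin n → R)) (k : Fin n) :
    cf Q s(k, k) = Q (Pi.single k 1) := by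
  unfold cf
  rw [QuadGrp.coeffs_mk, if_pos rfl, Pi.basisFun_apply, LinearEquiv.refl_apply]

theorem cf_off (Q : QuadraticForm R (Fin n → R)) (k l : Fin n) (h : k ≠ l) :
    cf Q s(k, l) = polar Q (Pi.single k 1) (Pi.single l 1) := by
  unfold cf
  rw [QuadGrp.coeffs_mk, if_neg h, Pi.basisFun_apply, Pi.basisFun_apply, LinearEquiv.refl_apply]

theorem polarMat_cf (Q : QuadraticForm R (Fin n → R)) (k l : Fin n) :
    polarMat (cf Q) k l = polar Q (Pi.single k 1) (Pi.single l 1) := by
  unfold polarMat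
  rw [Matrix.of_apply]
  by_cases h : k = l
  · subst h
    rw [if_pos rfl, cf_diag, QuadraticMap.polar_self]
    simp [two_mul]
  · rw [if_neg h, cf_off Q k l h]

theorem polar_eq_sum (Q : QuadraticForm R (Fin n → R)) (x : Fin n → R) (j : Fin n) :
    polar Q x (Pi.single j 1) = ∑ l, x l * polar Q (Pi.single l 1) (Pi.single j 1) := by
  have hx : x = ∑ l, x l • (Pi.single l 1 : Fin n → R) := by
    ext m
    simp [Finset.sum_apply, Pi.single_apply]
  have h1 : ∀ y, polar Q y (Pi.single j 1) = (QuadraticMap.polarBilin Q).flip (Pi.single j 1) y := by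
    intro y; rfl
  conv_lhs => rw [hx]
  rw [h1, map_sum]
  refine Finset.sum_congr rfl fun l _ => ?_
  rw [map_smul, ← h1, smul_eq_mul]

/-- Regular case: dual vectors. -/
theorem exists_dual_of_isRegular (Q : QuadraticForm R (Fin n → R)) (hQ : QuadGrp.IsRegular Q) :
    ∃ f : Fin n → (Fin n → R), ∀ k j,
      QuadraticMap.polarBilin Q (f k) (Pi.single j 1) = if k = j then 1 else 0 := by
  have hs := hQ.2
  choose f hf using fun k : Fin n => hs (LinearMap.proj k)
  refine ⟨f, fun k j => ?_⟩
  rw [hf k]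
  simp [Pi.single_apply]

/-- Semiregular case: adjugate vectors. -/
theorem exists_dual_of_odd (hn : Odd n) (Q : QuadraticForm R (Fin n → R)) :
    ∃ f : Fin n → (Fin n → R), ∀ k j,
      QuadraticMap.polarBilin Q (f k) (Pi.single j 1) = if k = j then 2 * hd (cf Q) else 0 := by
  refine ⟨fun k l => (polarMat (cf Q)).adjugate k l, fun k j => ?_⟩
  rw [QuadraticMap.polarBilin_apply_apply, polar_eq_sum]
  have h1 : ∑ l, (polarMat (cf Q)).adjugate k l * polar Q (Pi.single l 1) (Pi.single j 1)
      = ((polarMat (cf Q)).adjugate * polarMat (cf Q)) k j := by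
    rw [Matrix.mul_apply]
    refine Finset.sum_congr rfl fun l _ => ?_
    rw [polarMat_cf]
  rw [h1, Matrix.adjugate_mul, two_mul_hd hn]
  simp [Matrix.smul_apply, Matrix.one_apply]

open MvPolynomial

/-- The universal diagonal coefficient family over `ℤ[X_i]`. -/
noncomputable def diagU (n : ℕ) : Sym2 (Fin n) → MvPolynomial (Fin n) ℤ :=
  Sym2.lift ⟨fun i j => if i = j then X i else 0, fun i j => by
    by_cases h : i = j
    · subst h; rfl
    · simp [h, Ne.symm h]⟩

theorem diagU_mk (i j : Fin n) : diagU n s(i, j) = if i = j then X i else 0 := rfl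

theorem hd_diagU (hn : Odd n) : hd (diagU n) = 2 ^ (n - 1) * ∏ i : Fin n, (X i : MvPolynomial (Fin n) ℤ) := by
  have h1 : polarMat (diagU n) = Matrix.diagonal fun i => 2 * (X i : MvPolynomial (Fin n) ℤ) := by
    ext k l
    unfold polarMat
    rw [Matrix.of_apply, diagU_mk]
    by_cases h : k = l
    · subst h; simp
    · simp [h]
  have h2 := two_mul_hd hn (diagU n)
  rw [h1, Matrix.det_diagonal, Finset.prod_mul_distrib, Finset.prod_const, Finset.card_univ,
    Fintype.card_fin] at h2
  have hn1 : n = (n - 1) + 1 := by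
    obtain ⟨k, hk⟩ := hn; omega
  have h3 : (2 : MvPolynomial (Fin n) ℤ) * hd (diagU n)
      = 2 * (2 ^ (n - 1) * ∏ i : Fin n, (X i : MvPolynomial (Fin n) ℤ)) := by
    rw [h2]
    have : (2 : MvPolynomial (Fin n) ℤ) ^ n = 2 ^ (n - 1) * 2 := by
      rw [← pow_succ, ← hn1]
    rw [this]
    ring
  exact mul_left_cancel₀ two_ne_zero h3

/-- If `2 = 0` and the off-diagonal coefficients vanish, the half-discriminant vanishes (odd `n ≥ 3`). -/
theorem hd_eq_zero_of_diag {S : Type*} [CommRing S] (hn : Odd n) (hn3 : 3 ≤ n) (a : Sym2 (Fin n) → S)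
    (h2 : (2 : S) = 0) (hoff : ∀ i j : Fin n, i ≠ j → a s(i, j) = 0) : hd a = 0 := by
  let ψ : MvPolynomial (Fin n) ℤ →+* S := eval₂Hom (Int.castRingHom S) (fun i => a s(i, i))
  have h1 := hd_map ψ (diagU n)
  have h3 : (fun s => ψ (diagU n s)) = a := by
    funext s
    induction s using Sym2.ind with
    | _ i j =>
      rw [diagU_mk]
      by_cases h : i = j
      · subst h; simp [ψ]
      · rw [if_neg h, map_zero, hoff i j h]
  rw [h3] at h1
  rw [← h1, hd_diagU hn, map_mul, map_pow, map_ofNat, h2, zero_pow (by omega), zero_mul]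

theorem span_eq_top_of_isUnit_hd (hn : Odd n) (hn3 : 3 ≤ n) (a : Sym2 (Fin n) → R) (hu : IsUnit (hd a)) :
    Ideal.span ({(2 : R)} ∪ {r | ∃ i j : Fin n, i ≠ j ∧ r = a s(i, j)}) = ⊤ := by
  set I := Ideal.span ({(2 : R)} ∪ {r | ∃ i j : Fin n, i ≠ j ∧ r = a s(i, j)}) with hI
  have hmem : hd a ∈ I := by
    rw [← Ideal.Quotient.eq_zero_iff_mem, hd_map]
    apply hd_eq_zero_of_diag hn hn3
    · have : (2 : R) ∈ I := Ideal.subset_span (Or.inl rfl)
      have := Ideal.Quotient.eq_zero_iff_mem.2 this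
      rw [map_ofNat] at this
      exact this
    · intro i j hij
      exact Ideal.Quotient.eq_zero_iff_mem.2 (Ideal.subset_span (Or.inr ⟨i, j, hij, rfl⟩))
  exact Ideal.eq_top_of_isUnit_mem _ hmem hu

theorem hd_zero (hn : Odd n) : hd (fun _ : Sym2 (Fin n) => (0 : ℤ)) = 0 := by
  have h2 := two_mul_hd hn (fun _ : Sym2 (Fin n) => (0 : ℤ))
  have h1 : polarMat (fun _ : Sym2 (Fin n) => (0 : ℤ)) = 0 := by
    ext k l
    unfold polarMat
    simp
  have : Nonempty (Fin n) := by
    obtain ⟨k, hk⟩ := hn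
    exact ⟨⟨0, by omega⟩⟩
  rw [h1, Matrix.det_zero] at h2
  exact (mul_eq_zero.1 h2).resolve_left two_ne_zero

theorem mul_hd_eq_zero (hn : Odd n) (a : Sym2 (Fin n) → R) (r : R) (h : ∀ s, r * a s = 0) :
    r * hd a = 0 := by
  set J := Ideal.span (Set.range a) with hJ
  have hmem : hd a ∈ J := by
    rw [← Ideal.Quotient.eq_zero_iff_mem, hd_map]
    have h0 : (fun s => Ideal.Quotient.mk J (a s)) = fun s => Int.castRingHom (R ⧸ J) ((fun _ => (0 : ℤ)) s) := by
      funext s
      rw [map_zero]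
      exact Ideal.Quotient.eq_zero_iff_mem.2 (Ideal.subset_span ⟨s, rfl⟩)
    rw [h0, ← hd_map, hd_zero hn, map_zero]
  have h2 : ∀ x ∈ J, r * x = 0 := by
    intro x hx
    induction hx using Submodule.span_induction with
    | mem x hx => obtain ⟨s, rfl⟩ := hx; exact h s
    | zero => simp
    | add x y _ _ hx hy => rw [mul_add, hx, hy, add_zero]
    | smul c x _ hx => rw [smul_eq_mul, mul_left_comm, hx, mul_zero]
  exact h2 _ hmem

end Groth.Agent.Lib.Helper59.QuadCentreDisc
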