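import Groth.Agent.Lib.Helper59.QuadCentreInf
import Groth.Agent.Lib.Helper59.QuadCentreDisc

set_option autoImplicit false
universe u v w

open TensorProduct DualNumber QuadraticMap QuadGrp

namespace Groth.Agent.Lib.Helper59.QuadCentre

open Groth.Agent.Lib.Helper59.QuadCentreAlg Groth.Agent.Lib.Helper59.QuadCentreInf
  Groth.Agent.Lib.Helper59.QuadCentreDisc Groth.Agent.S17014

variable {R : Type u} [CommRing R] {n : ℕ}

theorem polar_isometry (Q : QuadraticForm R (Fin n → R)) (g : (Fin n → R) ≃ₗ[R] (Fin n → R))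
    (hg : g ∈ QuadGrp.O Q) (x y : Fin n → R) : polar Q (g x) (g y) = polar Q x y := by
  rw [QuadGrp.mem_O] at hg
  unfold polar
  rw [← map_add, hg, hg, hg]

/-- Core: an isometry commuting with all infinitesimal isometries `1 + ε X_{u,w}` of a non-degenerate
form of rank `n ≥ 3` is a scalar `c` with `c² = 1`. -/
theorem centre_core (hn : 3 ≤ n) (Q : QuadraticForm R (Fin n → R))
    (hQ : QuadGrp.IsNondeg (Pi.basisFun R (Fin n)) (LinearEquiv.refl R R) Q)
    (g : (Fin n → R) ≃ₗ[R] (Fin n → R)) (hg : g ∈ QuadGrp.O Q)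
    (hcomm : ∀ u w : Fin n → R,
      g.baseChange R R[ε] (Fin n → R) (Fin n → R) * infEquiv Q u w =
        infEquiv Q u w * g.baseChange R R[ε] (Fin n → R) (Fin n → R)) :
    ∃ c : R, c * c = 1 ∧ ∀ v, g v = c • v := by
  have H := lieComm_of_comm Q g hcomm
  have hB : ∀ x y, QuadraticMap.polarBilin Q x y = QuadraticMap.polarBilin Q y x := fun x y => by
    simp only [QuadraticMap.polarBilin_apply_apply]; exact polar_comm Q x y
  rcases Nat.even_or_odd n with hev | hodd
  · obtain ⟨f, hf⟩ := exists_dual_of_isRegular Q (hQ.1 hev)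
    obtain ⟨c, hc⟩ := scalar_of_lieComm_of_dual hn (QuadraticMap.polarBilin Q) hB (g : _ →ₗ[R] _) H f hf
    refine ⟨c, ?_, fun v => hc v⟩
    have k0 : Fin n := ⟨0, by omega⟩
    have h1 := polar_isometry Q g hg (f k0) (Pi.single k0 1)
    have h2 := hf k0 k0
    rw [if_pos rfl, QuadraticMap.polarBilin_apply_apply] at h2
    have e1 : g (f k0) = c • f k0 := hc _
    have e2 : g (Pi.single k0 1) = c • (Pi.single k0 1 : Fin n → R) := hc _
    rw [e1, e2, polar_smul_left, polar_smul_right, h2] at h1
    simpa using h1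
  · have hu : IsUnit (hd (cf Q)) := hQ.2 hodd
    obtain ⟨f, hf⟩ := exists_dual_of_odd hodd Q
    have hq : ∀ i : Fin n, QuadraticMap.polarBilin Q (Pi.single i 1) (Pi.single i 1)
        = 2 * Q (Pi.single i 1) := by
      intro i
      rw [QuadraticMap.polarBilin_apply_apply, QuadraticMap.polar_self]
      simp [two_mul]
    have hspan := span_eq_top_of_isUnit_hd hodd hn (cf Q) hu
    have hset : ({(2 : R)} ∪ {r | ∃ i j : Fin n, i ≠ j ∧ r = cf Q s(i, j)})
        = ({(2 : R)} ∪ {r | ∃ i j : Fin n, i ≠ j ∧
            r = QuadraticMap.polarBilin Q (Pi.single i 1) (Pi.single j 1)}) := by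
      congr 1
      ext r
      constructor
      · rintro ⟨i, j, hij, rfl⟩
        exact ⟨i, j, hij, cf_off Q i j hij⟩
      · rintro ⟨i, j, hij, rfl⟩
        exact ⟨i, j, hij, (cf_off Q i j hij).symm⟩
    rw [hset] at hspan
    obtain ⟨c, hc⟩ := scalar_of_lieComm_of_half hn (QuadraticMap.polarBilin Q) hB (g : _ →ₗ[R] _) H
      (hd (cf Q)) hu f hf (fun i => Q (Pi.single i 1)) hq hspan
    refine ⟨c, ?_, fun v => hc v⟩
    have hc' : ∀ v, g v = c • v := fun v => hc v
    have hr : ∀ s, (c * c - 1) * cf Q s = 0 := by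
      intro s
      induction s using Sym2.ind with
      | _ i j =>
        by_cases hij : i = j
        · subst hij
          rw [cf_diag]
          have := (QuadGrp.mem_O Q g).1 hg (Pi.single i 1)
          rw [hc', QuadraticMap.map_smul] at this
          simp only [smul_eq_mul] at this
          linear_combination this
        · rw [cf_off Q i j hij]
          have := polar_isometry Q g hg (Pi.single i 1) (Pi.single j 1)
          rw [hc', hc', polar_smul_left, polar_smul_right] at this
          simp only [smul_eq_mul] at this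
          linear_combination this
    have := mul_hd_eq_zero hodd (cf Q) (c * c - 1) hr
    have h0 := hu.mul_left_eq_zero.1 this
    linear_combination h0

/-- A scalar commutes with every linear automorphism after base change. -/
theorem comm_of_scalar {M : Type v} [AddCommGroup M] [Module R M] (g : M ≃ₗ[R] M) (c : R)
    (hc : ∀ v, g v = c • v) (A : Type*) [CommRing A] [Algebra R A]
    (h : (A ⊗[R] M) ≃ₗ[A] (A ⊗[R] M)) :
    g.baseChange R A M M * h = h * g.baseChange R A M M := by
  have hb : ∀ y : A ⊗[R] M, g.baseChange R A M M y = c • y := by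
    intro y
    induction y with
    | zero => simp
    | tmul a m => rw [LinearEquiv.baseChange_tmul, hc, tmul_smul]
    | add x y hx hy => rw [map_add, hx, hy, smul_add]
  ext y
  rw [LinearEquiv.mul_apply, LinearEquiv.mul_apply, hb, hb, ← algebraMap_smul A c y, map_smul,
    algebraMap_smul]

end Groth.Agent.Lib.Helper59.QuadCentre
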