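import Mathlib

/-
Helper59: pure linear algebra behind "the functorial centre of the orthogonal group is μ₂".
`LieComm B g` says that `g` commutes with all infinitesimal isometries `X_{u,w}(v) = B u v • w - B w v • u`.
Main results: `scalar_of_lieComm_of_dual` (perfect polar form) and `scalar_of_lieComm_of_half`
(odd rank, half-discriminant a unit): such a `g` on `Fin n → R`, `n ≥ 3`, is a scalar.
-/

open scoped BigOperators

namespace Groth.Agent.Lib.Helper59.QuadCentreAlg

variable {R : Type*} [CommRing R]

/-- The "Lie algebra centraliser" condition: `g` commutes with all `X_{u,w} : v ↦ B u v • w - B w v • u`. -/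
def LieComm {M : Type*} [AddCommGroup M] [Module R M] (B : M → M → R) (g : M → M) : Prop :=
  ∀ u v w : M, B u v • g w - B w v • g u = B u (g v) • w - B w (g v) • u

theorem exists_scalar_of_lieComm {M : Type*} [AddCommGroup M] [Module R M]
    (B : LinearMap.BilinForm R M) (hB : ∀ x y, B x y = B y x)
    (g : M →ₗ[R] M) (H : LieComm (fun x y => B x y) g) (u w : M)
    (φ : M →ₗ[R] R) (x₀ : M) (hφu : φ u = 0) (hφw : φ w = 0) (hφx : φ x₀ = 1) :
    ∃ c : R, ∀ x : M,
      (B u u * B w w - B u w ^ 2) ^ 5 • ((B u u * B w w - B u w ^ 2) • g x - c • x) = 0 := by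
  set a := B u u with ha
  set b := B w w with hb
  set β := B u w with hβ
  have hβ' : B w u = β := hB w u
  set D := a * b - β ^ 2 with hD
  set us : M := b • u - β • w with hus
  set ws : M := a • w - β • u with hws
  have h1 : B u us = D := by simp only [hus, map_sub, map_smul, smul_eq_mul]; rw [← ha, ← hβ]; ring
  have h2 : B w us = 0 := by simp only [hus, map_sub, map_smul, smul_eq_mul]; rw [← hb, hβ']; ring
  have h3 : B w ws = D := by simp only [hws, map_sub, map_smul, smul_eq_mul]; rw [← hb, hβ']; ring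
  have h4 : B u ws = 0 := by simp only [hws, map_sub, map_smul, smul_eq_mul]; rw [← ha, ← hβ]; ring
  set α₁ := B u (g us) with hα₁
  set α₂ := B w (g us) with hα₂
  set γ₁ := B u (g ws) with hγ₁
  set γ₂ := B w (g ws) with hγ₂
  -- Claim 2
  have c2w : D • g w = α₁ • w - α₂ • u := by
    have := H u us w
    simp only [h1, h2, zero_smul, sub_zero] at this
    exact this
  have c2u : D • g u = γ₂ • u - γ₁ • w := by
    have := H u ws w
    simp only [h3, h4, zero_smul, zero_sub] at this
    linear_combination (norm := module) (-1 : R) • this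
  -- on the orthogonal complement
  have key : ∀ t : M, B u t = 0 → B w t = 0 →
      (∀ p v : M, B t v = 0 → D * B t (g v) = 0 → D • (B p v • g t) = D • (B p (g v) • t)) := by
    intro t htu htw p v h5 h6
    have := H p v t
    have e1 : D • (B p v • g t - B t v • g p) = D • (B p (g v) • t - B t (g v) • p) := by rw [this]
    rw [h5] at e1
    rw [smul_sub, smul_sub, zero_smul, smul_zero, sub_zero, smul_smul D (B t (g v)), h6, zero_smul,
      sub_zero] at e1
    exact e1
  have orthus : ∀ t : M, B u t = 0 → B w t = 0 → B t us = 0 := by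
    intro t htu htw
    simp only [hus, map_sub, map_smul, smul_eq_mul, hB t u, hB t w, htu, htw]; ring
  have orthws : ∀ t : M, B u t = 0 → B w t = 0 → B t ws = 0 := by
    intro t htu htw
    simp only [hws, map_sub, map_smul, smul_eq_mul, hB t u, hB t w, htu, htw]; ring
  have orthgu : ∀ t : M, B u t = 0 → B w t = 0 → D * B t (g u) = 0 := by
    intro t htu htw
    have := congrArg (fun y => B t y) c2u
    simp only [map_sub, map_smul, smul_eq_mul, hB t u, hB t w, htu, htw] at this
    linear_combination this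
  have orthgw : ∀ t : M, B u t = 0 → B w t = 0 → D * B t (g w) = 0 := by
    intro t htu htw
    have := congrArg (fun y => B t y) c2w
    simp only [map_sub, map_smul, smul_eq_mul, hB t u, hB t w, htu, htw] at this
    linear_combination this
  have orthgus : ∀ t : M, B u t = 0 → B w t = 0 → D * B t (g us) = 0 := by
    intro t htu htw
    simp only [hus, map_sub, map_smul, smul_eq_mul]
    linear_combination b * orthgu t htu htw - β * orthgw t htu htw
  have orthgws : ∀ t : M, B u t = 0 → B w t = 0 → D * B t (g ws) = 0 := by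
    intro t htu htw
    simp only [hws, map_sub, map_smul, smul_eq_mul]
    linear_combination a * orthgw t htu htw - β * orthgu t htu htw
  -- (1)
  have eq1 : ∀ t : M, B u t = 0 → B w t = 0 → (D ^ 2) • g t = (D * α₁) • t := by
    intro t htu htw
    have := key t htu htw u us (orthus t htu htw) (orthgus t htu htw)
    rw [h1] at this
    linear_combination (norm := module) this
  -- the faithful element
  set t₀ : M := D • x₀ - (B u x₀ • us + B w x₀ • ws) with ht₀
  have ht₀u : B u t₀ = 0 := by
    simp only [ht₀, map_sub, map_add, map_smul, smul_eq_mul, h1, h4]; ring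
  have ht₀w : B w t₀ = 0 := by
    simp only [ht₀, map_sub, map_add, map_smul, smul_eq_mul, h2, h3]; ring
  have hφus : φ us = 0 := by simp [hus, hφu, hφw]
  have hφws : φ ws = 0 := by simp [hws, hφu, hφw]
  have hφt₀ : φ t₀ = D := by
    simp only [ht₀, map_sub, map_add, map_smul, smul_eq_mul, hφus, hφws, hφx]; ring
  have eq2 : ∀ p v : M, B t₀ v = 0 → D * B t₀ (g v) = 0 → D ^ 3 * (α₁ * B p v) = D ^ 4 * B p (g v) := by
    intro p v h5 h6
    have e := key t₀ ht₀u ht₀w p v h5 h6
    have e' : D • (B p v • (D ^ 2) • g t₀) = D ^ 2 • (D • (B p (g v) • t₀)) := by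
      rw [← e]; module
    rw [eq1 t₀ ht₀u ht₀w] at e'
    have := congrArg φ e'
    simp only [map_smul, smul_eq_mul, hφt₀] at this
    linear_combination this
  have r1 : D ^ 4 * α₂ = 0 := by
    have := eq2 w us (orthus t₀ ht₀u ht₀w) (orthgus t₀ ht₀u ht₀w)
    rw [h2] at this
    linear_combination -this
  have r2 : D ^ 4 * γ₁ = 0 := by
    have := eq2 u ws (orthws t₀ ht₀u ht₀w) (orthgws t₀ ht₀u ht₀w)
    rw [h4] at this
    linear_combination -this
  have r3 : D ^ 4 * (α₁ - γ₂) = 0 := by
    have := eq2 w ws (orthws t₀ ht₀u ht₀w) (orthgws t₀ ht₀u ht₀w)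
    rw [h3] at this
    linear_combination this
  have c5w : D ^ 4 • (D • g w - α₁ • w) = 0 := by
    rw [c2w]
    have : D ^ 4 • (α₁ • w - α₂ • u - α₁ • w) = -((D ^ 4 * α₂) • u) := by module
    rw [this, r1, zero_smul, neg_zero]
  have c5u : D ^ 4 • (D • g u - α₁ • u) = 0 := by
    rw [c2u]
    have : D ^ 4 • (γ₂ • u - γ₁ • w - α₁ • u) = -((D ^ 4 * (α₁ - γ₂)) • u) - (D ^ 4 * γ₁) • w := by
      module
    rw [this, r2, r3, zero_smul, zero_smul, neg_zero, sub_zero]
  refine ⟨α₁, fun x => ?_⟩
  set τ : M := D • x - (B u x • us + B w x • ws) with hτ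
  have hτu : B u τ = 0 := by
    simp only [hτ, map_sub, map_add, map_smul, smul_eq_mul, h1, h4]; ring
  have hτw : B w τ = 0 := by
    simp only [hτ, map_sub, map_add, map_smul, smul_eq_mul, h2, h3]; ring
  have e1 := eq1 τ hτu hτw
  have gus : g us = b • g u - β • g w := by simp [hus]
  have gws : g ws = a • g w - β • g u := by simp [hws]
  have gτ : g τ = D • g x - (B u x • g us + B w x • g ws) := by simp [hτ]
  rw [gτ, gus, gws] at e1
  have hτ' : τ = D • x - (B u x • (b • u - β • w) + B w x • (a • w - β • u)) := by rw [hτ]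
  rw [hτ'] at e1
  linear_combination (norm := module) (D ^ 3) • e1 + (B u x * b - B w x * β) • c5u
    + (B w x * a - B u x * β) • c5w

section Concrete

variable {n : ℕ}

/-- Matrix entries of a linear endomorphism of `Fin n → R`. -/
def ent (g : (Fin n → R) →ₗ[R] (Fin n → R)) (m l : Fin n) : R := g (Pi.single l 1) m

theorem exists_third (hn : 3 ≤ n) (l m : Fin n) : ∃ k : Fin n, k ≠ l ∧ k ≠ m := by
  by_contra hcon
  push Not at hcon
  have hsub : (Finset.univ : Finset (Fin n)) ⊆ {l, m} := by
    intro k _
    by_cases h : k = l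
    · simp [h]
    · simp [hcon k h]
  have := Finset.card_le_card hsub
  have h2 : ({l, m} : Finset (Fin n)).card ≤ 2 := Finset.card_le_two
  simp at this
  omega

theorem scalar_of_ent (g : (Fin n → R) →ₗ[R] (Fin n → R)) (i₀ : Fin n)
    (h : ∀ l m : Fin n, l ≠ m → ent g m l = 0 ∧ ent g l l - ent g m m = 0) :
    ∀ x, g x = ent g i₀ i₀ • x := by
  have : g = ent g i₀ i₀ • LinearMap.id := by
    apply LinearMap.pi_ext
    intro l r
    have hr : (Pi.single l r : Fin n → R) = r • Pi.single l 1 := by
      ext m; by_cases hm : m = l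
      · subst hm; simp
      · simp [hm]
    rw [hr, map_smul, map_smul]
    congr 1
    ext m
    simp only [LinearMap.smul_apply, LinearMap.id_apply, Pi.smul_apply, smul_eq_mul]
    by_cases hm : m = l
    · subst hm
      rw [Pi.single_eq_same, mul_one]
      by_cases hi : m = i₀
      · subst hi; rfl
      · have := (h m i₀ hi).2
        change g (Pi.single m 1) m = _
        change g (Pi.single m 1) m - ent g i₀ i₀ = 0 at this
        linear_combination this
    · rw [Pi.single_eq_of_ne hm, mul_zero]
      exact (h l m (Ne.symm hm)).1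
  intro x
  have h2 := LinearMap.congr_fun this x
  rw [h2]
  simp

/-- Lemma A: with `δ`-dual vectors, `δ` kills all the entry expressions. -/
theorem delta_mul_ent (hn : 3 ≤ n) (B : LinearMap.BilinForm R (Fin n → R)) (hB : ∀ x y, B x y = B y x)
    (g : (Fin n → R) →ₗ[R] (Fin n → R)) (H : LieComm (fun x y => B x y) g)
    (δ : R) (f : Fin n → (Fin n → R))
    (hf : ∀ k j, B (f k) (Pi.single j 1) = if k = j then δ else 0) :
    ∀ l m : Fin n, l ≠ m → δ * ent g m l = 0 ∧ δ * (ent g l l - ent g m m) = 0 := by
  have key : ∀ k l : Fin n, l ≠ k → ∀ m, δ * ent g m l =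
      B (Pi.single k 1) (g (f k)) * (Pi.single l (1:R) : Fin n → R) m
        - B (Pi.single l 1) (g (f k)) * (Pi.single k (1:R) : Fin n → R) m := by
    intro k l hlk m
    have h1 := H (Pi.single k 1) (f k) (Pi.single l 1)
    simp only at h1
    rw [hB (Pi.single k 1) (f k), hB (Pi.single l 1) (f k), hf, hf, if_pos rfl,
      if_neg (Ne.symm hlk), zero_smul, sub_zero] at h1
    have := congrFun h1 m
    simpa [ent] using this
  intro l m hlm
  obtain ⟨k, hkl, hkm⟩ := exists_third hn l m
  constructor
  · rw [key k l (Ne.symm hkl) m, Pi.single_eq_of_ne (Ne.symm hlm), Pi.single_eq_of_ne (Ne.symm hkm)]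
    ring
  · have e1 := key k l (Ne.symm hkl) l
    have e2 := key k m (Ne.symm hkm) m
    rw [Pi.single_eq_same, Pi.single_eq_of_ne (Ne.symm hkl)] at e1
    rw [Pi.single_eq_same, Pi.single_eq_of_ne (Ne.symm hkm)] at e2
    linear_combination e1 - e2

/-- Lemma B: the Gram determinant of a coordinate plane kills (a power) all entry expressions. -/
theorem gram_pow_mul_ent (hn : 3 ≤ n) (B : LinearMap.BilinForm R (Fin n → R)) (hB : ∀ x y, B x y = B y x)
    (g : (Fin n → R) →ₗ[R] (Fin n → R)) (H : LieComm (fun x y => B x y) g)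
    (i j : Fin n) (_hij : i ≠ j) :
    ∀ l m : Fin n, l ≠ m →
      (B (Pi.single i 1) (Pi.single i 1) * B (Pi.single j 1) (Pi.single j 1)
          - B (Pi.single i 1) (Pi.single j 1) ^ 2) ^ 6 * ent g m l = 0 ∧
      (B (Pi.single i 1) (Pi.single i 1) * B (Pi.single j 1) (Pi.single j 1)
          - B (Pi.single i 1) (Pi.single j 1) ^ 2) ^ 6 * (ent g l l - ent g m m) = 0 := by
  obtain ⟨k, hki, hkj⟩ := exists_third hn i j
  obtain ⟨c, hc⟩ := exists_scalar_of_lieComm B hB g H (Pi.single i 1) (Pi.single j 1)
    (LinearMap.proj k) (Pi.single k 1) (by simp [hki]) (by simp [hkj]) (by simp)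
  set D := B (Pi.single i 1) (Pi.single i 1) * B (Pi.single j 1) (Pi.single j 1)
          - B (Pi.single i 1) (Pi.single j 1) ^ 2 with hD
  have key : ∀ l m : Fin n, D ^ 5 * (D * ent g m l - c * (Pi.single l (1:R) : Fin n → R) m) = 0 := by
    intro l m
    have := congrFun (hc (Pi.single l 1)) m
    simpa [ent] using this
  intro l m hlm
  constructor
  · have := key l m
    rw [Pi.single_eq_of_ne (Ne.symm hlm)] at this
    linear_combination this
  · have e1 := key l l
    have e2 := key m m
    rw [Pi.single_eq_same] at e1 e2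
    linear_combination e1 - e2

theorem eq_zero_of_span_pow (s : Set R) (hs : Ideal.span s = ⊤) (N : ℕ) (e : R)
    (h : ∀ r ∈ s, r ^ N * e = 0) : e = 0 := by
  have h1 := Ideal.span_pow_eq_top s hs N
  have h2 : ∀ x ∈ Ideal.span ((fun x => x ^ N) '' s), x * e = 0 := by
    intro x hx
    induction hx using Submodule.span_induction with
    | mem x hx =>
      obtain ⟨r, hr, rfl⟩ := hx
      exact h r hr
    | zero => simp
    | add x y _ _ hx hy => rw [add_mul, hx, hy, add_zero]
    | smul a x _ hx => rw [smul_eq_mul, mul_assoc, hx, mul_zero]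
  have := h2 1 (by rw [h1]; trivial)
  simpa using this

/-- The regular (perfect polar form) case. -/
theorem scalar_of_lieComm_of_dual (hn : 3 ≤ n) (B : LinearMap.BilinForm R (Fin n → R))
    (hB : ∀ x y, B x y = B y x)
    (g : (Fin n → R) →ₗ[R] (Fin n → R)) (H : LieComm (fun x y => B x y) g)
    (f : Fin n → (Fin n → R))
    (hf : ∀ k j, B (f k) (Pi.single j 1) = if k = j then 1 else 0) :
    ∃ c : R, ∀ x, g x = c • x := by
  have h := delta_mul_ent hn B hB g H 1 f hf
  refine ⟨ent g ⟨0, by omega⟩ ⟨0, by omega⟩, scalar_of_ent g _ fun l m hlm => ?_⟩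
  have := h l m hlm
  simpa using this

/-- The semiregular case: `det = 2 * unit`, even diagonal, and `(2, B_ij (i ≠ j)) = R`. -/
theorem scalar_of_lieComm_of_half (hn : 3 ≤ n) (B : LinearMap.BilinForm R (Fin n → R))
    (hB : ∀ x y, B x y = B y x)
    (g : (Fin n → R) →ₗ[R] (Fin n → R)) (H : LieComm (fun x y => B x y) g)
    (hd : R) (hhd : IsUnit hd) (f : Fin n → (Fin n → R))
    (hf : ∀ k j, B (f k) (Pi.single j 1) = if k = j then 2 * hd else 0)
    (q : Fin n → R) (hq : ∀ i, B (Pi.single i 1) (Pi.single i 1) = 2 * q i)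
    (hspan : Ideal.span ({(2 : R)} ∪ {r | ∃ i j : Fin n, i ≠ j ∧ r = B (Pi.single i 1) (Pi.single j 1)}) = ⊤) :
    ∃ c : R, ∀ x, g x = c • x := by
  have hA := delta_mul_ent hn B hB g H (2 * hd) f hf
  have hBm := gram_pow_mul_ent hn B hB g H
  have main : ∀ e : R, (2 * hd) * e = 0 →
      (∀ i j : Fin n, i ≠ j → (B (Pi.single i 1) (Pi.single i 1) * B (Pi.single j 1) (Pi.single j 1)
          - B (Pi.single i 1) (Pi.single j 1) ^ 2) ^ 6 * e = 0) → e = 0 := by
    intro e h2 hD
    have h2e : 2 * e = 0 := by
      obtain ⟨v, rfl⟩ := hhd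
      have : (↑v⁻¹ : R) * (2 * ↑v * e) = 0 := by rw [h2, mul_zero]
      have hv : (↑v⁻¹ : R) * ↑v = 1 := v.inv_mul
      linear_combination this - 2 * e * hv
    apply eq_zero_of_span_pow _ hspan 12 e
    intro r hr
    rcases hr with hr | ⟨i, j, hij, rfl⟩
    · rw [Set.mem_singleton_iff] at hr
      subst hr
      linear_combination (2 ^ 11 : R) * h2e
    · have hDij := hD i j hij
      rw [hq i, hq j] at hDij
      set β := B (Pi.single i 1) (Pi.single j 1) with hβ
      have step : ∀ x : R, 2 * x = 0 → (2 * q i * (2 * q j) - β ^ 2) * x = -(β ^ 2) * x := by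
        intro x hx
        linear_combination (2 * q i * q j) * hx
      have hpow : ∀ k : ℕ, (2 * q i * (2 * q j) - β ^ 2) ^ k * e = (-(β ^ 2)) ^ k * e := by
        intro k
        induction k with
        | zero => simp
        | succ k ih =>
          rw [pow_succ, mul_assoc, step e h2e, ← mul_assoc, mul_comm _ (-(β ^ 2)), mul_assoc, ih]
          ring
      rw [hpow 6] at hDij
      linear_combination hDij
  refine ⟨ent g ⟨0, by omega⟩ ⟨0, by omega⟩, scalar_of_ent g _ fun l m hlm => ?_⟩
  constructor
  · exact main _ (hA l m hlm).1 fun i j hij => (hBm i j hij l m hlm).1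
  · exact main _ (hA l m hlm).2 fun i j hij => (hBm i j hij l m hlm).2

end Concrete

end Groth.Agent.Lib.Helper59.QuadCentreAlg
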