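import Groth.Agent.Lib.Helper59.QuadCentre

/-
Helper59: the infinitesimal isometry `1 + ε X_{u,w}` has determinant one (product of two
"transvections" over `R[ε]`), hence is a point of the naive special orthogonal group `SO'`.
-/

set_option autoImplicit false
universe u v w

open TensorProduct DualNumber QuadraticMap QuadGrp

namespace Groth.Agent.Lib.Helper59.QuadCentreDet

open Groth.Agent.Lib.Helper59.QuadCentreInf

variable {R : Type u} [CommRing R] {M : Type v} [AddCommGroup M] [Module R M]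

/-- The base change of the linear form `B(u, ·)` to `R[ε]`, valued in `R[ε]`. -/
noncomputable def F (Q : QuadraticForm R M) (u : M) : (R[ε] ⊗[R] M) →ₗ[R[ε]] R[ε] :=
  (TensorProduct.AlgebraTensorModule.rid R R[ε] R[ε]).toLinearMap ∘ₗ
    (QuadraticMap.polarBilin Q u).baseChange R[ε]

theorem F_tmul (Q : QuadraticForm R M) (u : M) (a : R[ε]) (v : M) :
    F Q u (a ⊗ₜ[R] v) = polar Q u v • a := by
  simp [F, LinearMap.baseChange_tmul]

theorem infEquiv_eq_comp (Q : QuadraticForm R M) (u w : M) :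
    (infEquiv Q u w : (R[ε] ⊗[R] M) →ₗ[R[ε]] (R[ε] ⊗[R] M)) =
      LinearMap.transvection ((ε : R[ε]) • F Q u) ((1 : R[ε]) ⊗ₜ[R] w) ∘ₗ
        LinearMap.transvection (-((ε : R[ε]) • F Q w)) ((1 : R[ε]) ⊗ₜ[R] u) := by
  apply TensorProduct.AlgebraTensorModule.ext
  intro a v
  rw [LinearEquiv.coe_coe, infEquiv_apply, N_tmul, LinearMap.comp_apply, LinearMap.transvection.apply,
    LinearMap.transvection.apply, X_apply]
  simp only [LinearMap.neg_apply, LinearMap.smul_apply, F_tmul, map_add,
    smul_eq_mul, smul_tmul', mul_one, tmul_sub, tmul_smul]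
  have e2 : (ε : R[ε]) * ((ε : R[ε]) * (polar Q w v • a)) = 0 := by
    rw [← mul_assoc, DualNumber.eps_mul_eps, zero_mul]
  have h1 : (ε : R[ε]) * (polar Q w v • a) = polar Q w v • ((ε : R[ε]) * a) := mul_smul_comm _ _ _
  have h2 : (ε : R[ε]) * (polar Q u v • a) = polar Q u v • ((ε : R[ε]) * a) := mul_smul_comm _ _ _
  have h3 : (ε : R[ε]) * polar Q u u • -((ε : R[ε]) * polar Q w v • a) = 0 := by
    rw [mul_smul_comm, mul_neg, e2, neg_zero, smul_zero]
  rw [h3, add_zero, h1, h2, neg_tmul]
  abel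

theorem infEquiv_det [Module.Free R M] [Module.Finite R M] (Q : QuadraticForm R M) (u w : M) :
    LinearEquiv.det (infEquiv Q u w) = 1 := by
  apply Units.ext
  rw [LinearEquiv.coe_det, infEquiv_eq_comp, LinearMap.det_comp, LinearMap.transvection.det,
    LinearMap.transvection.det, Units.val_one]
  simp only [LinearMap.neg_apply, LinearMap.smul_apply, F_tmul, smul_eq_mul]
  rw [polar_comm Q w u]
  have : (ε : R[ε]) * (polar Q u w • (1 : R[ε])) * ((ε : R[ε]) * (polar Q u w • (1 : R[ε]))) = 0 := by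
    rw [mul_smul_comm, mul_one, smul_mul_smul_comm, DualNumber.eps_mul_eps, smul_zero]
  linear_combination -this

theorem infEquiv_mem_sorth' [Module.Free R M] [Module.Finite R M] (Q : QuadraticForm R M) (u w : M) :
    infEquiv Q u w ∈ QuadGrp.sorth' Q R[ε] := by
  refine ⟨infEquiv_mem_orth Q u w, ?_⟩
  exact infEquiv_det Q u w

end Groth.Agent.Lib.Helper59.QuadCentreDet
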