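import Groth.Agent.Lib.Helper59.QuadCentreDet

/-
Helper59: the infinitesimal isometry `1 + ε X_{u,w}` satisfies the Dickson condition: on the Clifford
algebra it is conjugation by the even unit `1 + ε ι(u) ι(w)`, which fixes the centre of the even
subalgebra. Hence it is a point of `QuadGrp.sorth Q R[ε]` (both branches of the parity `if`).
-/

set_option autoImplicit false
universe u v w

open TensorProduct DualNumber QuadraticMap QuadGrp CliffordAlgebra

namespace Groth.Agent.Lib.Helper59.QuadCentreDickson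

open Groth.Agent.Lib.Helper59.QuadCentreInf

section General

variable {S : Type u} [CommRing S] {V : Type v} [AddCommGroup V] [Module S V]

theorem clifford_comm (Q : QuadraticForm S V) (u w y : V) :
    ι Q y * (ι Q u * ι Q w) - (ι Q u * ι Q w) * ι Q y = ι Q (X Q u w y) := by
  have h1 := ι_mul_ι_add_swap (Q := Q) y u
  have h2 := ι_mul_ι_add_swap (Q := Q) y w
  rw [X_apply, map_sub, map_smul, map_smul, Algebra.smul_def, Algebra.smul_def, polar_comm Q u y,
    polar_comm Q w y, Algebra.commutes (polar Q y w), ← h1, ← h2]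
  noncomm_ring

theorem conj_ι (Q : QuadraticForm S V) (u w y : V) (e : S) (he : e * e = 0) :
    (1 - e • (ι Q u * ι Q w)) * ι Q y * (1 + e • (ι Q u * ι Q w)) = ι Q (y + e • X Q u w y) := by
  rw [map_add, map_smul, ← clifford_comm]
  set p := ι Q u * ι Q w with hp
  have h0 : (e • p) * ι Q y * (e • p) = 0 := by
    rw [smul_mul_assoc, smul_mul_assoc, mul_smul_comm, smul_smul, he, zero_smul]
  have h1 : e • (ι Q y * p - p * ι Q y) = ι Q y * (e • p) - (e • p) * ι Q y := by
    rw [smul_sub, mul_smul_comm, smul_mul_assoc]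
  rw [h1]
  generalize e • p = P at *
  have expand : (1 - P) * ι Q y * (1 + P) =
      ι Q y + (ι Q y * P - P * ι Q y) - P * ι Q y * P := by
    noncomm_ring
  rw [expand, h0, sub_zero]

theorem inv_mul (Q : QuadraticForm S V) (u w : V) (e : S) (he : e * e = 0) :
    (1 - e • (ι Q u * ι Q w)) * (1 + e • (ι Q u * ι Q w)) = 1 := by
  set p := ι Q u * ι Q w with hp
  have h0 : (e • p) * (e • p) = 0 := by
    rw [smul_mul_smul_comm, he, zero_smul]
  generalize e • p = P at *
  have : (1 - P) * (1 + P) = 1 - P * P := by noncomm_ring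
  rw [this, h0, sub_zero]

theorem mul_inv (Q : QuadraticForm S V) (u w : V) (e : S) (he : e * e = 0) :
    (1 + e • (ι Q u * ι Q w)) * (1 - e • (ι Q u * ι Q w)) = 1 := by
  set p := ι Q u * ι Q w with hp
  have h0 : (e • p) * (e • p) = 0 := by
    rw [smul_mul_smul_comm, he, zero_smul]
  generalize e • p = P at *
  have : (1 + P) * (1 - P) = 1 - P * P := by noncomm_ring
  rw [this, h0, sub_zero]

/-- Conjugation by `1 + e • ι u ι w` as an algebra endomorphism. -/
noncomputable def conjHom (Q : QuadraticForm S V) (u w : V) (e : S) (he : e * e = 0) :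
    CliffordAlgebra Q →ₐ[S] CliffordAlgebra Q where
  toFun z := (1 - e • (ι Q u * ι Q w)) * z * (1 + e • (ι Q u * ι Q w))
  map_one' := by rw [mul_one, inv_mul Q u w e he]
  map_mul' x y := by
    have := mul_inv Q u w e he
    generalize (1 + e • (ι Q u * ι Q w)) = c at *
    generalize (1 - e • (ι Q u * ι Q w)) = d at *
    calc d * (x * y) * c = d * x * 1 * y * c := by rw [mul_one]; noncomm_ring
      _ = d * x * c * (d * y * c) := by rw [← this]; noncomm_ring
  map_zero' := by simp
  map_add' x y := by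
    generalize (1 + e • (ι Q u * ι Q w)) = c
    generalize (1 - e • (ι Q u * ι Q w)) = d
    rw [mul_add, add_mul]
  commutes' r := by
    rw [← Algebra.commutes, mul_assoc, inv_mul Q u w e he, mul_one]

theorem dickson_of_inf (Q : QuadraticForm S V) (u w : V) (e : S) (he : e * e = 0)
    (h : V ≃ₗ[S] V) (hh : ∀ y, h y = y + e • X Q u w y) (hO : h ∈ QuadGrp.O Q) :
    QuadGrp.IsDicksonTrivial Q h hO := by
  have hmap : CliffordAlgebra.map (QuadGrp.isometryOfMem Q h hO) = conjHom Q u w e he := by
    apply CliffordAlgebra.hom_ext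
    ext y
    simp only [LinearMap.comp_apply, AlgHom.toLinearMap_apply, CliffordAlgebra.map_apply_ι,
      QuadGrp.isometryOfMem_apply]
    change _ = (1 - e • (ι Q u * ι Q w)) * ι Q y * (1 + e • (ι Q u * ι Q w))
    rw [conj_ι Q u w y e he, hh]
  intro z hz
  rw [hmap]
  change (1 - e • (ι Q u * ι Q w)) * (z : CliffordAlgebra Q) * (1 + e • (ι Q u * ι Q w)) = z
  have hc : (1 + e • (ι Q u * ι Q w)) ∈ CliffordAlgebra.even Q := by
    refine (CliffordAlgebra.even Q).add_mem (one_mem _) ((CliffordAlgebra.even Q).smul_mem ?_ e)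
    exact ι_mul_ι_mem_evenOdd_zero Q u w
  have hz' := Subalgebra.mem_center_iff.1 hz ⟨_, hc⟩
  have hz'' : (1 + e • (ι Q u * ι Q w)) * (z : CliffordAlgebra Q)
      = (z : CliffordAlgebra Q) * (1 + e • (ι Q u * ι Q w)) := congrArg Subtype.val hz'
  rw [mul_assoc, ← hz'', ← mul_assoc, inv_mul Q u w e he, one_mul]

end General

section Special

variable {R : Type u} [CommRing R] {M : Type v} [AddCommGroup M] [Module R M]

theorem polar_baseChangeForm_tmul [Module.Free R M] (Q : QuadraticForm R M) (a b : R[ε]) (m m' : M) :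
    polar (QuadGrp.baseChangeForm R[ε] Q) (a ⊗ₜ[R] m) (b ⊗ₜ[R] m') = polar Q m m' • (a * b) := by
  have : ∀ x y, polar (QuadGrp.baseChangeForm R[ε] Q) x y =
      (TensorProduct.AlgebraTensorModule.rid R R[ε] R[ε]) (polar (QuadGrp.baseChange R[ε] Q) x y) := by
    intro x y
    simp [polar, QuadGrp.baseChangeForm]
  rw [this, polar_baseChange_tmul, TensorProduct.AlgebraTensorModule.rid_tmul]

theorem X_baseChange [Module.Free R M] (Q : QuadraticForm R M) (u w : M) :
    (X Q u w).baseChange R[ε] =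
      X (QuadGrp.baseChangeForm R[ε] Q) ((1 : R[ε]) ⊗ₜ[R] u) ((1 : R[ε]) ⊗ₜ[R] w) := by
  apply TensorProduct.AlgebraTensorModule.ext
  intro a v
  rw [LinearMap.baseChange_tmul, X_apply, X_apply, polar_baseChangeForm_tmul,
    polar_baseChangeForm_tmul, one_mul, tmul_sub, tmul_smul, tmul_smul, smul_tmul', smul_tmul',
    smul_tmul' (polar Q u v • a), smul_tmul' (polar Q w v • a), smul_eq_mul, smul_eq_mul, mul_one, mul_one]

theorem infEquiv_mem_O_form [Module.Free R M] (Q : QuadraticForm R M) (u w : M) :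
    infEquiv Q u w ∈ QuadGrp.O (QuadGrp.baseChangeForm R[ε] Q) := by
  have h := infEquiv_mem_orth Q u w
  change infEquiv Q u w ∈ QuadGrp.O (QuadGrp.baseChange R[ε] Q) at h
  rw [QuadGrp.mem_O] at h ⊢
  intro y
  simp only [QuadGrp.baseChangeForm, LinearMap.compQuadraticMap_apply]
  rw [h y]

theorem infEquiv_mem_sorth [Module.Free R M] [Module.Finite R M] (Q : QuadraticForm R M) (u w : M) :
    infEquiv Q u w ∈ QuadGrp.sorth Q R[ε] := by
  have hO := infEquiv_mem_O_form Q u w
  unfold QuadGrp.sorth QuadGrp.SO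
  split_ifs
  · refine ⟨hO, dickson_of_inf _ ((1 : R[ε]) ⊗ₜ[R] u) ((1 : R[ε]) ⊗ₜ[R] w) ε DualNumber.eps_mul_eps _
      (fun y => ?_) hO⟩
    rw [infEquiv_apply, ← X_baseChange]
    rfl
  · exact ⟨hO, Groth.Agent.Lib.Helper59.QuadCentreDet.infEquiv_det Q u w⟩

end Special

end Groth.Agent.Lib.Helper59.QuadCentreDickson
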