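import Groth.Prelude.Def_QuadGrp
import Groth.Agent.Lib.Helper59.QuadCentreAlg

/-
Helper59: infinitesimal isometries `1 + ε X_{u,w}` over the dual numbers `R[ε]`, as points of the
orthogonal group functor `QuadGrp.orth Q R[ε]`, and the extraction of the Lie-algebra centraliser
condition `LieComm` from commutation with them.
-/

set_option autoImplicit false
universe u v w

open TensorProduct DualNumber QuadraticMap

namespace Groth.Agent.Lib.Helper59.QuadCentreInf

open Groth.Agent.Lib.Helper59.QuadCentreAlg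

variable {R : Type u} [CommRing R] {M : Type v} [AddCommGroup M] [Module R M]

/-- The infinitesimal isometry `X_{u,w} : v ↦ B(u,v) w - B(w,v) u`. -/
def X (Q : QuadraticForm R M) (u w : M) : M →ₗ[R] M :=
  (QuadraticMap.polarBilin Q u).smulRight w - (QuadraticMap.polarBilin Q w).smulRight u

theorem X_apply (Q : QuadraticForm R M) (u w v : M) :
    X Q u w v = polar Q u v • w - polar Q w v • u := by
  simp [X]

theorem polar_X (Q : QuadraticForm R M) (u w v : M) : polar Q v (X Q u w v) = 0 := by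
  rw [X_apply, polar_sub_right, polar_smul_right, polar_smul_right, polar_comm Q v w, polar_comm Q v u,
    smul_eq_mul, smul_eq_mul]
  ring

/-- `N = ε • X_A` on `R[ε] ⊗ M`. -/
noncomputable def N (Q : QuadraticForm R M) (u w : M) : (R[ε] ⊗[R] M) →ₗ[R[ε]] (R[ε] ⊗[R] M) :=
  (ε : R[ε]) • (X Q u w).baseChange R[ε]

theorem N_N (Q : QuadraticForm R M) (u w : M) (y : R[ε] ⊗[R] M) : N Q u w (N Q u w y) = 0 := by
  unfold N
  rw [LinearMap.smul_apply, LinearMap.smul_apply, map_smul, smul_smul, DualNumber.eps_mul_eps,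
    zero_smul]

theorem N_tmul (Q : QuadraticForm R M) (u w : M) (a : R[ε]) (v : M) :
    N Q u w (a ⊗ₜ v) = (ε * a) ⊗ₜ X Q u w v := by
  simp [N, LinearMap.baseChange_tmul, smul_tmul']

/-- `1 + ε X_{u,w}` as a linear automorphism of `R[ε] ⊗ M`. -/
noncomputable def infEquiv (Q : QuadraticForm R M) (u w : M) :
    (R[ε] ⊗[R] M) ≃ₗ[R[ε]] (R[ε] ⊗[R] M) :=
  LinearEquiv.ofLinearMap (LinearMap.id + N Q u w) (LinearMap.id - N Q u w)
    (LinearMap.ext fun y => by
      simp only [LinearMap.comp_apply, LinearMap.add_apply, LinearMap.sub_apply, LinearMap.id_apply,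
        map_sub, N_N]
      abel)
    (LinearMap.ext fun y => by
      simp only [LinearMap.comp_apply, LinearMap.add_apply, LinearMap.sub_apply, LinearMap.id_apply,
        map_add, N_N]
      abel)

theorem infEquiv_apply (Q : QuadraticForm R M) (u w : M) (y : R[ε] ⊗[R] M) :
    infEquiv Q u w y = y + N Q u w y := rfl

theorem infEquiv_tmul (Q : QuadraticForm R M) (u w : M) (v : M) :
    infEquiv Q u w ((1 : R[ε]) ⊗ₜ v) = (1 : R[ε]) ⊗ₜ v + (ε : R[ε]) ⊗ₜ X Q u w v := by
  rw [infEquiv_apply, N_tmul, mul_one]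

theorem polar_baseChange_tmul {N' : Type w} [AddCommGroup N'] [Module R N'] [Module.Free R M]
    (A : Type*) [CommRing A] [Algebra R A] (Q : QuadraticMap R M N') (a b : A) (m m' : M) :
    polar (QuadGrp.baseChange A Q) (a ⊗ₜ[R] m) (b ⊗ₜ[R] m') = (a * b) ⊗ₜ[R] polar Q m m' := by
  have h1 : polar Q m m' = QuadGrp.bilinLift Q m m' + QuadGrp.bilinLift Q m' m := by
    conv_lhs => rw [← QuadGrp.bilinLift_spec Q]
    exact LinearMap.BilinMap.polar_toQuadraticMap _ _
  rw [QuadGrp.baseChange, LinearMap.BilinMap.polar_toQuadraticMap, LinearMap.BilinMap.baseChange_tmul,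
    LinearMap.BilinMap.baseChange_tmul, h1, tmul_add, mul_comm b a]

theorem infEquiv_mem_orth [Module.Free R M] (Q : QuadraticForm R M) (u w : M) :
    infEquiv Q u w ∈ QuadGrp.orth Q R[ε] := by
  change infEquiv Q u w ∈ QuadGrp.O (QuadGrp.baseChange R[ε] Q)
  rw [QuadGrp.mem_O]
  have : (QuadGrp.baseChange R[ε] Q).comp (infEquiv Q u w).toLinearMap = QuadGrp.baseChange R[ε] Q := by
    apply _root_.baseChange_ext
    intro m
    rw [QuadraticMap.comp_apply, LinearEquiv.coe_coe, infEquiv_tmul, QuadraticMap.map_add (QuadGrp.baseChange R[ε] Q),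
      QuadGrp.baseChange_tmul, QuadGrp.baseChange_tmul, DualNumber.eps_mul_eps, zero_tmul, add_zero,
      polar_baseChange_tmul, polar_X, tmul_zero, add_zero]
  intro y
  have := congrArg (fun q => q y) this
  simpa using this

/-- Extracting the `ε`-coefficient. -/
noncomputable def epsCoeff (M : Type v) [AddCommGroup M] [Module R M] : (R[ε] ⊗[R] M) →ₗ[R] M :=
  (TensorProduct.lid R M).toLinearMap ∘ₗ LinearMap.rTensor M (TrivSqZeroExt.sndHom R R)

theorem epsCoeff_tmul (a : R[ε]) (v : M) : epsCoeff M (a ⊗ₜ[R] v) = TrivSqZeroExt.snd a • v := by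
  simp [epsCoeff]

theorem lieComm_of_comm (Q : QuadraticForm R M) (g : M ≃ₗ[R] M)
    (h : ∀ u w : M, g.baseChange R R[ε] M M * infEquiv Q u w = infEquiv Q u w * g.baseChange R R[ε] M M) :
    LieComm (fun x y => QuadraticMap.polarBilin Q x y) (g : M →ₗ[R] M) := by
  intro u v w
  have h1 := congrArg (fun e => e ((1 : R[ε]) ⊗ₜ[R] v)) (h u w)
  simp only [LinearEquiv.mul_apply, infEquiv_tmul, map_add, LinearEquiv.baseChange_tmul] at h1
  have h2 := congrArg (epsCoeff M) h1
  simp only [map_add, epsCoeff_tmul, DualNumber.snd_eps, TrivSqZeroExt.snd_one, zero_smul, one_smul,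
    zero_add, X_apply, map_sub, map_smul] at h2
  simpa using h2

end Groth.Agent.Lib.Helper59.QuadCentreInf
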