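import Mathlib

/-!
# Localisations of `R[z]/(h)`: integrality and generic rank
-/

namespace Groth.Agent.Lib.Helper59.QuadLoc

open TensorProduct Polynomial

universe u

section Rank

variable (R : Type u) [CommRing R] [IsDomain R] (h : Polynomial R)

/-- Base change of `AdjoinRoot h` to the fraction field. -/
noncomputable def fracEquiv :
    (FractionRing R) ⊗[R] AdjoinRoot h ≃ₐ[FractionRing R]
      AdjoinRoot (h.map (algebraMap R (FractionRing R))) :=
  (AdjoinRoot.tensorAlgEquiv (R := R) (S := R) (T := FractionRing R) h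
    (h.map (Algebra.TensorProduct.includeRight :
      R →ₐ[R] (FractionRing R) ⊗[R] R).toRingHom) rfl).trans
  (AdjoinRoot.mapAlgEquiv (Algebra.TensorProduct.rid R (FractionRing R) (FractionRing R))
    _ _ (by
      rw [Polynomial.map_map]
      have : (RingHomClass.toRingHom (Algebra.TensorProduct.rid R (FractionRing R)
          (FractionRing R))).comp (Algebra.TensorProduct.includeRight :
            R →ₐ[R] (FractionRing R) ⊗[R] R).toRingHom = algebraMap R (FractionRing R) := by
        ext r
        simp [Algebra.algebraMap_eq_smul_one]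
      rw [this]))

theorem finrank_frac (h0 : h ≠ 0) :
    Module.finrank (FractionRing R) ((FractionRing R) ⊗[R] AdjoinRoot h) = h.natDegree := by
  rw [(fracEquiv R h).toLinearEquiv.finrank_eq]
  have h0' : h.map (algebraMap R (FractionRing R)) ≠ 0 := by
    rwa [Ne, Polynomial.map_eq_zero_iff (IsFractionRing.injective R (FractionRing R))]
  rw [(AdjoinRoot.powerBasis h0').finrank, AdjoinRoot.powerBasis_dim,
    natDegree_map_eq_of_injective (IsFractionRing.injective R (FractionRing R))]

end Rank

section Integral

variable (R : Type u) [CommRing R] [IsDomain R] (h : Polynomial R) (S : Submonoid R)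

local notation "Rs" => Localization S
local notation "As" => Localization (Algebra.algebraMapSubmonoid (AdjoinRoot h) S)

/-- The image of the root in the localisation. -/
noncomputable abbrev zeta : As := algebraMap (AdjoinRoot h) As (AdjoinRoot.root h)

theorem aeval_zeta (p : Polynomial R) :
    aeval (zeta R h S) p = algebraMap (AdjoinRoot h) As (AdjoinRoot.mk h p) := by
  rw [zeta, aeval_algebraMap_apply, AdjoinRoot.aeval_eq]

theorem aeval_zeta_map (p : Polynomial R) :
    aeval (zeta R h S) (p.map (algebraMap R Rs)) =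
      algebraMap (AdjoinRoot h) As (AdjoinRoot.mk h p) := by
  rw [aeval_map_algebraMap, aeval_zeta]

theorem isIntegral_zeta (hu : IsUnit (algebraMap R Rs h.leadingCoeff)) :
    IsIntegral Rs (zeta R h S) := by
  by_cases hs : Subsingleton Rs
  · haveI := hs
    refine ⟨1, monic_one, ?_⟩
    have : (1 : Polynomial Rs) = 0 := Subsingleton.elim _ _
    rw [this, eval₂_zero]
  · haveI : Nontrivial Rs := not_subsingleton_iff_nontrivial.mp hs
    have hlc : (h.map (algebraMap R Rs)).leadingCoeff = algebraMap R Rs h.leadingCoeff :=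
      leadingCoeff_map_of_leadingCoeff_ne_zero _ hu.ne_zero
    have hu' : IsUnit (h.map (algebraMap R Rs)).leadingCoeff := by rw [hlc]; exact hu
    refine ⟨hu'.unit⁻¹ • h.map (algebraMap R Rs), monic_of_isUnit_leadingCoeff_inv_smul hu', ?_⟩
    rw [← aeval_def, Units.smul_def, map_smul, aeval_zeta_map, AdjoinRoot.mk_self, map_zero,
      smul_zero]

theorem isIntegral_of_isUnit (hu : IsUnit (algebraMap R Rs h.leadingCoeff)) :
    Algebra.IsIntegral Rs As := by
  refine ⟨fun x => ?_⟩
  obtain ⟨a, ⟨m, s, hs, rfl⟩, rfl⟩ :=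
    IsLocalization.exists_mk'_eq (Algebra.algebraMapSubmonoid (AdjoinRoot h) S) x
  have hx : IsLocalization.mk' As a
      (⟨algebraMap R (AdjoinRoot h) s, s, hs, rfl⟩ : Algebra.algebraMapSubmonoid (AdjoinRoot h) S) =
      algebraMap Rs As (IsLocalization.mk' Rs 1 (⟨s, hs⟩ : S)) *
        algebraMap (AdjoinRoot h) As a := by
    rw [IsLocalization.mk'_eq_iff_eq_mul]
    show _ = _ * algebraMap (AdjoinRoot h) As (algebraMap R (AdjoinRoot h) s)
    rw [← IsScalarTower.algebraMap_apply R (AdjoinRoot h) As,
      IsScalarTower.algebraMap_apply R Rs As, mul_right_comm, ← map_mul,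
      IsLocalization.mk'_spec, map_one, map_one, one_mul]
  rw [hx]
  refine IsIntegral.mul isIntegral_algebraMap ?_
  induction a using AdjoinRoot.induction_on with
  | ih p =>
    rw [← aeval_zeta_map]
    have hle : Algebra.adjoin Rs {zeta R h S} ≤ integralClosure Rs As :=
      Algebra.adjoin_le (by
        rintro _ rfl
        exact isIntegral_zeta R h S hu)
    exact hle (aeval_mem_adjoin_singleton Rs _)

theorem isUnit_of_isIntegral (hI : Algebra.IsIntegral Rs As) :
    IsUnit (algebraMap R Rs h.leadingCoeff) := by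
  by_cases h0 : (0 : R) ∈ S
  · haveI : Subsingleton Rs := IsLocalization.subsingleton (M := S) h0
    exact isUnit_of_subsingleton _
  have hS : S ≤ nonZeroDivisors R := le_nonZeroDivisors_of_noZeroDivisors h0
  have inj : Function.Injective (algebraMap R Rs) := IsLocalization.injective _ hS
  obtain ⟨g, hgm, hg0⟩ := hI.isIntegral (zeta R h S)
  obtain ⟨b, hb, hG'⟩ := IsLocalization.integerNormalization_spec S g
  set G := IsLocalization.integerNormalization S g with hGdef
  have h1 : algebraMap (AdjoinRoot h) As (AdjoinRoot.mk h G) = 0 := by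
    rw [← aeval_zeta_map, hG', ← algebraMap_smul Rs b g, map_smul, aeval_def, hg0, smul_zero]
  obtain ⟨⟨m, s', hs', rfl⟩, hm⟩ := (IsLocalization.map_eq_zero_iff
    (Algebra.algebraMapSubmonoid (AdjoinRoot h) S) As _).mp h1
  have h2 : h ∣ C s' * G := by
    rw [← AdjoinRoot.mk_eq_zero, map_mul, AdjoinRoot.mk_C]
    exact hm
  obtain ⟨q, hq⟩ := h2
  have h3 := congrArg leadingCoeff hq
  rw [leadingCoeff_mul, leadingCoeff_mul, leadingCoeff_C] at h3
  have hreg : IsSMulRegular Rs b := by
    intro x y hxy
    simp only [Algebra.smul_def] at hxy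
    exact (IsUnit.mul_right_inj (IsLocalization.map_units Rs (⟨b, hb⟩ : S))).mp hxy
  have hdeg : G.natDegree = g.natDegree := by
    rw [← natDegree_map_eq_of_injective inj G, hG']
    exact natDegree_smul_of_smul_regular g hreg
  have hlc : algebraMap R Rs G.leadingCoeff = algebraMap R Rs b := by
    rw [leadingCoeff, ← coeff_map, hG', coeff_smul, hdeg, hgm.coeff_natDegree, Algebra.smul_def,
      mul_one]
  have h4 := congrArg (algebraMap R Rs) h3
  rw [map_mul, map_mul, hlc] at h4
  have hu : IsUnit (algebraMap R Rs s' * algebraMap R Rs b) :=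
    (IsLocalization.map_units Rs (⟨s', hs'⟩ : S)).mul (IsLocalization.map_units Rs (⟨b, hb⟩ : S))
  rw [h4] at hu
  exact isUnit_of_mul_isUnit_left hu

theorem isIntegral_iff :
    Algebra.IsIntegral Rs As ↔ IsUnit (algebraMap R Rs h.leadingCoeff) :=
  ⟨isUnit_of_isIntegral R h S, isIntegral_of_isUnit R h S⟩

end Integral

end Groth.Agent.Lib.Helper59.QuadLoc
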