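import Mathlib

/-!
# Element-level consequences of quasi-isomorphisms of complexes of abelian groups,
and the Moore-complex lifting lemma for simplicial abelian groups (via Mathlib's `PInfty`).
-/

open CategoryTheory Simplicial AlgebraicTopology AlgebraicTopology.DoldKan Opposite

universe u

namespace Groth.Agent.Lib.Helper59.QI

lemma pi_eq_zero_iff (S : ShortComplex Ab.{u}) (k : AddMonoidHom.ker S.g.hom) :
    S.abLeftHomologyData.π k = 0 ↔ ∃ x₁ : S.X₁, S.f x₁ = k.1 := by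
  refine (QuotientAddGroup.eq_zero_iff (N := AddMonoidHom.range S.abToCycles) k).trans ?_
  rw [AddMonoidHom.mem_range]
  constructor
  · rintro ⟨x, hx⟩
    exact ⟨x, congrArg Subtype.val hx⟩
  · rintro ⟨x, hx⟩
    exact ⟨x, Subtype.ext hx⟩

lemma pi_surjective (S : ShortComplex Ab.{u}) (η : S.abLeftHomologyData.H) :
    ∃ k : AddMonoidHom.ker S.g.hom, S.abLeftHomologyData.π k = η :=
  QuotientAddGroup.mk'_surjective (AddMonoidHom.range S.abToCycles) η

variable {S₁ S₂ : ShortComplex Ab.{u}} (φ : S₁ ⟶ S₂)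

lemma inj_of_quasiIso [h : ShortComplex.QuasiIso φ] (x₂ : S₁.X₂) (hx₂ : S₁.g x₂ = 0)
    (y₁ : S₂.X₁) (hy₁ : S₂.f y₁ = φ.τ₂ x₂) : ∃ x₁ : S₁.X₁, S₁.f x₁ = x₂ := by
  have hiso := (ShortComplex.quasiIso_iff_isIso_leftHomologyMap' φ S₁.abLeftHomologyData
    S₂.abLeftHomologyData).mp h
  have hinj : Function.Injective (ShortComplex.leftHomologyMap' φ S₁.abLeftHomologyData
    S₂.abLeftHomologyData) := ((ConcreteCategory.isIso_iff_bijective _).mp hiso).1
  let k : AddMonoidHom.ker S₁.g.hom := ⟨x₂, hx₂⟩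
  obtain ⟨c, hc⟩ : ∃ c : AddMonoidHom.ker S₂.g.hom, c = (ShortComplex.cyclesMap' φ
    S₁.abLeftHomologyData S₂.abLeftHomologyData) k := ⟨_, rfl⟩
  have h1 : (ShortComplex.leftHomologyMap' φ S₁.abLeftHomologyData S₂.abLeftHomologyData)
      (S₁.abLeftHomologyData.π k) = S₂.abLeftHomologyData.π c := by
    rw [hc]
    exact ConcreteCategory.congr_hom (ShortComplex.leftHomologyπ_naturality' φ
      S₁.abLeftHomologyData S₂.abLeftHomologyData) k
  have h2 : c.1 = φ.τ₂ k.1 := by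
    rw [hc]
    exact ConcreteCategory.congr_hom (ShortComplex.cyclesMap'_i φ
      S₁.abLeftHomologyData S₂.abLeftHomologyData) k
  have h3 : S₂.abLeftHomologyData.π c = 0 := by
    rw [pi_eq_zero_iff]
    exact ⟨y₁, hy₁.trans h2.symm⟩
  rw [h3] at h1
  have h4 : S₁.abLeftHomologyData.π k = 0 := hinj (h1.trans (map_zero _).symm)
  rw [pi_eq_zero_iff] at h4
  exact h4

lemma surj_of_quasiIso [h : ShortComplex.QuasiIso φ] (y₂ : S₂.X₂) (hy₂ : S₂.g y₂ = 0) :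
    ∃ (x₂ : S₁.X₂) (y₁ : S₂.X₁), S₁.g x₂ = 0 ∧ y₂ = φ.τ₂ x₂ + S₂.f y₁ := by
  have hiso := (ShortComplex.quasiIso_iff_isIso_leftHomologyMap' φ S₁.abLeftHomologyData
    S₂.abLeftHomologyData).mp h
  have hsurj : Function.Surjective (ShortComplex.leftHomologyMap' φ S₁.abLeftHomologyData
    S₂.abLeftHomologyData) := ((ConcreteCategory.isIso_iff_bijective _).mp hiso).2
  let k' : AddMonoidHom.ker S₂.g.hom := ⟨y₂, hy₂⟩
  obtain ⟨η, hη⟩ := hsurj (S₂.abLeftHomologyData.π k')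
  obtain ⟨k, rfl⟩ := pi_surjective S₁ η
  obtain ⟨c, hc⟩ : ∃ c : AddMonoidHom.ker S₂.g.hom, c = (ShortComplex.cyclesMap' φ
    S₁.abLeftHomologyData S₂.abLeftHomologyData) k := ⟨_, rfl⟩
  have h1 : (ShortComplex.leftHomologyMap' φ S₁.abLeftHomologyData S₂.abLeftHomologyData)
      (S₁.abLeftHomologyData.π k) = S₂.abLeftHomologyData.π c := by
    rw [hc]
    exact ConcreteCategory.congr_hom (ShortComplex.leftHomologyπ_naturality' φ
      S₁.abLeftHomologyData S₂.abLeftHomologyData) k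
  have h2 : c.1 = φ.τ₂ k.1 := by
    rw [hc]
    exact ConcreteCategory.congr_hom (ShortComplex.cyclesMap'_i φ
      S₁.abLeftHomologyData S₂.abLeftHomologyData) k
  rw [hη] at h1
  have h3 : S₂.abLeftHomologyData.π (k' - c) = 0 := by
    have := map_sub (S₂.abLeftHomologyData.π).hom k' c
    exact this.trans (sub_eq_zero.mpr h1)
  rw [pi_eq_zero_iff] at h3
  obtain ⟨y₁, hy₁⟩ := h3
  refine ⟨k.1, y₁, k.2, ?_⟩
  rw [hy₁]
  change y₂ = φ.τ₂ k.1 + (y₂ - c.1)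
  rw [show c.1 = φ.τ₂ k.1 from h2]
  abel


variable {K L : ChainComplex Ab.{u} ℕ} (φ : K ⟶ L)

lemma chain_inj [QuasiIso φ] (n : ℕ) (x : K.X n) (hx : ∀ k, K.d n k x = 0)
    (y : L.X (n + 1)) (hy : L.d (n + 1) n y = φ.f n x) :
    ∃ x' : K.X (n + 1), K.d (n + 1) n x' = x := by
  have h1 : QuasiIsoAt φ n := inferInstance
  rw [quasiIsoAt_iff' φ (n + 1) n ((ComplexShape.down ℕ).next n) (by simp) rfl] at h1
  exact inj_of_quasiIso ((HomologicalComplex.shortComplexFunctor' Ab (ComplexShape.down ℕ) (n + 1) n ((ComplexShape.down ℕ).next n)).map φ) x (hx _) y hy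

lemma chain_surj [QuasiIso φ] (n : ℕ) (y : L.X n) (hy : ∀ k, L.d n k y = 0) :
    ∃ (x : K.X n) (y' : L.X (n + 1)), (∀ k, K.d n k x = 0) ∧ y = φ.f n x + L.d (n + 1) n y' := by
  have h1 : QuasiIsoAt φ n := inferInstance
  rw [quasiIsoAt_iff' φ (n + 1) n ((ComplexShape.down ℕ).next n) (by simp) rfl] at h1
  obtain ⟨x, y', hx, hxy⟩ := surj_of_quasiIso ((HomologicalComplex.shortComplexFunctor' Ab (ComplexShape.down ℕ) (n + 1) n ((ComplexShape.down ℕ).next n)).map φ) y (hy _)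
  refine ⟨x, y', fun k => ?_, hxy⟩
  by_cases hk : (ComplexShape.down ℕ).Rel n k
  · obtain rfl : (ComplexShape.down ℕ).next n = k := (ComplexShape.down ℕ).next_eq' hk
    exact hx
  · rw [K.shape _ _ hk]
    rfl


variable {X Y : SimplicialObject AddCommGrpCat.{u}} (f : X ⟶ Y)

set_option quotPrecheck false
local notation "KX" => (alternatingFaceMapComplex AddCommGrpCat).obj X
local notation "KY" => (alternatingFaceMapComplex AddCommGrpCat).obj Y
local notation "Kf" => (alternatingFaceMapComplex AddCommGrpCat).map f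

lemma d_succ_apply (X : SimplicialObject AddCommGrpCat.{u}) (n : ℕ) (v : X _⦋n + 1⦌) :
    ((alternatingFaceMapComplex AddCommGrpCat.{u}).obj X).d (n + 1) n v =
      ∑ i : Fin (n + 2), (-1 : ℤ) ^ (i : ℕ) • X.δ i v := by
  rw [AlgebraicTopology.alternatingFaceMapComplex_obj_d, AlternatingFaceMapComplex.objD]
  let e : (X _⦋n + 1⦌ ⟶ X _⦋n⦌) →+ (↑(X _⦋n + 1⦌) →+ ↑(X _⦋n⦌)) :=
    { toFun := fun g => g.hom, map_zero' := rfl, map_add' := fun _ _ => rfl }
  have h1 : (∑ i : Fin (n + 2), (-1 : ℤ) ^ (i : ℕ) • X.δ i).hom =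
      ∑ i : Fin (n + 2), (-1 : ℤ) ^ (i : ℕ) • (X.δ i).hom := by
    have := map_sum e (fun i : Fin (n + 2) => (-1 : ℤ) ^ (i : ℕ) • X.δ i) Finset.univ
    exact this
  change (∑ i : Fin (n + 2), (-1 : ℤ) ^ (i : ℕ) • X.δ i).hom v = _
  rw [h1, AddMonoidHom.finsetSum_apply]
  rfl

lemma claimA (hf : ∀ n : SimplexCategoryᵒᵖ, Function.Surjective (f.app n))
    [hq : QuasiIso Kf]
    (n : ℕ) (z : X _⦋n⦌) (hfz : f.app _ z = 0)
    (hz1 : ∀ k, (KX).d n k z = 0)
    (hz2 : (PInfty.f n : X _⦋n⦌ ⟶ X _⦋n⦌) z = z) :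
    ∃ v : X _⦋n + 1⦌, f.app _ v = 0 ∧ X.δ 0 v = z ∧ ∀ j : Fin (n + 1), X.δ j.succ v = 0 := by
  have hφf : ∀ m (x : X _⦋m⦌), (Kf).f m x = f.app (op ⦋m⦌) x := fun m x => by
    rw [AlgebraicTopology.alternatingFaceMapComplex_map_f]
  have hcomm : ∀ a b (x : X _⦋a⦌), (KY).d a b ((Kf).f a x) = (Kf).f b ((KX).d a b x) := by
    intro a b x
    have := ConcreteCategory.congr_hom ((Kf).comm a b) x
    rw [ConcreteCategory.comp_apply, ConcreteCategory.comp_apply] at this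
    exact this
  -- (A1)
  obtain ⟨v₁, hv₁⟩ := chain_inj (Kf) n z hz1 0 (by rw [map_zero, hφf, hfz])
  -- y is a cycle
  have hycyc : ∀ k, (KY).d (n + 1) k ((Kf).f (n + 1) v₁) = 0 := by
    intro k
    rw [hcomm]
    by_cases hk : (ComplexShape.down ℕ).Rel (n + 1) k
    · obtain rfl : k = n := by simpa using hk
      rw [hv₁, hφf, hfz]
    · rw [(KX).shape _ _ hk]
      exact map_zero _
  obtain ⟨c, y', hc, hy'⟩ := chain_surj (Kf) (n + 1) _ hycyc
  obtain ⟨u, hu⟩ := hf (op ⦋n + 2⦌) y'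
  -- v₂
  obtain ⟨v₂, hv₂⟩ : ∃ v₂ : X _⦋n + 1⦌, v₂ = v₁ - c - (KX).d (n + 2) (n + 1) u := ⟨_, rfl⟩
  have hfv₂ : f.app _ v₂ = 0 := by
    rw [← hφf, hv₂, map_sub, map_sub, hy', ← hcomm, hφf (n + 2), hu]
    abel
  have hdv₂ : (KX).d (n + 1) n v₂ = z := by
    have hdd := ConcreteCategory.congr_hom ((KX).d_comp_d (n + 2) (n + 1) n) u
    rw [ConcreteCategory.comp_apply] at hdd
    rw [hv₂, map_sub, map_sub, hv₁, hc n, hdd]
    simp
  have hvan : ∀ j : Fin (n + 1),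
      X.δ j.succ ((PInfty.f (n + 1) : X _⦋n + 1⦌ ⟶ X _⦋n + 1⦌) v₂) = 0 := by
    intro j
    have hv := HigherFacesVanish.of_P (X := X) (n + 1) n
    rw [← PInfty_f] at hv
    have := ConcreteCategory.congr_hom (hv j (by omega)) v₂
    rw [ConcreteCategory.comp_apply] at this
    exact this
  refine ⟨(PInfty.f (n + 1) : X _⦋n + 1⦌ ⟶ X _⦋n + 1⦌) v₂, ?_, ?_, hvan⟩
  · have := ConcreteCategory.congr_hom (PInfty_f_naturality (n + 1) f) v₂
    rw [ConcreteCategory.comp_apply, ConcreteCategory.comp_apply] at this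
    rw [← this, hfv₂, map_zero]
  · have h1 : (KX).d (n + 1) n ((PInfty.f (n + 1) : X _⦋n + 1⦌ ⟶ X _⦋n + 1⦌) v₂) =
        (PInfty.f n : X _⦋n⦌ ⟶ X _⦋n⦌) ((KX).d (n + 1) n v₂) := by
      have := ConcreteCategory.congr_hom ((PInfty (X := X)).comm (n + 1) n) v₂
      rw [ConcreteCategory.comp_apply, ConcreteCategory.comp_apply] at this
      exact this
    rw [hdv₂, hz2, d_succ_apply, Fin.sum_univ_succ] at h1
    rw [← h1]
    simp [hvan]


lemma P_eq_self (X : SimplicialObject AddCommGrpCat.{u}) (m : ℕ) (z : X _⦋m + 1⦌)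
    (hz : ∀ j : Fin (m + 1), X.δ j.succ z = 0) :
    (PInfty.f (m + 1) : X _⦋m + 1⦌ ⟶ X _⦋m + 1⦌) z = z := by
  let N : AddSubgroup (X _⦋m + 1⦌) := ⨅ j : Fin (m + 1), (X.δ j.succ).hom.ker
  let φ : AddCommGrpCat.of N ⟶ X _⦋m + 1⦌ := AddCommGrpCat.ofHom N.subtype
  have hφ : HigherFacesVanish (m + 1) φ := by
    intro j _
    ext ⟨y, hy⟩
    have := (AddSubgroup.mem_iInf.mp hy) j
    exact this
  have := ConcreteCategory.congr_hom hφ.comp_P_eq_self
    (⟨z, AddSubgroup.mem_iInf.mpr (fun j => hz j)⟩ : N)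
  rw [ConcreteCategory.comp_apply, ← PInfty_f] at this
  exact this

lemma d_eq_zero_of_faces (X : SimplicialObject AddCommGrpCat.{u}) (m : ℕ) (z : X _⦋m + 1⦌)
    (hz : ∀ j : Fin (m + 2), X.δ j z = 0) (k : ℕ) :
    ((alternatingFaceMapComplex AddCommGrpCat).obj X).d (m + 1) k z = 0 := by
  by_cases hk : (ComplexShape.down ℕ).Rel (m + 1) k
  · obtain rfl : k = m := by simpa using hk
    rw [d_succ_apply]
    simp [hz]
  · rw [((alternatingFaceMapComplex AddCommGrpCat).obj X).shape _ _ hk]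
    rfl

end Groth.Agent.Lib.Helper59.QI
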