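import Mathlib

/-! Helper59: regular sequences are quasi-regular (Matsumura, Thm 16.2).

For `y : Fin s → A` which is "reverse-regular" (`y i` is a non-zero-divisor modulo the later
`y j`, `j > i`; recursive definition `RevReg`), `I = (y)`: a homogeneous polynomial `F` of degree `n`
with `F(y) ∈ I^(n+1)` has all its coefficients in `I` (`quasiRegular`). -/

set_option autoImplicit false
universe u
open MvPolynomial

namespace Groth.Agent.Lib.Helper59.QuasiReg

variable {A : Type u} [CommRing A]

/-- `y 0` is regular modulo `(y 1, …)`, `y 1` is regular modulo `(y 2, …)`, and so on. -/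
def RevReg : ∀ {s : ℕ}, (Fin s → A) → Prop
  | 0, _ => True
  | _ + 1, y =>
    (∀ a, y 0 * a ∈ Ideal.span (Set.range fun i => y (Fin.succ i)) →
      a ∈ Ideal.span (Set.range fun i => y (Fin.succ i))) ∧
    RevReg fun i => y (Fin.succ i)

theorem mem_span_mul {s : ℕ} (y : Fin s → A) (J : Ideal A) {z : A}
    (hz : z ∈ Ideal.span (Set.range y) * J) :
    ∃ g : Fin s → A, (∀ i, g i ∈ J) ∧ z = ∑ i, y i * g i := by
  induction hz using Submodule.mul_induction_on' with
  | mem_mul_mem a ha b hb =>
    obtain ⟨c, rfl⟩ := Ideal.mem_span_range_iff_exists_fun.1 ha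
    refine ⟨fun i => c i * b, fun i => J.mul_mem_left _ hb, ?_⟩
    rw [Finset.sum_mul]
    exact Finset.sum_congr rfl fun i _ => by ring
  | add x _ y' _ hx hy =>
    obtain ⟨g, hg, rfl⟩ := hx
    obtain ⟨g', hg', rfl⟩ := hy
    refine ⟨fun i => g i + g' i, fun i => J.add_mem (hg i) (hg' i), ?_⟩
    rw [← Finset.sum_add_distrib]
    exact Finset.sum_congr rfl fun i _ => by ring

theorem prod_pow_mem {s : ℕ} (y : Fin s → A) (d : Fin s →₀ ℕ) :
    ∏ i, y i ^ d i ∈ Ideal.span (Set.range y) ^ (∑ i, d i) := by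
  rw [← Finset.prod_pow_eq_pow_sum]
  exact Ideal.prod_mem_prod fun i _ => Ideal.pow_mem_pow (Ideal.subset_span (Set.mem_range_self i)) _

theorem sum_eq_of_isHomogeneous {s : ℕ} {F : MvPolynomial (Fin s) A} {n : ℕ}
    (hF : F.IsHomogeneous n) {d : Fin s →₀ ℕ} (hd : coeff d F ≠ 0) : ∑ i, d i = n := by
  have := hF hd
  simpa [Finsupp.weight_apply, Finsupp.sum_fintype] using this

/-- a homogeneous polynomial of degree `n` with coefficients in `I` takes a value in `I^(n+1)`. -/
theorem eval_mem_pow_succ {s : ℕ} (y : Fin s → A) {F : MvPolynomial (Fin s) A} {n : ℕ}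
    (hF : F.IsHomogeneous n) (hFI : F ∈ Ideal.map C (Ideal.span (Set.range y))) :
    eval y F ∈ Ideal.span (Set.range y) ^ (n + 1) := by
  rw [eval_eq', pow_succ']
  refine Ideal.sum_mem _ fun d hd => ?_
  refine Ideal.mul_mem_mul (mem_map_C_iff.1 hFI d) ?_
  have := prod_pow_mem y d
  rwa [sum_eq_of_isHomogeneous hF (mem_support_iff.1 hd)] at this

/-- reduction of `F(y) ∈ I^(n+1)` to `F(y) = 0`. -/
theorem reduce {s : ℕ} (y : Fin s → A) (n : ℕ)
    (h0 : ∀ F : MvPolynomial (Fin s) A, F.IsHomogeneous n → eval y F = 0 →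
      F ∈ Ideal.map C (Ideal.span (Set.range y)))
    (F : MvPolynomial (Fin s) A) (hF : F.IsHomogeneous n)
    (h : eval y F ∈ Ideal.span (Set.range y) ^ (n + 1)) :
    F ∈ Ideal.map C (Ideal.span (Set.range y)) := by
  rw [pow_succ'] at h
  obtain ⟨g, hg, hgF⟩ := mem_span_mul y _ h
  choose G hG hGe using fun i => (Ideal.mem_span_pow_iff_exists_isHomogeneous y (g i)).1 (hg i)
  have hF' : (F - ∑ i, C (y i) * G i).IsHomogeneous n :=
    hF.sub (IsHomogeneous.sum _ _ _ fun i _ => (hG i).C_mul _)
  have he : eval y (F - ∑ i, C (y i) * G i) = 0 := by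
    rw [map_sub, map_sum, hgF]
    simp [hGe]
  have h1 := h0 _ hF' he
  have h2 : ∑ i, C (y i) * G i ∈ Ideal.map C (Ideal.span (Set.range y)) :=
    Ideal.sum_mem _ fun i _ => Ideal.mul_mem_right _ _
      (Ideal.mem_map_of_mem _ (Ideal.subset_span ⟨i, rfl⟩))
  have := Ideal.add_mem _ h1 h2
  rwa [sub_add_cancel] at this

/-- Matsumura 16.2 (i): `I'^ν : y0 = I'^ν` when `y0` is regular modulo `I'` and `I'` is generated by
a quasi-regular sequence. -/
theorem colon {s : ℕ} (y' : Fin s → A) (y0 : A)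
    (hreg : ∀ a, y0 * a ∈ Ideal.span (Set.range y') → a ∈ Ideal.span (Set.range y'))
    (hQR : ∀ (ν : ℕ) (F : MvPolynomial (Fin s) A), F.IsHomogeneous ν →
      eval y' F ∈ Ideal.span (Set.range y') ^ (ν + 1) →
      F ∈ Ideal.map C (Ideal.span (Set.range y'))) :
    ∀ (ν : ℕ) (a : A), y0 * a ∈ Ideal.span (Set.range y') ^ ν →
      a ∈ Ideal.span (Set.range y') ^ ν := by
  intro ν
  induction ν with
  | zero => intro a _; simp
  | succ ν ih =>
    intro a ha
    have ha' : a ∈ Ideal.span (Set.range y') ^ ν := ih a (Ideal.pow_le_pow_right (Nat.le_succ ν) ha)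
    obtain ⟨P, hP, rfl⟩ := (Ideal.mem_span_pow_iff_exists_isHomogeneous y' a).1 ha'
    have h1 : C y0 * P ∈ Ideal.map C (Ideal.span (Set.range y')) :=
      hQR ν _ (hP.C_mul _) (by simpa using ha)
    have h2 : P ∈ Ideal.map C (Ideal.span (Set.range y')) := by
      rw [mem_map_C_iff] at h1 ⊢
      intro d
      have := h1 d
      rw [coeff_C_mul] at this
      exact hreg _ this
    exact eval_mem_pow_succ y' hP h2

theorem finSuccEquiv_rename_succ {s : ℕ} (G : MvPolynomial (Fin s) A) :
    finSuccEquiv A s (rename Fin.succ G) = Polynomial.C G := by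
  induction G using MvPolynomial.induction_on with
  | C a =>
    rw [rename_C, finSuccEquiv_apply, eval₂Hom_C]
    rfl
  | add p q hp hq => rw [map_add, map_add, hp, hq, map_add]
  | mul_X p i hp => rw [map_mul, map_mul, hp, rename_X, finSuccEquiv_X_succ, map_mul]

/-- splitting off the variable `X 0`. -/
theorem decomp {s : ℕ} {n : ℕ} (F : MvPolynomial (Fin (s + 1)) A) (hF : F.IsHomogeneous (n + 1)) :
    ∃ (G : MvPolynomial (Fin s) A) (H : MvPolynomial (Fin (s + 1)) A),
      G.IsHomogeneous (n + 1) ∧ H.IsHomogeneous n ∧ F = rename Fin.succ G + X 0 * H := by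
  refine ⟨(finSuccEquiv A s F).coeff 0, (finSuccEquiv A s).symm (finSuccEquiv A s F).divX,
    hF.finSuccEquiv_coeff_isHomogeneous 0 (n + 1) (by simp), ?_, ?_⟩
  · intro d hd
    rw [← Finsupp.cons_tail d, ← finSuccEquiv_coeff_coeff, AlgEquiv.apply_symm_apply,
      Polynomial.coeff_divX, finSuccEquiv_coeff_coeff] at hd
    have h1 := hF hd
    have h2 : Finsupp.weight (1 : Fin (s + 1) → ℕ) (Finsupp.cons (d 0 + 1) d.tail) =
        Finsupp.weight (1 : Fin (s + 1) → ℕ) d + 1 := by
      conv_rhs => rw [← Finsupp.cons_tail d]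
      simp only [Finsupp.weight_apply, Pi.one_apply, smul_eq_mul, mul_one, Finsupp.sum_cons]
      ring
    rw [h2] at h1
    exact Nat.succ_injective h1
  · apply (finSuccEquiv A s).injective
    rw [map_add, map_mul, finSuccEquiv_rename_succ, finSuccEquiv_X_zero, AlgEquiv.apply_symm_apply]
    calc finSuccEquiv A s F
        = (finSuccEquiv A s F).divX * Polynomial.X + Polynomial.C ((finSuccEquiv A s F).coeff 0) :=
          (Polynomial.divX_mul_X_add _).symm
      _ = _ := by ring

theorem rename_mem_map_C {σ τ : Type*} (f : σ → τ) (J : Ideal A) {G : MvPolynomial σ A}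
    (hG : G ∈ Ideal.map C J) : rename f G ∈ Ideal.map C J := by
  let φ : MvPolynomial σ A →+* MvPolynomial τ A :=
    (rename f : MvPolynomial σ A →ₐ[A] MvPolynomial τ A).toRingHom
  have h1 : φ G ∈ Ideal.map φ (Ideal.map C J) := Ideal.mem_map_of_mem φ hG
  rw [Ideal.map_map] at h1
  have h2 : φ.comp C = C := by
    ext a; simp [φ]
  rw [h2] at h1
  exact h1

/-- **Regular sequences are quasi-regular.** -/
theorem quasiRegular : ∀ {s : ℕ} (y : Fin s → A), RevReg y → ∀ (n : ℕ)
    (F : MvPolynomial (Fin s) A), F.IsHomogeneous n →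
    eval y F ∈ Ideal.span (Set.range y) ^ (n + 1) → F ∈ Ideal.map C (Ideal.span (Set.range y)) := by
  intro s
  induction s with
  | zero =>
    intro y _ n F _ h
    rw [eq_C_of_isEmpty F] at h ⊢
    rw [eval_C] at h
    exact Ideal.mem_map_of_mem _ (Ideal.pow_le_self (Nat.succ_ne_zero n) h)
  | succ s ih =>
    intro y hy
    obtain ⟨hreg, hy'⟩ := hy
    set y' : Fin s → A := fun i => y (Fin.succ i) with hy'def
    have hI'I : Ideal.span (Set.range y') ≤ Ideal.span (Set.range y) := by
      apply Ideal.span_mono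
      rintro _ ⟨i, rfl⟩
      exact ⟨Fin.succ i, rfl⟩
    have hQR' := ih y' hy'
    have hcol := colon y' (y 0) hreg hQR'
    have hcomp : y ∘ Fin.succ = y' := rfl
    suffices h0 : ∀ (n : ℕ) (F : MvPolynomial (Fin (s + 1)) A), F.IsHomogeneous n → eval y F = 0 →
        F ∈ Ideal.map C (Ideal.span (Set.range y)) from
      fun n F hF h => reduce y n (h0 n) F hF h
    intro n
    induction n with
    | zero =>
      intro F hF h
      have hF0 : F = C (coeff 0 F) := by
        by_cases hz : F = 0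
        · rw [hz]; simp
        · exact totalDegree_eq_zero_iff_eq_C.1 (hF.totalDegree hz)
      rw [hF0, eval_C] at h
      rw [hF0, h, map_zero]
      exact zero_mem _
    | succ n ihn =>
      intro F hF h
      obtain ⟨G, H, hG, hH, rfl⟩ := decomp F hF
      rw [map_add, map_mul, eval_X, eval_rename, hcomp] at h
      have h1 : y 0 * eval y H ∈ Ideal.span (Set.range y') ^ (n + 1) := by
        have e : y 0 * eval y H = - eval y' G := by linear_combination h
        rw [e]
        exact Ideal.neg_mem_iff _ |>.2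
          ((Ideal.mem_span_pow_iff_exists_isHomogeneous y' _).2 ⟨G, hG, rfl⟩)
      have h2 : eval y H ∈ Ideal.span (Set.range y') ^ (n + 1) := hcol (n + 1) _ h1
      have h3 : H ∈ Ideal.map C (Ideal.span (Set.range y)) :=
        reduce y n ihn H hH (Ideal.pow_right_mono hI'I _ h2)
      obtain ⟨h', hh', hhe⟩ := (Ideal.mem_span_pow_iff_exists_isHomogeneous y' _).1 h2
      have h4 : G + C (y 0) * h' ∈ Ideal.map C (Ideal.span (Set.range y')) := by
        refine hQR' (n + 1) _ (hG.add (hh'.C_mul _)) ?_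
        rw [map_add, map_mul, eval_C, hhe, h]
        exact zero_mem _
      have h5 : G ∈ Ideal.map C (Ideal.span (Set.range y)) := by
        have e : G = (G + C (y 0) * h') - C (y 0) * h' := by ring
        rw [e]
        refine Ideal.sub_mem _ (Ideal.map_mono hI'I h4) (Ideal.mul_mem_right _ _ ?_)
        exact Ideal.mem_map_of_mem _ (Ideal.subset_span ⟨0, rfl⟩)
      exact Ideal.add_mem _ (rename_mem_map_C _ _ h5) (Ideal.mul_mem_left _ _ h3)

end Groth.Agent.Lib.Helper59.QuasiReg
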