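import Mathlib
import Groth.Prelude.Def_W4c2gaugesfzipsQuiet
import Groth.Agent.Lib.Helper59.FrobTower

/-!
# Base change of `p`-th root morphisms and quasi-étale morphisms (helper59)
-/

universe u

open AlgebraicGeometry CategoryTheory CategoryTheory.Limits Opposite TopologicalSpace

namespace Groth.Agent.Lib.Helper59.Quiet

open Groth.Agent.Lib.Helper59.FrobTower

variable (p : ℕ) [Fact p.Prime]

/-- `p`-th root morphisms are stable under base change. -/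
theorem isPthRoot_of_isPullback {X Y X' Y' : Scheme.{u}} {f : Y ⟶ X} {g : X' ⟶ X}
    {f' : Y' ⟶ X'} {g' : Y' ⟶ Y} (H : IsPullback g' f' f g) (hf : Quiet.IsPthRoot p f) :
    Quiet.IsPthRoot p f' := by
  intro x'
  obtain ⟨U, hxU, hUaff, n, hn⟩ := hf (g.base x')
  obtain ⟨U', hU', hx', hle⟩ : ∃ U' : X'.Opens, IsAffineOpen U' ∧ x' ∈ U' ∧ U' ≤ g ⁻¹ᵁ U.1 := by
    obtain ⟨_, ⟨W, hW, rfl⟩, hxW, hWle⟩ := (X'.isBasis_affineOpens).exists_subset_of_mem_open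
      (show x' ∈ ((g ⁻¹ᵁ U.1 : X'.Opens) : Set X') from hxU) (g ⁻¹ᵁ U.1).2
    exact ⟨W, hW, hxW, hWle⟩
  have hUY : f' ⁻¹ᵁ U' = g' ⁻¹ᵁ (f ⁻¹ᵁ U.1) ⊓ f' ⁻¹ᵁ U' := by
    refine (inf_eq_right.mpr ?_).symm
    rw [← Scheme.Hom.comp_preimage, H.w, Scheme.Hom.comp_preimage]
    exact Scheme.Hom.preimage_mono f' hle
  haveI : IsAffine (U.1 : Scheme) := U.2
  haveI : IsAffine (U' : Scheme) := hU'
  haveI : IsAffine ((f ⁻¹ᵁ U.1 : Y.Opens) : Scheme) := hUaff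
  have hUY' : IsAffineOpen (f' ⁻¹ᵁ U') :=
    .of_isIso (Scheme.Hom.isPullback_resLE H hle le_rfl hUY).isoPullback.hom
  refine ⟨⟨U', hU'⟩, hx', hUY', ?_⟩
  have hpo := (isIso_pushoutSection_iff H hle le_rfl hUY).mp
    (isIso_pushoutSection_of_isAffineOpen H hle le_rfl hUY U.2 hU' hUaff)
  letI algAB : Algebra Γ(X, U.1) Γ(Y, f ⁻¹ᵁ U.1) := (f.app U.1).hom.toAlgebra
  letI algAA' : Algebra Γ(X, U.1) Γ(X', U') := (g.appLE U.1 U' hle).hom.toAlgebra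
  letI algA'B' : Algebra Γ(X', U') Γ(Y', f' ⁻¹ᵁ U') := (f'.app U').hom.toAlgebra
  letI algBB' : Algebra Γ(Y, f ⁻¹ᵁ U.1) Γ(Y', f' ⁻¹ᵁ U') :=
    (g'.appLE (f ⁻¹ᵁ U.1) (f' ⁻¹ᵁ U') (by rw [hUY]; exact inf_le_left)).hom.toAlgebra
  letI algAB' : Algebra Γ(X, U.1) Γ(Y', f' ⁻¹ᵁ U') :=
    (f.app U.1 ≫ g'.appLE (f ⁻¹ᵁ U.1) (f' ⁻¹ᵁ U')
      (by rw [hUY]; exact inf_le_left)).hom.toAlgebra
  haveI t1 : IsScalarTower Γ(X, U.1) Γ(Y, f ⁻¹ᵁ U.1) Γ(Y', f' ⁻¹ᵁ U') :=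
    .of_algebraMap_eq fun _ => rfl
  have hpo' : IsPushout (f.app U.1) (g.appLE U.1 U' hle)
      (g'.appLE (f ⁻¹ᵁ U.1) (f' ⁻¹ᵁ U') (by rw [hUY]; exact inf_le_left)) (f'.app U') := by
    rw [Scheme.Hom.app_eq_appLE, Scheme.Hom.app_eq_appLE (f := f')]
    exact hpo
  haveI t2 : IsScalarTower Γ(X, U.1) Γ(X', U') Γ(Y', f' ⁻¹ᵁ U') :=
    .of_algebraMap_eq fun a => congr($(hpo'.w) a)
  haveI hP : Algebra.IsPushout Γ(X, U.1) Γ(Y, f ⁻¹ᵁ U.1) Γ(X', U') Γ(Y', f' ⁻¹ᵁ U') :=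
    CommRingCat.isPushout_iff_isPushout.1 hpo'
  exact ⟨n, isRootTower_of_isPushout p n (A := Γ(X, U.1)) (B := Γ(Y, f ⁻¹ᵁ U.1))
    (A' := Γ(X', U')) (B' := Γ(Y', f' ⁻¹ᵁ U')) hn⟩

/-- Quasi-étale morphisms are stable under base change. -/
theorem isQuiet_of_isPullback {X Y X' Y' : Scheme.{u}} {f : Y ⟶ X} {g : X' ⟶ X}
    {f' : Y' ⟶ X'} {g' : Y' ⟶ Y} (H : IsPullback g' f' f g) (hf : Quiet.IsQuiet p f) :
    Quiet.IsQuiet p f' := by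
  intro y'
  obtain ⟨V, Y₁, r, e, hyV, hr, he, hre⟩ := hf (g'.base y')
  have h1 : IsPullback (g' ∣_ V) (g' ⁻¹ᵁ V).ι V.ι g' := isPullback_morphismRestrict g' V
  have h2 : IsPullback ((g' ⁻¹ᵁ V).ι ≫ f') (g' ∣_ V) g (V.ι ≫ f) := h1.flip.paste_horiz H.flip
  have hw : ((g' ∣_ V) ≫ r) ≫ e = ((g' ⁻¹ᵁ V).ι ≫ f') ≫ g := by
    rw [Category.assoc, hre]
    exact h2.w.symm
  let r' : ((g' ⁻¹ᵁ V : Y'.Opens) : Scheme) ⟶ pullback e g :=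
    pullback.lift ((g' ∣_ V) ≫ r) ((g' ⁻¹ᵁ V).ι ≫ f') hw
  have h3 : IsPullback (pullback.snd e g) (pullback.fst e g) g e :=
    (IsPullback.of_hasPullback e g).flip
  have h4 : IsPullback r' (g' ∣_ V) (pullback.fst e g) r := by
    refine IsPullback.of_right ?_ (pullback.lift_fst _ _ _) h3
    rw [pullback.lift_snd, hre]
    exact h2
  haveI : Etale e := he
  exact ⟨g' ⁻¹ᵁ V, pullback e g, r', pullback.snd e g, hyV,
    isPthRoot_of_isPullback p h4.flip hr, inferInstance, pullback.lift_snd _ _ _⟩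

end Groth.Agent.Lib.Helper59.Quiet
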