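import Mathlib
import Groth.Prelude.Def_W4c2gaugesfzipsQuiet
import Groth.Agent.Lib.Helper59.FrobTower

/-!
# Lifting standard étale algebras and root towers along surjections (helper59)
-/

universe u

open Polynomial TensorProduct Quiet

namespace Groth.Agent.Lib.Helper59.FrobTower

noncomputable section

section StdEtale

variable {R Rb : Type u} [CommRing R] [CommRing Rb] [Algebra R Rb]

/-- Two standard étale pairs over the same ring with the same `f` and with `g' = g ^ (n + 1)`
have isomorphic rings. -/
def pairRingEquiv (P Q : StandardEtalePair Rb) (hf : Q.f = P.f) (n : ℕ)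
    (hg : Q.g = P.g ^ (n + 1)) : Q.Ring ≃ₐ[Rb] P.Ring := by
  have h1 : Q.HasMap P.X := by
    refine ⟨by rw [hf]; exact P.hasMap_X.1, ?_⟩
    rw [hg, map_pow]
    exact P.hasMap_X.2.pow _
  have h2 : P.HasMap Q.X := by
    refine ⟨by rw [← hf]; exact Q.hasMap_X.1, ?_⟩
    have := Q.hasMap_X.2
    rw [hg, map_pow] at this
    exact (isUnit_pow_iff (Nat.succ_ne_zero n)).mp this
  exact AlgEquiv.ofAlgHom (Q.lift P.X h1) (P.lift Q.X h2)
    (P.hom_ext (by simp)) (Q.hom_ext (by simp))

/-- A standard étale algebra over a quotient `Rb` of `R` lifts to an étale `R`-algebra. -/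
theorem exists_lift_standardEtale (hsurj : Function.Surjective (algebraMap R Rb))
    (E : Type u) [CommRing E] [Algebra Rb E] [Algebra R E] [IsScalarTower R Rb E]
    [Algebra.IsStandardEtale Rb E] :
    ∃ (E' : Type u) (_ : CommRing E') (_ : Algebra R E') (_ : Algebra.Etale R E')
      (_ : Algebra E' E) (_ : IsScalarTower R E' E), Algebra.IsPushout R Rb E' E := by
  obtain ⟨Pres⟩ := Algebra.IsStandardEtale.nonempty_standardEtalePresentation (R := Rb) (S := E)
  obtain ⟨p₁, p₂, n, hcond⟩ := Pres.P.cond
  have hms := Polynomial.map_surjective (algebraMap R Rb) hsurj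
  obtain ⟨f', hf', -, hf'monic⟩ := Polynomial.lifts_and_natDegree_eq_and_monic
    ((Polynomial.mem_lifts _).mpr (hms Pres.P.f)) Pres.P.monic_f
  obtain ⟨g₀, hg₀⟩ := hms Pres.P.g
  obtain ⟨q₁, hq₁⟩ := hms p₁
  obtain ⟨q₂, hq₂⟩ := hms p₂
  let P' : StandardEtalePair R :=
    { f := f'
      monic_f := hf'monic
      g := g₀ * (derivative f' * q₁ + f' * q₂)
      cond := ⟨g₀ * q₁, g₀ * q₂, 1, by ring⟩ }
  let Q : StandardEtalePair Rb := P'.map (algebraMap R Rb)
  have hQf : Q.f = Pres.P.f := hf'
  have hQg : Q.g = Pres.P.g ^ (n + 1) := by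
    change (g₀ * (derivative f' * q₁ + f' * q₂)).map (algebraMap R Rb) = _
    rw [Polynomial.map_mul, Polynomial.map_add, Polynomial.map_mul, Polynomial.map_mul,
      ← Polynomial.derivative_map, hf', hg₀, hq₁, hq₂, hcond, pow_succ']
  -- the trivial presentation of `P'.Ring` and its base change
  let Pres' : StandardEtalePresentation R P'.Ring :=
    ⟨P', P'.X, P'.hasMap_X, by simpa [StandardEtalePair.lift_X_left] using Function.bijective_id⟩
  let α : Rb ⊗[R] P'.Ring ≃ₐ[Rb] E :=
    ((Pres'.baseChange (T := Rb)).equivRing.trans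
      (pairRingEquiv Pres.P Q hQf n hQg)).trans Pres.equivRing.symm
  let φ : P'.Ring →+* E :=
    (α : Rb ⊗[R] P'.Ring →+* E).comp
      (Algebra.TensorProduct.includeRight (R := R) (A := Rb) (B := P'.Ring) : _ →+* _)
  letI algE'E : Algebra P'.Ring E := φ.toAlgebra
  haveI : IsScalarTower R P'.Ring E := .of_algebraMap_eq fun r => by
    change algebraMap R E r = α (Algebra.TensorProduct.includeRight (R := R) (A := Rb)
      (B := P'.Ring) (algebraMap R P'.Ring r))
    rw [AlgHom.commutes, IsScalarTower.algebraMap_apply R Rb (Rb ⊗[R] P'.Ring), α.commutes,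
      ← IsScalarTower.algebraMap_apply]
  refine ⟨P'.Ring, inferInstance, inferInstance, inferInstance, algE'E, inferInstance, ⟨?_⟩⟩
  exact IsBaseChange.of_equiv α.toLinearEquiv fun x => rfl

end StdEtale

section TowerLift

variable (p : ℕ) [hp : Fact p.Prime]

attribute [local instance] rootRingAlg

theorem rootRingAlg_surjective {A A' : Type u} [CommRing A] [CommRing A'] [Algebra A A']
    (hsurj : Function.Surjective (algebraMap A A')) (a : A) :
    Function.Surjective (algebraMap (RootRing p A a) (RootRing p A' (algebraMap A A' a))) := by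
  intro r
  induction r using AdjoinRoot.induction_on with
  | ih f =>
    obtain ⟨f', rfl⟩ := Polynomial.map_surjective (algebraMap A A') hsurj f
    refine ⟨AdjoinRoot.mk _ f', ?_⟩
    rw [rootRingAlg_map]
    simp only [rootRingMap, AdjoinRoot.map, AdjoinRoot.lift_mk]
    rw [← Polynomial.eval₂_map, ← AdjoinRoot.aeval_eq, Polynomial.aeval_def,
      AdjoinRoot.algebraMap_eq]

theorem isPushout_zero {C' C D : Type u} [CommRing C'] [CommRing C] [CommRing D]
    [Algebra C' C] [Algebra C D] [Algebra C' D] [IsScalarTower C' C D] (f : D ≃ₐ[C] C) :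
    Algebra.IsPushout C' C C' D := by
  constructor
  refine IsBaseChange.of_equiv
    ((AlgebraTensorModule.rid C' C C).trans f.symm.toLinearEquiv) fun x => ?_
  simp only [LinearEquiv.trans_apply, AlgebraTensorModule.rid_tmul, AlgEquiv.toLinearEquiv_apply,
    AlgHom.toLinearMap_apply, IsScalarTower.coe_toAlgHom']
  rw [Algebra.smul_def, mul_one]
  have := f.symm.commutes (algebraMap C' C x)
  rw [Algebra.algebraMap_self_apply] at this
  rw [this, ← IsScalarTower.algebraMap_apply]

/-- Root towers lift along surjections of the base ring. -/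
theorem exists_lift_rootTower : ∀ (m : ℕ) {C' C D : Type u} [CommRing C'] [CommRing C]
    [CommRing D] [Algebra C' C] [Algebra C D] [Algebra C' D] [IsScalarTower C' C D],
    Function.Surjective (algebraMap C' C) → IsRootTower p m C D →
    ∃ (D' : Type u) (_ : CommRing D') (_ : Algebra C' D') (_ : Algebra D' D)
      (_ : IsScalarTower C' D' D), IsRootTower p m C' D' ∧ Algebra.IsPushout C' C D' D
  | 0, C', C, D, _, _, _, _, _, _, _ => by
    rintro hsurj ⟨f⟩
    exact ⟨C', inferInstance, inferInstance, inferInstance, inferInstance,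
      ⟨AlgEquiv.refl⟩, isPushout_zero f⟩
  | m + 1, C', C, D, _, _, _, _, _, _, _ => by
    rintro hsurj ⟨a, alg, tower, h⟩
    obtain ⟨a', rfl⟩ := hsurj a
    letI := alg
    letI algR'D : Algebra (RootRing p C' a') D :=
      ((algebraMap (RootRing p C (algebraMap C' C a')) D).comp
        (algebraMap (RootRing p C' a') (RootRing p C (algebraMap C' C a')))).toAlgebra
    haveI t1 : IsScalarTower (RootRing p C' a') (RootRing p C (algebraMap C' C a')) D :=
      .of_algebraMap_eq fun _ => rfl
    obtain ⟨D', _, algR'D', algD'D, t2, hD', hpo⟩ :=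
      exists_lift_rootTower m (rootRingAlg_surjective p hsurj a') h
    letI algC'D' : Algebra C' D' :=
      ((algebraMap (RootRing p C' a') D').comp (algebraMap C' (RootRing p C' a'))).toAlgebra
    haveI t3 : IsScalarTower C' (RootRing p C' a') D' := .of_algebraMap_eq fun _ => rfl
    haveI t4 : IsScalarTower C' (RootRing p C (algebraMap C' C a')) D :=
      .of_algebraMap_eq fun x => by
        rw [IsScalarTower.algebraMap_apply C' C D,
          IsScalarTower.algebraMap_apply C (RootRing p C (algebraMap C' C a')) D,
          ← IsScalarTower.algebraMap_apply C' C (RootRing p C (algebraMap C' C a'))]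
    haveI t5 : IsScalarTower C' (RootRing p C' a') D := .of_algebraMap_eq fun x => by
      rw [IsScalarTower.algebraMap_apply (RootRing p C' a')
        (RootRing p C (algebraMap C' C a')) D,
        ← IsScalarTower.algebraMap_apply C' (RootRing p C' a')
          (RootRing p C (algebraMap C' C a')),
        ← IsScalarTower.algebraMap_apply C' (RootRing p C (algebraMap C' C a')) D]
    haveI t6 : IsScalarTower C' D' D := .of_algebraMap_eq fun x => by
      rw [IsScalarTower.algebraMap_apply C' (RootRing p C' a') D',
        ← IsScalarTower.algebraMap_apply (RootRing p C' a') D' D,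
        ← IsScalarTower.algebraMap_apply C' (RootRing p C' a') D]
    haveI hpo1 : Algebra.IsPushout C' (RootRing p C' a') C
        (RootRing p C (algebraMap C' C a')) := (isPushout_rootRing p a').symm
    have hpo2 : Algebra.IsPushout (RootRing p C' a') D'
        (RootRing p C (algebraMap C' C a')) D := hpo.symm
    have hpo3 : Algebra.IsPushout C' D' C D :=
      (Algebra.IsPushout.comp_iff C' (RootRing p C' a') C
        (RootRing p C (algebraMap C' C a'))).mpr hpo2
    exact ⟨D', inferInstance, algC'D', algD'D, t6, ⟨a', algR'D', t3, hD'⟩, hpo3.symm⟩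

end TowerLift

end

end Groth.Agent.Lib.Helper59.FrobTower
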