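import Mathlib
import Groth.Prelude.Def_W4c2gaugesfzipsQuiet
import Groth.Agent.Lib.Helper59.FrobTower
import Groth.Agent.Lib.Helper59.FrobEtale

/-!
# Ring-level lemmas on root towers and étale algebras in characteristic `p` (helper59)

* `isPushout_frob_of_etale'` : relative Frobenius of an étale algebra is an isomorphism
  (no Noetherian hypothesis);
* `isRootTower_comp` : composition of root towers;
* `isRootTower_pow_mem` : `b ^ (p ^ n)` comes from the base of a root tower of length `n`;
* `exists_etale_descent` : étale algebras descend along root towers.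
-/

universe u

open Polynomial TensorProduct Quiet

namespace Groth.Agent.Lib.Helper59.FrobTower

variable (p : ℕ) [hp : Fact p.Prime]

section RelFrob

variable (P S : Type u) [CommRing P] [CommRing S] [Algebra P S] [PZero p P] [PZero p S]

attribute [local instance low] algFrComp

theorem relFrob_injective' [Algebra.Etale P S] : Function.Injective (relFrob p P S) := by
  have hsurj := relFrob_surjective p P S
  haveI : Algebra.FormallySmooth (Fr p P) (Fr p S) :=
    inferInstanceAs (Algebra.FormallySmooth P S)
  haveI : Algebra.FinitePresentation (Fr p P) (Fr p S) :=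
    inferInstanceAs (Algebra.FinitePresentation P S)
  have hle : RingHom.ker (relFrob p P S : (Fr p P) ⊗[P] S →+* Fr p S) ≤ nilradical _ := by
    intro w hw
    refine mem_nilradical.mpr ⟨p, ?_⟩
    rw [← includeRight_relFrob]
    have : relFrob p P S w = 0 := hw
    rw [this]
    exact map_zero _
  have hfg : (RingHom.ker (relFrob p P S : (Fr p P) ⊗[P] S →+* Fr p S)).FG :=
    Algebra.FinitePresentation.ker_fG_of_surjective (relFrob p P S) hsurj
  have hnil : IsNilpotent (RingHom.ker (relFrob p P S : (Fr p P) ⊗[P] S →+* Fr p S)) :=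
    (Ideal.FG.isNilpotent_iff_le_nilradical hfg).mpr hle
  let σ := Algebra.FormallySmooth.liftOfSurjective (AlgHom.id (Fr p P) (Fr p S))
    (relFrob p P S) hsurj hnil
  have hσ : ∀ x, relFrob p P S (σ x) = x := fun x =>
    Algebra.FormallySmooth.liftOfSurjective_apply _ _ hsurj hnil x
  have hid : σ.comp (relFrob p P S) = AlgHom.id (Fr p P) _ := by
    refine Algebra.FormallyUnramified.lift_unique_of_ringHom
      (relFrob p P S : (Fr p P) ⊗[P] S →+* Fr p S) hnil _ _ ?_
    refine RingHom.ext fun x => ?_
    simp only [RingHom.coe_comp, RingHom.coe_coe, Function.comp_apply, AlgHom.coe_comp,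
      AlgHom.coe_id, id_eq]
    exact hσ _
  intro x y hxy
  have := congrArg σ hxy
  have hx := AlgHom.congr_fun hid x
  have hy := AlgHom.congr_fun hid y
  simp only [AlgHom.coe_comp, Function.comp_apply, AlgHom.coe_id, id_eq] at hx hy
  rw [← hx, ← hy, this]

/-- For an étale algebra `S` over a ring `P` with `p = 0`, the Frobenius square is a pushout. -/
theorem isPushout_frob_of_etale' [Algebra.Etale P S] :
    Algebra.IsPushout P (Fr p P) S (Fr p S) := by
  constructor
  refine IsBaseChange.of_equiv
    (LinearEquiv.ofBijective (relFrob p P S).toLinearMap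
      ⟨relFrob_injective' p P S, relFrob_surjective p P S⟩) fun x => ?_
  change relFrob p P S (1 ⊗ₜ x) = _
  rw [relFrob_tmul, map_one, one_mul]
  rfl

end RelFrob

section Comp

/-- Composition of root towers. -/
theorem isRootTower_comp : ∀ (n m : ℕ) {A B C : Type u} [CommRing A] [CommRing B] [CommRing C]
    [Algebra A B] [Algebra B C] [Algebra A C] [IsScalarTower A B C],
    IsRootTower p n A B → IsRootTower p m B C → IsRootTower p (n + m) A C
  | 0, m, A, B, C, _, _, _, _, _, _, _ => by
    rintro ⟨f⟩ h
    rw [Nat.zero_add]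
    refine isRootTower_transport p m f.toRingEquiv (RingEquiv.refl C) ?_ h
    intro b
    have h1 : algebraMap A B (f b) = b := by
      have := f.symm.commutes (f b)
      rw [Algebra.algebraMap_self_apply] at this
      rw [← this]; simp
    change algebraMap B C b = algebraMap A C (f b)
    rw [IsScalarTower.algebraMap_apply A B C, h1]
  | n + 1, m, A, B, C, _, _, _, _, _, _, _ => by
    rintro ⟨a, alg, tower, h⟩ hm
    letI := alg
    letI algRC : Algebra (RootRing p A a) C :=
      ((algebraMap B C).comp (algebraMap (RootRing p A a) B)).toAlgebra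
    haveI : IsScalarTower (RootRing p A a) B C := .of_algebraMap_eq fun _ => rfl
    haveI : IsScalarTower A (RootRing p A a) C := .of_algebraMap_eq fun x => by
      rw [IsScalarTower.algebraMap_apply A B C, IsScalarTower.algebraMap_apply A (RootRing p A a) B]
      rfl
    have := isRootTower_comp n m h hm
    rw [Nat.succ_add]
    exact ⟨a, algRC, inferInstance, this⟩

end Comp

section PowMem

theorem rootRing_pow_mem {A : Type u} [CommRing A] [PZero p A] (a : A) (r : RootRing p A a) :
    ∃ x : A, algebraMap A (RootRing p A a) x = r ^ p := by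
  haveI : PZero p (RootRing p A a) := PZero.of_algebra p A _
  let S : Subring (RootRing p A a) := (algebraMap A (RootRing p A a)).range.comap
    (pPow p (RootRing p A a))
  suffices h : ∀ f : A[X], AdjoinRoot.mk _ f ∈ S by
    induction r using AdjoinRoot.induction_on with
    | ih f =>
      obtain ⟨x, hx⟩ := h f
      exact ⟨x, hx⟩
  intro f
  induction f using Polynomial.induction_on with
  | C c =>
    refine ⟨c ^ p, ?_⟩
    simp only [pPow_apply, map_pow]
    rfl
  | add f g hf hg =>
    rw [map_add]
    exact S.add_mem hf hg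
  | monomial n c h =>
    rw [pow_succ, ← mul_assoc, map_mul]
    refine S.mul_mem h ⟨a, ?_⟩
    simp only [pPow_apply, AdjoinRoot.mk_X]
    rw [rootRing_root_pow]
    rfl

/-- In a root tower of length `n` over a ring with `p = 0`, every `p ^ n`-th power comes from the
base. -/
theorem isRootTower_pow_mem : ∀ (n : ℕ) {A B : Type u} [CommRing A] [CommRing B] [Algebra A B]
    [PZero p A], IsRootTower p n A B → ∀ b : B, ∃ x : A, algebraMap A B x = b ^ (p ^ n)
  | 0, A, B, _, _, _, _ => by
    rintro ⟨f⟩ b
    refine ⟨f b, ?_⟩
    have := f.symm.commutes (f b)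
    rw [Algebra.algebraMap_self_apply] at this
    rw [← this]; simp
  | n + 1, A, B, _, _, _, _ => by
    rintro ⟨a, alg, tower, h⟩ b
    letI := alg
    haveI : PZero p (RootRing p A a) := PZero.of_algebra p A _
    obtain ⟨r, hr⟩ := isRootTower_pow_mem n h b
    obtain ⟨x, hx⟩ := rootRing_pow_mem p a r
    refine ⟨x, ?_⟩
    rw [IsScalarTower.algebraMap_apply A (RootRing p A a) B, hx, map_pow, hr, ← pow_mul, pow_succ]

end PowMem

noncomputable section Descent

variable {A : Type u} [CommRing A] [PZero p A] (a : A)

/-- The map `RootRing A a → A`, `∑ aᵢ xⁱ ↦ ∑ aᵢ ^ p a ^ i`, through which Frobenius factors. -/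
noncomputable def rootPsi : RootRing p A a →+* A :=
  AdjoinRoot.lift (pPow p A) a
    (by simp only [eval₂_sub, eval₂_pow, eval₂_X, eval₂_C, pPow_apply, sub_self])

theorem algebraMap_rootPsi (r : RootRing p A a) :
    algebraMap A (RootRing p A a) (rootPsi p a r) = r ^ p := by
  haveI : PZero p (RootRing p A a) := PZero.of_algebra p A _
  have : (algebraMap A (RootRing p A a)).comp (rootPsi p a) = pPow p (RootRing p A a) := by
    apply AdjoinRoot.ringHom_ext
    · ext x
      simp only [rootPsi, RingHom.coe_comp, Function.comp_apply, AdjoinRoot.lift_of, pPow_apply,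
        map_pow]
      rfl
    · simp only [rootPsi, RingHom.coe_comp, Function.comp_apply, AdjoinRoot.lift_root, pPow_apply]
      rw [rootRing_root_pow]
      rfl
  exact RingHom.congr_fun this r

theorem exists_etale_descent_one (C₁ : Type u) [CommRing C₁] [Algebra (RootRing p A a) C₁]
    [Algebra A C₁] [IsScalarTower A (RootRing p A a) C₁] [Algebra.Etale (RootRing p A a) C₁] :
    ∃ (C' : Type u) (_ : CommRing C') (_ : Algebra A C') (_ : Algebra.Etale A C')
      (g : C' →ₐ[A] C₁), IsBaseChange (RootRing p A a) g.toLinearMap := by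
  haveI : PZero p (RootRing p A a) := PZero.of_algebra p A _
  haveI : PZero p C₁ := PZero.of_algebra p A C₁
  letI algRA : Algebra (RootRing p A a) A := (rootPsi p a).toAlgebra
  letI algRF : Algebra (RootRing p A a) (Fr p C₁) := algFrComp p (RootRing p A a) C₁
  letI algAF : Algebra A (Fr p C₁) := inferInstanceAs (Algebra A C₁)
  letI algAFR : Algebra A (Fr p (RootRing p A a)) := inferInstanceAs (Algebra A (RootRing p A a))
  haveI t1 : IsScalarTower (RootRing p A a) A (Fr p (RootRing p A a)) :=
    .of_algebraMap_eq fun r => (algebraMap_rootPsi p a r).symm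
  haveI t2 : IsScalarTower A (Fr p (RootRing p A a)) (Fr p C₁) :=
    inferInstanceAs (IsScalarTower A (RootRing p A a) C₁)
  haveI t3 : IsScalarTower (RootRing p A a) A (Fr p C₁) := .of_algebraMap_eq fun r => by
    change (algebraMap (RootRing p A a) C₁ r) ^ p = algebraMap A C₁ (rootPsi p a r)
    rw [IsScalarTower.algebraMap_apply A (RootRing p A a) C₁, algebraMap_rootPsi, map_pow]
  let g : A ⊗[RootRing p A a] C₁ →ₐ[A] Fr p C₁ :=
    Algebra.TensorProduct.productLeftAlgHom (Algebra.ofId A (Fr p C₁))
      (IsScalarTower.toAlgHom (RootRing p A a) C₁ (Fr p C₁))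
  have hF := (isPushout_frob_of_etale' p (RootRing p A a) C₁).out
  have hf : IsBaseChange A (TensorProduct.mk (RootRing p A a) A C₁ 1) :=
    TensorProduct.isBaseChange (RootRing p A a) C₁ A
  have hc : IsBaseChange (Fr p (RootRing p A a))
      ((g.toLinearMap.restrictScalars (RootRing p A a)) ∘ₗ
        (TensorProduct.mk (RootRing p A a) A C₁ 1)) := by
    convert hF using 1
    ext c
    simp [g]
  have hg : IsBaseChange (Fr p (RootRing p A a)) g.toLinearMap := IsBaseChange.of_comp hf hc
  exact ⟨A ⊗[RootRing p A a] C₁, inferInstance, inferInstance, inferInstance, g, hg⟩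

theorem exists_etale_descent_zero {A B : Type u} [CommRing A] [CommRing B] [Algebra A B]
    (f : B ≃ₐ[A] A) (C : Type u) [CommRing C] [Algebra B C] [Algebra A C] [IsScalarTower A B C]
    [Algebra.Etale B C] :
    ∃ (C' : Type u) (_ : CommRing C') (_ : Algebra A C') (_ : Algebra.Etale A C')
      (g : C' →ₐ[A] C), IsBaseChange B g.toLinearMap := by
  have hfb : ∀ b : B, algebraMap A B (f b) = b := fun b => by
    have := f.symm.commutes (f b)
    rw [Algebra.algebraMap_self_apply] at this
    rw [← this]; simp
  haveI : Algebra.Etale A B := Algebra.Etale.of_equiv f.symm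
  haveI : Algebra.Etale A C := Algebra.Etale.comp A B C
  refine ⟨C, inferInstance, inferInstance, inferInstance, AlgHom.id A C, ?_⟩
  apply IsBaseChange.of_lift_unique
  intro Q _ _ _ _ g₀
  refine ⟨{ g₀ with map_smul' := fun b c => ?_ }, ?_, ?_⟩
  · simp only [AddHom.toFun_eq_coe, LinearMap.coe_toAddHom, RingHom.id_apply]
    rw [← hfb b, algebraMap_smul, algebraMap_smul, map_smul]
  · ext c
    rfl
  · intro g' hg'
    ext c
    exact LinearMap.congr_fun hg' c

theorem exists_etale_descent_step (B : Type u) [CommRing B]
    [Algebra (RootRing p A a) B] (C : Type u) [CommRing C] [Algebra B C] [Algebra A C]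
    [Algebra A B] [IsScalarTower A (RootRing p A a) B] [IsScalarTower A B C]
    (C₁ : Type u) [CommRing C₁] [Algebra (RootRing p A a) C₁]
    [Algebra.Etale (RootRing p A a) C₁] [Algebra (RootRing p A a) C]
    [IsScalarTower (RootRing p A a) B C]
    (g₁ : C₁ →ₐ[RootRing p A a] C) (hg₁ : IsBaseChange B g₁.toLinearMap) :
    ∃ (C' : Type u) (_ : CommRing C') (_ : Algebra A C') (_ : Algebra.Etale A C')
      (g : C' →ₐ[A] C), IsBaseChange B g.toLinearMap := by
  haveI : IsScalarTower A (RootRing p A a) C := .of_algebraMap_eq fun x => by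
    rw [IsScalarTower.algebraMap_apply A B C, IsScalarTower.algebraMap_apply A (RootRing p A a) B,
      ← IsScalarTower.algebraMap_apply (RootRing p A a) B C]
  letI algAC₁ : Algebra A C₁ :=
    ((algebraMap (RootRing p A a) C₁).comp (algebraMap A (RootRing p A a))).toAlgebra
  haveI : IsScalarTower A (RootRing p A a) C₁ := .of_algebraMap_eq fun _ => rfl
  obtain ⟨C', _, _, _, g₀, hg₀⟩ := exists_etale_descent_one p a C₁
  have h := IsBaseChange.comp hg₀ hg₁
  refine ⟨C', inferInstance, inferInstance, inferInstance,
    (g₁.restrictScalars A).comp g₀, ?_⟩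
  have e : ((g₁.restrictScalars A).comp g₀).toLinearMap =
      (g₁.toLinearMap.restrictScalars A) ∘ₗ g₀.toLinearMap := LinearMap.ext fun _ => rfl
  rw [e]
  exact h

/-- Étale algebras descend along root towers (in characteristic `p`). -/
theorem exists_etale_descent : ∀ (n : ℕ) {A B : Type u} [CommRing A] [CommRing B] [Algebra A B]
    [PZero p A], IsRootTower p n A B →
    ∀ (C : Type u) [CommRing C] [Algebra B C] [Algebra A C] [IsScalarTower A B C]
      [Algebra.Etale B C],
    ∃ (C' : Type u) (_ : CommRing C') (_ : Algebra A C') (_ : Algebra.Etale A C')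
      (g : C' →ₐ[A] C), IsBaseChange B g.toLinearMap
  | 0, A, B, _, _, _, _ => by
    rintro ⟨f⟩ C _ _ _ _ _
    exact exists_etale_descent_zero f C
  | n + 1, A, B, _, _, _, _ => by
    rintro ⟨a, alg, tower, h⟩ C _ _ _ _ _
    letI := alg
    haveI : PZero p (RootRing p A a) := PZero.of_algebra p A _
    letI algRC : Algebra (RootRing p A a) C :=
      ((algebraMap B C).comp (algebraMap (RootRing p A a) B)).toAlgebra
    haveI : IsScalarTower (RootRing p A a) B C := .of_algebraMap_eq fun _ => rfl
    haveI : IsScalarTower A (RootRing p A a) C := .of_algebraMap_eq fun x => by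
      rw [IsScalarTower.algebraMap_apply A B C, IsScalarTower.algebraMap_apply A (RootRing p A a) B]
      rfl
    obtain ⟨C₁, _, _, _, g₁, hg₁⟩ := exists_etale_descent n h C
    exact exists_etale_descent_step p a B C C₁ g₁ hg₁

/-- Packaged form of `exists_etale_descent`. -/
theorem exists_etale_descent' (n : ℕ) {A B : Type u} [CommRing A] [CommRing B] [Algebra A B]
    [PZero p A] (h : IsRootTower p n A B)
    (C : Type u) [CommRing C] [Algebra B C] [Algebra A C] [IsScalarTower A B C]
    [Algebra.Etale B C] :
    ∃ (C' : Type u) (_ : CommRing C') (_ : Algebra A C') (_ : Algebra.Etale A C')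
      (_ : Algebra C' C) (_ : IsScalarTower A C' C),
      Algebra.IsPushout A B C' C ∧ IsRootTower p n C' C := by
  obtain ⟨C', _, _, _, g, hg⟩ := exists_etale_descent p n h C
  letI algC'C : Algebra C' C := g.toRingHom.toAlgebra
  haveI : IsScalarTower A C' C := .of_algebraMap_eq fun x => (g.commutes x).symm
  have hpo : Algebra.IsPushout A B C' C := by
    constructor
    have e : (IsScalarTower.toAlgHom A C' C).toLinearMap = g.toLinearMap :=
      LinearMap.ext fun _ => rfl
    rw [e]
    exact hg
  refine ⟨C', inferInstance, inferInstance, inferInstance, algC'C, inferInstance, hpo, ?_⟩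
  exact isRootTower_of_isPushout p n (A := A) (B := B) (A' := C') (B' := C) h

end Descent

end Groth.Agent.Lib.Helper59.FrobTower
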