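import Mathlib
import Groth.Prelude.Def_W4c2gaugesfzipsQuiet
import Groth.Prelude.Def_Frob
import Groth.Agent.Lib.Helper59.FrobTower
import Groth.Agent.Lib.Helper59.QuietRing

/-!
# Affine charts for quasi-étale morphisms; composition (helper59)
-/

universe u

open AlgebraicGeometry CategoryTheory CategoryTheory.Limits Opposite TopologicalSpace

namespace Groth.Agent.Lib.Helper59.Quiet

open Groth.Agent.Lib.Helper59.FrobTower

variable (p : ℕ) [Fact p.Prime]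

/-- An affine chart for a quasi-étale morphism at the point `z`: an affine open `V ∋ z`, an étale
`Spec C ⟶ X` and a ring map `C ⟶ Γ(Z, V)` which is a root tower, compatible with `h`. -/
def HasChart {Z X : Scheme.{u}} (h : Z ⟶ X) (z : Z) : Prop :=
  ∃ (V : Z.Opens) (hV : IsAffineOpen V) (C : CommRingCat.{u}) (e : Spec C ⟶ X)
    (ψ : C ⟶ Γ(Z, V)) (n : ℕ), z ∈ V ∧ Etale e ∧
      (letI := ψ.hom.toAlgebra; Quiet.IsRootTower p n C Γ(Z, V)) ∧
      Spec.map ψ ≫ e = hV.fromSpec ≫ h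

theorem isQuiet_of_hasChart {Z X : Scheme.{u}} (h : Z ⟶ X) (H : ∀ z, HasChart p h z) :
    Quiet.IsQuiet p h := by
  intro z
  obtain ⟨V, hV, C, e, ψ, n, hz, he, htower, hcomm⟩ := H z
  haveI : IsAffine (V : Scheme) := hV
  refine ⟨V, Spec C, hV.isoSpec.hom ≫ Spec.map ψ, e, hz, ?_, he, ?_⟩
  · intro x
    refine ⟨⟨⊤, isAffineOpen_top _⟩, trivial, isAffineOpen_top _, n, ?_⟩
    letI := ψ.hom.toAlgebra
    letI := ((hV.isoSpec.hom ≫ Spec.map ψ).app ⊤).hom.toAlgebra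
    refine isRootTower_transport p n
      (Scheme.ΓSpecIso C).symm.commRingCatIsoToRingEquiv
      V.topIso.symm.commRingCatIsoToRingEquiv ?_ htower
    intro c
    have h1 : (hV.isoSpec.hom ≫ Spec.map ψ).appTop =
        (Scheme.ΓSpecIso C).hom ≫ ψ ≫ V.topIso.inv := by
      rw [Scheme.Hom.comp_appTop, IsAffineOpen.isoSpec_hom_appTop, ← Category.assoc,
        Scheme.ΓSpecIso_naturality, Category.assoc]
    change V.topIso.inv (ψ c) = (hV.isoSpec.hom ≫ Spec.map ψ).appTop ((Scheme.ΓSpecIso C).inv c)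
    rw [h1]
    simp
    all_goals rfl
  · rw [Category.assoc, hcomm, IsAffineOpen.isoSpec_hom_fromSpec_assoc]

theorem hasChart_of_isQuiet {Z X : Scheme.{u}} (h : Z ⟶ X) (H : Quiet.IsQuiet p h) (z : Z) :
    HasChart p h z := by
  obtain ⟨V, Y₁, r₁, e₁, hz, hr, he, hre⟩ := H z
  obtain ⟨U₁, hxU, haff, n, htower⟩ := hr (r₁.base ⟨z, hz⟩)
  haveI : Etale e₁ := he
  have hV₁ : IsAffineOpen (V.ι ''ᵁ (r₁ ⁻¹ᵁ U₁.1)) := haff.image_of_isOpenImmersion V.ι
  have hU₁ : IsAffineOpen U₁.1 := U₁.2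
  have het : Etale (hU₁.fromSpec ≫ e₁) := by
    haveI : IsOpenImmersion hU₁.fromSpec := inferInstance
    infer_instance
  refine ⟨V.ι ''ᵁ (r₁ ⁻¹ᵁ U₁.1), hV₁, Γ(Y₁, U₁.1), hU₁.fromSpec ≫ e₁,
    r₁.app U₁.1 ≫ (V.ι.appIso (r₁ ⁻¹ᵁ U₁.1)).inv, n, ⟨⟨z, hz⟩, hxU, rfl⟩, het, ?_, ?_⟩
  · letI := (r₁.app U₁.1).hom.toAlgebra
    letI := (r₁.app U₁.1 ≫ (V.ι.appIso (r₁ ⁻¹ᵁ U₁.1)).inv).hom.toAlgebra
    exact isRootTower_transport p n (RingEquiv.refl _)
      (V.ι.appIso (r₁ ⁻¹ᵁ U₁.1)).symm.commRingCatIsoToRingEquiv (fun _ => rfl) htower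
  · have h1 : Spec.map (r₁.app U₁.1) ≫ U₁.2.fromSpec = haff.fromSpec ≫ r₁ := by
      rw [Scheme.Hom.app_eq_appLE]
      exact IsAffineOpen.SpecMap_appLE_fromSpec r₁ U₁.2 haff le_rfl
    have h2 : Spec.map (V.ι.appIso (r₁ ⁻¹ᵁ U₁.1)).hom ≫ hV₁.fromSpec = haff.fromSpec ≫ V.ι := by
      rw [Scheme.Hom.appIso_hom']
      exact IsAffineOpen.SpecMap_appLE_fromSpec V.ι hV₁ haff _
    have h3 : hV₁.fromSpec = Spec.map (V.ι.appIso (r₁ ⁻¹ᵁ U₁.1)).inv ≫ haff.fromSpec ≫ V.ι := by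
      rw [← h2, ← Spec.map_comp_assoc, Iso.hom_inv_id, Spec.map_id, Category.id_comp]
    rw [h3, Spec.map_comp, Category.assoc, Category.assoc, Category.assoc, ← hre,
      reassoc_of% h1]

/-- A morphism from an affine scheme landing in an affine open factors through it. -/
theorem exists_factor {Y : Scheme.{u}} {W : Y.Opens} (hW : IsAffineOpen W) (C : CommRingCat.{u})
    (t : Spec C ⟶ Y) (hle : ∀ x, t.base x ∈ W) :
    ∃ β : Γ(Y, W) ⟶ C, Spec.map β ≫ hW.fromSpec = t := by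
  have e : (⊤ : (Spec C).Opens) ≤ t ⁻¹ᵁ W := fun x _ => hle x
  refine ⟨t.appLE W ⊤ e ≫ (Scheme.ΓSpecIso C).hom, ?_⟩
  rw [Spec.map_comp, Category.assoc,
    IsAffineOpen.SpecMap_appLE_fromSpec t hW (isAffineOpen_top _) e, IsAffineOpen.fromSpec_top,
    Scheme.isoSpec_Spec_inv, ← Spec.map_comp_assoc, Iso.inv_hom_id, Spec.map_id, Category.id_comp]

theorem etale_of_factor {Y : Scheme.{u}} {W : Y.Opens} (hW : IsAffineOpen W) {C : CommRingCat.{u}}
    {t : Spec C ⟶ Y} [Etale t] {β : Γ(Y, W) ⟶ C} (hβ : Spec.map β ≫ hW.fromSpec = t) :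
    β.hom.Etale := by
  have h1 : Etale (Spec.map β ≫ hW.fromSpec) := by rw [hβ]; infer_instance
  have h2 : Etale (Spec.map β) :=
    MorphismProperty.of_postcomp (W := @Etale) (W' := @Etale) (Spec.map β) hW.fromSpec
      inferInstance h1
  exact (HasRingHomProperty.Spec_iff (P := @Etale)).mp h2

/-- Localizing a chart at an element of the base ring. -/
theorem localize_tower {Z : Scheme.{u}} {V₁ : Z.Opens} (hV₁ : IsAffineOpen V₁)
    (C₁ : CommRingCat.{u}) (ψ₁ : C₁ ⟶ Γ(Z, V₁)) (m : ℕ)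
    (tower₁ : letI := ψ₁.hom.toAlgebra; Quiet.IsRootTower p m C₁ Γ(Z, V₁)) (c : C₁) :
    ∃ γ : Localization.Away c →+* Γ(Z, Z.basicOpen (ψ₁.hom c)),
      γ.comp (algebraMap C₁ (Localization.Away c)) =
        (Z.presheaf.map (homOfLE (Z.basicOpen_le (ψ₁.hom c))).op).hom.comp ψ₁.hom ∧
      (letI := γ.toAlgebra
       Quiet.IsRootTower p m (Localization.Away c) Γ(Z, Z.basicOpen (ψ₁.hom c))) := by
  haveI hloc : IsLocalization.Away (ψ₁.hom c) Γ(Z, Z.basicOpen (ψ₁.hom c)) :=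
    hV₁.isLocalization_basicOpen (ψ₁.hom c)
  have hunit : IsUnit (((algebraMap Γ(Z, V₁) Γ(Z, Z.basicOpen (ψ₁.hom c))).comp ψ₁.hom) c) :=
    IsLocalization.Away.algebraMap_isUnit (ψ₁.hom c)
  let γ : Localization.Away c →+* Γ(Z, Z.basicOpen (ψ₁.hom c)) :=
    IsLocalization.Away.lift c hunit
  have hγ : ∀ x, γ (algebraMap C₁ (Localization.Away c) x) =
      algebraMap Γ(Z, V₁) Γ(Z, Z.basicOpen (ψ₁.hom c)) (ψ₁.hom x) :=
    fun x => IsLocalization.Away.lift_eq c hunit x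
  refine ⟨γ, RingHom.ext hγ, ?_⟩
  letI algC₁D₁ : Algebra C₁ Γ(Z, V₁) := ψ₁.hom.toAlgebra
  letI algCD : Algebra (Localization.Away c) Γ(Z, Z.basicOpen (ψ₁.hom c)) := γ.toAlgebra
  letI algC₁D : Algebra C₁ Γ(Z, Z.basicOpen (ψ₁.hom c)) :=
    ((algebraMap Γ(Z, V₁) Γ(Z, Z.basicOpen (ψ₁.hom c))).comp ψ₁.hom).toAlgebra
  haveI t1 : IsScalarTower C₁ (Localization.Away c) Γ(Z, Z.basicOpen (ψ₁.hom c)) :=
    .of_algebraMap_eq fun x => (hγ x).symm
  haveI t2 : IsScalarTower C₁ Γ(Z, V₁) Γ(Z, Z.basicOpen (ψ₁.hom c)) :=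
    .of_algebraMap_eq fun x => rfl
  haveI hloc' : IsLocalization (Algebra.algebraMapSubmonoid Γ(Z, V₁) (Submonoid.powers c))
      Γ(Z, Z.basicOpen (ψ₁.hom c)) := by
    have : Algebra.algebraMapSubmonoid Γ(Z, V₁) (Submonoid.powers c) =
        Submonoid.powers (ψ₁.hom c) := by
      rw [Algebra.algebraMapSubmonoid, Submonoid.map_powers]
      rfl
    rw [this]
    exact hloc
  haveI hpo : Algebra.IsPushout C₁ Γ(Z, V₁) (Localization.Away c)
      Γ(Z, Z.basicOpen (ψ₁.hom c)) :=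
    Algebra.isPushout_of_isLocalization (Submonoid.powers c) (Localization.Away c) Γ(Z, V₁)
      Γ(Z, Z.basicOpen (ψ₁.hom c))
  exact isRootTower_of_isPushout p m (A := C₁) (B := Γ(Z, V₁)) (A' := Localization.Away c)
    (B' := Γ(Z, Z.basicOpen (ψ₁.hom c))) tower₁

theorem pzero_of_etale_chart {X : Scheme.{u}} [FrobSch.IsCharP X p] (A : CommRingCat.{u})
    (e : Spec A ⟶ X) : PZero p A := by
  haveI : PZero p Γ(X, ⊤) := ⟨FrobSch.IsCharP.natCast_eq_zero⟩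
  exact PZero.of_ringHom p (e.appTop ≫ (Scheme.ΓSpecIso A).hom).hom

theorem hasChart_comp {X Y Z : Scheme.{u}} [FrobSch.IsCharP X p] (f : Y ⟶ X) (g : Z ⟶ Y)
    (hf : Quiet.IsQuiet p f) (hg : Quiet.IsQuiet p g) (z : Z) : HasChart p (g ≫ f) z := by
  obtain ⟨V₁, hV₁, C₁, e₁, ψ₁, m, hz, he₁, tower₁, comm₁⟩ := hasChart_of_isQuiet p g hg z
  obtain ⟨z', hz'⟩ : ∃ z' : Spec Γ(Z, V₁), hV₁.fromSpec.base z' = z := by
    have : z ∈ Set.range hV₁.fromSpec.base := by rw [hV₁.range_fromSpec]; exact hz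
    exact this
  have hy : e₁.base ((Spec.map ψ₁).base z') = g.base z := by
    have := congrArg (fun t => t.base z') comm₁
    simp only [Scheme.Hom.comp_base, TopCat.hom_comp, ContinuousMap.comp_apply] at this
    rw [this, hz']
  obtain ⟨W₂, hW₂, A, e₂, ψ₂, n, hyW, he₂, tower₂, comm₂⟩ :=
    hasChart_of_isQuiet p f hf (g.base z)
  have hy₁ : (Spec.map ψ₁).base z' ∈ e₁ ⁻¹ᵁ W₂ := by
    change e₁.base ((Spec.map ψ₁).base z') ∈ W₂
    rw [hy]; exact hyW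
  obtain ⟨c, hyc, hcle⟩ : ∃ c : C₁, (Spec.map ψ₁).base z' ∈ PrimeSpectrum.basicOpen c ∧
      (PrimeSpectrum.basicOpen c : Set (PrimeSpectrum C₁)) ⊆ (e₁ ⁻¹ᵁ W₂ : Set (Spec C₁)) := by
    obtain ⟨_, ⟨_, ⟨c, rfl⟩, rfl⟩, h1, h2⟩ :=
      PrimeSpectrum.isBasis_basic_opens.exists_subset_of_mem_open hy₁ (e₁ ⁻¹ᵁ W₂).2
    exact ⟨c, h1, h2⟩
  -- the localized chart
  obtain ⟨γ, hγ, towerCD⟩ := localize_tower p hV₁ C₁ ψ₁ m tower₁ c
  have hV₃ : IsAffineOpen (Z.basicOpen (ψ₁.hom c)) := hV₁.basicOpen _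
  have hzV₃ : z ∈ Z.basicOpen (ψ₁.hom c) := by
    rw [← hz']
    change z' ∈ hV₁.fromSpec ⁻¹ᵁ Z.basicOpen (ψ₁.hom c)
    rw [hV₁.fromSpec_preimage_basicOpen]
    exact hyc
  -- the étale map `B → C`
  haveI : Etale e₁ := he₁
  haveI : Etale e₂ := he₂
  let t : Spec (CommRingCat.of (Localization.Away c)) ⟶ Y :=
    Spec.map (CommRingCat.ofHom (algebraMap C₁ (Localization.Away c))) ≫ e₁
  have htW : ∀ x, t.base x ∈ W₂ := by
    intro x
    apply hcle
    have : (Spec.map (CommRingCat.ofHom (algebraMap C₁ (Localization.Away c)))).base x ∈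
        Set.range (PrimeSpectrum.comap (algebraMap C₁ (Localization.Away c))) := ⟨x, rfl⟩
    rwa [PrimeSpectrum.localization_away_comap_range (Localization.Away c) c] at this
  obtain ⟨β, hβ⟩ := exists_factor hW₂ (CommRingCat.of (Localization.Away c)) t htW
  have hβet : β.hom.Etale := etale_of_factor hW₂ hβ
  -- descent
  haveI : PZero p A := pzero_of_etale_chart p A e₂
  letI algAB : Algebra A Γ(Y, W₂) := ψ₂.hom.toAlgebra
  letI algBC : Algebra Γ(Y, W₂) (Localization.Away c) := β.hom.toAlgebra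
  letI algAC : Algebra A (Localization.Away c) := (ψ₂ ≫ β).hom.toAlgebra
  haveI : IsScalarTower A Γ(Y, W₂) (Localization.Away c) := .of_algebraMap_eq fun _ => rfl
  haveI : Algebra.Etale Γ(Y, W₂) (Localization.Away c) := hβet
  obtain ⟨C', _, _, hC'et, algC'C, _, hpo, towerC'C⟩ :=
    exists_etale_descent' p n tower₂ (Localization.Away c)
  letI algCD : Algebra (Localization.Away c) Γ(Z, Z.basicOpen (ψ₁.hom c)) := γ.toAlgebra
  let φ : CommRingCat.of C' ⟶ Γ(Z, Z.basicOpen (ψ₁.hom c)) :=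
    CommRingCat.ofHom (γ.comp (algebraMap C' (Localization.Away c)))
  letI algC'D : Algebra C' Γ(Z, Z.basicOpen (ψ₁.hom c)) := φ.hom.toAlgebra
  haveI : IsScalarTower C' (Localization.Away c) Γ(Z, Z.basicOpen (ψ₁.hom c)) :=
    .of_algebraMap_eq fun _ => rfl
  have towerC'D : Quiet.IsRootTower p (n + m) C' Γ(Z, Z.basicOpen (ψ₁.hom c)) :=
    isRootTower_comp p n m towerC'C towerCD
  have hetA : Etale (Spec.map (CommRingCat.ofHom (algebraMap A C'))) :=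
    (HasRingHomProperty.Spec_iff (P := @Etale)).mpr (RingHom.etale_algebraMap.mpr hC'et)
  refine ⟨Z.basicOpen (ψ₁.hom c), hV₃, CommRingCat.of C',
    Spec.map (CommRingCat.ofHom (algebraMap A C')) ≫ e₂, φ, n + m, hzV₃, inferInstance,
    towerC'D, ?_⟩
  -- commutativity
  have h2 : CommRingCat.ofHom (algebraMap A C') ≫ φ = ψ₂ ≫ β ≫ CommRingCat.ofHom γ := by
    ext a
    change γ (algebraMap C' (Localization.Away c) (algebraMap A C' a)) = γ (β (ψ₂ a))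
    rw [← IsScalarTower.algebraMap_apply A C' (Localization.Away c)]
    rfl
  have h4 : CommRingCat.ofHom (algebraMap C₁ (Localization.Away c)) ≫ CommRingCat.ofHom γ =
      ψ₁ ≫ Z.presheaf.map (homOfLE (Z.basicOpen_le (ψ₁.hom c))).op := by
    ext x
    exact RingHom.congr_fun hγ x
  rw [← Spec.map_comp_assoc, h2, Spec.map_comp, Spec.map_comp, Category.assoc, Category.assoc,
    comm₂, reassoc_of% hβ]
  change Spec.map (CommRingCat.ofHom γ) ≫
    (Spec.map (CommRingCat.ofHom (algebraMap C₁ (Localization.Away c))) ≫ e₁) ≫ f = _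
  rw [← Category.assoc, ← Category.assoc, ← Spec.map_comp, h4, Spec.map_comp, Category.assoc,
    Category.assoc, reassoc_of% comm₁, IsAffineOpen.map_fromSpec_assoc hV₁ hV₃]

end Groth.Agent.Lib.Helper59.Quiet
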