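import Mathlib
import Groth.Prelude.Def_W4c2gaugesfzipsQuiet
import Groth.Agent.Lib.Helper59.QuietScheme
import Groth.Agent.Lib.Helper59.QuietLift

/-!
# Lifting quasi-étale morphisms along closed immersions (helper59)
-/

universe u

open AlgebraicGeometry CategoryTheory CategoryTheory.Limits Opposite TopologicalSpace

namespace Groth.Agent.Lib.Helper59.Quiet

open Groth.Agent.Lib.Helper59.FrobTower

variable (p : ℕ) [Fact p.Prime]

/-- Localizing an affine chart at an element of the base ring. -/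
theorem chart_localize {Z X : Scheme.{u}} (h : Z ⟶ X) {V₁ : Z.Opens} (hV₁ : IsAffineOpen V₁)
    (C₁ : CommRingCat.{u}) (e : Spec C₁ ⟶ X) (ψ : C₁ ⟶ Γ(Z, V₁)) (m : ℕ)
    (tower : letI := ψ.hom.toAlgebra; Quiet.IsRootTower p m C₁ Γ(Z, V₁))
    (comm : Spec.map ψ ≫ e = hV₁.fromSpec ≫ h) (c : C₁) :
    ∃ ψ' : CommRingCat.of (Localization.Away c) ⟶ Γ(Z, Z.basicOpen (ψ.hom c)),
      (letI := ψ'.hom.toAlgebra
       Quiet.IsRootTower p m (Localization.Away c) Γ(Z, Z.basicOpen (ψ.hom c))) ∧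
      Spec.map ψ' ≫ (Spec.map (CommRingCat.ofHom (algebraMap C₁ (Localization.Away c))) ≫ e) =
        (hV₁.basicOpen (ψ.hom c)).fromSpec ≫ h := by
  obtain ⟨γ, hγ, towerCD⟩ := localize_tower p hV₁ C₁ ψ m tower c
  refine ⟨CommRingCat.ofHom γ, towerCD, ?_⟩
  have h4 : CommRingCat.ofHom (algebraMap C₁ (Localization.Away c)) ≫ CommRingCat.ofHom γ =
      ψ ≫ Z.presheaf.map (homOfLE (Z.basicOpen_le (ψ.hom c))).op := by
    ext x
    exact RingHom.congr_fun hγ x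
  rw [← Spec.map_comp_assoc, h4, Spec.map_comp, Category.assoc, comm,
    IsAffineOpen.map_fromSpec_assoc hV₁ (hV₁.basicOpen (ψ.hom c))]

theorem mem_basicOpen_of_chart {Z : Scheme.{u}} {V₁ : Z.Opens} (hV₁ : IsAffineOpen V₁)
    (C₁ : CommRingCat.{u}) (ψ : C₁ ⟶ Γ(Z, V₁)) (z' : Spec Γ(Z, V₁)) (c : C₁)
    (hc : (Spec.map ψ).base z' ∈ PrimeSpectrum.basicOpen c) :
    hV₁.fromSpec.base z' ∈ Z.basicOpen (ψ.hom c) := by
  change z' ∈ hV₁.fromSpec ⁻¹ᵁ Z.basicOpen (ψ.hom c)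
  rw [hV₁.fromSpec_preimage_basicOpen]
  exact hc

theorem exists_point_over {Z : Scheme.{u}} {V₁ : Z.Opens} (hV₁ : IsAffineOpen V₁) {z : Z}
    (hz : z ∈ V₁) : ∃ z' : Spec Γ(Z, V₁), hV₁.fromSpec.base z' = z := by
  have : z ∈ Set.range hV₁.fromSpec.base := by rw [hV₁.range_fromSpec]; exact hz
  exact this

/-- The restriction of `f` over an affine open with affine preimage, as a pullback square of
spectra. -/
theorem isPullback_fromSpec {X Y : Scheme.{u}} (f : X ⟶ Y) {W : Y.Opens} (hW : IsAffineOpen W)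
    (hW' : IsAffineOpen (f ⁻¹ᵁ W)) :
    IsPullback (Spec.map (f.app W)) hW'.fromSpec hW.fromSpec f := by
  have h1 : IsPullback (f ∣_ W) (f ⁻¹ᵁ W).ι W.ι f := isPullback_morphismRestrict f W
  have hcomm : Spec.map (f.app W) ≫ hW.fromSpec = hW'.fromSpec ≫ f := by
    rw [Scheme.Hom.app_eq_appLE]
    exact IsAffineOpen.SpecMap_appLE_fromSpec f hW hW' le_rfl
  refine IsPullback.of_iso h1 hW'.isoSpec hW.isoSpec (Iso.refl _) (Iso.refl _) ?_ ?_ ?_ ?_
  · rw [← cancel_mono hW.fromSpec, Category.assoc, Category.assoc, hcomm,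
      IsAffineOpen.isoSpec_hom_fromSpec, IsAffineOpen.isoSpec_hom_fromSpec_assoc]
    exact h1.w
  · simp
  · simp
  · simp

theorem surjective_of_isPushout {R Rb E' E : Type u} [CommRing R] [CommRing Rb] [CommRing E']
    [CommRing E] [Algebra R Rb] [Algebra R E'] [Algebra Rb E] [Algebra E' E] [Algebra R E]
    [IsScalarTower R Rb E] [IsScalarTower R E' E] [hpo : Algebra.IsPushout R Rb E' E]
    (hsurj : Function.Surjective (algebraMap R Rb)) : Function.Surjective (algebraMap E' E) := by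
  intro x
  refine hpo.1.inductionOn x (fun x => x ∈ Set.range (algebraMap E' E)) ⟨0, map_zero _⟩
    (fun m => ⟨m, rfl⟩) ?_ ?_
  · rintro s _ ⟨y, rfl⟩
    obtain ⟨r, rfl⟩ := hsurj s
    refine ⟨r • y, ?_⟩
    rw [Algebra.smul_def, map_mul, ← IsScalarTower.algebraMap_apply, algebraMap_smul,
      Algebra.smul_def]
  · rintro _ _ ⟨y₁, rfl⟩ ⟨y₂, rfl⟩
    exact ⟨y₁ + y₂, map_add _ _ _⟩

/-- `Spec D' → Spec E' → T` with `D'` a root tower over `E'` and `Spec E' → T` étale is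
quasi-étale. -/
theorem isQuiet_of_tower_etale {T : Scheme.{u}} (E' D' : Type u) [CommRing E'] [CommRing D']
    [Algebra E' D'] (m : ℕ) (htower : Quiet.IsRootTower p m E' D')
    (e₀ : Spec (CommRingCat.of E') ⟶ T) [Etale e₀] :
    Quiet.IsQuiet p (Spec.map (CommRingCat.ofHom (algebraMap E' D')) ≫ e₀) := by
  refine isQuiet_of_hasChart p _ fun y => ?_
  refine ⟨⊤, isAffineOpen_top _, CommRingCat.of E', e₀,
    CommRingCat.ofHom (algebraMap E' D') ≫ (Scheme.ΓSpecIso (CommRingCat.of D')).inv, m, trivial,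
    inferInstance, ?_, ?_⟩
  · letI := (CommRingCat.ofHom (algebraMap E' D') ≫
      (Scheme.ΓSpecIso (CommRingCat.of D')).inv).hom.toAlgebra
    exact isRootTower_transport p m (RingEquiv.refl E')
      (Scheme.ΓSpecIso (CommRingCat.of D')).symm.commRingCatIsoToRingEquiv (fun _ => rfl) htower
  · rw [IsAffineOpen.fromSpec_top, Scheme.isoSpec_Spec_inv, Spec.map_comp, Category.assoc]

set_option maxHeartbeats 4000000 in
/-- Quasi-étale morphisms lift locally along closed immersions. -/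
theorem exists_lift_quiet {T U U' : Scheme.{u}} (i : U ⟶ T) [IsClosedImmersion i] (f' : U' ⟶ U)
    (hf' : Quiet.IsQuiet p f') (u : U') :
    ∃ (V : U'.Opens) (T' : Scheme.{u}) (q : T' ⟶ T) (j : (V : Scheme.{u}) ⟶ T'),
      u ∈ V ∧ Quiet.IsQuiet p q ∧ IsPullback j (V.ι ≫ f') q i := by
  -- 1. a chart at `u`
  obtain ⟨V₁, hV₁, C₁, e, ψ, m, hu, he, tower, comm⟩ := hasChart_of_isQuiet p f' hf' u
  haveI : Etale e := he
  obtain ⟨z', hz'⟩ := exists_point_over hV₁ hu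
  have hx : e.base ((Spec.map ψ).base z') = f'.base u := by
    have := congrArg (fun t => t.base z') comm
    simp only [Scheme.Hom.comp_base, TopCat.hom_comp, ContinuousMap.comp_apply] at this
    rw [this, hz']
  -- 2. an affine open of `T`
  obtain ⟨T₀, hT₀, hxT₀⟩ : ∃ T₀ : T.Opens, IsAffineOpen T₀ ∧ i.base (f'.base u) ∈ T₀ := by
    obtain ⟨_, ⟨W, hW, rfl⟩, hxW, -⟩ := (T.isBasis_affineOpens).exists_subset_of_mem_open
      (Set.mem_univ (i.base (f'.base u))) isOpen_univ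
    exact ⟨W, hW, hxW⟩
  have hU₀ : IsAffineOpen (i ⁻¹ᵁ T₀) := hT₀.preimage i
  have hsurj : Function.Surjective (i.app T₀).hom := i.app_surjective T₀ hT₀
  -- 3. first localization
  have hy₁ : (Spec.map ψ).base z' ∈ e ⁻¹ᵁ (i ⁻¹ᵁ T₀) := by
    change i.base (e.base ((Spec.map ψ).base z')) ∈ T₀
    rw [hx]; exact hxT₀
  obtain ⟨c, hyc, hcle⟩ : ∃ c : C₁, (Spec.map ψ).base z' ∈ PrimeSpectrum.basicOpen c ∧
      (PrimeSpectrum.basicOpen c : Set (PrimeSpectrum C₁)) ⊆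
        (e ⁻¹ᵁ (i ⁻¹ᵁ T₀) : Set (Spec C₁)) := by
    obtain ⟨_, ⟨_, ⟨c, rfl⟩, rfl⟩, h1, h2⟩ :=
      PrimeSpectrum.isBasis_basic_opens.exists_subset_of_mem_open hy₁ (e ⁻¹ᵁ (i ⁻¹ᵁ T₀)).2
    exact ⟨c, h1, h2⟩
  obtain ⟨ψ₂, tower₂, comm₂⟩ := chart_localize p f' hV₁ C₁ e ψ m tower comm c
  have huV₂ : u ∈ U'.basicOpen (ψ.hom c) := hz' ▸ mem_basicOpen_of_chart hV₁ C₁ ψ z' c hyc
  have hV₂ : IsAffineOpen (U'.basicOpen (ψ.hom c)) := hV₁.basicOpen (ψ.hom c)
  have he₂W : ∀ x, (Spec.map (CommRingCat.ofHom (algebraMap C₁ (Localization.Away c))) ≫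
      e).base x ∈ i ⁻¹ᵁ T₀ := by
    intro x
    apply hcle
    have : (Spec.map (CommRingCat.ofHom (algebraMap C₁ (Localization.Away c)))).base x ∈
        Set.range (PrimeSpectrum.comap (algebraMap C₁ (Localization.Away c))) := ⟨x, rfl⟩
    rwa [PrimeSpectrum.localization_away_comap_range (Localization.Away c) c] at this
  obtain ⟨β, hβ⟩ := exists_factor hU₀ (CommRingCat.of (Localization.Away c)) _ he₂W
  have hβet : β.hom.Etale := etale_of_factor hU₀ hβ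
  -- 4. standard étale neighbourhood
  obtain ⟨z'', hz''⟩ := exists_point_over hV₂ huV₂
  letI algRbC₂ : Algebra Γ(U, i ⁻¹ᵁ T₀) (Localization.Away c) := β.hom.toAlgebra
  haveI : Algebra.Etale Γ(U, i ⁻¹ᵁ T₀) (Localization.Away c) := hβet
  haveI hQ : (((Spec.map ψ₂).base z'').asIdeal).IsPrime := ((Spec.map ψ₂).base z'').isPrime
  haveI : Algebra.IsEtaleAt Γ(U, i ⁻¹ᵁ T₀) ((Spec.map ψ₂).base z'').asIdeal :=
    Algebra.FormallyEtale.comp _ (Localization.Away c) _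
  obtain ⟨f₀, hf₀Q, hstd⟩ := Algebra.IsEtaleAt.exists_isStandardEtale
    (R := Γ(U, i ⁻¹ᵁ T₀)) ((Spec.map ψ₂).base z'').asIdeal
  -- 5. second localization
  obtain ⟨ψ₃, tower₃, comm₃⟩ := chart_localize p f' hV₂ (CommRingCat.of (Localization.Away c))
    _ ψ₂ m tower₂ comm₂ f₀
  have huV₃ : u ∈ U'.basicOpen (ψ₂.hom f₀) :=
    hz'' ▸ mem_basicOpen_of_chart hV₂ _ ψ₂ z'' f₀ hf₀Q
  have hV₃ : IsAffineOpen (U'.basicOpen (ψ₂.hom f₀)) := hV₂.basicOpen (ψ₂.hom f₀)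
  -- 6. ring-level lifting
  letI algRRb : Algebra Γ(T, T₀) Γ(U, i ⁻¹ᵁ T₀) := (i.app T₀).hom.toAlgebra
  letI algRC₃ : Algebra Γ(T, T₀) (Localization.Away f₀) :=
    ((algebraMap Γ(U, i ⁻¹ᵁ T₀) (Localization.Away f₀)).comp
      (algebraMap Γ(T, T₀) Γ(U, i ⁻¹ᵁ T₀))).toAlgebra
  haveI : IsScalarTower Γ(T, T₀) Γ(U, i ⁻¹ᵁ T₀) (Localization.Away f₀) := by
    refine ⟨fun x y z => ?_⟩
    rw [Algebra.smul_def x (y • z), Algebra.smul_def y z, Algebra.smul_def (x • y) z,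
      Algebra.smul_def x y, map_mul, mul_assoc]
    rfl
  obtain ⟨E', _, _, hE'et, algE'C₃, _, hpo⟩ :=
    exists_lift_standardEtale (R := Γ(T, T₀)) (Rb := Γ(U, i ⁻¹ᵁ T₀)) hsurj
      (Localization.Away f₀)
  have hsurjE : Function.Surjective (algebraMap E' (Localization.Away f₀)) :=
    surjective_of_isPushout (R := Γ(T, T₀)) (Rb := Γ(U, i ⁻¹ᵁ T₀)) hsurj
  letI algC₃D₃ : Algebra (Localization.Away f₀) Γ(U', U'.basicOpen (ψ₂.hom f₀)) :=
    ψ₃.hom.toAlgebra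
  letI algE'D₃ : Algebra E' Γ(U', U'.basicOpen (ψ₂.hom f₀)) :=
    ((algebraMap (Localization.Away f₀) Γ(U', U'.basicOpen (ψ₂.hom f₀))).comp
      (algebraMap E' (Localization.Away f₀))).toAlgebra
  haveI : IsScalarTower E' (Localization.Away f₀) Γ(U', U'.basicOpen (ψ₂.hom f₀)) :=
    .of_algebraMap_eq fun _ => rfl
  obtain ⟨D', _, algE'D', algD'D₃, _, hD', hpo2⟩ := exists_lift_rootTower p m hsurjE tower₃
  -- 7. composing the pushouts
  letI algRD' : Algebra Γ(T, T₀) D' :=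
    ((algebraMap E' D').comp (algebraMap Γ(T, T₀) E')).toAlgebra
  haveI : IsScalarTower Γ(T, T₀) E' D' := .of_algebraMap_eq fun _ => rfl
  letI algRD₃ : Algebra Γ(T, T₀) Γ(U', U'.basicOpen (ψ₂.hom f₀)) :=
    ((algebraMap (Localization.Away f₀) Γ(U', U'.basicOpen (ψ₂.hom f₀))).comp
      (algebraMap Γ(T, T₀) (Localization.Away f₀))).toAlgebra
  letI algRbD₃ : Algebra Γ(U, i ⁻¹ᵁ T₀) Γ(U', U'.basicOpen (ψ₂.hom f₀)) :=
    ((algebraMap (Localization.Away f₀) Γ(U', U'.basicOpen (ψ₂.hom f₀))).comp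
      (algebraMap Γ(U, i ⁻¹ᵁ T₀) (Localization.Away f₀))).toAlgebra
  haveI : IsScalarTower Γ(T, T₀) (Localization.Away f₀) Γ(U', U'.basicOpen (ψ₂.hom f₀)) :=
    .of_algebraMap_eq fun _ => rfl
  haveI : IsScalarTower Γ(U, i ⁻¹ᵁ T₀) (Localization.Away f₀)
      Γ(U', U'.basicOpen (ψ₂.hom f₀)) := by
    refine ⟨fun x y z => ?_⟩
    rw [Algebra.smul_def x (y • z), Algebra.smul_def y z, Algebra.smul_def (x • y) z,
      Algebra.smul_def x y, map_mul, mul_assoc]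
    rfl
  haveI : IsScalarTower Γ(T, T₀) Γ(U, i ⁻¹ᵁ T₀) Γ(U', U'.basicOpen (ψ₂.hom f₀)) :=
    .of_algebraMap_eq fun _ => rfl
  haveI : IsScalarTower Γ(T, T₀) D' Γ(U', U'.basicOpen (ψ₂.hom f₀)) :=
    .of_algebraMap_eq fun x => by
      change algebraMap (Localization.Away f₀) Γ(U', U'.basicOpen (ψ₂.hom f₀))
        (algebraMap Γ(T, T₀) (Localization.Away f₀) x) =
        algebraMap D' Γ(U', U'.basicOpen (ψ₂.hom f₀)) (algebraMap E' D' (algebraMap Γ(T, T₀) E' x))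
      rw [← IsScalarTower.algebraMap_apply E' D' Γ(U', U'.basicOpen (ψ₂.hom f₀)),
        IsScalarTower.algebraMap_apply E' (Localization.Away f₀) Γ(U', U'.basicOpen (ψ₂.hom f₀)),
        ← IsScalarTower.algebraMap_apply Γ(T, T₀) E' (Localization.Away f₀)]
  haveI hpo1 : Algebra.IsPushout Γ(T, T₀) E' Γ(U, i ⁻¹ᵁ T₀) (Localization.Away f₀) := hpo.symm
  have hpo3 : Algebra.IsPushout Γ(T, T₀) D' Γ(U, i ⁻¹ᵁ T₀) Γ(U', U'.basicOpen (ψ₂.hom f₀)) :=
    (Algebra.IsPushout.comp_iff Γ(T, T₀) E' Γ(U, i ⁻¹ᵁ T₀) (Localization.Away f₀)).mpr hpo2.symm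
  -- 8. the scheme-level squares
  have hpoCat := CommRingCat.isPushout_iff_isPushout.mpr hpo3
  have htop := isPullback_SpecMap_of_isPushout _ _ _ _ hpoCat
  have hbot : IsPullback (Spec.map (i.app T₀)) hU₀.fromSpec hT₀.fromSpec i :=
    isPullback_fromSpec i hT₀ hU₀
  have hbig := htop.paste_vert hbot
  -- 9. quasi-étaleness of `q`
  haveI : Etale (Spec.map (CommRingCat.ofHom (algebraMap Γ(T, T₀) E'))) :=
    (HasRingHomProperty.Spec_iff (P := @Etale)).mpr (RingHom.etale_algebraMap.mpr hE'et)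
  haveI : IsOpenImmersion hT₀.fromSpec := inferInstance
  have hq : Quiet.IsQuiet p (Spec.map (CommRingCat.ofHom (algebraMap Γ(T, T₀) D')) ≫
      hT₀.fromSpec) := by
    have h1 : CommRingCat.ofHom (algebraMap Γ(T, T₀) D') =
        CommRingCat.ofHom (algebraMap Γ(T, T₀) E') ≫ CommRingCat.ofHom (algebraMap E' D') := rfl
    rw [h1, Spec.map_comp, Category.assoc]
    exact isQuiet_of_tower_etale p E' D' m hD'
      (Spec.map (CommRingCat.ofHom (algebraMap Γ(T, T₀) E')) ≫ hT₀.fromSpec)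
  -- 10. the pullback square
  refine ⟨U'.basicOpen (ψ₂.hom f₀), Spec (CommRingCat.of D'),
    Spec.map (CommRingCat.ofHom (algebraMap Γ(T, T₀) D')) ≫ hT₀.fromSpec,
    hV₃.isoSpec.hom ≫ Spec.map (CommRingCat.ofHom
      (algebraMap D' Γ(U', U'.basicOpen (ψ₂.hom f₀)))), huV₃, hq, ?_⟩
  refine IsPullback.of_iso hbig hV₃.isoSpec.symm (Iso.refl _) (Iso.refl _) (Iso.refl _)
    ?_ ?_ ?_ ?_
  · simp
  · have h2 : CommRingCat.ofHom (algebraMap Γ(U, i ⁻¹ᵁ T₀) Γ(U', U'.basicOpen (ψ₂.hom f₀))) =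
        β ≫ CommRingCat.ofHom (algebraMap (Localization.Away c) (Localization.Away f₀)) ≫ ψ₃ := by
      ext x
      change ψ₃.hom (algebraMap Γ(U, i ⁻¹ᵁ T₀) (Localization.Away f₀) x) = _
      rw [IsScalarTower.algebraMap_apply Γ(U, i ⁻¹ᵁ T₀) (Localization.Away c)
        (Localization.Away f₀)]
      rfl
    simp only [Iso.refl_hom, Category.comp_id, Iso.symm_hom, IsAffineOpen.isoSpec_inv_ι_assoc]
    rw [← comm₃, h2, Spec.map_comp, Spec.map_comp, Category.assoc, Category.assoc, hβ]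
  · simp
  · simp


end Groth.Agent.Lib.Helper59.Quiet
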