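import Mathlib
import Groth.Prelude
import Groth.Agent.Lib.Helper59.FrobTower

/-!
# Étale followed by a root tower is syntomic (helper59)

Ring-level input for "quasi-étale morphisms are syntomic": if `R → B` is étale and `B → D` is a
tower of `p`-th root extractions, then `R → D` is flat, finitely presented and all its fibres are
(global) complete intersections of dimension zero.  The presentations come from Mathlib's
`Algebra.Presentation` API (`comp`, `baseChange`, `localizationAway`) and from the fact that an
étale algebra is standard smooth of relative dimension `0`.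
-/

universe u

open Polynomial TensorProduct

namespace Groth.Agent.Lib.Helper59.QuietSynt

open Groth.Agent.Lib.Helper59.FrobTower Quiet

/-- `S` has a presentation over `R` with as many relations as generators. -/
def SqPres (R S : Type u) [CommRing R] [CommRing S] [Algebra R S] : Prop :=
  ∃ m : ℕ, Nonempty (Algebra.Presentation R S (Fin m) (Fin m))

theorem SqPres.of_presentation {R S : Type u} [CommRing R] [CommRing S] [Algebra R S]
    {ι σ : Type*} [Finite ι] [Finite σ] (P : Algebra.Presentation R S ι σ)
    (h : Nat.card ι = Nat.card σ) : SqPres R S :=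
  ⟨Nat.card ι, ⟨P.reindex (Finite.equivFin ι).symm (Finite.equivFinOfCardEq h.symm).symm⟩⟩

/-- The presentation of `A[X]/(h)` by one generator and one relation. -/
noncomputable def adjoinRootPres {A : Type u} [CommRing A] (h : A[X]) :
    Algebra.Presentation A (AdjoinRoot h) Unit Unit := by
  let v : Unit → MvPolynomial Unit A := fun _ => (MvPolynomial.pUnitAlgEquiv A).symm h
  have hI : (Ideal.span {h} : Ideal A[X]) =
      Ideal.map ((MvPolynomial.pUnitAlgEquiv A : MvPolynomial Unit A ≃ₐ[A] A[X]) :
        MvPolynomial Unit A →+* A[X]) (Ideal.span (Set.range v)) := by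
    rw [Ideal.map_span, Set.range_const, Set.image_singleton]
    congr 2
    exact ((MvPolynomial.pUnitAlgEquiv A).apply_symm_apply h).symm
  let e : (MvPolynomial Unit A ⧸ Ideal.span (Set.range v)) ≃ₐ[A] AdjoinRoot h :=
    Ideal.quotientEquivAlg (Ideal.span (Set.range v)) (Ideal.span {h})
      (MvPolynomial.pUnitAlgEquiv A) hI
  exact (Algebra.Presentation.naive (v := v)).ofAlgEquiv e

/-- Root towers are finitely presented. -/
theorem isRootTower_fp (p : ℕ) [Fact p.Prime] : ∀ (n : ℕ) {A B : Type u} [CommRing A] [CommRing B]
    [Algebra A B], IsRootTower p n A B → Algebra.FinitePresentation A B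
  | 0, A, B, _, _, _ => by
    rintro ⟨f⟩
    exact Algebra.FinitePresentation.equiv f.symm
  | n + 1, A, B, _, _, _ => by
    rintro ⟨a, alg, tower, hB⟩
    letI := alg
    haveI := isRootTower_fp p n hB
    haveI : Algebra.FinitePresentation A (RootRing p A a) :=
      (adjoinRootPres (X ^ p - C a : A[X])).finitePresentation_of_isFinite
    exact Algebra.FinitePresentation.trans A (RootRing p A a) B

/-- A root tower over a ring with a square presentation has a square presentation. -/
theorem sqPres_of_rootTower (p : ℕ) : ∀ (n : ℕ) {A B : Type u} [CommRing A] [CommRing B]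
    [Algebra A B] (R : Type u) [CommRing R] [Algebra R A] [Algebra R B] [IsScalarTower R A B],
    IsRootTower p n A B → SqPres R A → SqPres R B
  | 0, A, B, _, _, _, R, _, _, _, _ => by
    rintro ⟨f⟩ ⟨m, ⟨P⟩⟩
    exact ⟨m, ⟨P.ofAlgEquiv (f.symm.restrictScalars R)⟩⟩
  | n + 1, A, B, _, _, _, R, _, _, _, _ => by
    rintro ⟨a, alg, tower, hB⟩ ⟨m, ⟨P⟩⟩
    letI := alg
    haveI : IsScalarTower R (RootRing p A a) B := by
      refine IsScalarTower.of_algebraMap_eq fun r => ?_
      rw [IsScalarTower.algebraMap_apply R A B, IsScalarTower.algebraMap_apply A (RootRing p A a) B,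
        ← IsScalarTower.algebraMap_apply R A (RootRing p A a)]
    refine sqPres_of_rootTower p n R hB ?_
    exact SqPres.of_presentation ((adjoinRootPres (X ^ p - C a : A[X])).comp P) rfl

/-- An étale algebra has a square presentation. -/
theorem sqPres_of_etale {R B : Type u} [CommRing R] [CommRing B] [Algebra R B]
    [Algebra.Etale R B] : SqPres R B := by
  have h0 : Algebra.IsStandardSmoothOfRelativeDimension 0 R B :=
    Algebra.Etale.iff_isStandardSmoothOfRelativeDimension_zero.mp inferInstance
  obtain ⟨ι, σ, _, _, P, hP⟩ := h0.out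
  have h1 : Nat.card σ ≤ Nat.card ι := P.card_relations_le_card_vars_of_isFinite
  have h2 : Nat.card ι - Nat.card σ = 0 := hP
  exact SqPres.of_presentation P.toPresentation (by omega)

/-- A zero-dimensional algebra with a square presentation is a global complete intersection. -/
theorem isGlobalCI_of_sqPres (k : Type u) [Field k] (S : Type u) [CommRing S] [Algebra k S]
    [IsArtinianRing S] (h : SqPres k S) : Synt.IsGlobalCI k S := by
  obtain ⟨m, ⟨P⟩⟩ := h
  rcases subsingleton_or_nontrivial S with hS | hS
  · exact Or.inl hS
  refine Or.inr ⟨m, m, le_rfl, MvPolynomial.aeval P.val, P.relation, ?_, ?_, ?_⟩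
  · intro s
    obtain ⟨x, hx⟩ := P.algebraMap_surjective s
    exact ⟨x, (P.algebraMap_apply x).symm.trans hx⟩
  · rw [P.span_range_relation_eq_ker, P.ker_eq_ker_aeval_val]
    rfl
  · rw [Nat.sub_self]
    exact (ringKrullDimZero_iff_ringKrullDim_eq_zero.mp inferInstance)

/-- Étale followed by a root tower is syntomic. -/
theorem isSyntomic_of_etale_rootTower (p : ℕ) [Fact p.Prime] {R B D : Type u} [CommRing R]
    [CommRing B] [CommRing D] [Algebra R B] [Algebra B D] [Algebra R D] [IsScalarTower R B D]
    [Algebra.Etale R B] (n : ℕ) (h : IsRootTower p n B D) : Synt.IsSyntomic R D := by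
  haveI : Module.Flat B D := isRootTower_flat p n h
  haveI : Module.Finite B D := isRootTower_finite p n h
  haveI : Algebra.FinitePresentation B D := isRootTower_fp p n h
  haveI : Algebra.FinitePresentation R D := Algebra.FinitePresentation.trans R B D
  have hsq : SqPres R D := sqPres_of_rootTower p n R h sqPres_of_etale
  haveI : Algebra.QuasiFinite R D := Algebra.QuasiFinite.trans R B D
  refine ⟨Module.Flat.trans R B D, inferInstance, fun q => ⟨inferInstance, fun q' => ?_⟩⟩
  obtain ⟨m, ⟨P⟩⟩ := hsq
  refine ⟨1, fun h1 => q'.isPrime.ne_top ((Ideal.eq_top_iff_one _).mpr h1), ?_⟩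
  refine isGlobalCI_of_sqPres _ _ ?_
  exact SqPres.of_presentation
    ((Algebra.Presentation.localizationAway (Localization.Away (1 : q.asIdeal.Fiber D)) 1).comp
      (P.baseChange q.asIdeal.ResidueField)) rfl

end Groth.Agent.Lib.Helper59.QuietSynt
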