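import Mathlib
import Groth.Prelude.Def_BrSev2

universe u
open scoped TensorProduct
open TensorProduct

namespace Groth.Agent.Lib.Helper59.SBAction

variable (k : Type u) [Field k] (A : Type u) [Ring A] [Algebra k A] (c : ℕ)

section rho
variable (R : Type u) [CommRing R] [Algebra k R]

/-- Right multiplication by `1 ⊗ a` on `R ⊗ A`, as an `R`-linear equivalence. -/
noncomputable def rho (a : Aˣ) : (R ⊗[k] A) ≃ₗ[R] (R ⊗[k] A) :=
  LinearEquiv.ofLinearMap (LinearMap.mulRight R ((1 : R) ⊗ₜ[k] (a : A)))
    (LinearMap.mulRight R ((1 : R) ⊗ₜ[k] ((a⁻¹ : Aˣ) : A)))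
    (by
      ext x
      simp [mul_assoc, Algebra.TensorProduct.tmul_mul_tmul])
    (by
      ext x
      simp [mul_assoc, Algebra.TensorProduct.tmul_mul_tmul])

@[simp] lemma rho_apply (a : Aˣ) (x : R ⊗[k] A) : rho k A R a x = x * (1 ⊗ₜ (a : A)) := rfl

lemma rho_tmul (a : Aˣ) (r : R) (m : A) : rho k A R a (r ⊗ₜ m) = r ⊗ₜ (m * a) := by
  simp [Algebra.TensorProduct.tmul_mul_tmul]

lemma rho_one : rho k A R (1 : Aˣ) = LinearEquiv.refl R _ := by
  ext x
  simp [← Algebra.TensorProduct.one_def]

lemma rho_mul (a b : Aˣ) : rho k A R (a * b) = (rho k A R a).trans (rho k A R b) := by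
  ext x
  simp [mul_assoc, Algebra.TensorProduct.tmul_mul_tmul]

end rho

section act
variable (R : Type u) [CommRing R] [Algebra k R]

/-- Transport of a point of the Grassmannian along a linear automorphism. -/
noncomputable def actGr (e : (R ⊗[k] A) ≃ₗ[R] (R ⊗[k] A))
    (N : Module.Grassmannian R (R ⊗[k] A) c) : Module.Grassmannian R (R ⊗[k] A) c :=
  let q := Submodule.Quotient.equiv N.toSubmodule (N.toSubmodule.map e.toLinearMap) e rfl
  { toSubmodule := N.toSubmodule.map e.toLinearMap
    finite_quotient := Module.Finite.equiv q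
    projective_quotient := Module.Projective.of_equiv q
    rankAtStalk_eq := fun p =>
      (congrFun (Module.rankAtStalk_eq_of_equiv q.symm) p).trans (N.rankAtStalk_eq p) }

@[simp] lemma actGr_toSubmodule (e : (R ⊗[k] A) ≃ₗ[R] (R ⊗[k] A))
    (N : Module.Grassmannian R (R ⊗[k] A) c) :
    (actGr k A c R e N).toSubmodule = N.toSubmodule.map e.toLinearMap := rfl

/-- The action of a unit of `A` on the left ideals of `R ⊗ A`: `N ↦ N · a⁻¹`. -/
noncomputable def act (a : Aˣ) (N : BrSev.SBSet k A c R) : BrSev.SBSet k A c R :=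
  ⟨actGr k A c R (rho k A R a⁻¹) N.1, by
    intro b x hx
    rw [actGr_toSubmodule, Submodule.mem_map] at hx ⊢
    obtain ⟨y, hy, rfl⟩ := hx
    refine ⟨b * y, N.2 b y hy, ?_⟩
    simp [mul_assoc]⟩

lemma act_toSubmodule (a : Aˣ) (N : BrSev.SBSet k A c R) :
    (act k A c R a N).1.toSubmodule = N.1.toSubmodule.map (rho k A R a⁻¹).toLinearMap := rfl

lemma SBSet_ext {N N' : BrSev.SBSet k A c R} (h : N.1.toSubmodule = N'.1.toSubmodule) : N = N' :=
  Subtype.ext (Module.Grassmannian.ext h)

lemma act_one (N : BrSev.SBSet k A c R) : act k A c R 1 N = N := by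
  apply SBSet_ext
  rw [act_toSubmodule, inv_one, rho_one]
  exact Submodule.map_id _

lemma act_mul (a b : Aˣ) (N : BrSev.SBSet k A c R) :
    act k A c R (a * b) N = act k A c R a (act k A c R b N) := by
  apply SBSet_ext
  rw [act_toSubmodule, act_toSubmodule, act_toSubmodule, mul_inv_rev, rho_mul, ← Submodule.map_comp]
  rfl

lemma act_algebraMap (r : kˣ) (N : BrSev.SBSet k A c R) :
    act k A c R (Units.map (algebraMap k A : k →* A) r) N = N := by
  apply SBSet_ext
  rw [act_toSubmodule]
  ext x
  rw [Submodule.mem_map]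
  have key : ∀ y : R ⊗[k] A, (rho k A R (Units.map (algebraMap k A : k →* A) r)⁻¹) y =
      algebraMap k R ((r⁻¹ : kˣ) : k) • y := by
    intro y
    rw [rho_apply, ← map_inv]
    simp only [Units.coe_map, MonoidHom.coe_coe]
    rw [Algebra.algebraMap_eq_smul_one, TensorProduct.tmul_smul, ← Algebra.TensorProduct.one_def,
      mul_smul_comm, mul_one, algebraMap_smul]
  constructor
  · rintro ⟨y, hy, rfl⟩
    change (rho k A R (Units.map (algebraMap k A : k →* A) r)⁻¹) y ∈ _
    rw [key]
    exact Submodule.smul_mem _ _ hy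
  · intro hx
    refine ⟨algebraMap k R (r : k) • x, Submodule.smul_mem _ _ hx, ?_⟩
    change (rho k A R (Units.map (algebraMap k A : k →* A) r)⁻¹) _ = _
    rw [key, smul_smul, ← map_mul]
    simp

end act

section natural

variable {R S : Type u} [CommRing R] [Algebra k R] [CommRing S] [Algebra k S]

open Module.Grassmannian in
theorem map_actGr (φ : R →ₐ[k] S) (a : Aˣ) (N : Module.Grassmannian R (R ⊗[k] A) c) :
    (Module.Grassmannian.map φ (actGr k A c R (rho k A R a) N)).toSubmodule =
      (Module.Grassmannian.map φ N).toSubmodule.map (rho k A S a).toLinearMap := by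
  letI : Algebra R S := φ.toAlgebra
  letI : IsScalarTower k R S := IsScalarTower.of_algebraMap_eq' <| (φ.comp_algebraMap).symm
  rw [Module.Grassmannian.map_toSubmodule, Module.Grassmannian.map_toSubmodule, actGr_toSubmodule]
  let q := Submodule.Quotient.equiv N.toSubmodule (N.toSubmodule.map (rho k A R a).toLinearMap)
    (rho k A R a) rfl
  have sq : (baseChangeMkQ S (N.toSubmodule.map (rho k A R a).toLinearMap)) ∘ₗ
      (rho k A S a).toLinearMap = (q.toLinearMap.baseChange S) ∘ₗ baseChangeMkQ S N.toSubmodule := by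
    apply TensorProduct.AlgebraTensorModule.curry_injective
    ext m
    simp [baseChangeMkQ, q]
  have hinj : Function.Injective (q.toLinearMap.baseChange S) := by
    have h1 : (q.symm.toLinearMap.baseChange S) ∘ₗ (q.toLinearMap.baseChange S) = LinearMap.id := by
      rw [← LinearMap.baseChange_comp]
      simp
    intro x y hxy
    have := congrArg (q.symm.toLinearMap.baseChange S) hxy
    rwa [← LinearMap.comp_apply, ← LinearMap.comp_apply, h1] at this
  ext x
  rw [LinearMap.mem_ker, Submodule.mem_map_equiv, LinearMap.mem_ker]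
  have h2 := LinearMap.congr_fun sq ((rho k A S a).symm x)
  rw [LinearMap.comp_apply, LinearMap.comp_apply, LinearEquiv.coe_coe,
    LinearEquiv.apply_symm_apply] at h2
  rw [h2]
  constructor
  · intro h
    exact hinj (h.trans (map_zero _).symm)
  · intro h
    rw [h, map_zero]

end natural

end Groth.Agent.Lib.Helper59.SBAction
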