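import Mathlib
import Groth.Prelude.Def_BrSev2
import Groth.Agent.Lib.Helper59.AffinePoints
import Groth.Agent.Lib.Helper59.SBAction

universe u
open CategoryTheory AlgebraicGeometry Limits
open scoped TensorProduct

namespace Groth.Agent.Lib.Helper59.SBAut

open Groth.Agent.Lib.Helper59.SBAction Groth.Agent.Lib.Helper59.AffinePoints

variable {k : Type u} [Field k] {A : Type u} [Ring A] [Algebra k A] {c : ℕ}
  {X : Scheme.{u}} {p : X ⟶ Spec (CommRingCat.of k)} (st : BrSev.SBStr k A c p)

/-- The action of a unit of `A` on the points of `X`, through the identification with left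
ideals. -/
noncomputable def tau (a : Aˣ) (R : Type u) [CommRing R] [Algebra k R] (g : BrSev.Pts p R) :
    BrSev.Pts p R :=
  (st.bij R).symm (act k A c R a (st.bij R g))

lemma tau_natural (a : Aˣ) (R S : Type u) [CommRing R] [Algebra k R] [CommRing S] [Algebra k S]
    (φ : R →ₐ[k] S) (g : BrSev.Pts p R) :
    BrSev.Pts.map p φ (tau st a R g) = tau st a S (BrSev.Pts.map p φ g) := by
  apply (st.bij S).injective
  apply SBSet_ext
  rw [st.natural, tau, tau, Equiv.apply_symm_apply, Equiv.apply_symm_apply, act_toSubmodule,
    st.natural]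
  exact map_actGr k A c φ a⁻¹ (st.bij R g).1

/-- The endomorphism of `X` attached to a unit of `A`. -/
noncomputable def T (a : Aˣ) : X ⟶ X :=
  (exists_hom' p (tau st a) (tau_natural st a)).choose

lemma T_comp (a : Aˣ) : T st a ≫ p = p :=
  (exists_hom' p (tau st a) (tau_natural st a)).choose_spec.1

lemma T_pts (a : Aˣ) (R : Type u) [CommRing R] [Algebra k R] (g : BrSev.Pts p R) :
    g.1 ≫ T st a = (tau st a R g).1 :=
  (exists_hom' p (tau st a) (tau_natural st a)).choose_spec.2 R g

lemma T_one : T st 1 = 𝟙 X := by
  apply hom_ext_pts p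
  intro R _ _ g
  rw [T_pts, Category.comp_id, tau, act_one, Equiv.symm_apply_apply]

lemma T_mul (a b : Aˣ) : T st (a * b) = T st b ≫ T st a := by
  apply hom_ext_pts p
  intro R _ _ g
  rw [T_pts, ← Category.assoc, T_pts, T_pts]
  simp only [tau, act_mul, Equiv.apply_symm_apply]

/-- The homomorphism from the units of `A` to the automorphisms of `X` over `k`. -/
noncomputable def xi : Aˣ →* Aut (Over.mk p) where
  toFun a :=
    { hom := Over.homMk (T st a) (T_comp st a)
      inv := Over.homMk (T st a⁻¹) (T_comp st a⁻¹)
      hom_inv_id := by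
        ext
        simp [← T_mul, T_one]
      inv_hom_id := by
        ext
        simp [← T_mul, T_one] }
  map_one' := by
    ext
    simp [T_one]
    rfl
  map_mul' a b := by
    ext
    simp [T_mul]
    rfl

lemma xi_hom_left (a : Aˣ) : (xi st a).hom.left = T st a := rfl

lemma T_algebraMap (r : kˣ) : T st (Units.map (algebraMap k A : k →* A) r) = 𝟙 X := by
  apply hom_ext_pts p
  intro R _ _ g
  rw [T_pts, Category.comp_id, tau, act_algebraMap, Equiv.symm_apply_apply]

lemma xi_algebraMap (r : kˣ) : xi st (Units.map (algebraMap k A : k →* A) r) = 1 := by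
  apply Iso.ext
  apply Over.OverMorphism.ext
  rw [xi_hom_left, T_algebraMap]
  rfl

lemma act_eq_of_xi_eq (a b : Aˣ) (h : xi st a = xi st b) (R : Type u) [CommRing R] [Algebra k R]
    (N : BrSev.SBSet k A c R) : act k A c R a N = act k A c R b N := by
  have hT : T st a = T st b := congrArg (fun α => α.hom.left) h
  have h1 := T_pts st a R ((st.bij R).symm N)
  rw [hT, T_pts] at h1
  have h2 : tau st b R ((st.bij R).symm N) = tau st a R ((st.bij R).symm N) := Subtype.ext h1
  simp only [tau, Equiv.apply_symm_apply] at h2
  exact ((st.bij R).symm.injective h2).symm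

end Groth.Agent.Lib.Helper59.SBAut
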