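import Mathlib
import Groth.Prelude.Def_BrSev2
import Groth.Agent.Lib.Helper1.CSAIdeal
import Groth.Agent.Lib.Helper59.SBAction

universe u
open Matrix
open scoped TensorProduct

namespace Groth.Agent.Lib.Helper59.SBFaithful

open Groth.Agent.Lib.Helper59.SBAction

section matrix
variable {L : Type u} [Field L] {m : ℕ}

/-- `v ↦ v wᵀ` as a linear map. -/
def vmv (w : Fin m → L) : (Fin m → L) →ₗ[L] Matrix (Fin m) (Fin m) L where
  toFun v := vecMulVec v w
  map_add' v v' := by ext i j; simp [vecMulVec_apply, add_mul]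
  map_smul' c v := by ext i j; simp [vecMulVec_apply, mul_assoc]

/-- The minimal left ideal of matrices all of whose rows are multiples of `w`. -/
def rowIdeal (w : Fin m → L) : Submodule L (Matrix (Fin m) (Fin m) L) := LinearMap.range (vmv w)

lemma mul_mem_rowIdeal (w : Fin m → L) (M x : Matrix (Fin m) (Fin m) L) (hx : x ∈ rowIdeal w) :
    M * x ∈ rowIdeal w := by
  obtain ⟨v, rfl⟩ := hx
  exact ⟨M *ᵥ v, (mul_vecMulVec M v w).symm⟩

lemma rowIdeal_map_mulRight (w : Fin m → L) (b : Matrix (Fin m) (Fin m) L) :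
    (rowIdeal w).map (LinearMap.mulRight L b) = rowIdeal (w ᵥ* b) := by
  ext x
  constructor
  · rintro ⟨y, ⟨v, rfl⟩, rfl⟩
    exact ⟨v, (vecMulVec_mul v w b).symm⟩
  · rintro ⟨v, rfl⟩
    exact ⟨vecMulVec v w, ⟨v, rfl⟩, vecMulVec_mul v w b⟩

lemma vmv_injective {w : Fin m → L} (hw : w ≠ 0) : Function.Injective (vmv w) := by
  obtain ⟨j, hj⟩ := Function.ne_iff.mp hw
  intro v v' h
  ext i
  have := congrFun (congrFun h i) j
  simp only [vmv, LinearMap.coe_mk, AddHom.coe_mk, vecMulVec_apply] at this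
  exact mul_right_cancel₀ hj this

lemma finrank_rowIdeal {w : Fin m → L} (hw : w ≠ 0) : Module.finrank L (rowIdeal w) = m := by
  rw [rowIdeal, LinearMap.finrank_range_of_inj (vmv_injective hw)]
  simp

lemma exists_smul_of_rowIdeal_eq {w w' : Fin m → L} (i : Fin m) (h : rowIdeal w' = rowIdeal w) :
    ∃ c : L, w' = c • w := by
  have h1 : vecMulVec (Pi.single i (1 : L)) w' ∈ rowIdeal w := by
    rw [← h]
    exact ⟨_, rfl⟩
  obtain ⟨v, hv⟩ := h1
  refine ⟨v i, ?_⟩
  ext j
  have := congrFun (congrFun hv i) j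
  simp only [vmv, LinearMap.coe_mk, AddHom.coe_mk, vecMulVec_apply, Pi.single_eq_same, one_mul]
    at this
  simp [this]

lemma single_vecMul_apply (b : Matrix (Fin m) (Fin m) L) (i j : Fin m) :
    ((Pi.single i (1:L) : Fin m → L) ᵥ* b) j = b i j := by
  classical
  simp [Matrix.vecMul, dotProduct, Pi.single_apply]

/-- A matrix for which every row vector is a left eigenvector is scalar. -/
lemma exists_eq_smul_one (b : Matrix (Fin m) (Fin m) L)
    (h : ∀ w : Fin m → L, w ≠ 0 → ∃ c : L, w ᵥ* b = c • w) : ∃ c : L, b = c • (1 : Matrix _ _ L) := by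
  classical
  rcases Nat.eq_zero_or_pos m with rfl | hm
  · exact ⟨0, by ext i; exact i.elim0⟩
  -- diagonal entries
  have hrow : ∀ i : Fin m, ∃ c : L, ∀ j, b i j = c * (if i = j then 1 else 0) := by
    intro i
    obtain ⟨c, hc⟩ := h (Pi.single i 1) (by
      intro h0
      have := congrFun h0 i
      simp at this)
    refine ⟨c, fun j => ?_⟩
    have := congrFun hc j
    rw [single_vecMul_apply] at this
    rw [this]
    by_cases hij : i = j
    · subst hij; simp
    · simp [hij, Ne.symm hij]
  choose d hd using hrow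
  let i₀ : Fin m := ⟨0, hm⟩
  refine ⟨d i₀, ?_⟩
  have hdi : ∀ i, d i = d i₀ := by
    intro i
    by_cases hi : i = i₀
    · rw [hi]
    obtain ⟨c, hc⟩ := h (Pi.single i 1 + Pi.single i₀ 1) (by
      intro h0
      have := congrFun h0 i
      simp [hi] at this)
    have e1 := congrFun hc i
    have e2 := congrFun hc i₀
    rw [add_vecMul, Pi.add_apply, single_vecMul_apply, single_vecMul_apply] at e1 e2
    rw [hd, hd] at e1 e2
    simp [hi, Ne.symm hi] at e1 e2
    rw [e1, e2]
  ext i j
  rw [hd, hdi]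
  simp [Matrix.one_apply]

end matrix

section field

variable {L : Type u} [Field L] {B : Type u} [Ring B] [Algebra L B] [FiniteDimensional L B]

/-- Over a field, any subspace of the right codimension is a point of the Grassmannian. -/
noncomputable def grOfSubmodule (N : Submodule L B) (c : ℕ) (h : Module.finrank L (B ⧸ N) = c) :
    Module.Grassmannian L B c where
  toSubmodule := N
  finite_quotient := inferInstance
  projective_quotient := inferInstance
  rankAtStalk_eq := fun p => by
    rw [Module.rankAtStalk_eq_finrank_of_free]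
    exact h

end field

section main

variable (k : Type u) [Field k] (A : Type u) [Ring A] [Algebra k A]
  [Algebra.IsCentral k A] [IsSimpleRing A] [Module.Finite k A]

theorem faithful (n : ℕ) (hA : Module.finrank k A = n * n) (a : Aˣ)
    (h : ∀ N : BrSev.SBSet k A (n * n - n) (AlgebraicClosure k),
      act k A (n * n - n) (AlgebraicClosure k) a N = N) :
    ∃ r : k, ((a⁻¹ : Aˣ) : A) = algebraMap k A r := by
  classical
  set L := AlgebraicClosure k with hL
  haveI : IsSimpleRing (L ⊗[k] A) := Groth.Agent.Lib.Helper1.CSA.isSimpleRing_tensor k L A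
  have hfr : Module.finrank L (L ⊗[k] A) = n * n := by
    rw [Module.finrank_baseChange, hA]
  obtain ⟨m, hm, ⟨e⟩⟩ := IsSimpleRing.exists_algEquiv_matrix_of_isAlgClosed L (L ⊗[k] A)
  have hmn : m = n := by
    have := e.toLinearEquiv.finrank_eq
    rw [hfr, Module.finrank_matrix] at this
    simp at this
    nlinarith [this]
  subst hmn
  have key : ∀ w : Fin m → L, w ≠ 0 →
      ∃ c : L, w ᵥ* e ((1 : L) ⊗ₜ[k] ((a⁻¹ : Aˣ) : A)) = c • w := by
    intro w hw
    obtain ⟨j, -⟩ := Function.ne_iff.mp hw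
    set Nw : Submodule L (L ⊗[k] A) := (rowIdeal w).map e.symm.toLinearMap with hNw
    have hfin : Module.finrank L ((L ⊗[k] A) ⧸ Nw) = m * m - m := by
      have h1 := Nw.finrank_quotient_add_finrank
      have h2 : Module.finrank L Nw = m := by
        rw [hNw]
        exact (LinearEquiv.finrank_map_eq e.symm.toLinearEquiv (rowIdeal w)).trans
          (finrank_rowIdeal hw)
      omega
    let P : BrSev.SBSet k A (m * m - m) L := ⟨grOfSubmodule Nw _ hfin, by
      intro b x hx
      change x ∈ Submodule.map _ _ at hx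
      obtain ⟨y, hy, rfl⟩ := hx
      exact ⟨e b * y, mul_mem_rowIdeal w _ _ hy, by simp⟩⟩
    have hP := congrArg (fun N => N.1.toSubmodule) (h P)
    simp only [act_toSubmodule] at hP
    have hcomp : (rho k A L a⁻¹).toLinearMap ∘ₗ e.symm.toLinearMap =
        e.symm.toLinearMap ∘ₗ LinearMap.mulRight L (e ((1 : L) ⊗ₜ[k] ((a⁻¹ : Aˣ) : A))) := by
      ext x
      simp
    have h3 : (rowIdeal (w ᵥ* e ((1 : L) ⊗ₜ[k] ((a⁻¹ : Aˣ) : A)))).map e.symm.toLinearMap =
        (rowIdeal w).map e.symm.toLinearMap := by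
      rw [← rowIdeal_map_mulRight, ← Submodule.map_comp, ← hcomp, Submodule.map_comp]
      exact hP
    have h4 := Submodule.map_injective_of_injective (f := e.symm.toLinearMap) e.symm.injective h3
    exact exists_smul_of_rowIdeal_eq j h4
  obtain ⟨c, hc⟩ := exists_eq_smul_one _ key
  have h1 : (1 : L) ⊗ₜ[k] ((a⁻¹ : Aˣ) : A) = c ⊗ₜ[k] (1 : A) := by
    apply e.injective
    rw [hc]
    rw [show c ⊗ₜ[k] (1 : A) = c • (1 : L ⊗[k] A) from by
      rw [Algebra.TensorProduct.one_def, TensorProduct.smul_tmul', smul_eq_mul, mul_one],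
      map_smul, map_one]
  by_contra hne
  push Not at hne
  let p : Submodule k A := LinearMap.range (Algebra.linearMap k A)
  have hx : ((a⁻¹ : Aˣ) : A) ∉ p := by
    rintro ⟨r, hr⟩
    exact hne r hr.symm
  obtain ⟨f, hf, hf'⟩ := Submodule.exists_dual_map_eq_bot_of_notMem hx inferInstance
  have f1 : f 1 = 0 := by
    have h7 : f 1 ∈ p.map f := ⟨1, ⟨1, by simp⟩, rfl⟩
    have h8 : f 1 ∈ (⊥ : Submodule k k) := hf' ▸ h7
    exact (Submodule.mem_bot k).mp h8
  have h5 := congrArg (LinearMap.baseChange L (f : A →ₗ[k] k)) h1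
  rw [LinearMap.baseChange_tmul, LinearMap.baseChange_tmul, f1, TensorProduct.tmul_zero] at h5
  have h6 := congrArg (TensorProduct.rid k L) h5
  rw [TensorProduct.rid_tmul, map_zero] at h6
  rw [smul_eq_zero] at h6
  rcases h6 with h6 | h6
  · exact hf h6
  · exact one_ne_zero h6

end main

end Groth.Agent.Lib.Helper59.SBFaithful
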