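import Mathlib

namespace Groth.Agent.Lib.Helper59.SBGroup

/-- The subgroup generated by a finite set of pairwise commuting elements of exponent dividing
`n > 0` is finite. -/
theorem finite_closure_of_comm_torsion {Γ : Type*} [Group Γ] (S : Set Γ) (hS : S.Finite) (n : ℕ)
    (hn : 0 < n) (hcomm : ∀ x ∈ S, ∀ y ∈ S, x * y = y * x) (hpow : ∀ x ∈ S, x ^ n = 1) :
    Finite (Subgroup.closure S) := by
  letI : CommGroup (Subgroup.closure S) := Subgroup.closureCommGroupOfComm hcomm
  haveI : Group.FG (Subgroup.closure S) :=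
    (Group.fg_iff_subgroup_fg _).mpr ⟨hS.toFinset, by simp⟩
  have hall : ∀ x ∈ Subgroup.closure S, x ^ n = 1 := by
    intro x hx
    induction hx using Subgroup.closure_induction with
    | mem x hx => exact hpow x hx
    | one => simp
    | mul x y hx hy ihx ihy =>
      have hc : x * y = y * x :=
        congrArg Subtype.val (mul_comm (⟨x, hx⟩ : Subgroup.closure S) ⟨y, hy⟩)
      rw [Commute.mul_pow hc, ihx, ihy, one_mul]
    | inv x hx ih => rw [inv_pow, ih, inv_one]
  apply CommGroup.finite_of_fg_torsion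
  intro x
  rw [isOfFinOrder_iff_pow_eq_one]
  refine ⟨n, hn, ?_⟩
  apply Subtype.ext
  rw [Subgroup.coe_pow]
  exact hall x x.2

end Groth.Agent.Lib.Helper59.SBGroup
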