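/-
Helper library (helper59): Wedderburn's theorem on division algebras of degree 3, in the form
needed in characteristic 3: a central division algebra of dimension 9 over a field of
characteristic 3 contains a non-central element whose cube is central
(`PA.exists_pow_three_mem`).  Also the easy analogue in degree 2 (`PA.exists_pow_two_mem`).
-/
import Groth.Agent.Lib.Helper59.PAlgebra

set_option autoImplicit false
universe u v w

open Module Polynomial

namespace PA

section deg3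
variable {K : Type u} [Field K] {A : Type v} [DivisionRing A] [Algebra K A]
  [Algebra.IsCentral K A] [FiniteDimensional K A]

omit [Algebra.IsCentral K A] [FiniteDimensional K A] in
/-- cubic relation from a monic cubic polynomial -/
lemma cubic_relation (x : A) (f : K[X]) (hf : f.Monic) (hdeg : f.natDegree = 3)
    (hx : aeval x f = 0) :
    ∃ a₁ a₂ a₃ : K, x ^ 3 - a₁ • x ^ 2 + a₂ • x - a₃ • (1 : A) = 0 := by
  refine ⟨- f.coeff 2, f.coeff 1, - f.coeff 0, ?_⟩
  have h := hf.as_sum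
  rw [hdeg] at h
  rw [h] at hx
  simp only [Finset.sum_range_succ, Finset.sum_range_zero, zero_add, map_add, map_mul, map_pow,
    aeval_X, aeval_C, pow_zero, pow_one, mul_one] at hx
  rw [← hx, neg_smul, neg_smul, sub_neg_eq_add, sub_neg_eq_add]
  simp only [Algebra.smul_def, mul_one]
  abel

omit [Algebra.IsCentral K A] [FiniteDimensional K A] in
/-- quadratic relation from a monic quadratic polynomial -/
lemma quadratic_relation (x : A) (f : K[X]) (hf : f.Monic) (hdeg : f.natDegree = 2)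
    (hx : aeval x f = 0) :
    ∃ b c : K, x ^ 2 + b • x + c • (1 : A) = 0 := by
  refine ⟨f.coeff 1, f.coeff 0, ?_⟩
  have h := hf.as_sum
  rw [hdeg] at h
  rw [h] at hx
  simp only [Finset.sum_range_succ, Finset.sum_range_zero, zero_add, map_add, map_mul, map_pow,
    aeval_X, aeval_C, pow_zero, pow_one, mul_one] at hx
  rw [← hx]
  simp only [Algebra.smul_def, mul_one]
  abel

omit [Algebra.IsCentral K A] [FiniteDimensional K A] in
/-- Case (i): `c = [x, y] ≠ 0` commutes with `x`, characteristic `3`: then `x ^ 3 ∈ K`. -/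
lemma cube_mem_of_commute [CharP K 3] (x y : A) (a₁ a₂ a₃ : K)
    (hx : x ∉ (algebraMap K A).range)
    (hf : x ^ 3 - a₁ • x ^ 2 + a₂ • x - a₃ • (1 : A) = 0)
    (hc0 : x * y - y * x ≠ 0) (hcx : (x * y - y * x) * x = x * (x * y - y * x)) :
    x ^ 3 ∈ (algebraMap K A).range := by
  have h3K : (3 : K) = 0 := by exact_mod_cast CharP.cast_eq_zero K 3
  have hid : (x * y - y * x) * x ^ 2 + x * ((x * y - y * x) * x) + x ^ 2 * (x * y - y * x)
      - a₁ • (x * (x * y - y * x) + (x * y - y * x) * x) + a₂ • (x * y - y * x) = 0 := by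
    have e2 : (x * y - y * x) * x ^ 2 + x * ((x * y - y * x) * x) + x ^ 2 * (x * y - y * x)
      - a₁ • (x * (x * y - y * x) + (x * y - y * x) * x) + a₂ • (x * y - y * x)
        = (x ^ 3 - a₁ • x ^ 2 + a₂ • x - a₃ • (1 : A)) * y
          - y * (x ^ 3 - a₁ • x ^ 2 + a₂ • x - a₃ • (1 : A)) := by
      simp only [add_mul, sub_mul, mul_add, mul_sub, smul_mul_assoc, mul_smul_comm, one_mul,
        mul_one, mul_assoc, smul_add, smul_sub, pow_succ, pow_zero]
      module
    rw [e2, hf, zero_mul, mul_zero, sub_zero]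
  obtain ⟨c, hcdef⟩ : ∃ c : A, c = x * y - y * x := ⟨_, rfl⟩
  rw [← hcdef] at hid hc0 hcx
  have hcx2 : c * x ^ 2 = x ^ 2 * c := by
    rw [pow_two, ← mul_assoc, hcx, mul_assoc, hcx, ← mul_assoc]
  rw [hcx2, hcx] at hid
  have e : (a₁ • x + a₂ • (1 : A)) * c =
      (x ^ 2 * c + x * (x * c) + x ^ 2 * c - a₁ • (x * c + x * c) + a₂ • c)
        - (3 : K) • (x ^ 2 * c) + ((3 : K) * a₁) • (x * c) := by
    simp only [add_mul, smul_mul_assoc, one_mul, pow_succ, pow_zero, mul_assoc]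
    module
  rw [hid, h3K, zero_smul, zero_mul, zero_smul, sub_zero, add_zero] at e
  have h := (mul_eq_zero.mp e).resolve_right hc0
  have ha₁ : a₁ = 0 := by
    by_contra hne
    apply hx
    refine ⟨- a₂ / a₁, ?_⟩
    have h' : a₁ • x = - (a₂ • (1 : A)) := eq_neg_of_add_eq_zero_left h
    have : x = a₁⁻¹ • (a₁ • x) := by rw [smul_smul, inv_mul_cancel₀ hne, one_smul]
    rw [this, h', Algebra.algebraMap_eq_smul_one, smul_neg, smul_smul, ← neg_smul]
    congr 1
    field_simp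
  rw [ha₁, zero_smul, zero_add] at h
  have ha₂ : a₂ = 0 := by
    rcases smul_eq_zero.mp h with h | h
    · exact h
    · exact absurd h one_ne_zero
  refine ⟨a₃, ?_⟩
  rw [ha₁, ha₂, zero_smul, zero_smul, sub_zero, add_zero] at hf
  rw [Algebra.algebraMap_eq_smul_one]
  exact (sub_eq_zero.mp hf).symm

end deg3



section deg3
variable {K : Type u} [Field K] {A : Type v} [DivisionRing A] [Algebra K A]
  [Algebra.IsCentral K A] [FiniteDimensional K A]

/-- Case (ii-b): `x₁ x₂ ≠ x₂ x₁` and the quadratic relation: `θ = [x₁, x₂]` has `θ ^ 3 ∈ K`. -/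
lemma theta_cube_mem {p : ℕ} (hp : p.Prime) (hA : finrank K A = p ^ 2) (x₁ x₂ : A) (a₁ a₂ : K)
    (hR : x₂ ^ 2 + x₁ * x₂ + x₁ ^ 2 - a₁ • (x₁ + x₂) + a₂ • (1 : A) = 0)
    (h12 : x₁ * x₂ ≠ x₂ * x₁) :
    (x₁ * x₂ - x₂ * x₁) ∉ (algebraMap K A).range ∧
      (x₁ * x₂ - x₂ * x₁) ^ 3 ∈ (algebraMap K A).range := by
  obtain ⟨t1, t2, t3⟩ := wedderburn_theta x₁ x₂ a₁ a₂ hR
  obtain ⟨θ, hθ⟩ : ∃ θ : A, θ = x₁ * x₂ - x₂ * x₁ := ⟨_, rfl⟩
  obtain ⟨x₃, hx₃⟩ : ∃ x₃ : A, x₃ = a₁ • (1 : A) - x₁ - x₂ := ⟨_, rfl⟩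
  rw [← hθ] at t1 t2 t3
  rw [← hx₃] at t1 t2
  rw [← hθ]
  have hθ0 : θ ≠ 0 := by rw [hθ]; exact sub_ne_zero.mpr h12
  have s1 : SemiconjBy θ x₁ x₂ := t3
  have s2 : SemiconjBy θ x₂ x₃ := t1
  have s3 : SemiconjBy θ x₃ x₁ := t2.symm
  have hpow : θ ^ 3 = θ * (θ * θ) := by rw [pow_succ', pow_two]
  have c1 : Commute (θ ^ 3) x₁ := by
    rw [hpow]; exact s3.mul_left (s2.mul_left s1)
  have c2 : Commute (θ ^ 3) x₂ := by
    rw [hpow]; exact s1.mul_left (s3.mul_left s2)
  refine ⟨?_, mem_range_of_commute_pair hp hA x₁ x₂ h12 (θ ^ 3) c1 c2⟩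
  rintro ⟨b, hb⟩
  apply h12
  have h1 : θ * x₁ = x₁ * θ := by rw [← hb]; exact Algebra.commutes b x₁
  have h2 : x₁ * θ = x₂ * θ := by rw [← h1]; exact s1.eq
  have h3 : x₁ = x₂ := mul_right_cancel₀ hθ0 h2
  rw [h3]

/-- Case (ii-a). -/
lemma conj_cube_mem {p : ℕ} (hp : p.Prime) (hp3 : p = 3) (hA : finrank K A = p ^ 2)
    (x c : A) (a₁ a₂ : K)
    (hc0 : c ≠ 0) (hcx : ¬ c * x = x * c)
    (hR : (c * x * c⁻¹) ^ 2 + x * (c * x * c⁻¹) + x ^ 2 - a₁ • (x + c * x * c⁻¹) + a₂ • (1 : A) = 0)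
    (h12 : x * (c * x * c⁻¹) = (c * x * c⁻¹) * x) :
    c ∉ (algebraMap K A).range ∧ c ^ 3 ∈ (algebraMap K A).range := by
  have hcK : c ∉ (algebraMap K A).range := by
    rintro ⟨b', hb'⟩; apply hcx; rw [← hb']; exact (Algebra.commutes b' x)
  have hxc : x * c ≠ c * x := fun h => hcx h.symm
  obtain ⟨x₂, hx₂def⟩ : ∃ x₂ : A, x₂ = c * x * c⁻¹ := ⟨_, rfl⟩
  rw [← hx₂def] at hR h12
  have hx₂c : x₂ * c = c * x := by
    rw [hx₂def, mul_assoc, inv_mul_cancel₀ hc0, mul_one]
  have hx₂K : x₂ ∉ (algebraMap K A).range := by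
    rintro ⟨b, hb⟩
    apply hcx
    rw [← hb, Algebra.commutes b c] at hx₂c
    have : algebraMap K A b = x := mul_left_cancel₀ hc0 hx₂c
    rw [← this]; exact (Algebra.commutes b c).symm
  let τ : A →ₐ[K] A := conjAlgHom (K := K) c hc0
  have hτx : τ x = x₂ := by rw [hx₂def]; rfl
  obtain ⟨w, hw⟩ : ∃ w : A, w = τ x₂ := ⟨_, rfl⟩
  have hwc : w * c = c * x₂ := by
    rw [hw]; change c * x₂ * c⁻¹ * c = _
    rw [mul_assoc, inv_mul_cancel₀ hc0, mul_one]
  have hwx₂ : Commute w x₂ := by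
    change w * x₂ = x₂ * w
    rw [hw, ← hτx, ← map_mul, ← map_mul, hτx, h12]
  have hwmem : w ∈ Algebra.adjoin K ({x₂} : Set A) :=
    mem_adjoin_of_commute hp hA x₂ hx₂K w hwx₂
  have hxw : Commute x w :=
    Algebra.commute_of_mem_adjoin_singleton_of_commute hwmem (show Commute x x₂ from h12)
  have hR' : w ^ 2 + x₂ * w + x₂ ^ 2 - a₁ • (x₂ + w) + a₂ • (1 : A) = 0 := by
    have := congrArg τ hR
    simp only [map_add, map_sub, map_mul, map_pow, map_smul, map_one, map_zero, hτx, ← hw] at this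
    exact this
  obtain ⟨x₃, hx₃⟩ : ∃ x₃ : A, x₃ = a₁ • (1 : A) - x - x₂ := ⟨_, rfl⟩
  have hprod : (w - x) * (w - x₃) = 0 := by
    have e : (w - x) * (w - x₃) = (w ^ 2 + x₂ * w + x₂ ^ 2 - a₁ • (x₂ + w) + a₂ • (1 : A))
        - (x₂ ^ 2 + x * x₂ + x ^ 2 - a₁ • (x + x₂) + a₂ • (1 : A))
        + (w * x - x * w) + (w * x₂ - x₂ * w) := by
      rw [hx₃]
      simp only [add_mul, sub_mul, mul_add, mul_sub, smul_mul_assoc, mul_smul_comm, one_mul,
        mul_one, mul_assoc, smul_add, smul_sub, pow_succ, pow_zero]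
      module
    rw [e, hR', hR, hxw.eq, hwx₂.eq]
    simp
  have s1 : SemiconjBy c x x₂ := hx₂c.symm
  rcases mul_eq_zero.mp hprod with h | h
  · -- `w = x`: impossible
    exfalso
    have hwx : w = x := sub_eq_zero.mp h
    have s2 : SemiconjBy c x₂ x := by
      change c * x₂ = x * c
      rw [← hwc, hwx]
    have hc2x : Commute (c ^ 2) x := by rw [pow_two]; exact s2.mul_left s1
    have hc2c : Commute (c ^ 2) c := (Commute.refl c).pow_left 2
    obtain ⟨b, hb⟩ := mem_range_of_commute_pair hp hA x c hxc (c ^ 2) hc2x hc2c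
    have h3 := finrank_adjoin_singleton hp hA c hcK
    have h2 := finrank_adjoin_le c (X ^ 2 - C b) (monic_X_pow_sub_C b two_ne_zero)
      (by simp [hb])
    rw [natDegree_X_pow_sub_C] at h2
    omega
  · have hwx₃ : w = x₃ := sub_eq_zero.mp h
    have s2 : SemiconjBy c x₂ x₃ := by
      change c * x₂ = x₃ * c
      rw [← hwc, hwx₃]
    have s3 : SemiconjBy c x₃ x := by
      change c * x₃ = x * c
      calc c * x₃ = a₁ • c - c * x - c * x₂ := by
            rw [hx₃]; simp only [mul_sub, mul_smul_comm, mul_one]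
        _ = a₁ • c - x₂ * c - x₃ * c := by rw [s1.eq, s2.eq]
        _ = x * c := by
            rw [hx₃]; simp only [sub_mul, smul_mul_assoc, one_mul]; abel
    have hpow : c ^ 3 = c * (c * c) := by rw [pow_succ', pow_two]
    have c1 : Commute (c ^ 3) x := by
      rw [hpow]; exact s3.mul_left (s2.mul_left s1)
    have c2 : Commute (c ^ 3) c := (Commute.refl c).pow_left 3
    exact ⟨hcK, mem_range_of_commute_pair hp hA x c hxc (c ^ 3) c1 c2⟩

end deg3



section final
variable {K : Type u} [Field K] {A : Type v} [DivisionRing A] [Algebra K A]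
  [Algebra.IsCentral K A] [FiniteDimensional K A]

/-- Wedderburn: a central division algebra of dimension `9` in characteristic `3` contains a
non-central element with central cube. -/
theorem exists_pow_three_mem [CharP K 3] (hA : finrank K A = 3 ^ 2) :
    ∃ v : A, v ∉ (algebraMap K A).range ∧ v ^ 3 ∈ (algebraMap K A).range := by
  have hp : (3 : ℕ).Prime := Nat.prime_three
  obtain ⟨x, hx⟩ := exists_not_mem_range hp hA
  obtain ⟨f, hfm, hfd, hfx⟩ := exists_monic_natDegree_eq hp hA x hx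
  obtain ⟨a₁, a₂, a₃, hf⟩ := cubic_relation x f hfm hfd hfx
  obtain ⟨y, hy⟩ := exists_not_commute x hx
  have hc0 : x * y - y * x ≠ 0 := sub_ne_zero.mpr hy
  by_cases hcx : (x * y - y * x) * x = x * (x * y - y * x)
  · exact ⟨x, hx, cube_mem_of_commute x y a₁ a₂ a₃ hx hf hc0 hcx⟩
  · have hx₂c : ((x * y - y * x) * x * (x * y - y * x)⁻¹) * (x * y - y * x)
        = (x * y - y * x) * x := by
      rw [mul_assoc, inv_mul_cancel₀ hc0, mul_one]
    have hR := wedderburn_quadratic x y _ a₁ a₂ a₃ hf hc0 hx₂c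
    by_cases h12 : x * ((x * y - y * x) * x * (x * y - y * x)⁻¹)
        = ((x * y - y * x) * x * (x * y - y * x)⁻¹) * x
    · exact ⟨_, conj_cube_mem hp rfl hA x _ a₁ a₂ hc0 hcx hR h12⟩
    · exact ⟨_, theta_cube_mem hp hA x _ a₁ a₂ hR h12⟩

/-- A central division algebra of dimension `4` in characteristic `2` contains a
non-central element with central square. -/
theorem exists_pow_two_mem [CharP K 2] (hA : finrank K A = 2 ^ 2) :
    ∃ v : A, v ∉ (algebraMap K A).range ∧ v ^ 2 ∈ (algebraMap K A).range := by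
  have hp : (2 : ℕ).Prime := Nat.prime_two
  haveI : Fact (2 : ℕ).Prime := ⟨hp⟩
  have h2K : (2 : K) = 0 := by exact_mod_cast CharP.cast_eq_zero K 2
  obtain ⟨x, hx⟩ := exists_not_mem_range hp hA
  obtain ⟨f, hfm, hfd, hfx⟩ := exists_monic_natDegree_eq hp hA x hx
  obtain ⟨b, c, hf⟩ := quadratic_relation x f hfm hfd hfx
  by_cases hb : b = 0
  · refine ⟨x, hx, -c, ?_⟩
    rw [hb, zero_smul, add_zero] at hf
    rw [Algebra.algebraMap_eq_smul_one, neg_smul]
    exact (eq_neg_of_add_eq_zero_left hf).symm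
  · -- `x' = b⁻¹ • x` is an Artin–Schreier element
    have hx' : b⁻¹ • x ∉ (algebraMap K A).range := by
      rintro ⟨d, hd⟩
      apply hx
      refine ⟨b * d, ?_⟩
      rw [map_mul, hd, ← Algebra.smul_def, smul_smul, mul_inv_cancel₀ hb, one_smul]
    have hAS : (b⁻¹ • x) ^ 2 - b⁻¹ • x ∈ (algebraMap K A).range := by
      refine ⟨- (c / b ^ 2), ?_⟩
      rw [Algebra.algebraMap_eq_smul_one]
      have e : (b⁻¹ • x) ^ 2 - b⁻¹ • x - (-(c / b ^ 2)) • (1 : A)
          = (b⁻¹ ^ 2) • (x ^ 2 + b • x + c • (1 : A)) - ((2 : K) * b⁻¹) • x := by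
        simp only [pow_two, smul_mul_assoc, mul_smul_comm, smul_add, smul_smul]
        match_scalars <;> field_simp <;> ring
      rw [hf, h2K, zero_mul, zero_smul, smul_zero, sub_zero] at e
      exact (sub_eq_zero.mp e).symm
    obtain ⟨v, _, _, _, _, hvK, hvp⟩ := exists_pow_mem_of_artinSchreier 2 hA (b⁻¹ • x) hAS hx'
    exact ⟨v, hvK, hvp⟩

end final


end PA
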