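import Mathlib
import Groth.Agent.Lib.Helper59.Wedderburn3

universe u

namespace Groth.Agent.Lib.Helper59.SBNilp

section
variable (k : Type u) [Field k] {A : Type u} [Ring A] [Algebra k A] [Module.Finite k A]

include k in
/-- In a finite-dimensional algebra, a nonzero non-unit gives a pair of zero divisors. -/
lemma exists_mul_eq_zero_of_not_isUnit (z : A) (hz0 : z ≠ 0) (hz : ¬ IsUnit z) :
    ∃ u v : A, u ≠ 0 ∧ v ≠ 0 ∧ u * v = 0 := by
  by_contra hcon
  push Not at hcon
  apply hz
  rw [isUnit_iff_exists_and_exists]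
  constructor
  · have hinj : Function.Injective (LinearMap.mulLeft k z) := by
      rw [← LinearMap.ker_eq_bot, LinearMap.ker_eq_bot']
      intro v hv
      by_contra hv0
      exact hcon z v hz0 hv0 hv
    obtain ⟨c, hc⟩ := (LinearMap.injective_iff_surjective.mp hinj) 1
    exact ⟨c, hc⟩
  · have hinj : Function.Injective (LinearMap.mulRight k z) := by
      rw [← LinearMap.ker_eq_bot, LinearMap.ker_eq_bot']
      intro v hv
      by_contra hv0
      exact hcon v z hv0 hz0 hv
    obtain ⟨c, hc⟩ := (LinearMap.injective_iff_surjective.mp hinj) 1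
    exact ⟨c, hc⟩

/-- A simple ring with zero divisors has a nonzero element of square zero. -/
lemma exists_sq_eq_zero [IsSimpleRing A] (u v : A) (hu : u ≠ 0) (hv : v ≠ 0) (huv : u * v = 0) :
    ∃ n : A, n ≠ 0 ∧ n * n = 0 := by
  by_contra hcon
  push Not at hcon
  -- then v x u = 0 for all x
  have h0 : ∀ x : A, v * x * u = 0 := by
    intro x
    by_contra hx
    apply hcon _ hx
    calc v * x * u * (v * x * u) = v * x * (u * v) * x * u := by simp only [mul_assoc]
      _ = 0 := by rw [huv]; simp
  let J : TwoSidedIdeal A := TwoSidedIdeal.mk' {r | ∀ x : A, r * x * u = 0}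
    (by intro x; simp)
    (by intro a b ha hb x; rw [add_mul, add_mul, ha x, hb x, add_zero])
    (by intro a ha x; rw [neg_mul, neg_mul, ha x, neg_zero])
    (by intro a b hb x; rw [mul_assoc, mul_assoc, ← mul_assoc b, hb x, mul_zero])
    (by intro a b ha x; rw [mul_assoc a b x]; exact ha (b * x))
  have hvJ : v ∈ J := by
    rw [TwoSidedIdeal.mem_mk']
    exact h0
  rcases eq_bot_or_eq_top J with h | h
  · rw [h, TwoSidedIdeal.mem_bot] at hvJ
    exact hv hvJ
  · have h1 : (1 : A) ∈ J := by rw [h]; trivial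
    rw [TwoSidedIdeal.mem_mk'] at h1
    have := h1 1
    rw [one_mul, one_mul] at this
    exact hu this

end

section
variable (k : Type u) [Field k] (A : Type u) [Ring A] [Algebra k A] [Module.Finite k A]
  [Algebra.IsCentral k A] [IsSimpleRing A]

theorem exists_noncentral_pow_central (p : ℕ) [Fact p.Prime] [CharP k p] (hp : p = 2 ∨ p = 3)
    (hA : Module.finrank k A = p * p) :
    ∃ y : A, y ∉ (algebraMap k A).range ∧ y ^ p ∈ (algebraMap k A).range := by
  by_cases hdiv : ∀ z : A, z ≠ 0 → IsUnit z
  · letI : DivisionRing A := DivisionRing.ofIsUnitOrEqZero (fun a => by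
      by_cases h : a = 0
      · exact Or.inr h
      · exact Or.inl (hdiv a h))
    rcases hp with rfl | rfl
    · exact PA.exists_pow_two_mem (K := k) (A := A) (by rw [hA]; norm_num)
    · exact PA.exists_pow_three_mem (K := k) (A := A) (by rw [hA]; norm_num)
  · push Not at hdiv
    obtain ⟨z, hz0, hz⟩ := hdiv
    obtain ⟨u, v, hu, hv, huv⟩ := exists_mul_eq_zero_of_not_isUnit k z hz0 hz
    obtain ⟨n, hn0, hnn⟩ := exists_sq_eq_zero u v hu hv huv
    have hp2 : 2 ≤ p := (Fact.out : p.Prime).two_le
    refine ⟨n, ?_, ?_⟩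
    · rintro ⟨r, hr⟩
      have : algebraMap k A (r * r) = 0 := by rw [map_mul, hr, hnn]
      have hr0 : r * r = 0 := (FaithfulSMul.algebraMap_injective k A) (this.trans (map_zero _).symm)
      have : r = 0 := by simpa using hr0
      apply hn0
      rw [← hr, this, map_zero]
    · refine ⟨0, ?_⟩
      obtain ⟨q, rfl⟩ : ∃ q, p = 2 + q := ⟨p - 2, by omega⟩
      rw [map_zero, pow_add, pow_two, hnn, zero_mul]

end

end Groth.Agent.Lib.Helper59.SBNilp
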