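import Mathlib

/-!
# Dimension of the space of intertwiners between semisimple endomorphisms (helper59)
-/

set_option autoImplicit false

namespace Groth.Agent.Lib.Helper59.SemisimpleHom

open Polynomial Module

universe u v w

variable {K : Type u} [Field K]

/-- An endomorphism is *simple* if the space is nontrivial and the only invariant subspaces are
`⊥` and `⊤`. -/
def IsSimpleEnd {V : Type v} [AddCommGroup V] [Module K V] (π : End K V) : Prop :=
  Nontrivial V ∧ ∀ W ∈ End.invtSubmodule π, W = ⊥ ∨ W = ⊤

theorem semisimple_induction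
    {motive : ∀ (V : Type v) [AddCommGroup V] [Module K V] [FiniteDimensional K V],
      End K V → Prop}
    (h0 : ∀ (V : Type v) [AddCommGroup V] [Module K V] [FiniteDimensional K V] [Subsingleton V]
      (π : End K V), motive V π)
    (hsimple : ∀ (V : Type v) [AddCommGroup V] [Module K V] [FiniteDimensional K V]
      (π : End K V), IsSimpleEnd π → motive V π)
    (hconj : ∀ (V V' : Type v) [AddCommGroup V] [Module K V] [FiniteDimensional K V]
      [AddCommGroup V'] [Module K V'] [FiniteDimensional K V'] (e : V ≃ₗ[K] V')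
      (π : End K V) (π' : End K V'), (∀ x, e (π x) = π' (e x)) → motive V π → motive V' π')
    (hprod : ∀ (W W' : Type v) [AddCommGroup W] [Module K W] [FiniteDimensional K W]
      [AddCommGroup W'] [Module K W'] [FiniteDimensional K W'] (a : End K W) (b : End K W'),
      motive W a → motive W' b → motive (W × W') (a.prodMap b))
    (V : Type v) [AddCommGroup V] [Module K V] [FiniteDimensional K V] (π : End K V)
    (hπ : π.IsSemisimple) : motive V π := by
  obtain ⟨n, hn⟩ : ∃ n, finrank K V = n := ⟨_, rfl⟩
  induction n using Nat.strong_induction_on generalizing V with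
  | _ n ih =>
    by_cases hsub : Subsingleton V
    · exact h0 V π
    rw [not_subsingleton_iff_nontrivial] at hsub
    by_cases hs : ∀ W ∈ End.invtSubmodule π, W = ⊥ ∨ W = ⊤
    · exact hsimple V π ⟨hsub, hs⟩
    push_neg at hs
    obtain ⟨W, hW, hWb, hWt⟩ := hs
    obtain ⟨W', hW', hc⟩ := End.isSemisimple_iff.mp hπ W hW
    have hW't : W' ≠ ⊤ := by
      rintro rfl
      exact hWb (by simpa using hc.inf_eq_bot)
    let e := Submodule.prodEquivOfIsCompl W W' hc
    have he : ∀ x, e ((LinearMap.prodMap (π.restrict hW) (π.restrict hW')) x) = π (e x) := by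
      rintro ⟨x₁, x₂⟩
      simp only [e, LinearMap.prodMap_apply, Submodule.coe_prodEquivOfIsCompl', map_add]
      rfl
    have h1 := ih (finrank K W) (hn ▸ Submodule.finrank_lt hWt) W (π.restrict hW)
      (End.IsSemisimple.restrict hW hπ) rfl
    have h2 := ih (finrank K W') (hn ▸ Submodule.finrank_lt hW't) W' (π.restrict hW')
      (End.IsSemisimple.restrict hW' hπ) rfl
    exact hconj _ _ e _ π he (hprod W W' _ _ h1 h2)

section inter

variable {V₁ : Type v} {V₂ : Type w} [AddCommGroup V₁] [Module K V₁] [AddCommGroup V₂]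
  [Module K V₂]

/-- The space of intertwiners `h ∘ π₁ = π₂ ∘ h`. -/
def inter (π₁ : End K V₁) (π₂ : End K V₂) : Submodule K (V₁ →ₗ[K] V₂) :=
  LinearMap.ker (LinearMap.lcomp K V₂ π₁ - LinearMap.llcomp K V₁ V₂ V₂ π₂)

theorem mem_inter {π₁ : End K V₁} {π₂ : End K V₂} {h : V₁ →ₗ[K] V₂} :
    h ∈ inter π₁ π₂ ↔ h ∘ₗ π₁ = π₂ ∘ₗ h := by
  rw [inter, LinearMap.mem_ker, LinearMap.sub_apply, sub_eq_zero]
  rfl

theorem inter_aeval {π₁ : End K V₁} {π₂ : End K V₂} {h : V₁ →ₗ[K] V₂} (hh : h ∈ inter π₁ π₂)
    (p : K[X]) (x : V₁) : h (aeval π₁ p x) = aeval π₂ p (h x) := by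
  rw [mem_inter] at hh
  induction p using Polynomial.induction_on generalizing x with
  | C a => simp [Algebra.algebraMap_eq_smul_one]
  | add p q hp hq => simp [hp, hq]
  | monomial n a ih =>
    rw [pow_succ, ← mul_assoc, map_mul (aeval π₁), map_mul (aeval π₂), aeval_X, aeval_X]
    change h (aeval π₁ (C a * X ^ n) (π₁ x)) = aeval π₂ (C a * X ^ n) (π₂ (h x))
    rw [ih (π₁ x)]
    congr 1
    exact LinearMap.congr_fun hh x

/-- The orbit map `p ↦ p(π) v`. -/
noncomputable def orb (π : End K V₁) (v : V₁) : K[X] →ₗ[K] V₁ :=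
  (LinearMap.applyₗ v).comp (Polynomial.aeval π).toLinearMap

theorem orb_apply (π : End K V₁) (v : V₁) (p : K[X]) : orb π v p = aeval π p v := rfl

theorem orb_X_mul (π : End K V₁) (v : V₁) (p : K[X]) : orb π v (X * p) = π (orb π v p) := by
  rw [orb_apply, orb_apply, map_mul, aeval_X]
  rfl

theorem orb_one (π : End K V₁) (v : V₁) : orb π v 1 = v := by
  rw [orb_apply, map_one]; rfl

theorem orb_mul (π : End K V₁) (v : V₁) (p q : K[X]) :
    orb π v (p * q) = aeval π p (orb π v q) := by
  rw [orb_apply, orb_apply, map_mul]; rfl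

end inter

section simple

variable {V : Type v} [AddCommGroup V] [Module K V] {π : End K V}

theorem ker_aeval_mem_invt (π : End K V) (p : K[X]) :
    LinearMap.ker (aeval π p) ∈ End.invtSubmodule π := by
  rw [End.mem_invtSubmodule]
  intro x hx
  rw [Submodule.mem_comap, LinearMap.mem_ker]
  rw [LinearMap.mem_ker] at hx
  have hc : Commute (aeval π p) π := by
    have := (Commute.refl (X : K[X])).symm
    have h2 : Commute (aeval π p) (aeval π X) := (Polynomial.commute_X p).symm.map (aeval π)
    rwa [aeval_X] at h2
  have : aeval π p (π x) = π (aeval π p x) := LinearMap.congr_fun hc.eq x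
  rw [this, hx, map_zero]

theorem orb_surjective (hs : IsSimpleEnd π) {v : V} (hv : v ≠ 0) :
    Function.Surjective (orb π v) := by
  rw [← LinearMap.range_eq_top]
  have hinv : LinearMap.range (orb π v) ∈ End.invtSubmodule π := by
    rw [End.mem_invtSubmodule]
    rintro _ ⟨p, rfl⟩
    exact ⟨X * p, orb_X_mul π v p⟩
  rcases hs.2 _ hinv with h | h
  · exfalso
    apply hv
    have : v ∈ LinearMap.range (orb π v) := ⟨1, orb_one π v⟩
    rw [h] at this
    exact (Submodule.mem_bot K).mp this
  · exact h

theorem aeval_eq_zero_of_orb (hs : IsSimpleEnd π) {v : V} (hv : v ≠ 0) {p : K[X]}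
    (hp : orb π v p = 0) : aeval π p = 0 := by
  ext x
  obtain ⟨q, rfl⟩ := orb_surjective hs hv x
  rw [← orb_mul, mul_comm, orb_mul, hp, map_zero]
  rfl

variable [FiniteDimensional K V]

theorem isIntegral_end (π : End K V) : IsIntegral K π := Algebra.IsIntegral.isIntegral π

theorem minpoly_irreducible (hs : IsSimpleEnd π) : Irreducible (minpoly K π) := by
  haveI := hs.1
  have hμ0 : minpoly K π ≠ 0 := minpoly.ne_zero (isIntegral_end π)
  rw [irreducible_iff]
  refine ⟨minpoly.not_isUnit K π, fun a b hab => ?_⟩
  rcases hs.2 _ (ker_aeval_mem_invt π a) with h | h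
  · -- `a(π)` injective, so `b(π) = 0`
    left
    have hb : aeval π b = 0 := by
      ext x
      have h1 : aeval π a (aeval π b x) = 0 := by
        have : aeval π (minpoly K π) x = 0 := by rw [minpoly.aeval]; rfl
        rw [hab, map_mul] at this
        exact this
      have h2 : aeval π b x ∈ LinearMap.ker (aeval π a) := h1
      rw [h] at h2
      exact (Submodule.mem_bot K).mp h2
    obtain ⟨c, hc⟩ := minpoly.dvd K π hb
    have h3 : minpoly K π * 1 = minpoly K π * (a * c) := by
      rw [mul_one]; conv_lhs => rw [hab, hc]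
      ring
    exact IsUnit.of_mul_eq_one c (mul_left_cancel₀ hμ0 h3).symm
  · right
    have ha : aeval π a = 0 := LinearMap.ker_eq_top.mp h
    obtain ⟨c, hc⟩ := minpoly.dvd K π ha
    have h3 : minpoly K π * 1 = minpoly K π * (b * c) := by
      rw [mul_one]; conv_lhs => rw [hab, hc]
      ring
    exact IsUnit.of_mul_eq_one c (mul_left_cancel₀ hμ0 h3).symm

theorem finrank_le_natDegree_minpoly (hs : IsSimpleEnd π) :
    finrank K V ≤ (minpoly K π).natDegree := by
  haveI := hs.1
  obtain ⟨v, hv⟩ := exists_ne (0 : V)
  have hmonic : (minpoly K π).Monic := minpoly.monic (isIntegral_end π)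
  let f : Polynomial.degreeLT K (minpoly K π).natDegree →ₗ[K] V :=
    (orb π v).comp (Submodule.subtype _)
  have hf : Function.Surjective f := by
    intro x
    obtain ⟨p, rfl⟩ := orb_surjective hs hv x
    refine ⟨⟨p %ₘ minpoly K π, ?_⟩, ?_⟩
    · rw [Polynomial.mem_degreeLT]
      exact lt_of_lt_of_le (degree_modByMonic_lt p hmonic) degree_le_natDegree
    · change orb π v (p %ₘ minpoly K π) = orb π v p
      conv_rhs => rw [← modByMonic_add_div p (minpoly K π)]
      rw [map_add, orb_apply π v (minpoly K π * _), map_mul, minpoly.aeval, zero_mul]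
      simp
  have h1 := LinearMap.finrank_range_le f
  rw [LinearMap.range_eq_top.mpr hf, finrank_top,
    (Polynomial.degreeLTEquiv K (minpoly K π).natDegree).finrank_eq, Module.finrank_fin_fun] at h1
  exact h1

theorem charpoly_eq_minpoly (hs : IsSimpleEnd π) : π.charpoly = minpoly K π := by
  refine Polynomial.eq_of_monic_of_dvd_of_natDegree_le (minpoly.monic (isIntegral_end π))
    (LinearMap.charpoly_monic π) (LinearMap.minpoly_dvd_charpoly π) ?_
  rw [LinearMap.charpoly_natDegree]
  exact finrank_le_natDegree_minpoly hs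

theorem finrank_eq_natDegree_minpoly (hs : IsSimpleEnd π) :
    finrank K V = (minpoly K π).natDegree := by
  rw [← charpoly_eq_minpoly hs, LinearMap.charpoly_natDegree]

end simple

section lemma3

variable {V₁ : Type v} {V₂ : Type w} [AddCommGroup V₁] [Module K V₁] [FiniteDimensional K V₁]
  [AddCommGroup V₂] [Module K V₂] [FiniteDimensional K V₂]

theorem finrank_inter_of_simple {π₁ : End K V₁} (hs : IsSimpleEnd π₁) (π₂ : End K V₂) :
    finrank K (inter π₁ π₂) = finrank K (LinearMap.ker (aeval π₂ (minpoly K π₁))) := by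
  haveI := hs.1
  obtain ⟨v, hv⟩ := exists_ne (0 : V₁)
  let ev : inter π₁ π₂ →ₗ[K] V₂ := (LinearMap.applyₗ v).comp (inter π₁ π₂).subtype
  have hev : ∀ h : inter π₁ π₂, ev h = h.1 v := fun h => rfl
  have hinj : Function.Injective ev := by
    rw [← LinearMap.ker_eq_bot, LinearMap.ker_eq_bot']
    intro h hh
    rw [hev] at hh
    apply Subtype.ext
    ext x
    obtain ⟨p, rfl⟩ := orb_surjective hs hv x
    rw [orb_apply, inter_aeval h.2, hh, map_zero]
    rfl
  have hrange : LinearMap.range ev = LinearMap.ker (aeval π₂ (minpoly K π₁)) := by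
    apply le_antisymm
    · rintro _ ⟨h, rfl⟩
      rw [LinearMap.mem_ker, hev, ← inter_aeval h.2, minpoly.aeval]
      simp
    · intro w hw
      rw [LinearMap.mem_ker] at hw
      have hsurj := orb_surjective hs hv
      have hle : LinearMap.ker (orb π₁ v) ≤ LinearMap.ker (orb π₂ w) := by
        intro p hp
        rw [LinearMap.mem_ker] at hp ⊢
        obtain ⟨c, hc⟩ := minpoly.dvd K π₁ (aeval_eq_zero_of_orb hs hv hp)
        rw [hc, mul_comm, orb_mul, orb_apply π₂ w (minpoly K π₁), hw, map_zero]
      let h : V₁ →ₗ[K] V₂ := ((LinearMap.ker (orb π₁ v)).liftQ (orb π₂ w) hle).comp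
        (LinearMap.quotKerEquivOfSurjective (orb π₁ v) hsurj).symm.toLinearMap
      have hh : ∀ p, h (orb π₁ v p) = orb π₂ w p := by
        intro p
        have : (LinearMap.quotKerEquivOfSurjective (orb π₁ v) hsurj).symm (orb π₁ v p) =
            Submodule.Quotient.mk p := by
          rw [LinearEquiv.symm_apply_eq]
          rfl
        change ((LinearMap.ker (orb π₁ v)).liftQ (orb π₂ w) hle)
          ((LinearMap.quotKerEquivOfSurjective (orb π₁ v) hsurj).symm (orb π₁ v p)) = _
        rw [this, Submodule.liftQ_apply]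
      have hmem : h ∈ inter π₁ π₂ := by
        rw [mem_inter]
        ext x
        obtain ⟨p, rfl⟩ := hsurj x
        change h (π₁ (orb π₁ v p)) = π₂ (h (orb π₁ v p))
        rw [← orb_X_mul, hh, hh, orb_X_mul]
      refine ⟨⟨h, hmem⟩, ?_⟩
      rw [hev]
      change h v = w
      conv_lhs => rw [← orb_one π₁ v]
      rw [hh, orb_one]
  rw [← hrange, LinearMap.finrank_range_of_inj hinj]

end lemma3

section transport

variable {V : Type v} {V' : Type w} [AddCommGroup V] [Module K V] [AddCommGroup V'] [Module K V']

theorem finrank_ker_aeval_conj (e : V ≃ₗ[K] V') (π : End K V) (π' : End K V')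
    (he : ∀ x, e (π x) = π' (e x)) (P : K[X]) :
    finrank K (LinearMap.ker (aeval π' P)) = finrank K (LinearMap.ker (aeval π P)) := by
  have hmem : e.toLinearMap ∈ inter π π' := by
    rw [mem_inter]; ext x; exact he x
  have hmap : LinearMap.ker (aeval π' P) = (LinearMap.ker (aeval π P)).map e.toLinearMap := by
    ext y
    rw [Submodule.mem_map, LinearMap.mem_ker]
    constructor
    · intro hy
      refine ⟨e.symm y, ?_, e.apply_symm_apply y⟩
      rw [LinearMap.mem_ker]
      apply e.injective
      have := inter_aeval hmem P (e.symm y)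
      simp only [LinearEquiv.coe_coe, LinearEquiv.apply_symm_apply] at this
      rw [this, hy, map_zero]
    · rintro ⟨x, hx, rfl⟩
      rw [LinearMap.mem_ker] at hx
      have := inter_aeval hmem P x
      rw [← this, hx, map_zero]
  rw [hmap]
  exact LinearEquiv.finrank_map_eq e _

theorem charpoly_conj' [FiniteDimensional K V] [FiniteDimensional K V'] (e : V ≃ₗ[K] V')
    (π : End K V) (π' : End K V') (he : ∀ x, e (π x) = π' (e x)) : π'.charpoly = π.charpoly := by
  have : π' = e.conj π := by
    ext y
    rw [LinearEquiv.conj_apply_apply, he, e.apply_symm_apply]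
  rw [this, LinearEquiv.charpoly_conj]

theorem aeval_prodMap (a : End K V) (b : End K V') (P : K[X]) :
    aeval (LinearMap.prodMap a b) P = LinearMap.prodMap (aeval a P) (aeval b P) := by
  have h1 : LinearMap.fst K V V' ∈ inter (LinearMap.prodMap a b) a := by
    rw [mem_inter]; ext x <;> simp
  have h2 : LinearMap.snd K V V' ∈ inter (LinearMap.prodMap a b) b := by
    rw [mem_inter]; ext x <;> simp
  apply LinearMap.ext
  intro x
  apply Prod.ext
  · exact inter_aeval h1 P x
  · exact inter_aeval h2 P x

theorem finrank_prod_submodule [FiniteDimensional K V] [FiniteDimensional K V']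
    (p : Submodule K V) (q : Submodule K V') :
    finrank K (p.prod q) = finrank K p + finrank K q := by
  have hinj : Function.Injective (LinearMap.prodMap p.subtype q.subtype) := by
    rintro ⟨x₁, x₂⟩ ⟨y₁, y₂⟩ h
    simp only [LinearMap.prodMap_apply, Submodule.subtype_apply, Prod.mk.injEq] at h
    exact Prod.ext (Subtype.ext h.1) (Subtype.ext h.2)
  have hrange : LinearMap.range (LinearMap.prodMap p.subtype q.subtype) = p.prod q := by
    rw [LinearMap.range_prodMap, Submodule.range_subtype, Submodule.range_subtype]
  rw [← hrange, LinearMap.finrank_range_of_inj hinj, Module.finrank_prod]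

theorem finrank_ker_aeval_prodMap [FiniteDimensional K V] [FiniteDimensional K V']
    (a : End K V) (b : End K V') (P : K[X]) :
    finrank K (LinearMap.ker (aeval (LinearMap.prodMap a b) P)) =
      finrank K (LinearMap.ker (aeval a P)) + finrank K (LinearMap.ker (aeval b P)) := by
  rw [aeval_prodMap, LinearMap.ker_prodMap, finrank_prod_submodule]

end transport

section intertransport

variable {V : Type v} {V' : Type v} {V₂ : Type w} [AddCommGroup V] [Module K V]
  [AddCommGroup V'] [Module K V'] [AddCommGroup V₂] [Module K V₂]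

theorem finrank_inter_conj (e : V ≃ₗ[K] V') (π : End K V) (π' : End K V')
    (he : ∀ x, e (π x) = π' (e x)) (π₂ : End K V₂) :
    finrank K (inter π' π₂) = finrank K (inter π π₂) := by
  have he' : ∀ y, e.symm (π' y) = π (e.symm y) := by
    intro y
    apply e.injective
    rw [e.apply_symm_apply, he, e.apply_symm_apply]
  have hmap : inter π' π₂ = (inter π π₂).map
      (LinearEquiv.arrowCongr e (LinearEquiv.refl K V₂)).toLinearMap := by
    ext h'
    rw [Submodule.mem_map]
    constructor
    · intro hh'
      rw [mem_inter] at hh'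
      refine ⟨h' ∘ₗ e.toLinearMap, ?_, ?_⟩
      · rw [mem_inter]
        ext x
        have := LinearMap.congr_fun hh' (e x)
        simp only [LinearMap.comp_apply, LinearEquiv.coe_coe] at this ⊢
        rw [he, this]
      · ext y
        simp [LinearEquiv.arrowCongr_apply]
    · rintro ⟨h, hh, rfl⟩
      rw [mem_inter] at hh ⊢
      ext y
      have := LinearMap.congr_fun hh (e.symm y)
      simp only [LinearMap.comp_apply, LinearEquiv.coe_coe, LinearEquiv.arrowCongr_apply,
        LinearEquiv.refl_apply] at this ⊢
      rw [he', this]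
  rw [hmap]
  exact LinearEquiv.finrank_map_eq _ _

theorem finrank_inter_prodMap [FiniteDimensional K V] [FiniteDimensional K V']
    [FiniteDimensional K V₂] (a : End K V) (b : End K V') (π₂ : End K V₂) :
    finrank K (inter (LinearMap.prodMap a b) π₂) =
      finrank K (inter a π₂) + finrank K (inter b π₂) := by
  have hmap : inter (LinearMap.prodMap a b) π₂ = ((inter a π₂).prod (inter b π₂)).map
      (LinearMap.coprodEquiv K (R := K) (M := V) (M₂ := V') (M₃ := V₂)).toLinearMap := by
    ext h
    rw [Submodule.mem_map]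
    constructor
    · intro hh
      rw [mem_inter] at hh
      refine ⟨(h ∘ₗ LinearMap.inl K V V', h ∘ₗ LinearMap.inr K V V'), ⟨?_, ?_⟩, ?_⟩
      · change h ∘ₗ LinearMap.inl K V V' ∈ inter a π₂
        rw [mem_inter]
        ext x
        have := LinearMap.congr_fun hh (x, 0)
        simpa using this
      · change h ∘ₗ LinearMap.inr K V V' ∈ inter b π₂
        rw [mem_inter]
        ext x
        have := LinearMap.congr_fun hh (0, x)
        simpa using this
      · ext x <;> simp [LinearMap.coprodEquiv_apply]
    · rintro ⟨⟨f, g⟩, ⟨hf, hg⟩, rfl⟩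
      change f ∈ inter a π₂ at hf
      change g ∈ inter b π₂ at hg
      rw [mem_inter] at hf hg ⊢
      ext x
      · have := LinearMap.congr_fun hf x
        simpa [LinearMap.coprodEquiv_apply] using this
      · have := LinearMap.congr_fun hg x
        simpa [LinearMap.coprodEquiv_apply] using this
  rw [hmap, LinearEquiv.finrank_map_eq, finrank_prod_submodule]

end intertransport

section counting

open scoped Classical
open UniqueFactorizationMonoid

theorem normalizedFactors_of_simple {V : Type v} [AddCommGroup V] [Module K V]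
    [FiniteDimensional K V] {π : End K V} (hs : IsSimpleEnd π) :
    normalizedFactors π.charpoly = {minpoly K π} := by
  rw [charpoly_eq_minpoly hs, normalizedFactors_irreducible (minpoly_irreducible hs),
    (minpoly.monic (isIntegral_end π)).normalize_eq_self]

theorem charpoly_eq_one_of_subsingleton {V : Type v} [AddCommGroup V] [Module K V]
    [FiniteDimensional K V] [Subsingleton V] (π : End K V) : π.charpoly = 1 := by
  apply Polynomial.eq_one_of_monic_natDegree_zero (LinearMap.charpoly_monic π)
  rw [LinearMap.charpoly_natDegree, finrank_zero_of_subsingleton]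

theorem finrank_ker_aeval_of_semisimple {V : Type v} [AddCommGroup V] [Module K V]
    [FiniteDimensional K V] (π : End K V) (hπ : π.IsSemisimple) (P : K[X]) (hPm : P.Monic)
    (hPi : Irreducible P) :
    finrank K (LinearMap.ker (aeval π P)) =
      (normalizedFactors π.charpoly).count P * P.natDegree := by
  refine semisimple_induction (K := K)
    (motive := fun V _ _ _ π => finrank K (LinearMap.ker (aeval π P)) =
      (normalizedFactors π.charpoly).count P * P.natDegree) ?_ ?_ ?_ ?_ V π hπ
  · intro V _ _ _ _ π
    rw [charpoly_eq_one_of_subsingleton, normalizedFactors_one, Multiset.count_zero, zero_mul]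
    have := Submodule.finrank_le (LinearMap.ker (aeval π P))
    rw [finrank_zero_of_subsingleton (M := V)] at this
    omega
  · intro V _ _ _ π hs
    haveI := hs.1
    have hμm := minpoly.monic (isIntegral_end π)
    rw [normalizedFactors_of_simple hs, Multiset.count_singleton]
    rcases hs.2 _ (ker_aeval_mem_invt π P) with h | h
    · rw [h, finrank_bot]
      have hne : P ≠ minpoly K π := by
        rintro rfl
        have : LinearMap.ker (aeval π (minpoly K π)) = ⊤ := by
          rw [minpoly.aeval]; exact LinearMap.ker_zero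
        rw [this] at h
        exact top_ne_bot h
      rw [if_neg hne, zero_mul]
    · have h0 : aeval π P = 0 := LinearMap.ker_eq_top.mp h
      have h1 : minpoly K π ∣ P := minpoly.dvd K π h0
      have h2 : P ∣ minpoly K π := (minpoly_irreducible hs).dvd_symm hPi h1
      have heq : P = minpoly K π :=
        Polynomial.eq_of_monic_of_associated hPm hμm (associated_of_dvd_dvd h2 h1)
      rw [h, finrank_top, if_pos heq, one_mul, heq, finrank_eq_natDegree_minpoly hs]
  · intro V V' _ _ _ _ _ _ e π π' he h
    rw [finrank_ker_aeval_conj e π π' he, charpoly_conj' e π π' he, h]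
  · intro W W' _ _ _ _ _ _ a b ha hb
    rw [finrank_ker_aeval_prodMap, LinearMap.charpoly_prodMap,
      normalizedFactors_mul (LinearMap.charpoly_monic a).ne_zero (LinearMap.charpoly_monic b).ne_zero,
      Multiset.count_add, add_mul, ha, hb]

theorem finrank_inter_aux {V₂ : Type w} [AddCommGroup V₂] [Module K V₂] [FiniteDimensional K V₂]
    (π₂ : End K V₂) (h₂ : π₂.IsSemisimple)
    {V₁ : Type v} [AddCommGroup V₁] [Module K V₁] [FiniteDimensional K V₁]
    (π₁ : End K V₁) (h₁ : π₁.IsSemisimple) :
    ∀ S : Finset K[X], (normalizedFactors π₁.charpoly).toFinset ⊆ S →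
      finrank K (inter π₁ π₂) = ∑ P ∈ S, (normalizedFactors π₁.charpoly).count P *
        (normalizedFactors π₂.charpoly).count P * P.natDegree := by
  refine semisimple_induction (K := K)
    (motive := fun V₁ _ _ _ π₁ => ∀ S : Finset K[X],
      (normalizedFactors π₁.charpoly).toFinset ⊆ S →
      finrank K (inter π₁ π₂) = ∑ P ∈ S, (normalizedFactors π₁.charpoly).count P *
        (normalizedFactors π₂.charpoly).count P * P.natDegree) ?_ ?_ ?_ ?_ V₁ π₁ h₁
  · intro V _ _ _ _ π S _
    rw [charpoly_eq_one_of_subsingleton, normalizedFactors_one]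
    simp only [Multiset.count_zero, zero_mul, Finset.sum_const_zero]
    have := Submodule.finrank_le (inter π π₂)
    rw [finrank_zero_of_subsingleton (M := V →ₗ[K] V₂)] at this
    omega
  · intro V _ _ _ π hs S hS
    have hμm := minpoly.monic (isIntegral_end π)
    have hμi := minpoly_irreducible hs
    rw [finrank_inter_of_simple hs π₂,
      finrank_ker_aeval_of_semisimple π₂ h₂ _ hμm hμi, normalizedFactors_of_simple hs]
    have hmem : minpoly K π ∈ S := by
      apply hS
      rw [normalizedFactors_of_simple hs]
      simp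
    rw [Finset.sum_eq_single (minpoly K π)]
    · rw [Multiset.count_singleton, if_pos rfl, one_mul]
    · intro Q _ hQ
      rw [Multiset.count_singleton, if_neg hQ, zero_mul, zero_mul]
    · intro h; exact absurd hmem h
  · intro V V' _ _ _ _ _ _ e π π' he h S hS
    rw [finrank_inter_conj e π π' he, charpoly_conj' e π π' he]
    rw [charpoly_conj' e π π' he] at hS
    exact h S hS
  · intro W W' _ _ _ _ _ _ a b ha hb S hS
    rw [LinearMap.charpoly_prodMap, normalizedFactors_mul (LinearMap.charpoly_monic a).ne_zero
      (LinearMap.charpoly_monic b).ne_zero] at hS ⊢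
    rw [Multiset.toFinset_add] at hS
    rw [finrank_inter_prodMap, ha S (Finset.union_subset_left hS),
      hb S (Finset.union_subset_right hS), ← Finset.sum_add_distrib]
    refine Finset.sum_congr rfl fun Q _ => ?_
    rw [Multiset.count_add]
    ring

theorem finrank_inter {V₁ : Type v} {V₂ : Type w} [AddCommGroup V₁] [Module K V₁]
    [FiniteDimensional K V₁] [AddCommGroup V₂] [Module K V₂] [FiniteDimensional K V₂]
    (π₁ : End K V₁) (π₂ : End K V₂) (h₁ : π₁.IsSemisimple) (h₂ : π₂.IsSemisimple) :
    finrank K (LinearMap.ker (LinearMap.lcomp K V₂ π₁ - LinearMap.llcomp K V₁ V₂ V₂ π₂ :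
        (V₁ →ₗ[K] V₂) →ₗ[K] (V₁ →ₗ[K] V₂))) =
      ∑ P ∈ (normalizedFactors π₁.charpoly).toFinset,
        (normalizedFactors π₁.charpoly).count P * (normalizedFactors π₂.charpoly).count P *
          P.natDegree :=
  finrank_inter_aux π₂ h₂ π₁ h₁ _ (Finset.Subset.refl _)

end counting

end Groth.Agent.Lib.Helper59.SemisimpleHom
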