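import Mathlib

/-!
# Separable degree of residue fields under base change of the ground field
-/

namespace Groth.Agent.Lib.Helper59.SepDegBC

open TensorProduct

section Fiber

variable {K C F Ω : Type*} [Field K] [CommRing C] [Algebra K C] [Field F] [Algebra K F]
  [Algebra C F] [IsScalarTower K C F] [Field Ω] [Algebra K Ω]

/-- Homs out of a surjective image `F` of `C` correspond to homs out of `C` with the same kernel. -/
theorem card_fiber (hsurj : Function.Surjective (algebraMap C F)) :
    Nat.card {ψ : C →ₐ[K] Ω // RingHom.ker ψ = RingHom.ker (algebraMap C F)} =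
      Nat.card (F →ₐ[K] Ω) := by
  symm
  have hk : ∀ χ : F →ₐ[K] Ω, RingHom.ker (χ.comp (IsScalarTower.toAlgHom K C F)) =
      RingHom.ker (algebraMap C F) := by
    intro χ
    ext x
    rw [RingHom.mem_ker, RingHom.mem_ker, AlgHom.comp_apply, IsScalarTower.coe_toAlgHom',
      map_eq_zero_iff χ χ.injective]
  refine Nat.card_eq_of_bijective (fun χ => ⟨χ.comp (IsScalarTower.toAlgHom K C F), hk χ⟩) ⟨?_, ?_⟩
  · intro χ₁ χ₂ h
    have h' : χ₁.comp (IsScalarTower.toAlgHom K C F) = χ₂.comp (IsScalarTower.toAlgHom K C F) :=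
      congrArg Subtype.val h
    ext y
    obtain ⟨x, rfl⟩ := hsurj y
    exact congr($h' x)
  · rintro ⟨ψ, hψ⟩
    have hs : Function.Surjective (IsScalarTower.toAlgHom K C F) := hsurj
    refine ⟨AlgHom.liftOfSurjective (IsScalarTower.toAlgHom K C F) hs ψ ?_, ?_⟩
    · intro x hx
      have : x ∈ RingHom.ker ψ := by
        rw [hψ]
        exact hx
      exact this
    · apply Subtype.ext
      exact AlgHom.liftOfSurjective_comp _ hs ψ _

end Fiber

section Count

variable (K C Ω : Type*) [Field K] [CommRing C] [Algebra K C] [Module.Finite K C]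
  [Field Ω] [Algebra K Ω]

theorem isMaximal_ker (ψ : C →ₐ[K] Ω) : (RingHom.ker ψ).IsMaximal := by
  haveI : IsArtinianRing C := IsArtinianRing.of_finite K C
  haveI : (RingHom.ker ψ).IsPrime := RingHom.ker_isPrime ψ
  exact IsArtinianRing.isMaximal_of_isPrime _

/-- The maximal ideal which is the kernel of a hom to a field. -/
noncomputable def kerMax (ψ : C →ₐ[K] Ω) : MaximalSpectrum C :=
  ⟨RingHom.ker ψ, isMaximal_ker K C Ω ψ⟩

theorem card_algHom [Fintype (MaximalSpectrum C)] : Nat.card (C →ₐ[K] Ω) =
    ∑ m : MaximalSpectrum C, Nat.card {ψ : C →ₐ[K] Ω // RingHom.ker ψ = m.asIdeal} := by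
  rw [← Nat.card_congr (Equiv.sigmaFiberEquiv (kerMax K C Ω)), Nat.card_sigma]
  refine Finset.sum_congr rfl fun m _ => ?_
  refine Nat.card_congr (Equiv.subtypeEquivRight fun ψ => ?_)
  exact MaximalSpectrum.ext_iff

end Count

section Main

universe u

variable (k A k' : Type u) [Field k] [CommRing A] [Algebra k A]
    [Module.Finite k A] [IsLocalRing A] [Field k'] [Algebra k k']

theorem card_local (Ω : Type*) [Field Ω] [Algebra k Ω] :
    Nat.card (IsLocalRing.ResidueField A →ₐ[k] Ω) = Nat.card (A →ₐ[k] Ω) := by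
  rw [← card_fiber (K := k) (C := A) (F := IsLocalRing.ResidueField A) (Ω := Ω)
    (by rw [IsLocalRing.ResidueField.algebraMap_eq]; exact IsLocalRing.residue_surjective)]
  refine Nat.card_congr (Equiv.subtypeUnivEquiv fun ψ => ?_)
  rw [IsLocalRing.ResidueField.algebraMap_eq, IsLocalRing.ker_residue]
  exact IsLocalRing.eq_maximalIdeal (isMaximal_ker k A Ω ψ)

theorem main :
    Field.finSepDegree k (IsLocalRing.ResidueField A) =
      ∑ᶠ m : MaximalSpectrum (k' ⊗[k] A),
        Field.finSepDegree k' (IsLocalRing.ResidueField (Localization.AtPrime m.asIdeal)) := by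
  haveI : IsArtinianRing (k' ⊗[k] A) := IsArtinianRing.of_finite k' _
  letI : Fintype (MaximalSpectrum (k' ⊗[k] A)) := Fintype.ofFinite _
  rw [finsum_eq_sum_of_fintype,
    Field.finSepDegree_eq_of_isAlgClosed k (IsLocalRing.ResidueField A) (AlgebraicClosure k'),
    card_local, Nat.card_congr (Algebra.TensorProduct.liftEquivRight k k' A (AlgebraicClosure k')),
    card_algHom k' (k' ⊗[k] A) (AlgebraicClosure k')]
  refine Finset.sum_congr rfl fun m _ => ?_
  haveI : m.asIdeal.IsMaximal := m.isMaximal
  haveI : Module.Finite k' m.asIdeal.ResidueField :=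
    Module.Finite.trans (k' ⊗[k] A) m.asIdeal.ResidueField
  rw [Field.finSepDegree_eq_of_isAlgClosed k' (IsLocalRing.ResidueField
    (Localization.AtPrime m.asIdeal)) (AlgebraicClosure k')]
  have h := card_fiber (K := k') (C := k' ⊗[k] A) (F := m.asIdeal.ResidueField)
    (Ω := AlgebraicClosure k') (Ideal.algebraMap_residueField_surjective m.asIdeal)
  rw [Ideal.ker_algebraMap_residueField] at h
  exact h

end Main

end Groth.Agent.Lib.Helper59.SepDegBC
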