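import Mathlib

/-!
# Sorting a permutation on a block

For an embedding `e : Fin m ↪ Fin n` and `ρ : Perm (Fin m)` let `E e ρ` be the permutation of
`Fin n` acting as `ρ` on the range of `e` and fixing everything else.  Every `ν : Perm (Fin n)`
factors uniquely as `τ * E e σ` with `τ ∘ e` monotone.
-/

set_option autoImplicit false
open Equiv

namespace Groth.Agent.Lib.Helper59.Shuffle

variable {m n : ℕ} (e : Fin m ↪ Fin n)

/-- extension of a permutation along an embedding -/
def E (ρ : Perm (Fin m)) : Perm (Fin n) := ρ.viaFintypeEmbedding e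

lemma E_apply_image (ρ : Perm (Fin m)) (i : Fin m) : E e ρ (e i) = e (ρ i) :=
  Equiv.Perm.viaFintypeEmbedding_apply_image ρ e i

lemma E_apply_not (ρ : Perm (Fin m)) {x : Fin n} (hx : x ∉ Set.range e) : E e ρ x = x :=
  Equiv.Perm.viaFintypeEmbedding_apply_notMem_range ρ e hx

lemma E_mul (ρ ρ' : Perm (Fin m)) : E e ρ * E e ρ' = E e (ρ * ρ') := by
  unfold E Equiv.Perm.viaFintypeEmbedding
  exact Equiv.Perm.extendDomain_mul _ ρ ρ'

lemma E_one : E e (1 : Perm (Fin m)) = 1 := by
  unfold E Equiv.Perm.viaFintypeEmbedding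
  exact Equiv.Perm.extendDomain_one _

lemma E_sign (ρ : Perm (Fin m)) : Equiv.Perm.sign (E e ρ) = Equiv.Perm.sign ρ :=
  Equiv.Perm.viaFintypeEmbedding_sign ρ e

/-- A permutation with the pointwise behaviour of `E e ρ` equals it. -/
lemma eq_E {X : Perm (Fin n)} {ρ : Perm (Fin m)} (h1 : ∀ i, X (e i) = e (ρ i))
    (h2 : ∀ x, x ∉ Set.range e → X x = x) : X = E e ρ := by
  ext x
  by_cases hx : x ∈ Set.range e
  · obtain ⟨i, rfl⟩ := hx
    rw [h1, E_apply_image]
  · rw [h2 x hx, E_apply_not e ρ hx]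

lemma mul_E_apply_image (τ : Perm (Fin n)) (σ : Perm (Fin m)) (i : Fin m) :
    (τ * E e σ) (e i) = τ (e (σ i)) := by
  rw [Equiv.Perm.mul_apply, E_apply_image]

lemma mul_E_apply_not (τ : Perm (Fin n)) (σ : Perm (Fin m)) {x : Fin n} (hx : x ∉ Set.range e) :
    (τ * E e σ) x = τ x := by
  rw [Equiv.Perm.mul_apply, E_apply_not e σ hx]

/-- uniqueness of the factorisation -/
lemma inj {τ τ' : Perm (Fin n)} {σ σ' : Perm (Fin m)} (hτ : Monotone (τ ∘ e))
    (hτ' : Monotone (τ' ∘ e)) (h : τ * E e σ = τ' * E e σ') : τ = τ' ∧ σ = σ' := by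
  have hs : StrictMono (τ ∘ e) := hτ.strictMono_of_injective (τ.injective.comp e.injective)
  have hs' : StrictMono (τ' ∘ e) := hτ'.strictMono_of_injective (τ'.injective.comp e.injective)
  have hpt : ∀ i, τ (e (σ i)) = τ' (e (σ' i)) := by
    intro i
    rw [← mul_E_apply_image, ← mul_E_apply_image, h]
  have hrange : Set.range (τ ∘ e) = Set.range (τ' ∘ e) := by
    ext y
    constructor
    · rintro ⟨i, rfl⟩
      refine ⟨σ' (σ.symm i), ?_⟩
      have := hpt (σ.symm i)
      simp only [Equiv.apply_symm_apply] at this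
      simp only [Function.comp_apply]
      exact this.symm
    · rintro ⟨i, rfl⟩
      refine ⟨σ (σ'.symm i), ?_⟩
      have := hpt (σ'.symm i)
      simp only [Equiv.apply_symm_apply] at this
      simp only [Function.comp_apply]
      exact this
  have hfe : τ ∘ e = τ' ∘ e := (hs.range_inj hs').1 hrange
  have hσ : σ = σ' := by
    ext i
    have h1 := hpt i
    have h2 : τ' (e (σ i)) = τ (e (σ i)) := (congrFun hfe (σ i)).symm
    rw [← h2] at h1
    have := e.injective (τ'.injective h1)
    rw [this]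
  refine ⟨?_, hσ⟩
  subst hσ
  exact mul_right_cancel h

/-- existence of the factorisation, with the pointwise description of the factors -/
lemma surj (ν : Perm (Fin n)) : ∃ (τ : Perm (Fin n)) (σ : Perm (Fin m)),
    τ * E e σ = ν ∧ Monotone (τ ∘ e) ∧ (∀ x, x ∉ Set.range e → τ x = ν x) ∧
      (∀ i j, σ i ≤ σ j ↔ ν (e i) ≤ ν (e j)) := by
  set f : Fin m → Fin n := fun i => ν (e i) with hf
  set ρ : Perm (Fin m) := Tuple.sort f with hρ
  have hmono : Monotone (f ∘ ρ) := Tuple.monotone_sort f
  have hinj : Function.Injective (f ∘ ρ) :=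
    (ν.injective.comp e.injective).comp ρ.injective
  have hstrict : StrictMono (f ∘ ρ) := hmono.strictMono_of_injective hinj
  refine ⟨ν * E e ρ, ρ⁻¹, ?_, ?_, ?_, ?_⟩
  · rw [mul_assoc, E_mul, mul_inv_cancel, E_one, mul_one]
  · intro i j hij
    simp only [Function.comp_apply]
    rw [mul_E_apply_image, mul_E_apply_image]
    exact hmono hij
  · intro x hx
    exact mul_E_apply_not e ν ρ hx
  · intro i j
    have := hstrict.le_iff_le (a := ρ⁻¹ i) (b := ρ⁻¹ j)
    simp only [Function.comp_apply, hf] at this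
    rw [Equiv.Perm.inv_def, Equiv.apply_symm_apply, Equiv.apply_symm_apply] at this
    exact this.symm

end Groth.Agent.Lib.Helper59.Shuffle
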