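import Mathlib
import Groth.Prelude.Def_W4c2movlemaddchowShuffle
import Groth.Agent.Lib.Helper59.Shuffle

/-!
# The two shuffle factorisations (instances of `Shuffle.inj` / `Shuffle.surj`)
-/

set_option autoImplicit false
open Equiv W4c2movlemaddchow

namespace Groth.Agent.Lib.Helper59.ShuffleInst

open Groth.Agent.Lib.Helper59.Shuffle

section right
variable (a t : ℕ)

lemma extRight_eq (σ : Perm (Fin a)) : extRight a t σ = E (Fin.castAddEmb t) σ := by
  apply eq_E
  · intro i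
    simp [extRight, Equiv.permCongr_apply]
  · intro x hx
    induction x using Fin.addCases with
    | left i => exact absurd ⟨i, rfl⟩ hx
    | right l => simp [extRight, Equiv.permCongr_apply]

lemma natAdd_not_mem (l : Fin t) : Fin.natAdd a l ∉ Set.range (Fin.castAddEmb t : Fin a ↪ _) := by
  rintro ⟨i, hi⟩
  have := congrArg Fin.val hi
  simp at this
  omega

end right

section A
variable (r s t : ℕ)

theorem bijOn_right :
    Set.BijOn
      (fun p : Equiv.Perm (Fin (r + s + t)) × Equiv.Perm (Fin (r + s)) =>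
        p.1 * extRight (r + s) t p.2)
      ({τ | IsShuffle₂ (r + s) t τ} ×ˢ {σ | IsShuffle₂ r s σ})
      {ν | IsShuffle₃ r s t ν} := by
  refine ⟨?_, ?_, ?_⟩
  · rintro ⟨τ, σ⟩ ⟨hτ, hσ⟩
    simp only [Set.mem_ofPred_eq] at hτ hσ ⊢
    rw [extRight_eq]
    refine ⟨?_, ?_, ?_⟩
    · intro i j hij
      have h1 := mul_E_apply_image (Fin.castAddEmb t) τ σ (Fin.castAdd s i)
      have h2 := mul_E_apply_image (Fin.castAddEmb t) τ σ (Fin.castAdd s j)
      simp only [Fin.castAddEmb_apply] at h1 h2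
      simp only [h1, h2]
      exact hτ.1 (hσ.1 hij)
    · intro i j hij
      have h1 := mul_E_apply_image (Fin.castAddEmb t) τ σ (Fin.natAdd r i)
      have h2 := mul_E_apply_image (Fin.castAddEmb t) τ σ (Fin.natAdd r j)
      simp only [Fin.castAddEmb_apply] at h1 h2
      simp only [h1, h2]
      exact hτ.1 (hσ.2 hij)
    · intro i j hij
      have h1 := mul_E_apply_not (Fin.castAddEmb t) τ σ (natAdd_not_mem (r + s) t i)
      have h2 := mul_E_apply_not (Fin.castAddEmb t) τ σ (natAdd_not_mem (r + s) t j)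
      simp only [h1, h2]
      exact hτ.2 hij
  · rintro ⟨τ, σ⟩ ⟨hτ, hσ⟩ ⟨τ', σ'⟩ ⟨hτ', hσ'⟩ h
    simp only [Set.mem_ofPred_eq] at hτ hτ'
    simp only [extRight_eq] at h
    obtain ⟨h1, h2⟩ := inj (Fin.castAddEmb t) hτ.1 hτ'.1 h
    rw [h1, h2]
  · intro ν hν
    simp only [Set.mem_ofPred_eq] at hν
    obtain ⟨τ, σ, h1, h2, h3, h4⟩ := surj (Fin.castAddEmb t) ν
    refine ⟨⟨τ, σ⟩, ⟨?_, ?_⟩, ?_⟩
    · refine ⟨h2, ?_⟩
      intro i j hij
      simp only [h3 _ (natAdd_not_mem (r + s) t i), h3 _ (natAdd_not_mem (r + s) t j)]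
      exact hν.2.2 hij
    · refine ⟨?_, ?_⟩
      · intro i j hij
        exact (h4 _ _).2 (hν.1 hij)
      · intro i j hij
        exact (h4 _ _).2 (hν.2.1 hij)
    · simp only [extRight_eq]
      exact h1

end A

section left
variable (r s t : ℕ)

/-- the embedding of the last `s + t` positions -/
def eL : Fin (s + t) ↪ Fin (r + s + t) :=
  (Fin.natAddEmb r).trans (finCongr (Nat.add_assoc r s t)).symm.toEmbedding

lemma eL_val (j : Fin (s + t)) : (eL r s t j : ℕ) = r + j := by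
  simp [eL]

lemma mem_range_eL {x : Fin (r + s + t)} : x ∈ Set.range (eL r s t) ↔ r ≤ (x : ℕ) := by
  constructor
  · rintro ⟨j, rfl⟩
    rw [eL_val]
    omega
  · intro h
    refine ⟨⟨x - r, by omega⟩, ?_⟩
    apply Fin.ext
    rw [eL_val]
    simp only
    omega

lemma extLeft_eq (σ : Perm (Fin (s + t))) : extLeft r s t σ = E (eL r s t) σ := by
  apply eq_E
  · intro i
    apply Fin.ext
    simp [extLeft, Equiv.permCongr_apply, eL]
  · intro x hx
    rw [mem_range_eL] at hx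
    have hx' : (x : ℕ) < r := by omega
    have : (finCongr (Nat.add_assoc r s t)) x = Fin.castAdd (s + t) ⟨x, hx'⟩ := by
      apply Fin.ext
      simp
    have key : extLeft r s t σ x = (finCongr (Nat.add_assoc r s t)).symm
        ((finSumFinEquiv.permCongr ((Equiv.refl (Fin r)).sumCongr σ))
          (finCongr (Nat.add_assoc r s t) x)) := rfl
    rw [key, this, Equiv.permCongr_apply, finSumFinEquiv_symm_apply_castAdd]
    apply Fin.ext
    simp

lemma eL_castAdd (j : Fin s) : eL r s t (Fin.castAdd t j) = Fin.castAdd t (Fin.natAdd r j) := by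
  apply Fin.ext
  rw [eL_val]
  simp

lemma eL_natAdd (l : Fin t) : eL r s t (Fin.natAdd s l) = Fin.natAdd (r + s) l := by
  apply Fin.ext
  rw [eL_val]
  simp [add_assoc]

lemma castAdd_not_mem (i : Fin r) :
    Fin.castAdd t (Fin.castAdd s i) ∉ Set.range (eL r s t) := by
  rw [mem_range_eL]
  simp

lemma permCongr_block1 (τ : Perm (Fin (r + s + t))) (i : Fin r) :
    ((finCongr (Nat.add_assoc r s t)).permCongr τ) (Fin.castAdd (s + t) i) =
      finCongr (Nat.add_assoc r s t) (τ (Fin.castAdd t (Fin.castAdd s i))) := by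
  rw [Equiv.permCongr_apply]
  congr 2

lemma permCongr_block2 (τ : Perm (Fin (r + s + t))) (j : Fin (s + t)) :
    ((finCongr (Nat.add_assoc r s t)).permCongr τ) (Fin.natAdd r j) =
      finCongr (Nat.add_assoc r s t) (τ (eL r s t j)) := by
  rw [Equiv.permCongr_apply]
  congr 2

lemma finCongr_le {a b : ℕ} (h : a = b) (x y : Fin a) : finCongr h x ≤ finCongr h y ↔ x ≤ y := by
  subst h
  exact Iff.rfl

lemma shuffleL_iff (τ : Perm (Fin (r + s + t))) :
    IsShuffle₂ r (s + t) ((finCongr (Nat.add_assoc r s t)).permCongr τ) ↔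
      Monotone (fun i : Fin r => τ (Fin.castAdd t (Fin.castAdd s i))) ∧
        Monotone (τ ∘ eL r s t) := by
  unfold IsShuffle₂
  simp only [permCongr_block1, permCongr_block2]
  constructor
  · rintro ⟨h1, h2⟩
    exact ⟨fun i j hij => (finCongr_le _ _ _).1 (h1 hij),
      fun i j hij => (finCongr_le _ _ _).1 (h2 hij)⟩
  · rintro ⟨h1, h2⟩
    exact ⟨fun i j hij => (finCongr_le _ _ _).2 (h1 hij),
      fun i j hij => (finCongr_le _ _ _).2 (h2 hij)⟩

theorem bijOn_left :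
    Set.BijOn
      (fun p : Equiv.Perm (Fin (r + s + t)) × Equiv.Perm (Fin (s + t)) =>
        p.1 * extLeft r s t p.2)
      ({τ | IsShuffle₂ r (s + t) ((finCongr (Nat.add_assoc r s t)).permCongr τ)} ×ˢ
        {σ | IsShuffle₂ s t σ})
      {ν | IsShuffle₃ r s t ν} := by
  refine ⟨?_, ?_, ?_⟩
  · rintro ⟨τ, σ⟩ ⟨hτ, hσ⟩
    simp only [Set.mem_ofPred_eq] at hτ hσ ⊢
    rw [shuffleL_iff] at hτ
    rw [extLeft_eq]
    refine ⟨?_, ?_, ?_⟩
    · intro i j hij
      have h1 := mul_E_apply_not (eL r s t) τ σ (castAdd_not_mem r s t i)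
      have h2 := mul_E_apply_not (eL r s t) τ σ (castAdd_not_mem r s t j)
      simp only [h1, h2]
      exact hτ.1 hij
    · intro i j hij
      have h1 := mul_E_apply_image (eL r s t) τ σ (Fin.castAdd t i)
      have h2 := mul_E_apply_image (eL r s t) τ σ (Fin.castAdd t j)
      rw [eL_castAdd] at h1 h2
      simp only [h1, h2]
      exact hτ.2 (hσ.1 hij)
    · intro i j hij
      have h1 := mul_E_apply_image (eL r s t) τ σ (Fin.natAdd s i)
      have h2 := mul_E_apply_image (eL r s t) τ σ (Fin.natAdd s j)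
      rw [eL_natAdd] at h1 h2
      simp only [h1, h2]
      exact hτ.2 (hσ.2 hij)
  · rintro ⟨τ, σ⟩ ⟨hτ, hσ⟩ ⟨τ', σ'⟩ ⟨hτ', hσ'⟩ h
    simp only [Set.mem_ofPred_eq] at hτ hτ'
    rw [shuffleL_iff] at hτ hτ'
    simp only [extLeft_eq] at h
    obtain ⟨h1, h2⟩ := inj (eL r s t) hτ.2 hτ'.2 h
    rw [h1, h2]
  · intro ν hν
    simp only [Set.mem_ofPred_eq] at hν
    obtain ⟨τ, σ, h1, h2, h3, h4⟩ := surj (eL r s t) ν
    refine ⟨⟨τ, σ⟩, ⟨?_, ?_⟩, ?_⟩
    · simp only [Set.mem_ofPred_eq]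
      rw [shuffleL_iff]
      refine ⟨?_, h2⟩
      intro i j hij
      simp only [h3 _ (castAdd_not_mem r s t i), h3 _ (castAdd_not_mem r s t j)]
      exact hν.1 hij
    · refine ⟨?_, ?_⟩
      · intro i j hij
        refine (h4 _ _).2 ?_
        rw [eL_castAdd, eL_castAdd]
        exact hν.2.1 hij
      · intro i j hij
        refine (h4 _ _).2 ?_
        rw [eL_natAdd, eL_natAdd]
        exact hν.2.2 hij
    · simp only [extLeft_eq]
      exact h1

end left

section sums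
variable (r s t : ℕ)

lemma sign_mul_extRight (τ : Perm (Fin (r + s + t))) (σ : Perm (Fin (r + s))) :
    ((Equiv.Perm.sign (τ * extRight (r + s) t σ) : ℤˣ) : ℤ) =
      ((Equiv.Perm.sign τ : ℤˣ) : ℤ) * ((Equiv.Perm.sign σ : ℤˣ) : ℤ) := by
  rw [map_mul, Units.val_mul, extRight_eq, E_sign]

lemma sign_mul_extLeft (τ : Perm (Fin (r + s + t))) (σ : Perm (Fin (s + t))) :
    ((Equiv.Perm.sign (τ * extLeft r s t σ) : ℤˣ) : ℤ) =
      ((Equiv.Perm.sign τ : ℤˣ) : ℤ) * ((Equiv.Perm.sign σ : ℤˣ) : ℤ) := by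
  rw [map_mul, Units.val_mul, extLeft_eq, E_sign]

theorem sum_right :
    ((∑ ν ∈ Finset.univ.filter (IsShuffle₃ r s t),
        MonoidAlgebra.single ν (((Equiv.Perm.sign ν : ℤˣ) : ℤ)) :
          MonoidAlgebra ℤ (Equiv.Perm (Fin (r + s + t)))) =
      ∑ τ ∈ Finset.univ.filter (IsShuffle₂ (r + s) t),
        ∑ σ ∈ Finset.univ.filter (IsShuffle₂ r s),
          MonoidAlgebra.single (τ * extRight (r + s) t σ)
            (((Equiv.Perm.sign τ : ℤˣ) : ℤ) * ((Equiv.Perm.sign σ : ℤˣ) : ℤ))) := by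
  rw [← Finset.sum_product']
  symm
  have hb := bijOn_right r s t
  refine Finset.sum_nbij (fun p => p.1 * extRight (r + s) t p.2) ?_ ?_ ?_ ?_
  · intro p hp
    rw [Finset.mem_product, Finset.mem_filter, Finset.mem_filter] at hp
    rw [Finset.mem_filter]
    exact ⟨Finset.mem_univ _, hb.mapsTo ⟨hp.1.2, hp.2.2⟩⟩
  · intro p hp q hq h
    rw [Finset.mem_coe, Finset.mem_product, Finset.mem_filter, Finset.mem_filter] at hp hq
    exact hb.injOn ⟨hp.1.2, hp.2.2⟩ ⟨hq.1.2, hq.2.2⟩ h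
  · intro ν hν
    rw [Finset.mem_coe, Finset.mem_filter] at hν
    obtain ⟨p, hp, hpν⟩ := hb.surjOn hν.2
    refine ⟨p, ?_, hpν⟩
    rw [Finset.mem_coe, Finset.mem_product, Finset.mem_filter, Finset.mem_filter]
    exact ⟨⟨Finset.mem_univ _, hp.1⟩, ⟨Finset.mem_univ _, hp.2⟩⟩
  · intro p _
    rw [sign_mul_extRight]

theorem sum_left :
    ((∑ ν ∈ Finset.univ.filter (IsShuffle₃ r s t),
        MonoidAlgebra.single ν (((Equiv.Perm.sign ν : ℤˣ) : ℤ)) :
          MonoidAlgebra ℤ (Equiv.Perm (Fin (r + s + t)))) =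
      ∑ τ ∈ Finset.univ.filter (fun τ : Equiv.Perm (Fin (r + s + t)) =>
          IsShuffle₂ r (s + t) ((finCongr (Nat.add_assoc r s t)).permCongr τ)),
        ∑ σ ∈ Finset.univ.filter (IsShuffle₂ s t),
          MonoidAlgebra.single (τ * extLeft r s t σ)
            (((Equiv.Perm.sign τ : ℤˣ) : ℤ) * ((Equiv.Perm.sign σ : ℤˣ) : ℤ))) := by
  rw [← Finset.sum_product']
  symm
  have hb := bijOn_left r s t
  refine Finset.sum_nbij (fun p => p.1 * extLeft r s t p.2) ?_ ?_ ?_ ?_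
  · intro p hp
    rw [Finset.mem_product, Finset.mem_filter, Finset.mem_filter] at hp
    rw [Finset.mem_filter]
    exact ⟨Finset.mem_univ _, hb.mapsTo ⟨hp.1.2, hp.2.2⟩⟩
  · intro p hp q hq h
    rw [Finset.mem_coe, Finset.mem_product, Finset.mem_filter, Finset.mem_filter] at hp hq
    exact hb.injOn ⟨hp.1.2, hp.2.2⟩ ⟨hq.1.2, hq.2.2⟩ h
  · intro ν hν
    rw [Finset.mem_coe, Finset.mem_filter] at hν
    obtain ⟨p, hp, hpν⟩ := hb.surjOn hν.2
    refine ⟨p, ?_, hpν⟩
    rw [Finset.mem_coe, Finset.mem_product, Finset.mem_filter, Finset.mem_filter]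
    exact ⟨⟨Finset.mem_univ _, hp.1⟩, ⟨Finset.mem_univ _, hp.2⟩⟩
  · intro p _
    rw [sign_mul_extLeft]

end sums

end Groth.Agent.Lib.Helper59.ShuffleInst
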