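import Mathlib

/-!
Algebraic parts of the dimension criterion for smoothness over a field (S2063).
-/

set_option autoImplicit false
set_option linter.style.haveILetI false

universe u

open TensorProduct

namespace Groth.Agent.Lib.Helper59.SmoothDimCrit

theorem localRingHom_surjective {D T : Type*} [CommRing D] [CommRing T] (φ : D →+* T)
    (hφ : Function.Surjective φ) (P : Ideal T) [P.IsPrime] (P' : Ideal D) [P'.IsPrime]
    (hP : P' = P.comap φ) : Function.Surjective (Localization.localRingHom P' P φ hP) := by
  intro z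
  obtain ⟨⟨t, s⟩, rfl⟩ := IsLocalization.mk'_surjective P.primeCompl z
  obtain ⟨d, rfl⟩ := hφ t
  obtain ⟨e, he⟩ := hφ s.1
  have heP : e ∈ P'.primeCompl := by
    intro h
    rw [hP] at h
    have h' : φ e ∈ P := h
    rw [he] at h'
    exact s.2 h'
  refine ⟨IsLocalization.mk' _ d ⟨e, heP⟩, ?_⟩
  rw [Localization.localRingHom_mk']
  congr 1
  exact Subtype.ext he

theorem localRingHom_injective_of_height_le {D T : Type*} [CommRing D] [CommRing T] (φ : D →+* T)
    (hφ : Function.Surjective φ) (P : Ideal T) [P.IsPrime] (P' : Ideal D) [P'.IsPrime]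
    (hP : P' = P.comap φ) [IsDomain (Localization.AtPrime P')]
    (hfin : P.height ≠ ⊤) (hle : P'.height ≤ P.height) :
    Function.Injective (Localization.localRingHom P' P φ hP) := by
  rw [injective_iff_map_eq_zero]
  intro x hx
  by_contra hx0
  have hnzd : x ∈ nonZeroDivisors (Localization.AtPrime P') := mem_nonZeroDivisors_of_ne_zero hx0
  have h1 := ringKrullDim_succ_le_of_surjective _ (localRingHom_surjective φ hφ P P' hP) hnzd hx
  rw [IsLocalization.AtPrime.ringKrullDim_eq_height P,
    IsLocalization.AtPrime.ringKrullDim_eq_height P'] at h1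
  obtain ⟨n, hn⟩ := ENat.ne_top_iff_exists.1 hfin
  have h2 : ((P.height : ℕ∞) : WithBot ℕ∞) + 1 ≤ (P.height : WithBot ℕ∞) :=
    h1.trans (by exact_mod_cast hle)
  rw [← hn] at h2
  have h3 : ((n + 1 : ℕ) : ℕ∞) ≤ (n : ℕ∞) := by exact_mod_cast h2
  have h4 : n + 1 ≤ n := by exact_mod_cast h3
  omega

theorem finrank_tensor_kaehler_of_away {k S : Type u} [Field k] [CommRing S] [Algebra k S]
    (q : Ideal S) [q.IsPrime] (f : S) (hf : f ∉ q) (n : ℕ)
    [Algebra.IsStandardSmoothOfRelativeDimension n k (Localization.Away f)] :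
    Module.finrank q.ResidueField (q.ResidueField ⊗[S] Ω[S⁄k]) = n := by
  have hu : IsUnit (algebraMap S q.ResidueField f) := by
    rw [isUnit_iff_ne_zero]
    intro h0
    exact hf ((Ideal.algebraMap_residueField_eq_zero).1 h0)
  letI : Algebra (Localization.Away f) q.ResidueField :=
    (IsLocalization.Away.lift f hu).toAlgebra
  haveI : IsScalarTower S (Localization.Away f) q.ResidueField :=
    IsScalarTower.of_algebraMap_eq fun x => (IsLocalization.Away.lift_eq f hu x).symm
  haveI : Nontrivial (Localization.Away f) :=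
    (algebraMap (Localization.Away f) q.ResidueField).domain_nontrivial
  haveI : Algebra.FormallyEtale S (Localization.Away f) :=
    Algebra.FormallyEtale.of_isLocalization (Rₘ := Localization.Away f) (Submonoid.powers f)
  have hbc : IsBaseChange (Localization.Away f) (KaehlerDifferential.map k k S (Localization.Away f)) :=
    KaehlerDifferential.isBaseChange_of_formallyEtale k S (Localization.Away f)
  let e₁ : (Localization.Away f) ⊗[S] Ω[S⁄k] ≃ₗ[Localization.Away f] Ω[Localization.Away f⁄k] :=
    hbc.equiv
  let e₂ : q.ResidueField ⊗[Localization.Away f] ((Localization.Away f) ⊗[S] Ω[S⁄k]) ≃ₗ[q.ResidueField]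
      q.ResidueField ⊗[S] Ω[S⁄k] :=
    TensorProduct.AlgebraTensorModule.cancelBaseChange S (Localization.Away f) q.ResidueField
      q.ResidueField Ω[S⁄k]
  let e₃ : q.ResidueField ⊗[Localization.Away f] ((Localization.Away f) ⊗[S] Ω[S⁄k]) ≃ₗ[q.ResidueField]
      q.ResidueField ⊗[Localization.Away f] Ω[Localization.Away f⁄k] :=
    TensorProduct.AlgebraTensorModule.congr (LinearEquiv.refl q.ResidueField q.ResidueField) e₁
  haveI : Algebra.IsStandardSmooth k (Localization.Away f) :=
    Algebra.IsStandardSmoothOfRelativeDimension.isStandardSmooth n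
  rw [← e₂.finrank_eq, e₃.finrank_eq, Module.finrank_baseChange]
  have := Algebra.IsStandardSmoothOfRelativeDimension.rank_kaehlerDifferential
    (R := k) (S := Localization.Away f) n
  exact Module.finrank_eq_of_rank_eq this

end Groth.Agent.Lib.Helper59.SmoothDimCrit
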