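import Mathlib

/-!
A finite type algebra is, locally at a prime, a quotient of a standard smooth algebra of relative
dimension `dim Ω ⊗ κ(q)` (S7634).
-/

set_option autoImplicit false

universe u

open MvPolynomial Algebra TensorProduct Matrix

namespace Groth.Agent.Lib.Helper59.StdSmoothNbhd

/-- variant of helper64's `isStandardSmooth_of_away_quotient` with arbitrary injective column
selection, keeping track of the relative dimension. -/
theorem isStdSmoothRelDim_of_away_quotient {R : Type u} [CommRing R] {n c : ℕ}
    (a : Fin c → Fin n) (ha : Function.Injective a)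
    (v : Fin c → MvPolynomial (Fin n) R)
    {S : Type u} [CommRing S] [Algebra R S]
    [Algebra (MvPolynomial (Fin n) R ⧸ Ideal.span (Set.range v)) S]
    [IsScalarTower R (MvPolynomial (Fin n) R ⧸ Ideal.span (Set.range v)) S]
    (r : MvPolynomial (Fin n) R ⧸ Ideal.span (Set.range v)) [IsLocalization.Away r S]
    (hunit : IsUnit (algebraMap (MvPolynomial (Fin n) R ⧸ Ideal.span (Set.range v)) S
      (Ideal.Quotient.mk _
        (Matrix.det (Matrix.of fun j k : Fin c => pderiv (a k) (v j)))))) :
    Algebra.IsStandardSmoothOfRelativeDimension (n - c) R S := by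
  let P₀ : PreSubmersivePresentation R (MvPolynomial (Fin n) R ⧸ Ideal.span (Set.range v))
      (Fin n) (Fin c) :=
    PreSubmersivePresentation.naive (v := v) a ha
  let Q := PreSubmersivePresentation.localizationAway S r
  have hP₀ : P₀.jacobian = Ideal.Quotient.mk _
        (Matrix.det (Matrix.of fun j k : Fin c => pderiv (a k) (v j))) := by
    rw [PreSubmersivePresentation.jacobian_eq_jacobiMatrix_det, ← Matrix.det_transpose]
    congr 2
    ext i j
    simp [P₀]
  let P : SubmersivePresentation R S (Unit ⊕ Fin n) (Unit ⊕ Fin c) :=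
    { toPreSubmersivePresentation := Q.comp P₀
      jacobian_isUnit := by
        rw [PreSubmersivePresentation.comp_jacobian_eq_jacobian_smul_jacobian,
          PreSubmersivePresentation.localizationAway_jacobian, Algebra.smul_def, hP₀]
        exact hunit.mul (IsLocalization.Away.algebraMap_isUnit r) }
  refine P.isStandardSmoothOfRelativeDimension ?_
  have hcn : c ≤ n := by
    simpa using Fintype.card_le_of_injective a ha
  simp only [Presentation.dimension, Nat.card_eq_fintype_card, Fintype.card_sum, Fintype.card_unit,
    Fintype.card_fin]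
  omega

/-- a matrix with linearly independent rows has a nonvanishing maximal minor -/
theorem exists_minor_ne_zero {K : Type*} [Field K] {c n : ℕ} (G : Fin c → (Fin n → K))
    (hG : LinearIndependent K G) :
    ∃ a : Fin c → Fin n, Function.Injective a ∧
      (Matrix.of fun j k : Fin c => G j (a k)).det ≠ 0 := by
  classical
  let M : Matrix (Fin c) (Fin n) K := Matrix.of G
  have hrank : M.rank = c := by
    rw [Matrix.rank_eq_finrank_span_row]
    have : M.row = G := rfl
    rw [this, finrank_span_eq_card hG, Fintype.card_fin]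
  have hcols : Module.finrank K (Submodule.span K (Set.range M.col)) = c := by
    rw [← Matrix.rank_eq_finrank_span_cols, hrank]
  obtain ⟨h, hmem, -, hli⟩ := Submodule.exists_fun_fin_finrank_span_eq K (Set.range M.col)
  choose a' ha' using hmem
  let e : Fin c ≃ Fin (Module.finrank K (Submodule.span K (Set.range M.col))) :=
    finCongr hcols.symm
  refine ⟨fun k => a' (e k), ?_, ?_⟩
  · intro k k' hkk
    have hkk' : a' (e k) = a' (e k') := hkk
    have h1 : h (e k) = h (e k') := by rw [← ha' (e k), ← ha' (e k'), hkk']
    exact e.injective (hli.injective h1)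
  · have hli' : LinearIndependent K (fun k => h (e k)) := hli.comp e e.injective
    have hN : (Matrix.of fun j k : Fin c => G j (a' (e k))) =
        (Matrix.of fun k => h (e k) : Matrix (Fin c) (Fin c) K)ᵀ := by
      ext j k
      simp only [Matrix.of_apply, Matrix.transpose_apply]
      rw [← ha' (e k)]
      rfl
    rw [hN, Matrix.det_transpose]
    have hunit : IsUnit (Matrix.of fun k => h (e k) : Matrix (Fin c) (Fin c) K) :=
      Matrix.linearIndependent_rows_iff_isUnit.1 hli'
    exact ((Matrix.isUnit_iff_isUnit_det _).1 hunit).ne_zero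

section Omega

variable {A B : Type u} [CommRing A] [CommRing B] [Algebra A B] {n : ℕ}
  (π : MvPolynomial (Fin n) A →ₐ[A] B) (q : Ideal B) [q.IsPrime]

/-- gradient at the point `q` -/
noncomputable def grad (f : MvPolynomial (Fin n) A) : Fin n → q.ResidueField :=
  fun i => algebraMap B q.ResidueField (π (pderiv i f))

theorem grad_add (f g : MvPolynomial (Fin n) A) : grad π q (f + g) = grad π q f + grad π q g := by
  funext i; simp [grad]

theorem grad_sub (f g : MvPolynomial (Fin n) A) : grad π q (f - g) = grad π q f - grad π q g := by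
  funext i; simp [grad]

theorem grad_mul (f g : MvPolynomial (Fin n) A) :
    grad π q (f * g) = algebraMap B q.ResidueField (π f) • grad π q g +
      algebraMap B q.ResidueField (π g) • grad π q f := by
  funext i
  simp only [grad, Derivation.leibniz, smul_eq_mul, map_add, map_mul, Pi.add_apply, Pi.smul_apply]

theorem grad_C (a : A) : grad π q (C a) = 0 := by
  funext i; simp [grad]

theorem grad_X (j : Fin n) : grad π q (X j) = Pi.single j 1 := by
  classical
  funext i
  simp only [grad, pderiv_X, Pi.single_apply]
  by_cases h : i = j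
  · subst h; simp
  · have h' : ¬ j = i := fun h' => h h'.symm
    simp [h, h']

/-- the span of the gradients of the relations -/
noncomputable def W : Submodule q.ResidueField (Fin n → q.ResidueField) :=
  Submodule.span q.ResidueField (grad π q '' (RingHom.ker π : Set (MvPolynomial (Fin n) A)))

noncomputable def Φ : (Fin n → q.ResidueField) →ₗ[q.ResidueField]
    q.ResidueField ⊗[B] Ω[B⁄A] :=
  Fintype.linearCombination q.ResidueField
    (fun i => (1 : q.ResidueField) ⊗ₜ[B] KaehlerDifferential.D A B (π (X i)))

theorem chain (f : MvPolynomial (Fin n) A) :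
    KaehlerDifferential.D A B (π f) =
      ∑ i, π (pderiv i f) • KaehlerDifferential.D A B (π (X i)) := by
  classical
  induction f using MvPolynomial.induction_on with
  | C a => simp [← MvPolynomial.algebraMap_eq]
  | add f g hf hg =>
    simp only [map_add, add_smul, Finset.sum_add_distrib, hf, hg]
  | mul_X f j hf =>
    rw [map_mul, Derivation.leibniz, hf]
    have h1 : ∀ i, π (pderiv i (f * X j)) =
        π f * (if i = j then 1 else 0) + π (X j) * π (pderiv i f) := by
      intro i
      rw [Derivation.leibniz, pderiv_X]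
      simp only [smul_eq_mul, map_add, map_mul, Pi.single_apply]
      by_cases h : i = j
      · subst h; simp
      · have h' : ¬ j = i := fun h' => h h'.symm
        simp [h, h']
    simp only [h1, add_smul, Finset.sum_add_distrib, mul_ite, mul_one, mul_zero, ite_smul,
      zero_smul, Finset.sum_ite_eq', Finset.mem_univ, if_true, Finset.smul_sum, smul_smul]

theorem Φ_grad (f : MvPolynomial (Fin n) A) :
    Φ π q (grad π q f) = (1 : q.ResidueField) ⊗ₜ[B] KaehlerDifferential.D A B (π f) := by
  rw [chain π f, TensorProduct.tmul_sum]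
  simp only [Φ, Fintype.linearCombination_apply, grad]
  refine Finset.sum_congr rfl fun i _ => ?_
  have e1 : ∀ (b : B) (y : Ω[B⁄A]), algebraMap B q.ResidueField b • ((1 : q.ResidueField) ⊗ₜ[B] y) =
      (algebraMap B q.ResidueField b) ⊗ₜ[B] y := by
    intro b y
    rw [TensorProduct.smul_tmul', smul_eq_mul, mul_one]
  have e2 : ∀ (b : B) (y : Ω[B⁄A]), (1 : q.ResidueField) ⊗ₜ[B] (b • y) =
      (algebraMap B q.ResidueField b) ⊗ₜ[B] y := by
    intro b y
    rw [TensorProduct.tmul_smul, TensorProduct.smul_tmul', Algebra.smul_def, mul_one]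
  rw [e1, e2]

theorem span_one_tmul_D (K : Type u) [Field K] [Algebra B K] :
    Submodule.span K (Set.range (fun b : B => (1 : K) ⊗ₜ[B] KaehlerDifferential.D A B b)) = ⊤ := by
  rw [_root_.eq_top_iff]
  rintro x -
  induction x using TensorProduct.induction_on with
  | zero => exact Submodule.zero_mem _
  | add x y hx hy => exact Submodule.add_mem _ hx hy
  | tmul k m =>
    have hm : m ∈ Submodule.span B (Set.range (KaehlerDifferential.D A B)) := by
      rw [KaehlerDifferential.span_range_derivation]; trivial
    induction hm using Submodule.span_induction with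
    | mem m hm =>
      obtain ⟨b, rfl⟩ := hm
      have : k ⊗ₜ[B] KaehlerDifferential.D A B b =
          k • ((1 : K) ⊗ₜ[B] KaehlerDifferential.D A B b) := by
        rw [TensorProduct.smul_tmul', smul_eq_mul, mul_one]
      rw [this]
      exact Submodule.smul_mem _ _ (Submodule.subset_span ⟨b, rfl⟩)
    | zero => rw [TensorProduct.tmul_zero]; exact Submodule.zero_mem _
    | add m₁ m₂ _ _ h₁ h₂ => rw [TensorProduct.tmul_add]; exact Submodule.add_mem _ h₁ h₂
    | smul b m _ h =>
      have : k ⊗ₜ[B] (b • m) = (algebraMap B K b) • (k ⊗ₜ[B] m) := by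
        rw [TensorProduct.smul_tmul', smul_eq_mul, ← TensorProduct.smul_tmul, Algebra.smul_def]
      rw [this]
      exact Submodule.smul_mem _ _ h

theorem Φ_surjective (hπ : Function.Surjective π) : Function.Surjective (Φ π q) := by
  rw [← LinearMap.range_eq_top, _root_.eq_top_iff, ← span_one_tmul_D (A := A) (B := B) q.ResidueField,
    Submodule.span_le]
  rintro _ ⟨b, rfl⟩
  obtain ⟨f, rfl⟩ := hπ b
  exact ⟨grad π q f, Φ_grad π q f⟩

theorem W_le_ker : W π q ≤ LinearMap.ker (Φ π q) := by
  unfold W
  rw [Submodule.span_le]
  rintro _ ⟨f, hf, rfl⟩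
  rw [SetLike.mem_coe, LinearMap.mem_ker, Φ_grad]
  have : π f = 0 := hf
  rw [this, map_zero, TensorProduct.tmul_zero]

/-- the derivation attached to a functional vanishing on `W` -/
theorem exists_derivation (hπ : Function.Surjective π)
    (l : (Fin n → q.ResidueField) →ₗ[q.ResidueField] q.ResidueField)
    (hl : ∀ w ∈ W π q, l w = 0) :
    ∃ δ : Derivation A B q.ResidueField, ∀ f, δ (π f) = l (grad π q f) := by
  let dfun : B → q.ResidueField := fun b => l (grad π q (Function.surjInv hπ b))
  have key : ∀ f, dfun (π f) = l (grad π q f) := by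
    intro f
    have h1 : π (Function.surjInv hπ (π f) - f) = 0 := by
      rw [map_sub, Function.surjInv_eq hπ, sub_self]
    have h2 : grad π q (Function.surjInv hπ (π f) - f) ∈ W π q :=
      Submodule.subset_span ⟨_, h1, rfl⟩
    have h3 := hl _ h2
    rw [grad_sub, map_sub, sub_eq_zero] at h3
    exact h3
  have hadd : ∀ b b', dfun (b + b') = dfun b + dfun b' := by
    intro b b'
    obtain ⟨f, rfl⟩ := hπ b
    obtain ⟨f', rfl⟩ := hπ b'
    rw [← map_add, key, key, key, grad_add, map_add]
  have hsmul : ∀ (a : A) b, dfun (a • b) = a • dfun b := by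
    intro a b
    obtain ⟨f, rfl⟩ := hπ b
    rw [← map_smul, key, key]
    have : grad π q (a • f) = algebraMap B q.ResidueField (algebraMap A B a) • grad π q f := by
      rw [MvPolynomial.smul_eq_C_mul, grad_mul, grad_C, smul_zero, add_zero]
      congr 2
      rw [← MvPolynomial.algebraMap_eq, AlgHom.commutes]
    rw [this, map_smul, smul_eq_mul, Algebra.smul_def, ← IsScalarTower.algebraMap_apply]
  let dlin : B →ₗ[A] q.ResidueField :=
    { toFun := dfun, map_add' := hadd, map_smul' := hsmul }
  refine ⟨Derivation.mk' dlin ?_, key⟩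
  intro b b'
  obtain ⟨f, rfl⟩ := hπ b
  obtain ⟨f', rfl⟩ := hπ b'
  show dfun (π f * π f') = π f • dfun (π f') + π f' • dfun (π f)
  rw [← map_mul, key, key, key, grad_mul, map_add, map_smul, map_smul, smul_eq_mul, smul_eq_mul,
    Algebra.smul_def, Algebra.smul_def]

theorem ker_le_W (hπ : Function.Surjective π) : LinearMap.ker (Φ π q) ≤ W π q := by
  classical
  intro x hx
  by_contra hxW
  obtain ⟨l, hlx, hlW⟩ := Submodule.exists_dual_map_eq_bot_of_notMem hxW inferInstance
  have hl : ∀ w ∈ W π q, l w = 0 := by
    intro w hw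
    have : l w ∈ (W π q).map l := ⟨w, hw, rfl⟩
    rw [hlW] at this
    exact (Submodule.mem_bot _).1 this
  obtain ⟨δ, hδ⟩ := exists_derivation π q hπ l hl
  let L : q.ResidueField ⊗[B] Ω[B⁄A] →ₗ[q.ResidueField] q.ResidueField :=
    LinearMap.liftBaseChange q.ResidueField δ.liftKaehlerDifferential
  have hLΦ : ∀ v, L (Φ π q v) = l v := by
    intro v
    have hv : v = ∑ i, v i • (Pi.single i 1 : Fin n → q.ResidueField) := by
      funext j
      simp [Finset.sum_apply, Pi.single_apply]
    conv_rhs => rw [hv]
    simp only [Φ, Fintype.linearCombination_apply, map_sum, map_smul]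
    refine Finset.sum_congr rfl fun i _ => ?_
    congr 1
    rw [LinearMap.liftBaseChange_tmul, one_smul, Derivation.liftKaehlerDifferential_comp_D, hδ,
      grad_X]
  apply hlx
  rw [← hLΦ, LinearMap.mem_ker.1 hx, map_zero]

theorem finrank_W_add (hπ : Function.Surjective π) :
    Module.finrank q.ResidueField (W π q) +
      Module.finrank q.ResidueField (q.ResidueField ⊗[B] Ω[B⁄A]) = n := by
  have hker : LinearMap.ker (Φ π q) = W π q :=
    le_antisymm (ker_le_W π q hπ) (W_le_ker π q)
  have h1 := LinearMap.finrank_range_add_finrank_ker (Φ π q)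
  rw [LinearMap.range_eq_top.2 (Φ_surjective π q hπ), finrank_top, hker, Module.finrank_fin_fun]
    at h1
  omega

end Omega

theorem main (A B : Type u) [CommRing A] [CommRing B] [Algebra A B] [Algebra.FiniteType A B]
    (q : Ideal B) [q.IsPrime] (r : ℕ)
    (hr : Module.finrank q.ResidueField (q.ResidueField ⊗[B] Ω[B⁄A]) = r) :
    ∃ g : B, g ∉ q ∧ ∃ (D : Type u) (_ : CommRing D) (_ : Algebra A D),
      Algebra.IsStandardSmoothOfRelativeDimension r A D ∧
        ∃ φ : D →ₐ[A] Localization.Away g, Function.Surjective φ := by
  classical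
  obtain ⟨n, π, hπ⟩ := Algebra.FiniteType.iff_quotient_mvPolynomial''.1
    (inferInstance : Algebra.FiniteType A B)
  have hfin := finrank_W_add π q hπ
  unfold W at hfin
  obtain ⟨h, hmem, hspan, hli⟩ := Submodule.exists_fun_fin_finrank_span_eq q.ResidueField
    (grad π q '' (RingHom.ker π : Set (MvPolynomial (Fin n) A)))
  generalize hc : Module.finrank q.ResidueField (Submodule.span q.ResidueField
    (grad π q '' (RingHom.ker π : Set (MvPolynomial (Fin n) A)))) = c at *
  choose f hfker hfgrad using hmem
  have hli' : LinearIndependent q.ResidueField (fun j => grad π q (f j)) := by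
    have : (fun j => grad π q (f j)) = h := funext hfgrad
    rw [this]; exact hli
  obtain ⟨a, ha, hdet⟩ := exists_minor_ne_zero _ hli'
  let Δ : MvPolynomial (Fin n) A := Matrix.det (Matrix.of fun j k : Fin c => pderiv (a k) (f j))
  have hΔ : algebraMap B q.ResidueField (π Δ) ≠ 0 := by
    have : algebraMap B q.ResidueField (π Δ) =
        (Matrix.of fun j k : Fin c => grad π q (f j) (a k)).det := by
      show ((algebraMap B q.ResidueField).comp (π : MvPolynomial (Fin n) A →+* B)) Δ = _
      rw [RingHom.map_det]
      rfl
    rw [this]; exact hdet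
  have hg : π Δ ∉ q := fun hmemq => hΔ ((Ideal.algebraMap_residueField_eq_zero).2 hmemq)
  have hI : ∀ x ∈ Ideal.span (Set.range f), π x = 0 := by
    intro x hx
    have hle : Ideal.span (Set.range f) ≤ RingHom.ker π := by
      rw [Ideal.span_le]
      rintro _ ⟨j, rfl⟩
      exact hfker j
    exact hle hx
  let ψ : (MvPolynomial (Fin n) A ⧸ Ideal.span (Set.range f)) →ₐ[A] B :=
    Ideal.Quotient.liftₐ (Ideal.span (Set.range f)) π hI
  have hψ : Function.Surjective ψ := by
    intro b
    obtain ⟨p, rfl⟩ := hπ b
    exact ⟨Ideal.Quotient.mk _ p, rfl⟩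
  let rr : MvPolynomial (Fin n) A ⧸ Ideal.span (Set.range f) := Ideal.Quotient.mk _ Δ
  have hsm : Algebra.IsStandardSmoothOfRelativeDimension (n - c) A (Localization.Away rr) :=
    isStdSmoothRelDim_of_away_quotient a ha f rr (IsLocalization.Away.algebraMap_isUnit rr)
  have hnc : n - c = r := by omega
  rw [hnc] at hsm
  refine ⟨ψ rr, hg, Localization.Away rr, inferInstance, inferInstance, hsm,
    Localization.awayMapₐ ψ rr, ?_⟩
  exact IsLocalization.Away.mapₐ_surjective_of_surjective rr hψ

end Groth.Agent.Lib.Helper59.StdSmoothNbhd
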