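import Groth.Agent.Lib.Helper22.SmoothDim
import Groth.Agent.Lib.Helper87.SmoothNormal
import Groth.Agent.Lib.Helper73.DimFormula.CMFlat.CMEquidim
import Groth.Agent.Lib.Helper59.StdSmoothNbhd
import Groth.Agent.Lib.Helper59.SmoothDimCrit

/-!
Smoothness over a field at a prime `q` iff `dim Ω ⊗ κ(q) ≤ dim_q` (S2063).
-/

set_option autoImplicit false
set_option linter.style.haveILetI false

universe u

open CategoryTheory AlgebraicGeometry TensorProduct

namespace Groth.Agent.Lib.Helper59.SmoothDimMain

/-- local dimension of the spectrum of a standard smooth algebra over a field -/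
theorem localDim_stdSmooth {k D : Type u} [Field k] [CommRing D] [Algebra k D] (r : ℕ)
    [Algebra.IsStandardSmoothOfRelativeDimension r k D] (p : PrimeSpectrum D) :
    FlatMor.localDim (PrimeSpectrum D) p = (r : WithBot ℕ∞) := by
  let f : Spec (.of D) ⟶ Spec (.of k) := Spec.map (CommRingCat.ofHom (algebraMap k D))
  haveI : Algebra.IsStandardSmooth k D :=
    Algebra.IsStandardSmoothOfRelativeDimension.isStandardSmooth r
  haveI : Algebra.Smooth k D := inferInstance
  haveI : Smooth f :=
    (HasRingHomProperty.Spec_iff (P := @Smooth)).2 (RingHom.smooth_algebraMap.2 inferInstance)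
  have h1 := Groth.Agent.Lib.Helper22.SmoothDim.localDim_eq_add_fibreDimAt_of_smooth f p
  have h2 := Groth.Agent.Lib.Helper22.SmoothDim.fibreDimAt_SpecMap_of_isStandardSmoothOfRelativeDimension
    (algebraMap k D) r ((RingHom.isStandardSmoothOfRelativeDimension_algebraMap r).2 inferInstance) p
  have h3 : FlatMor.localDim (Spec (.of k)) (f.base p) = 0 :=
    Groth.Agent.Lib.Helper36.FibreDimZero.localDim_eq_zero_of_isOpen_singleton _ (by
      show IsOpen ({_} : Set (PrimeSpectrum k))
      exact isOpen_discrete _)
  rw [h2, h3, zero_add] at h1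
  exact h1

theorem main {k S : Type u} [Field k] [CommRing S] [Algebra k S] [Algebra.FiniteType k S]
    (q : Ideal S) [q.IsPrime] :
    Algebra.IsSmoothAt k q ↔
      ((Module.finrank q.ResidueField (q.ResidueField ⊗[S] Ω[S⁄k]) : ℕ∞) : WithBot ℕ∞) ≤
        FlatMor.localDim (PrimeSpectrum S) ⟨q, inferInstance⟩ := by
  haveI : IsNoetherianRing S := Algebra.FiniteType.isNoetherianRing k S
  haveI : Algebra.FinitePresentation k S := Algebra.FinitePresentation.of_finiteType.1 inferInstance
  constructor
  · intro hsm
    haveI : Algebra.IsSmoothAt k q := hsm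
    obtain ⟨f, hfq, hstd⟩ := Algebra.IsSmoothAt.exists_notMem_isStandardSmooth (R := k) q
    obtain ⟨n, hn⟩ : ∃ n, Algebra.IsStandardSmoothOfRelativeDimension n k (Localization.Away f) := by
      obtain ⟨ι, σ, h1, h2, ⟨P⟩⟩ := hstd
      exact ⟨_, ι, σ, h1, h2, P, rfl⟩
    haveI := hn
    rw [SmoothDimCrit.finrank_tensor_kaehler_of_away (k := k) q f hfq n]
    have hj := PrimeSpectrum.localization_away_isOpenEmbedding (Localization.Away f) f
    have hqmem : (⟨q, inferInstance⟩ : PrimeSpectrum S) ∈
        Set.range (PrimeSpectrum.comap (algebraMap S (Localization.Away f))) := by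
      rw [PrimeSpectrum.localization_away_comap_range (Localization.Away f) f]
      exact hfq
    obtain ⟨y, hy⟩ := hqmem
    have h1 := Groth.Agent.Lib.Helper73.localDim_eq_of_isOpenEmbedding hj y
    rw [hy] at h1
    rw [← h1, localDim_stdSmooth (k := k) n y]
    exact le_of_eq rfl
  · intro hle
    obtain ⟨g, hgq, D, _, _, hD, φ, hφ⟩ := StdSmoothNbhd.main k S q
      (Module.finrank q.ResidueField (q.ResidueField ⊗[S] Ω[S⁄k])) rfl
    set r := Module.finrank q.ResidueField (q.ResidueField ⊗[S] Ω[S⁄k]) with hr
    haveI := hD
    haveI : Algebra.IsStandardSmooth k D :=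
      Algebra.IsStandardSmoothOfRelativeDimension.isStandardSmooth r
    haveI : Algebra.Smooth k D := inferInstance
    haveI : Algebra.FiniteType k D := inferInstance
    haveI : Algebra.FinitePresentation S (Localization.Away g) :=
      IsLocalization.Away.finitePresentation g
    haveI : Algebra.FiniteType k (Localization.Away g) :=
      Algebra.FiniteType.trans (inferInstance : Algebra.FiniteType k S) inferInstance
    haveI : IsNoetherianRing (Localization.Away g) :=
      Algebra.FiniteType.isNoetherianRing k (Localization.Away g)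
    have hj := PrimeSpectrum.localization_away_isOpenEmbedding (Localization.Away g) g
    have hqmem : (⟨q, inferInstance⟩ : PrimeSpectrum S) ∈
        Set.range (PrimeSpectrum.comap (algebraMap S (Localization.Away g))) := by
      rw [PrimeSpectrum.localization_away_comap_range (Localization.Away g) g]
      exact hgq
    obtain ⟨y, hy⟩ := hqmem
    have h1 := Groth.Agent.Lib.Helper73.localDim_eq_of_isOpenEmbedding hj y
    rw [hy] at h1
    rw [← h1] at hle
    -- the prime of D
    let y' : PrimeSpectrum D := PrimeSpectrum.comap (φ : D →+* Localization.Away g) y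
    have hy' : y'.asIdeal = y.asIdeal.comap (φ : D →+* Localization.Away g) := rfl
    have h2 := localDim_stdSmooth (k := k) r y'
    rw [Groth.Agent.Lib.Helper73.localDim_primeSpectrum_eq k y] at hle
    rw [Groth.Agent.Lib.Helper73.localDim_primeSpectrum_eq k y'] at h2
    -- quotients agree
    have hquot : Groth.Agent.Lib.Helper73.quotDim y' = Groth.Agent.Lib.Helper73.quotDim y := by
      unfold Groth.Agent.Lib.Helper73.quotDim
      have hbij : Function.Bijective (Ideal.quotientMap y.asIdeal
          (φ : D →+* Localization.Away g) (le_of_eq hy')) :=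
        ⟨Ideal.quotientMap_injective' (le_of_eq hy'.symm), Ideal.quotientMap_surjective hφ⟩
      rw [ringKrullDim_eq_of_ringEquiv (RingEquiv.ofBijective _ hbij)]
    rw [hquot] at h2
    have hheight : y'.asIdeal.height ≤ y.asIdeal.height := by
      have h3 : ((r : ℕ∞) : WithBot ℕ∞) ≤
          ((y.asIdeal.height + (Groth.Agent.Lib.Helper73.quotDim y : ℕ∞) : ℕ∞) : WithBot ℕ∞) := hle
      have h4 : (y'.asIdeal.height + (Groth.Agent.Lib.Helper73.quotDim y : ℕ∞) : ℕ∞) = (r : ℕ∞) := by
        exact_mod_cast h2
      have h5 : (y'.asIdeal.height + (Groth.Agent.Lib.Helper73.quotDim y : ℕ∞) : ℕ∞) ≤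
          y.asIdeal.height + (Groth.Agent.Lib.Helper73.quotDim y : ℕ∞) := by
        rw [h4]; exact_mod_cast h3
      exact (ENat.add_le_add_iff_right (ENat.coe_ne_top _)).1 h5
    haveI hdom : IsDomain (Localization.AtPrime y'.asIdeal) :=
      (Groth.Agent.Lib.Helper87.SmoothNormal.isDomain_and_isIntegrallyClosed k D y'.asIdeal
        (Localization.AtPrime y'.asIdeal)).1
    have hfin : y.asIdeal.height ≠ ⊤ := Ideal.height_ne_top_of_isPrime
    have hbij : Function.Bijective (Localization.localRingHom y'.asIdeal y.asIdeal
        (φ : D →+* Localization.Away g) hy') :=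
      ⟨SmoothDimCrit.localRingHom_injective_of_height_le _ hφ _ _ hy' hfin hheight,
        SmoothDimCrit.localRingHom_surjective _ hφ _ _ hy'⟩
    let ψA : Localization.AtPrime y'.asIdeal →ₐ[k] Localization.AtPrime y.asIdeal :=
      { Localization.localRingHom y'.asIdeal y.asIdeal (φ : D →+* Localization.Away g) hy' with
        commutes' := fun c => by
          show Localization.localRingHom y'.asIdeal y.asIdeal (φ : D →+* Localization.Away g) hy'
            (algebraMap k _ c) = _
          rw [IsScalarTower.algebraMap_apply k D (Localization.AtPrime y'.asIdeal),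
            Localization.localRingHom_to_map,
            IsScalarTower.algebraMap_apply k (Localization.Away g) (Localization.AtPrime y.asIdeal)]
          congr 1
          exact φ.commutes c }
    have hsmD : y' ∈ Algebra.smoothLocus k D := by
      rw [Algebra.smoothLocus_eq_univ]; trivial
    haveI : Algebra.FormallySmooth k (Localization.AtPrime y'.asIdeal) := hsmD
    have hsmT : y ∈ Algebra.smoothLocus k (Localization.Away g) :=
      Algebra.FormallySmooth.of_equiv (AlgEquiv.ofBijective ψA hbij)
    rw [← Algebra.smoothLocus_comap_of_isLocalization g, Set.mem_preimage, hy] at hsmT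
    exact hsmT

end Groth.Agent.Lib.Helper59.SmoothDimMain
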