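import Mathlib

/-!
# Triangular monomial basis: monomials with `X_j`-exponent `< 2` together with `q * monomials`
-/

set_option autoImplicit false
universe u
open MvPolynomial

namespace Groth.Agent.Lib.Helper59.TernBasis

variable {R : Type u} [CommRing R] {σ : Type} [Fintype σ] [DecidableEq σ]

lemma deg_of_coeff_ne {q : MvPolynomial σ R} {k : ℕ} (hq : q.IsHomogeneous k) {a : σ →₀ ℕ}
    (ha : q.coeff a ≠ 0) : a.degree = k := by
  have := hq ha
  rw [← this]
  exact DFunLike.congr_fun Finsupp.degree_eq_weight_one a

/-- A degree-2 exponent with `a j ≥ 2` is `single j 2`. -/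
lemma eq_single_of_degree_two {a : σ →₀ ℕ} (j : σ) (hdeg : a.degree = 2) (hj : 2 ≤ a j) :
    a = Finsupp.single j 2 := by
  rw [Finsupp.degree_eq_sum] at hdeg
  have hsplit := Finset.add_sum_erase Finset.univ (fun i => a i) (Finset.mem_univ j)
  have hrest : ∑ i ∈ Finset.univ.erase j, a i = 0 := by omega
  have haj : a j = 2 := by omega
  ext i
  by_cases hi : i = j
  · subst hi
    simp [haj]
  · rw [Finsupp.single_apply, if_neg (Ne.symm hi)]
    have := (Finset.sum_eq_zero_iff.1 hrest) i (Finset.mem_erase.2 ⟨hi, Finset.mem_univ _⟩)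
    exact this

variable (j : σ) (q : MvPolynomial σ R) (hq : q.IsHomogeneous 2)

include hq in
lemma exp_le_one {a : σ →₀ ℕ} (ha : q.coeff a ≠ 0) (hne : a ≠ Finsupp.single j 2) : a j ≤ 1 := by
  by_contra h
  push Not at h
  exact hne (eq_single_of_degree_two j (deg_of_coeff_ne hq ha) h)

include hq in
/-- top coefficient of `q * g` in the `X_j`-direction -/
lemma coeff_top (g : MvPolynomial σ R) (k : ℕ) (hg : ∀ b, g.coeff b ≠ 0 → b j ≤ k)
    (s : σ →₀ ℕ) (hs : s j = k) :
    (q * g).coeff (s + Finsupp.single j 2) = q.coeff (Finsupp.single j 2) * g.coeff s := by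
  rw [MvPolynomial.coeff_mul]
  rw [Finset.sum_eq_single (Finsupp.single j 2, s)]
  · rintro ⟨a, b⟩ hab hne
    have hab := Finset.HasAntidiagonal.mem_antidiagonal.1 hab
    simp only at hab ⊢
    by_cases ha : q.coeff a = 0
    · rw [ha, zero_mul]
    by_cases hb : g.coeff b = 0
    · rw [hb, mul_zero]
    exfalso
    have hane : a ≠ Finsupp.single j 2 := by
      intro h
      subst h
      apply hne
      have : b = s := by
        have := hab
        rw [add_comm s] at this
        exact add_left_cancel this
      rw [this]
    have h1 := exp_le_one j q hq ha hane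
    have h2 := hg b hb
    have h3 := congrArg (fun f => f j) hab
    simp only [Finsupp.coe_add, Pi.add_apply, Finsupp.single_eq_same] at h3
    omega
  · intro h
    exfalso
    apply h
    exact Finset.HasAntidiagonal.mem_antidiagonal.2 (add_comm _ _)

include hq in
/-- a nonzero `g` gives a monomial of `q * g` with `X_j`-exponent `≥ 2` -/
lemma exists_coeff_ne (hu : IsUnit (q.coeff (Finsupp.single j 2))) {g : MvPolynomial σ R}
    (hg : g ≠ 0) : ∃ t : σ →₀ ℕ, 2 ≤ t j ∧ (q * g).coeff t ≠ 0 := by
  have hne : g.support.Nonempty := by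
    rw [Finset.nonempty_iff_ne_empty]
    intro h
    exact hg (MvPolynomial.support_eq_empty.1 h)
  obtain ⟨s, hs, hsup⟩ := Finset.exists_mem_eq_sup g.support hne (fun b => b j)
  refine ⟨s + Finsupp.single j 2, ?_, ?_⟩
  · simp
  · rw [coeff_top j q hq g (s j) ?_ s rfl]
    · intro h
      have := (hu.mul_right_eq_zero).1 h
      exact (MvPolynomial.mem_support_iff.1 hs) this
    · intro b hb
      rw [← hsup]
      exact Finset.le_sup (f := fun b => b j) (MvPolynomial.mem_support_iff.2 hb)

include hq in
lemma mul_left_injective (hu : IsUnit (q.coeff (Finsupp.single j 2))) :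
    LinearMap.ker (LinearMap.mulLeft R q) = ⊥ := by
  rw [LinearMap.ker_eq_bot']
  intro g hg
  by_contra hne
  obtain ⟨t, _, ht⟩ := exists_coeff_ne j q hq hu hne
  apply ht
  have : q * g = 0 := hg
  rw [this, MvPolynomial.coeff_zero]

variable (n : ℕ)

/-- the first part of the family -/
noncomputable def vA : {m : σ →₀ ℕ // m.degree = n ∧ m j < 2} → MvPolynomial σ R :=
  fun m => MvPolynomial.monomial m.1 (1 : R)

/-- the second part of the family -/
noncomputable def vB : {m : σ →₀ ℕ // m.degree + 2 = n} → MvPolynomial σ R :=
  fun m => q * MvPolynomial.monomial m.1 (1 : R)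

lemma li_A : LinearIndependent R (vA (R := R) j n) := by
  have h := (MvPolynomial.basisMonomials σ R).linearIndependent
  have h2 := h.comp (fun m : {m : σ →₀ ℕ // m.degree = n ∧ m j < 2} => m.1)
    Subtype.val_injective
  have : vA (R := R) j n = (MvPolynomial.basisMonomials σ R) ∘
      (fun m : {m : σ →₀ ℕ // m.degree = n ∧ m j < 2} => m.1) := by
    funext m
    simp [vA, MvPolynomial.coe_basisMonomials]
  rw [this]
  exact h2

include hq in
lemma li_B (hu : IsUnit (q.coeff (Finsupp.single j 2))) : LinearIndependent R (vB q n) := by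
  have h := (MvPolynomial.basisMonomials σ R).linearIndependent
  have h2 := h.comp (fun m : {m : σ →₀ ℕ // m.degree + 2 = n} => m.1)
    Subtype.val_injective
  have h3 := h2.map' (LinearMap.mulLeft R q) (mul_left_injective j q hq hu)
  have : vB q n = (LinearMap.mulLeft R q) ∘ (MvPolynomial.basisMonomials σ R) ∘
      (fun m : {m : σ →₀ ℕ // m.degree + 2 = n} => m.1) := by
    funext m
    simp [vB, MvPolynomial.coe_basisMonomials]
  rw [this]
  exact h3

lemma span_A_le : Submodule.span R (Set.range (vA (R := R) j n)) ≤
    MvPolynomial.restrictSupport R {s : σ →₀ ℕ | s j < 2} := by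
  rw [Submodule.span_le]
  rintro _ ⟨m, rfl⟩
  rw [SetLike.mem_coe, MvPolynomial.mem_restrictSupport_iff]
  intro s hs
  rw [Finset.mem_coe, MvPolynomial.mem_support_iff, vA, MvPolynomial.coeff_monomial] at hs
  split_ifs at hs with h
  · rw [← h]
    exact m.2.2
  · exact absurd rfl hs

lemma span_B_le : Submodule.span R (Set.range (vB q n)) ≤
    LinearMap.range (LinearMap.mulLeft R q) := by
  rw [Submodule.span_le]
  rintro _ ⟨m, rfl⟩
  exact ⟨_, rfl⟩

include hq in
lemma disjoint_AB (hu : IsUnit (q.coeff (Finsupp.single j 2))) :
    Disjoint (Submodule.span R (Set.range (vA (R := R) j n)))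
      (Submodule.span R (Set.range (vB q n))) := by
  rw [Submodule.disjoint_def]
  intro x hxA hxB
  have h1 := span_A_le j n hxA
  obtain ⟨g, rfl⟩ := span_B_le q n hxB
  rw [MvPolynomial.mem_restrictSupport_iff] at h1
  by_contra hne
  have hg : g ≠ 0 := by
    rintro rfl
    apply hne
    simp
  obtain ⟨t, ht2, ht⟩ := exists_coeff_ne j q hq hu hg
  have : t ∈ {s : σ →₀ ℕ | s j < 2} := h1 (by
    rw [Finset.mem_coe, MvPolynomial.mem_support_iff]
    exact ht)
  simp only [Set.mem_ofPred_eq] at this
  omega

include hq in
theorem li (hu : IsUnit (q.coeff (Finsupp.single j 2))) :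
    LinearIndependent R (Sum.elim (vA (R := R) j n) (vB q n)) :=
  LinearIndependent.sum_type (li_A j n) (li_B j q hq n hu) (disjoint_AB j q hq n hu)

/-! ### spanning -/

include hq in
lemma span_le : Submodule.span R (Set.range (Sum.elim (vA (R := R) j n) (vB q n))) ≤
    MvPolynomial.homogeneousSubmodule σ R n := by
  rw [Submodule.span_le]
  rintro _ ⟨m | m, rfl⟩
  · exact MvPolynomial.isHomogeneous_monomial _ m.2.1
  · have h := hq.mul (MvPolynomial.isHomogeneous_monomial (1 : R) (rfl : m.1.degree = m.1.degree))
    have hn : 2 + m.1.degree = n := by rw [add_comm]; exact m.2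
    rw [hn] at h
    exact h

include hq in
/-- every monomial of degree `n` lies in the span -/
lemma monomial_mem (hu : IsUnit (q.coeff (Finsupp.single j 2))) :
    ∀ (k : ℕ) (m : σ →₀ ℕ), m.degree = n → m j = k →
      MvPolynomial.monomial m (1 : R) ∈
        Submodule.span R (Set.range (Sum.elim (vA (R := R) j n) (vB q n))) := by
  intro k
  induction k using Nat.strong_induction_on with
  | _ k ih =>
    intro m hm hk
    by_cases hk2 : k < 2
    · apply Submodule.subset_span
      exact ⟨Sum.inl ⟨m, hm, by omega⟩, rfl⟩
    · push Not at hk2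
      -- m = m' + 2 e_j
      set m' : σ →₀ ℕ := m - Finsupp.single j 2 with hm'
      have hmm : m = m' + Finsupp.single j 2 := by
        ext i
        by_cases hi : i = j
        · subst hi
          simp [hm']
          omega
        · simp [hm', Finsupp.single_apply, Ne.symm hi]
      have hdeg' : m'.degree + 2 = n := by
        rw [← hm, hmm, map_add, Finsupp.degree_single]
      obtain ⟨u, hu'⟩ := hu
      -- q * monomial m' 1 = sum over support
      have hB : q * MvPolynomial.monomial m' (1 : R) ∈
          Submodule.span R (Set.range (Sum.elim (vA (R := R) j n) (vB q n))) := by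
        apply Submodule.subset_span
        exact ⟨Sum.inr ⟨m', hdeg'⟩, rfl⟩
      have hexp : q * MvPolynomial.monomial m' (1 : R) =
          ∑ a ∈ q.support, q.coeff a • MvPolynomial.monomial (a + m') (1 : R) := by
        conv_lhs => rw [q.as_sum]
        rw [Finset.sum_mul]
        refine Finset.sum_congr rfl fun a _ => ?_
        rw [MvPolynomial.monomial_mul, mul_one, MvPolynomial.smul_monomial, smul_eq_mul, mul_one]
      -- all terms other than a = single j 2 are in the span by induction
      have hrest : ∀ a ∈ q.support, a ≠ Finsupp.single j 2 →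
          q.coeff a • MvPolynomial.monomial (a + m') (1 : R) ∈
            Submodule.span R (Set.range (Sum.elim (vA (R := R) j n) (vB q n))) := by
        intro a ha hane
        apply Submodule.smul_mem
        have ha' := MvPolynomial.mem_support_iff.1 ha
        have h1 := exp_le_one j q hq ha' hane
        have hmj : m' j = k - 2 := by simp [hm', hk]
        refine ih ((a + m') j) ?_ (a + m') ?_ rfl
        · simp only [Finsupp.coe_add, Pi.add_apply]
          omega
        · rw [map_add, deg_of_coeff_ne hq ha', add_comm]
          exact hdeg'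
      have hmain : (u : R) • MvPolynomial.monomial m (1 : R) ∈
          Submodule.span R (Set.range (Sum.elim (vA (R := R) j n) (vB q n))) := by
        by_cases hmem : Finsupp.single j 2 ∈ q.support
        · rw [← Finset.add_sum_erase _ _ hmem] at hexp
          have : (u : R) • MvPolynomial.monomial m (1 : R) =
              q * MvPolynomial.monomial m' (1 : R) -
                ∑ a ∈ q.support.erase (Finsupp.single j 2),
                  q.coeff a • MvPolynomial.monomial (a + m') (1 : R) := by
            rw [hexp, add_sub_cancel_right, hu', hmm, add_comm m']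
          rw [this]
          refine Submodule.sub_mem _ hB (Submodule.sum_mem _ fun a ha => ?_)
          rw [Finset.mem_erase] at ha
          exact hrest a ha.2 ha.1
        · have h0 : q.coeff (Finsupp.single j 2) = 0 := by
            rwa [MvPolynomial.mem_support_iff, not_not] at hmem
          rw [hu', h0, zero_smul]
          exact Submodule.zero_mem _
      have := Submodule.smul_mem _ ((u⁻¹ : Rˣ) : R) hmain
      rwa [smul_smul, Units.inv_mul, one_smul] at this

include hq in
theorem span_eq (hu : IsUnit (q.coeff (Finsupp.single j 2))) :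
    Submodule.span R (Set.range (Sum.elim (vA (R := R) j n) (vB q n))) =
      MvPolynomial.homogeneousSubmodule σ R n := by
  apply le_antisymm (span_le j q hq n)
  intro f hf
  rw [MvPolynomial.mem_homogeneousSubmodule] at hf
  rw [f.as_sum]
  refine Submodule.sum_mem _ fun s hs => ?_
  have hs' := MvPolynomial.mem_support_iff.1 hs
  have : MvPolynomial.monomial s (f.coeff s) = f.coeff s • MvPolynomial.monomial s (1 : R) := by
    rw [MvPolynomial.smul_monomial, smul_eq_mul, mul_one]
  rw [this]
  exact Submodule.smul_mem _ _ (monomial_mem j q hq n hu (s j) s (deg_of_coeff_ne hf hs') rfl)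

end Groth.Agent.Lib.Helper59.TernBasis
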