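import Mathlib
import Groth.Agent.Lib.Helper59.PowEtale
import Groth.Agent.S5038
import Groth.Prelude.Def_AbDual

/-! Torsion points of smooth commutative group schemes over a henselian local ring lift uniquely
from the residue field when the order is invertible (helper59). -/

set_option autoImplicit false
universe u
open CategoryTheory CategoryTheory.Limits AlgebraicGeometry MonoidalCategory
  CartesianMonoidalCategory MonObj

namespace Groth.Agent.Lib.Helper59.TorsLift

open scoped Obj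
open Groth.Agent.Lib.Helper59.PowEtale

variable (R : Type u) [CommRing R]

/-- the closed point inclusion -/
noncomputable abbrev ik [IsLocalRing R] : Spec (CommRingCat.of (IsLocalRing.ResidueField R)) ⟶
    Spec (CommRingCat.of R) :=
  Spec.map (CommRingCat.ofHom (IsLocalRing.residue R))

variable {R}

lemma ik_apply [IsLocalRing R] (pt : Spec (CommRingCat.of (IsLocalRing.ResidueField R))) :
    (ik R).base pt = IsLocalRing.closedPoint R := by
  have h : pt = IsLocalRing.closedPoint (IsLocalRing.ResidueField R) := Subsingleton.elim _ _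
  rw [h]
  exact IsLocalRing.comap_closedPoint (IsLocalRing.residue R)

/-- two maps from a local scheme into an unramified scheme that agree after composing and at the
closed point are equal -/
lemma eq_of_unramified [IsLocalRing R] {Y Z : Scheme.{u}} (f : Y ⟶ Z) [FormallyUnramified f]
    [LocallyOfFiniteType f] (a b : Spec (CommRingCat.of R) ⟶ Y) (h1 : a ≫ f = b ≫ f)
    (h2 : ik R ≫ a = ik R ≫ b) : a = b := by
  let c : Spec (CommRingCat.of R) ⟶ pullback f f := pullback.lift a b h1
  have hc : ik R ≫ c = (ik R ≫ a) ≫ pullback.diagonal f := by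
    apply pullback.hom_ext
    · simp only [c, Category.assoc, pullback.lift_fst, pullback.diagonal_fst, Category.comp_id]
    · simp only [c, Category.assoc, pullback.lift_snd, pullback.diagonal_snd, Category.comp_id]
      exact h2.symm
  let V : (Spec (CommRingCat.of R)).Opens := c ⁻¹ᵁ (pullback.diagonal f).opensRange
  have hV : IsLocalRing.closedPoint R ∈ V := by
    let pt : Spec (CommRingCat.of (IsLocalRing.ResidueField R)) :=
      IsLocalRing.closedPoint (IsLocalRing.ResidueField R)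
    rw [← ik_apply pt]
    change c.base ((ik R).base pt) ∈ Set.range (pullback.diagonal f).base
    have : c.base ((ik R).base pt) = (ik R ≫ c).base pt := rfl
    rw [this, hc]
    exact ⟨(ik R ≫ a).base pt, rfl⟩
  have hVtop : V = ⊤ := (IsLocalRing.closedPoint_mem_iff (R := R) V).mp hV
  have hrange : Set.range c.base ⊆ Set.range (pullback.diagonal f).base := by
    rintro _ ⟨x, rfl⟩
    have : x ∈ V := by rw [hVtop]; trivial
    exact this
  let l := IsOpenImmersion.lift (pullback.diagonal f) c hrange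
  have hl : l ≫ pullback.diagonal f = c := IsOpenImmersion.lift_fac _ _ _
  have ha : a = l := by
    have : c ≫ pullback.fst f f = a := pullback.lift_fst _ _ _
    rw [← this, ← hl, Category.assoc, pullback.diagonal_fst, Category.comp_id]
  have hb : b = l := by
    have : c ≫ pullback.snd f f = b := pullback.lift_snd _ _ _
    rw [← this, ← hl, Category.assoc, pullback.diagonal_snd, Category.comp_id]
  rw [ha, hb]

section main

variable [HenselianLocalRing R]
  (G : Over (Spec (CommRingCat.of R))) [GrpObj G] [IsCommMonObj G] [Smooth G.hom]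

/-- the unit power map is étale -/
theorem etale_pow_of_isUnit (N : ℕ) (hN : IsUnit (N : R)) :
    Etale ((𝟙 G : G ⟶ G) ^ N).left := by
  refine etale_pow G (fun s => inferInstance) N fun s => ?_
  refine natCast_ne_zero_of_isUnit N ?_ s
  have h := hN.map (Scheme.ΓSpecIso (CommRingCat.of R)).inv.hom
  rwa [map_natCast] at h

/-- `Spec R`-points, as the statement writes them -/
noncomputable abbrev TS : Over (Spec (CommRingCat.of R)) := Over.mk (𝟙 (Spec (CommRingCat.of R)))

/-- residue-field points -/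
noncomputable abbrev Tk : Over (Spec (CommRingCat.of R)) := Over.mk (ik R)

/-- the closed point as a morphism over `Spec R` -/
noncomputable abbrev j : Tk (R := R) ⟶ TS (R := R) := Over.homMk (ik R) (Category.comp_id _)

/-- any residue point lifts -/
lemma exists_lift (τ : Tk (R := R) ⟶ G) : ∃ σ₀ : TS (R := R) ⟶ G, j ≫ σ₀ = τ := by
  obtain ⟨u, hu1, hu2⟩ := Groth.Agent.S5038.result R G.hom τ.left (Over.w τ)
  refine ⟨Over.homMk u (by simpa using hu1), ?_⟩
  ext
  simpa using hu2

/-- existence of an `N`-th root of a point that is trivial at the closed point -/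
lemma exists_root (N : ℕ) (hN : IsUnit (N : R)) (ρ : TS (R := R) ⟶ G) (hρ : j ≫ ρ = 1) :
    ∃ δ : TS (R := R) ⟶ G, δ ^ N = ρ ∧ j ≫ δ = 1 := by
  obtain ⟨uN, huN⟩ : ∃ uN : G ⟶ G, uN = (𝟙 G : G ⟶ G) ^ N := ⟨_, rfl⟩
  haveI : Etale uN.left := by rw [huN]; exact etale_pow_of_isUnit G N hN
  have h1 : (1 : Tk (R := R) ⟶ G) ≫ uN = 1 := by
    rw [huN, MonObj.comp_pow, Category.comp_id, one_pow]
  have hcond : (1 : Tk (R := R) ⟶ G).left ≫ uN.left = ik R ≫ ρ.left := by
    have e1 : (1 : Tk (R := R) ⟶ G).left ≫ uN.left = ((1 : Tk (R := R) ⟶ G) ≫ uN).left := rfl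
    have e2 : ik R ≫ ρ.left = (j ≫ ρ).left := rfl
    rw [e1, e2, h1, hρ]
  let kpt : Spec (CommRingCat.of (IsLocalRing.ResidueField R)) ⟶ pullback uN.left ρ.left :=
    pullback.lift (1 : Tk (R := R) ⟶ G).left (ik R) hcond
  obtain ⟨δP, hδ1, hδ2⟩ := Groth.Agent.S5038.result R (pullback.snd uN.left ρ.left) kpt
    (pullback.lift_snd _ _ _)
  have hρw : ρ.left ≫ G.hom = 𝟙 _ := Over.w ρ
  have hδw : (δP ≫ pullback.fst uN.left ρ.left) ≫ G.hom = 𝟙 _ := by
    rw [Category.assoc, ← Over.w uN, ← Category.assoc (pullback.fst _ _), pullback.condition,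
      Category.assoc, hρw, Category.comp_id, hδ1]
  obtain ⟨δ, hδdef⟩ : ∃ δ : TS (R := R) ⟶ G,
      δ = Over.homMk (δP ≫ pullback.fst uN.left ρ.left) (by simpa using hδw) := ⟨_, rfl⟩
  have hδl : δ.left = δP ≫ pullback.fst uN.left ρ.left := by rw [hδdef]; rfl
  refine ⟨δ, ?_, ?_⟩
  · have e : δ ≫ uN = ρ := by
      ext
      rw [Over.comp_left, hδl, Category.assoc, pullback.condition, ← Category.assoc, hδ1]
      exact Category.id_comp _
    have e2 : δ ^ N = δ ≫ uN := by rw [huN, MonObj.comp_pow, Category.comp_id]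
    rw [e2, e]
  · ext
    rw [Over.comp_left, hδl]
    change ik R ≫ δP ≫ pullback.fst uN.left ρ.left = _
    rw [← Category.assoc, hδ2]
    exact pullback.lift_fst _ _ _

/-- a torsion point trivial at the closed point is trivial -/
lemma eq_one_of_pow_eq_one (N : ℕ) (hN : IsUnit (N : R)) (d : TS (R := R) ⟶ G) (hd : d ^ N = 1)
    (hd' : j ≫ d = 1) : d = 1 := by
  obtain ⟨uN, huN⟩ : ∃ uN : G ⟶ G, uN = (𝟙 G : G ⟶ G) ^ N := ⟨_, rfl⟩
  haveI : Etale uN.left := by rw [huN]; exact etale_pow_of_isUnit G N hN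
  haveI : LocallyOfFiniteType uN.left := inferInstance
  have h1 : d ≫ uN = (1 : TS (R := R) ⟶ G) ≫ uN := by
    rw [huN, MonObj.comp_pow, MonObj.comp_pow, Category.comp_id, Category.comp_id, hd, one_pow]
  have h2 : j ≫ d = j ≫ (1 : TS (R := R) ⟶ G) := by
    rw [hd', MonObj.comp_one]
  ext
  refine eq_of_unramified uN.left d.left (1 : TS (R := R) ⟶ G).left ?_ ?_
  · exact congrArg (fun f => f.left) h1
  · exact congrArg (fun f => f.left) h2

/-- **Main**: unique lifting of torsion points. -/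
theorem existsUnique_lift (N : ℕ) (hN : IsUnit (N : R)) (τ : Tk (R := R) ⟶ G) (hτ : τ ^ N = 1) :
    ∃! σ : TS (R := R) ⟶ G, σ ^ N = 1 ∧ j ≫ σ = τ := by
  obtain ⟨σ₀, hσ₀⟩ := exists_lift G τ
  have hρ : j ≫ σ₀ ^ N = 1 := by rw [MonObj.comp_pow, hσ₀, hτ]
  obtain ⟨δ, hδ1, hδ2⟩ := exists_root G N hN (σ₀ ^ N) hρ
  refine ⟨σ₀ * δ⁻¹, ⟨?_, ?_⟩, ?_⟩
  · rw [mul_pow, inv_pow, hδ1, mul_inv_cancel]
  · rw [MonObj.comp_mul, GrpObj.comp_inv, hσ₀, hδ2, inv_one, _root_.mul_one]
  · rintro σ' ⟨h1, h2⟩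
    have hd : (σ' * (σ₀ * δ⁻¹)⁻¹) ^ N = 1 := by
      rw [mul_pow, inv_pow, mul_pow, inv_pow, hδ1, mul_inv_cancel, h1, inv_one, _root_.mul_one]
    have hd' : j ≫ (σ' * (σ₀ * δ⁻¹)⁻¹) = 1 := by
      rw [MonObj.comp_mul, GrpObj.comp_inv, MonObj.comp_mul, GrpObj.comp_inv, h2, hσ₀, hδ2,
        inv_one, _root_.mul_one, mul_inv_cancel]
    have := eq_one_of_pow_eq_one G N hN _ hd hd'
    exact mul_inv_eq_one.mp this

/-- the form of S19658 -/
theorem main' (N : ℕ) (hN : IsUnit (N : R)) (τ : Tk (R := R) ⟶ G)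
    (hτ : τ ∈ AbDual.torsPts G N (Tk (R := R))) :
    ∃! σ : TS (R := R) ⟶ G, σ ∈ AbDual.torsPts G N (TS (R := R)) ∧ j ≫ σ = τ := by
  have hτ' : τ ^ N = 1 := (AbDual.mem_torsPts G τ).mp hτ
  obtain ⟨σ, ⟨h1, h2⟩, huniq⟩ := existsUnique_lift G N hN τ hτ'
  refine ⟨σ, ⟨(AbDual.mem_torsPts G σ).mpr h1, h2⟩, ?_⟩
  rintro σ' ⟨h1', h2'⟩
  exact huniq σ' ⟨(AbDual.mem_torsPts G σ').mp h1', h2'⟩

end main

end Groth.Agent.Lib.Helper59.TorsLift
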