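import Mathlib
import Groth.Agent.Lib.Helper81.GoodQuot
import Groth.Agent.Lib.Helper79.KPoint

/-!
# Translations of an abelian variety preserving the complement of an affine open
-/

set_option autoImplicit false
set_option linter.style.haveILetI false
universe u
open CategoryTheory CategoryTheory.Limits MonoidalCategory CartesianMonoidalCategory MonObj
  AlgebraicGeometry

namespace Groth.Agent.Lib.Helper59.TransStab

variable {k : Type u} [Field k] {A : Over (Spec (CommRingCat.of k))} [GrpObj A]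

instance : Nonempty ↥(𝟙_ (Over (Spec (CommRingCat.of k)))).left :=
  inferInstanceAs (Nonempty (PrimeSpectrum k))

/-- the point of `Spec k` -/
noncomputable def o : ↥(𝟙_ (Over (Spec (CommRingCat.of k)))).left := Classical.arbitrary _

/-- the image point of a rational point -/
noncomputable def pt (x : 𝟙_ (Over (Spec (CommRingCat.of k))) ⟶ A) : ↥A.left := x.left o

/-- right translation -/
noncomputable def T (x : 𝟙_ (Over (Spec (CommRingCat.of k))) ⟶ A) : A ⟶ A :=
  𝟙 A * (toUnit A ≫ x)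

/-- left translation -/
noncomputable def L (x : 𝟙_ (Over (Spec (CommRingCat.of k))) ⟶ A) : A ⟶ A :=
  (toUnit A ≫ x) * 𝟙 A

/-- inversion -/
noncomputable def Inv : A ⟶ A := (𝟙 A)⁻¹

lemma comp_T (y x : 𝟙_ (Over (Spec (CommRingCat.of k))) ⟶ A) : y ≫ T x = y * x := by
  rw [T, MonObj.comp_mul, Category.comp_id, ← Category.assoc,
    toUnit_unique (y ≫ toUnit A) (𝟙 _), Category.id_comp]

lemma comp_L (y x : 𝟙_ (Over (Spec (CommRingCat.of k))) ⟶ A) : y ≫ L x = x * y := by
  rw [L, MonObj.comp_mul, Category.comp_id, ← Category.assoc,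
    toUnit_unique (y ≫ toUnit A) (𝟙 _), Category.id_comp]

lemma comp_Inv (y : 𝟙_ (Over (Spec (CommRingCat.of k))) ⟶ A) : y ≫ Inv = y⁻¹ := by
  rw [Inv, GrpObj.comp_inv, Category.comp_id]

lemma pt_T (y x : 𝟙_ (Over (Spec (CommRingCat.of k))) ⟶ A) : (T x).left (pt y) = pt (y * x) := by
  rw [pt, pt, ← Scheme.Hom.comp_apply, ← Over.comp_left, comp_T]

lemma pt_L (y x : 𝟙_ (Over (Spec (CommRingCat.of k))) ⟶ A) : (L x).left (pt y) = pt (x * y) := by
  rw [pt, pt, ← Scheme.Hom.comp_apply, ← Over.comp_left, comp_L]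

lemma pt_Inv (y : 𝟙_ (Over (Spec (CommRingCat.of k))) ⟶ A) : (Inv (A := A)).left (pt y) = pt y⁻¹ := by
  rw [pt, pt, ← Scheme.Hom.comp_apply, ← Over.comp_left, comp_Inv]

lemma T_comp (x y : 𝟙_ (Over (Spec (CommRingCat.of k))) ⟶ A) : T x ≫ T y = T (x * y) := by
  have h : T x ≫ toUnit A = toUnit A := toUnit_unique _ _
  have e1 : T x ≫ T y = T x * (toUnit A ≫ y) := by
    conv_lhs => rw [show T y = 𝟙 A * (toUnit A ≫ y) from rfl]
    rw [MonObj.comp_mul, Category.comp_id, ← Category.assoc, h]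
  rw [e1, T, T, MonObj.comp_mul, _root_.mul_assoc]

lemma T_one : T (1 : 𝟙_ (Over (Spec (CommRingCat.of k))) ⟶ A) = 𝟙 A := by
  rw [T, MonObj.comp_one, _root_.mul_one]

/-- a nonempty closed subset of a scheme locally of finite type over an algebraically closed field
contains a rational point -/
theorem exists_kpoint_mem [IsAlgClosed k] (A : Over (Spec (CommRingCat.of k)))
    [LocallyOfFiniteType A.hom] (C : Set ↥A.left) (hC : IsClosed C) (hne : C.Nonempty) :
    ∃ x : 𝟙_ (Over (Spec (CommRingCat.of k))) ⟶ A, pt x ∈ C := by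
  let I := Scheme.IdealSheafData.vanishingIdeal ⟨C, hC⟩
  have hr : Set.range I.subschemeι = C := by
    rw [I.range_subschemeι]
    simp [I]
  haveI : Nonempty ↥I.subscheme := by
    obtain ⟨c, hc⟩ := hne
    rw [← hr] at hc
    obtain ⟨w, -⟩ := hc
    exact ⟨w⟩
  haveI : LocallyOfFiniteType (I.subschemeι ≫ A.hom) := inferInstance
  obtain ⟨σ, hσ⟩ := Groth.Agent.Lib.Helper79.exists_section_of_lft (I.subschemeι ≫ A.hom)
  refine ⟨Over.homMk (σ ≫ I.subschemeι) (by rw [Category.assoc]; exact hσ), ?_⟩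
  rw [← hr]
  exact ⟨σ o, rfl⟩

/-- a closed subset of a proper scheme over a field contained in an affine open is finite -/
theorem finite_of_closed_subset_affine (A : Over (Spec (CommRingCat.of k))) [IsProper A.hom]
    (Z : Set ↥A.left) (hZ : IsClosed Z) (U : A.left.Opens) (hU : IsAffineOpen U)
    (hZU : Z ⊆ (U : Set ↥A.left)) : Z.Finite := by
  let I := Scheme.IdealSheafData.vanishingIdeal ⟨Z, hZ⟩
  have hr : Set.range I.subschemeι = Z := by
    rw [I.range_subschemeι]
    simp [I]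
  let j : I.subscheme ⟶ U.toScheme := IsOpenImmersion.lift U.ι I.subschemeι (by
    rw [hr, Scheme.Opens.range_ι]
    exact hZU)
  have hj : j ≫ U.ι = I.subschemeι := IsOpenImmersion.lift_fac _ _ _
  haveI : IsClosedImmersion (j ≫ U.ι) := by rw [hj]; infer_instance
  haveI : IsClosedImmersion j := IsClosedImmersion.of_comp j U.ι
  haveI : IsAffine U.toScheme := hU
  haveI : IsAffine I.subscheme := isAffine_of_isAffineHom j
  let p := I.subschemeι ≫ A.hom
  haveI : IsProper p := inferInstance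
  haveI : IsAffineHom p := inferInstance
  haveI : IsFinite p := IsFinite.iff_isProper_and_isAffineHom.mpr ⟨‹_›, ‹_›⟩
  have hfin : (Set.univ : Set ↥I.subscheme).Finite := by
    haveI : Subsingleton ↥(Spec (CommRingCat.of k)) :=
      inferInstanceAs (Subsingleton (PrimeSpectrum k))
    obtain ⟨s₀⟩ : Nonempty ↥(Spec (CommRingCat.of k)) :=
      inferInstanceAs (Nonempty (PrimeSpectrum k))
    have := p.finite_preimage_singleton s₀
    refine this.subset ?_
    intro w _
    exact Subsingleton.elim _ _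
  rw [← hr, ← Set.image_univ]
  exact hfin.image _

/-- main theorem -/
theorem main [IsAlgClosed k] [IsProper A.hom] (U : A.left.Opens) (hU : IsAffineOpen U)
    (he : pt (1 : 𝟙_ (Over (Spec (CommRingCat.of k))) ⟶ A) ∈ U) :
    Set.Finite {x : 𝟙_ (Over (Spec (CommRingCat.of k))) ⟶ A |
      (T x).left.base ⁻¹' ((U : Set ↥A.left)ᶜ) = (U : Set ↥A.left)ᶜ} := by
  set D : Set ↥A.left := (U : Set ↥A.left)ᶜ with hD
  have hDc : IsClosed D := U.isOpen.isClosed_compl
  set S := {x : 𝟙_ (Over (Spec (CommRingCat.of k))) ⟶ A | (T x).left.base ⁻¹' D = D} with hS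
  have hmem : ∀ x ∈ S, ∀ z : ↥A.left, (T x).left z ∈ D ↔ z ∈ D := by
    intro x hx z
    have : z ∈ (T x).left.base ⁻¹' D ↔ z ∈ D := by rw [hx]
    exact this
  have he' : pt (1 : 𝟙_ (Over (Spec (CommRingCat.of k))) ⟶ A) ∉ D := fun h => h he
  have hinvS : ∀ x ∈ S, x⁻¹ ∈ S := by
    intro x hx
    show (T x⁻¹).left.base ⁻¹' D = D
    ext z
    have h1 : (T x).left ((T x⁻¹).left z) = z := by
      rw [← Scheme.Hom.comp_apply, ← Over.comp_left, T_comp, inv_mul_cancel, T_one]
      rfl
    have h2 := hmem x hx ((T x⁻¹).left z)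
    rw [h1] at h2
    exact h2.symm
  set Z := closure (pt '' S) with hZ
  have hinvZ : ∀ z ∈ Z, (Inv (A := A)).left z ∈ Z := by
    have : pt '' S ⊆ (Inv (A := A)).left ⁻¹' Z := by
      rintro _ ⟨x, hx, rfl⟩
      show (Inv (A := A)).left (pt x) ∈ Z
      rw [pt_Inv]
      exact subset_closure ⟨x⁻¹, hinvS x hx, rfl⟩
    exact closure_minimal this (isClosed_closure.preimage (Inv (A := A)).left.continuous)
  have hZU : Z ⊆ (U : Set ↥A.left) := by
    by_contra hcon
    rw [Set.not_subset] at hcon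
    obtain ⟨z, hz, hzU⟩ := hcon
    obtain ⟨z₀, hz₀⟩ := exists_kpoint_mem A (Z ∩ D) (isClosed_closure.inter hDc) ⟨z, hz, hzU⟩
    have h1 : pt '' S ⊆ (L z₀).left ⁻¹' D := by
      rintro _ ⟨x, hx, rfl⟩
      show (L z₀).left (pt x) ∈ D
      rw [pt_L, ← pt_T]
      exact (hmem x hx _).mpr hz₀.2
    have h2 : Z ⊆ (L z₀).left ⁻¹' D :=
      closure_minimal h1 (hDc.preimage (L z₀).left.continuous)
    have h3 := hinvZ _ hz₀.1
    rw [pt_Inv] at h3
    have h4 : (L z₀).left (pt z₀⁻¹) ∈ D := h2 h3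
    rw [pt_L, mul_inv_cancel] at h4
    exact he' h4
  have hZfin := finite_of_closed_subset_affine A Z isClosed_closure U hU hZU
  refine Set.Finite.of_finite_image (hZfin.subset (subset_closure : pt '' S ⊆ Z)) ?_
  intro x _ y _ hxy
  exact Groth.Agent.Lib.Helper81.GoodQuot.point_ext k x y ⟨o, o, hxy⟩

end Groth.Agent.Lib.Helper59.TransStab
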