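import Groth.Agent.S15078
import Mathlib

/-!
# Translates of hypersurfaces are finite over affine space (helper59; extends helper91's S15078)
-/

set_option autoImplicit false
universe u v

namespace Groth.Agent.Lib.Helper59.TranslateFinite

open Polynomial

theorem finite_injective_of_isUnit_leadingCoeff {R : Type*} [CommRing R] [IsDomain R]
    (F : R[X]) (hu : IsUnit F.leadingCoeff) (hd : 1 ≤ F.natDegree) :
    Module.Finite R (R[X] ⧸ Ideal.span {F}) ∧
      Function.Injective ((Ideal.Quotient.mk (Ideal.span {F})).comp (algebraMap R R[X])) := by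
  constructor
  · obtain ⟨u, hu'⟩ := hu
    have hmonic : (C (↑u⁻¹ : R) * F).Monic :=
      monic_C_mul_of_mul_leadingCoeff_eq_one (by rw [← hu']; exact u.inv_mul)
    have hspan : Ideal.span {C (↑u⁻¹ : R) * F} = Ideal.span {F} :=
      Ideal.span_singleton_mul_left_unit (isUnit_C.mpr (Units.isUnit _)) F
    have h1 : Module.Finite R (R[X] ⧸ Ideal.span {C (↑u⁻¹ : R) * F}) :=
      hmonic.finite_adjoinRoot
    exact Module.Finite.equiv (Ideal.quotientEquivAlgOfEq R hspan).toLinearEquiv
  · have hdeg : F.degree ≠ 0 := by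
      intro h
      have := natDegree_eq_zero_iff_degree_le_zero.mpr h.le
      omega
    exact AdjoinRoot.of.injective_of_degree_ne_zero hdeg

theorem strong {k : Type u} [Field k] (r m : ℕ)
    (f : Polynomial (MvPolynomial (Fin r) k)) (hf : f ≠ 0)
    (hnc : ¬ ∃ a : k, f = Polynomial.C (MvPolynomial.C a)) :
    ∃ h : MvPolynomial (Fin r) k, h ≠ 0 ∧ ∃ s₀ : ℕ, ∀ s : ℕ, s₀ ≤ s →
      ∀ (K : Type v) [Field K] [Algebra k K] (g : Fin r → K), MvPolynomial.aeval g h ≠ 0 →
        ∃ c : K, c ≠ 0 ∧
          (Polynomial.eval₂ (MvPolynomial.aeval (fun i : Fin r => Polynomial.C (MvPolynomial.X i) + Polynomial.C (MvPolynomial.C (g i)) * Polynomial.X ^ (s * (m + 1))) : MvPolynomial (Fin r) k →ₐ[k] Polynomial (MvPolynomial (Fin r) K)).toRingHom Polynomial.X f).leadingCoeff = MvPolynomial.C c ∧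
          1 ≤ (Polynomial.eval₂ (MvPolynomial.aeval (fun i : Fin r => Polynomial.C (MvPolynomial.X i) + Polynomial.C (MvPolynomial.C (g i)) * Polynomial.X ^ (s * (m + 1))) : MvPolynomial (Fin r) k →ₐ[k] Polynomial (MvPolynomial (Fin r) K)).toRingHom Polynomial.X f).natDegree := by
  classical
  have hne : f.support.Nonempty := by
    rw [Finset.nonempty_iff_ne_empty]
    intro h
    exact hf (Polynomial.support_eq_empty.mp h)
  obtain ⟨j₁, hj₁, hsup⟩ := Finset.exists_mem_eq_sup f.support hne
    (fun j => (f.coeff j).totalDegree)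
  set D := f.support.sup (fun j => (f.coeff j).totalDegree) with hD
  have hSne : (f.support.filter (fun j => (f.coeff j).totalDegree = D)).Nonempty :=
    ⟨j₁, Finset.mem_filter.mpr ⟨hj₁, hsup.symm⟩⟩
  set j₀ := (f.support.filter (fun j => (f.coeff j).totalDegree = D)).max' hSne with hj₀
  have hj₀mem := Finset.max'_mem _ hSne
  rw [← hj₀, Finset.mem_filter] at hj₀mem
  obtain ⟨hj₀s, hj₀D⟩ := hj₀mem
  have hcoeff_ne : f.coeff j₀ ≠ 0 := Polynomial.mem_support_iff.mp hj₀s
  refine ⟨MvPolynomial.homogeneousComponent D (f.coeff j₀), ?_, f.natDegree + 1, ?_⟩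
  · rw [← hj₀D]
    exact Groth.Agent.S15078Aux.homogeneousComponent_totalDegree_ne_zero _ hcoeff_ne
  intro s hs K _ _ g hg
  refine ⟨MvPolynomial.aeval g (MvPolynomial.homogeneousComponent D (f.coeff j₀)), hg, ?_⟩
  rw [← and_comm]
  set N := s * (m + 1) with hN
  have hNs : s ≤ N := by rw [hN]; exact Nat.le_mul_of_pos_right s (by omega)
  have hN1 : 1 ≤ N := by omega
  have hNdeg : f.natDegree < N := by omega
  change 1 ≤ (Polynomial.eval₂ (Groth.Agent.S15078Aux.phi g N).toRingHom Polynomial.X f).natDegree ∧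
    (Polynomial.eval₂ (Groth.Agent.S15078Aux.phi g N).toRingHom Polynomial.X f).leadingCoeff = _
  have hexp : Polynomial.eval₂ (Groth.Agent.S15078Aux.phi g N).toRingHom Polynomial.X f
      = ∑ j ∈ f.support, Groth.Agent.S15078Aux.phi g N (f.coeff j) * Polynomial.X ^ j := by
    rw [Polynomial.eval₂_eq_sum, Polynomial.sum_def]
    rfl
  set M := N * D + j₀ with hM
  -- degree bound of each term
  have hterm : ∀ j ∈ f.support, j ≠ j₀ →
      (Groth.Agent.S15078Aux.phi g N (f.coeff j) * Polynomial.X ^ j).natDegree < M := by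
    intro j hj hne
    have hb := (Groth.Agent.S15078Aux.phi_bound g N hN1 (f.coeff j) _ le_rfl).1
    have hjdeg : j ≤ f.natDegree := Polynomial.le_natDegree_of_mem_supp j hj
    have htd : (f.coeff j).totalDegree ≤ D := Finset.le_sup (f := fun j => (f.coeff j).totalDegree) hj
    have h1 : (Groth.Agent.S15078Aux.phi g N (f.coeff j) * Polynomial.X ^ j).natDegree
        ≤ N * (f.coeff j).totalDegree + j :=
      Polynomial.natDegree_mul_le_of_le hb (Polynomial.natDegree_X_pow_le j)
    refine lt_of_le_of_lt h1 ?_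
    by_cases hlt : (f.coeff j).totalDegree = D
    · have hjle : j ≤ j₀ := Finset.le_max' _ j (Finset.mem_filter.mpr ⟨hj, hlt⟩)
      rw [hlt, hM]
      omega
    · have hlt' : (f.coeff j).totalDegree + 1 ≤ D := by omega
      have : N * ((f.coeff j).totalDegree + 1) ≤ N * D := Nat.mul_le_mul le_rfl hlt'
      rw [hM]
      rw [Nat.mul_add, Nat.mul_one] at this
      omega
  have hterm0 : (Groth.Agent.S15078Aux.phi g N (f.coeff j₀) * Polynomial.X ^ j₀).natDegree ≤ M := by
    have hb := (Groth.Agent.S15078Aux.phi_bound g N hN1 (f.coeff j₀) D hj₀D.le).1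
    exact Polynomial.natDegree_mul_le_of_le hb (Polynomial.natDegree_X_pow_le j₀)
  have hdegle : (Polynomial.eval₂ (Groth.Agent.S15078Aux.phi g N).toRingHom Polynomial.X f).natDegree
      ≤ M := by
    rw [hexp]
    apply Polynomial.natDegree_sum_le_of_forall_le
    intro j hj
    by_cases hne : j = j₀
    · rw [hne]; exact hterm0
    · exact (hterm j hj hne).le
  have hcoeffM : (Polynomial.eval₂ (Groth.Agent.S15078Aux.phi g N).toRingHom Polynomial.X f).coeff M
      = MvPolynomial.C (MvPolynomial.aeval g (MvPolynomial.homogeneousComponent D (f.coeff j₀))) := by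
    rw [hexp, Polynomial.finsetSum_coeff, Finset.sum_eq_single j₀]
    · rw [Polynomial.coeff_mul_X_pow', if_pos (by omega), hM, Nat.add_sub_cancel]
      exact (Groth.Agent.S15078Aux.phi_bound g N hN1 (f.coeff j₀) D hj₀D.le).2
    · intro j hj hne
      exact Polynomial.coeff_eq_zero_of_natDegree_lt (hterm j hj hne)
    · intro h; exact absurd hj₀s h
  have hCne : (MvPolynomial.C (MvPolynomial.aeval g (MvPolynomial.homogeneousComponent D (f.coeff j₀)))
      : MvPolynomial (Fin r) K) ≠ 0 := by
    intro h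
    exact hg (MvPolynomial.C_injective (Fin r) K (by rw [h, map_zero]))
  have hnat := Polynomial.natDegree_eq_of_le_of_coeff_ne_zero hdegle (by rw [hcoeffM]; exact hCne)
  refine ⟨?_, ?_⟩
  swap
  · rw [Polynomial.leadingCoeff, hnat, hcoeffM]
  rw [hnat]
  by_contra hM0
  have hM0' : M = 0 := by omega
  have hD0 : D = 0 := by
    rcases Nat.eq_zero_or_pos D with h | h
    · exact h
    · have : 1 ≤ N * D := Nat.mul_pos (by omega) h
      omega
  have hj0 : j₀ = 0 := by omega
  apply hnc
  have hsupp : ∀ j ∈ f.support, j = 0 := by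
    intro j hj
    have htd : (f.coeff j).totalDegree ≤ D :=
      Finset.le_sup (f := fun j => (f.coeff j).totalDegree) hj
    have hlt : (f.coeff j).totalDegree = D := by omega
    have hjle : j ≤ j₀ := Finset.le_max' _ j (Finset.mem_filter.mpr ⟨hj, hlt⟩)
    omega
  have hfC : f = Polynomial.C (f.coeff 0) := by
    refine Polynomial.ext fun n => ?_
    rw [Polynomial.coeff_C]
    split_ifs with hn
    · rw [hn]
    · by_contra hne
      exact hn (hsupp n (Polynomial.mem_support_iff.mpr hne))
  have h0td : (f.coeff 0).totalDegree = 0 := by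
    rw [hj0] at hj₀D; rw [hj₀D, hD0]
  refine ⟨(f.coeff 0).coeff 0, ?_⟩
  rw [← (MvPolynomial.totalDegree_eq_zero_iff_eq_C.mp h0td)]
  exact hfC

end Groth.Agent.Lib.Helper59.TranslateFinite
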