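import Mathlib
import Groth.Agent.Lib.Helper3.QuasiRegular

/-!
`A/J^N ≅ (A/J)[T]/(T)^N` for `J` generated by a quasi-regular sequence with `A/J` formally smooth
(S18417).
-/

set_option autoImplicit false

universe u v

open MvPolynomial

namespace Groth.Agent.Lib.Helper59.TruncPoly

section Abstract

variable {B : Type*} {Q : Type*} [CommRing B] [CommRing Q] {d : ℕ}
  (σ : B →+* Q) (g : Q →+* B) (y : Fin d → Q)

/-- the evaluation map `B[T] → Q` -/
noncomputable def psi : MvPolynomial (Fin d) B →+* Q := MvPolynomial.eval₂Hom σ y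

@[simp] theorem psi_C (b : B) : psi σ y (C b) = σ b := by simp [psi]

@[simp] theorem psi_X (i : Fin d) : psi σ y (X i) = y i := by simp [psi]

theorem map_psi_idealOfVars :
    Ideal.map (psi σ y) (idealOfVars (Fin d) B) = Ideal.span (Set.range y) := by
  rw [idealOfVars, Ideal.map_span, ← Set.range_comp]
  congr 2
  funext i
  simp

theorem map_psi_pow (k : ℕ) :
    Ideal.map (psi σ y) (idealOfVars (Fin d) B ^ k) = Ideal.span (Set.range y) ^ k := by
  rw [Ideal.map_pow, map_psi_idealOfVars]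

theorem psi_mem_pow {k : ℕ} {t : MvPolynomial (Fin d) B} (ht : t ∈ idealOfVars (Fin d) B ^ k) :
    psi σ y t ∈ Ideal.span (Set.range y) ^ k := by
  rw [← map_psi_pow σ y k]
  exact Ideal.mem_map_of_mem _ ht

theorem exists_approx (hgσ : ∀ b, g (σ b) = b)
    (hker : ∀ q, g q = 0 → q ∈ Ideal.span (Set.range y))
    (k : ℕ) (q : Q) (hq : q ∈ Ideal.span (Set.range y) ^ k) :
    ∃ t ∈ idealOfVars (Fin d) B ^ k, q - psi σ y t ∈ Ideal.span (Set.range y) ^ (k + 1) := by
  rw [← map_psi_pow σ y k, Ideal.map] at hq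
  induction hq using Submodule.span_induction with
  | mem q hq =>
    obtain ⟨t, ht, rfl⟩ := hq
    exact ⟨t, ht, by simp⟩
  | zero => exact ⟨0, zero_mem _, by simp⟩
  | add q q' _ _ h h' =>
    obtain ⟨t, ht, h1⟩ := h
    obtain ⟨t', ht', h1'⟩ := h'
    refine ⟨t + t', add_mem ht ht', ?_⟩
    have : q + q' - psi σ y (t + t') = (q - psi σ y t) + (q' - psi σ y t') := by
      rw [map_add]; ring
    rw [this]
    exact add_mem h1 h1'
  | smul c q _ h =>
    obtain ⟨t, ht, h1⟩ := h
    refine ⟨C (g c) * t, Ideal.mul_mem_left _ _ ht, ?_⟩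
    have hc : c - σ (g c) ∈ Ideal.span (Set.range y) :=
      hker _ (by rw [map_sub, hgσ, sub_self])
    have : c • q - psi σ y (C (g c) * t) =
        c * (q - psi σ y t) + (c - σ (g c)) * psi σ y t := by
      rw [map_mul, psi_C, smul_eq_mul]; ring
    rw [this]
    refine add_mem (Ideal.mul_mem_left _ _ h1) ?_
    rw [pow_succ']
    exact Ideal.mul_mem_mul hc (psi_mem_pow σ y ht)

theorem psi_surjective (hgσ : ∀ b, g (σ b) = b)
    (hker : ∀ q, g q = 0 → q ∈ Ideal.span (Set.range y))
    (N : ℕ) (hN : Ideal.span (Set.range y) ^ N = ⊥) : Function.Surjective (psi σ y) := by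
  intro q
  have : ∀ k, ∃ F, q - psi σ y F ∈ Ideal.span (Set.range y) ^ k := by
    intro k
    induction k with
    | zero => exact ⟨0, by simp⟩
    | succ k ih =>
      obtain ⟨F, hF⟩ := ih
      obtain ⟨t, -, ht⟩ := exists_approx σ g y hgσ hker k _ hF
      exact ⟨F + t, by rw [map_add, ← sub_sub]; exact ht⟩
  obtain ⟨F, hF⟩ := this N
  rw [hN, Ideal.mem_bot, sub_eq_zero] at hF
  exact ⟨F, hF.symm⟩

theorem ker_psi_le (N : ℕ)
    (hqr : ∀ n < N, ∀ P : MvPolynomial (Fin d) B, P.IsHomogeneous n →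
      psi σ y P ∈ Ideal.span (Set.range y) ^ (n + 1) → P = 0) :
    RingHom.ker (psi σ y) ≤ idealOfVars (Fin d) B ^ N := by
  intro F hF
  have : ∀ n ≤ N, F ∈ idealOfVars (Fin d) B ^ n := by
    intro n hn
    induction n with
    | zero => simp
    | succ n ih =>
      have hFn := ih (by omega)
      have h1 : F - homogeneousComponent n F ∈ idealOfVars (Fin d) B ^ (n + 1) := by
        rw [mem_pow_idealOfVars_iff']
        intro x hx
        rw [coeff_sub, coeff_homogeneousComponent]
        by_cases hxn : x.degree = n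
        · simp [hxn]
        · rw [if_neg hxn, sub_zero]
          exact (mem_pow_idealOfVars_iff' n F).1 hFn x (by omega)
      have h2 : psi σ y (homogeneousComponent n F) ∈ Ideal.span (Set.range y) ^ (n + 1) := by
        have h := psi_mem_pow σ y h1
        rw [map_sub, (RingHom.mem_ker).1 hF, zero_sub, neg_mem_iff] at h
        exact h
      have h3 := hqr n (by omega) _ (homogeneousComponent_isHomogeneous n F) h2
      rw [h3, sub_zero] at h1
      exact h1
  exact this N le_rfl

theorem le_ker_psi (N : ℕ) (hN : Ideal.span (Set.range y) ^ N = ⊥) :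
    idealOfVars (Fin d) B ^ N ≤ RingHom.ker (psi σ y) := by
  intro F hF
  have := psi_mem_pow σ y hF
  rw [hN, Ideal.mem_bot] at this
  exact this

theorem prod_mem_pow (α : Fin d →₀ ℕ) :
    (α.prod fun i e => y i ^ e) ∈ Ideal.span (Set.range y) ^ α.degree := by
  rw [Finsupp.prod, Finsupp.degree_apply, ← Finset.prod_pow_eq_pow_sum]
  exact Ideal.prod_mem_prod fun i _ => Ideal.pow_mem_pow (Ideal.subset_span (Set.mem_range_self i)) _

end Abstract

section Concrete

variable {R : Type u} {A : Type v} [CommRing R] [CommRing A] [Algebra R A] {d : ℕ} (x : Fin d → A)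

local notation "J" => Ideal.span (Set.range x)

/-- quasi-regularity transported to the quotient `A/J^N`. -/
theorem qr_quot (hq : CAlgX.IsQuasiRegular x) (N : ℕ)
    (σ : (A ⧸ Ideal.span (Set.range x)) →+* (A ⧸ Ideal.span (Set.range x) ^ N))
    (hσ : ∀ a : A, σ (Ideal.Quotient.mk _ a) - Ideal.Quotient.mk _ a ∈
      (Ideal.span (Set.range x)).map (Ideal.Quotient.mk (Ideal.span (Set.range x) ^ N)))
    (n : ℕ) (hn : n < N) (P : MvPolynomial (Fin d) (A ⧸ Ideal.span (Set.range x)))
    (hP : P.IsHomogeneous n)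
    (hmem : psi σ (fun i => Ideal.Quotient.mk (Ideal.span (Set.range x) ^ N) (x i)) P ∈
      Ideal.span (Set.range fun i =>
        Ideal.Quotient.mk (Ideal.span (Set.range x) ^ N) (x i)) ^ (n + 1)) :
    P = 0 := by
  classical
  set y : Fin d → A ⧸ J ^ N := fun i => Ideal.Quotient.mk (J ^ N) (x i) with hy
  have hI : Ideal.span (Set.range y) = Ideal.map (Ideal.Quotient.mk (J ^ N)) J := by
    rw [Ideal.map_span, ← Set.range_comp]; rfl
  let lift : A ⧸ J → A := Function.surjInv Ideal.Quotient.mk_surjective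
  have hlift : ∀ b, Ideal.Quotient.mk J (lift b) = b := Function.surjInv_eq _
  let P' : MvPolynomial (Fin d) A := ∑ α ∈ P.support, monomial α (lift (coeff α P))
  have hdeg : ∀ α ∈ P.support, α.degree = n := by
    intro α hα
    by_contra hne
    exact (mem_support_iff.1 hα) (hP.coeff_eq_zero hne)
  have hP'hom : P'.IsHomogeneous n :=
    IsHomogeneous.sum _ _ _ fun α hα => isHomogeneous_monomial _ (hdeg α hα)
  have hmap : MvPolynomial.map (Ideal.Quotient.mk J) P' = P := by
    simp only [P', map_sum, map_monomial, hlift]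
    exact (P.as_sum).symm
  have hdiff : psi σ y P - Ideal.Quotient.mk (J ^ N) (eval x P') ∈
      Ideal.span (Set.range y) ^ (n + 1) := by
    have h1 : psi σ y P = ∑ α ∈ P.support, σ (coeff α P) * α.prod fun i e => y i ^ e := by
      conv_lhs => rw [P.as_sum]
      rw [map_sum]
      refine Finset.sum_congr rfl fun α _ => ?_
      simp only [psi, eval₂Hom_monomial]
    have h2 : Ideal.Quotient.mk (J ^ N) (eval x P') =
        ∑ α ∈ P.support, Ideal.Quotient.mk (J ^ N) (lift (coeff α P)) *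
          α.prod fun i e => y i ^ e := by
      simp only [P', map_sum, eval_monomial, map_mul, map_finsuppProd, map_pow, y]
    rw [h1, h2, ← Finset.sum_sub_distrib]
    refine Ideal.sum_mem _ fun α hα => ?_
    rw [← sub_mul, pow_succ']
    refine Ideal.mul_mem_mul ?_ ?_
    · rw [hI]
      have := hσ (lift (coeff α P))
      rw [hlift] at this
      exact this
    · have := prod_mem_pow y α
      rw [hdeg α hα] at this
      exact this
  have hmem' : Ideal.Quotient.mk (J ^ N) (eval x P') ∈ Ideal.span (Set.range y) ^ (n + 1) := by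
    have := sub_mem hmem hdiff
    rwa [sub_sub_cancel] at this
  have hev : eval x P' ∈ J ^ (n + 1) := by
    rw [hI, ← Ideal.map_pow, Ideal.mem_quotient_iff_mem_sup] at hmem'
    have hle : J ^ N ≤ J ^ (n + 1) := Ideal.pow_le_pow_right (by omega)
    rwa [sup_eq_left.2 hle] at hmem'
  have hcoef := hq n P' hP'hom hev
  ext α
  rw [← hmap, coeff_map, coeff_zero, Ideal.Quotient.eq_zero_iff_mem]
  exact hcoef α

theorem main (hq : CAlgX.IsQuasiRegular x)
    [Algebra.FormallySmooth R (A ⧸ Ideal.span (Set.range x))] (N : ℕ) (hN : 1 ≤ N) :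
    ∃ e : (A ⧸ Ideal.span (Set.range x) ^ N) ≃ₐ[R]
        (MvPolynomial (Fin d) (A ⧸ Ideal.span (Set.range x)) ⧸
          Ideal.span (Set.range (MvPolynomial.X :
            Fin d → MvPolynomial (Fin d) (A ⧸ Ideal.span (Set.range x)))) ^ N),
      (∀ i : Fin d, e (Ideal.Quotient.mk _ (x i)) = Ideal.Quotient.mk _ (MvPolynomial.X i)) ∧
      ∀ a : A, e (Ideal.Quotient.mk _ a) -
          Ideal.Quotient.mk _ (MvPolynomial.C (Ideal.Quotient.mk _ a)) ∈
        (Ideal.span (Set.range (MvPolynomial.X :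
          Fin d → MvPolynomial (Fin d) (A ⧸ Ideal.span (Set.range x))))).map
          (Ideal.Quotient.mk _) := by
  classical
  have hJN : J ^ N ≤ J := Ideal.pow_le_self (by omega)
  let g : (A ⧸ J ^ N) →ₐ[R] (A ⧸ J) := Ideal.Quotient.factorₐ R hJN
  have hgmk : ∀ a, g (Ideal.Quotient.mk _ a) = Ideal.Quotient.mk _ a := fun a => rfl
  have hgsurj : Function.Surjective g := Ideal.Quotient.factor_surjective hJN
  have hgker : RingHom.ker (g : (A ⧸ J ^ N) →+* (A ⧸ J)) = Ideal.map (Ideal.Quotient.mk (J ^ N)) J :=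
    Ideal.Quotient.factor_ker hJN
  have hnil : IsNilpotent (RingHom.ker (g : (A ⧸ J ^ N) →+* (A ⧸ J))) := by
    refine ⟨N, ?_⟩
    rw [hgker, ← Ideal.map_pow, Ideal.map_quotient_self]
    rfl
  let σ : (A ⧸ J) →ₐ[R] (A ⧸ J ^ N) :=
    Algebra.FormallySmooth.liftOfSurjective (AlgHom.id R (A ⧸ J)) g hgsurj hnil
  have hgσ : ∀ b, g (σ b) = b := fun b =>
    Algebra.FormallySmooth.liftOfSurjective_apply (AlgHom.id R (A ⧸ J)) g hgsurj hnil b
  set y : Fin d → A ⧸ J ^ N := fun i => Ideal.Quotient.mk (J ^ N) (x i) with hy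
  have hI : Ideal.span (Set.range y) = Ideal.map (Ideal.Quotient.mk (J ^ N)) J := by
    rw [Ideal.map_span, ← Set.range_comp]; rfl
  have hIN : Ideal.span (Set.range y) ^ N = ⊥ := by
    rw [hI, ← Ideal.map_pow, Ideal.map_quotient_self]
  have hker : ∀ q, (g : (A ⧸ J ^ N) →+* (A ⧸ J)) q = 0 → q ∈ Ideal.span (Set.range y) := by
    intro q hq0
    rw [hI, ← hgker]
    exact hq0
  have hσ : ∀ a : A, (σ : (A ⧸ J) →+* (A ⧸ J ^ N)) (Ideal.Quotient.mk _ a) -
      Ideal.Quotient.mk _ a ∈ Ideal.map (Ideal.Quotient.mk (J ^ N)) J := by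
    intro a
    rw [← hgker, RingHom.mem_ker, map_sub]
    show g (σ _) - g (Ideal.Quotient.mk _ a) = 0
    rw [hgσ, hgmk, sub_self]
  let ψ := psi (σ : (A ⧸ J) →+* (A ⧸ J ^ N)) y
  have hsurj : Function.Surjective ψ :=
    psi_surjective (σ : (A ⧸ J) →+* (A ⧸ J ^ N)) (g : (A ⧸ J ^ N) →+* (A ⧸ J)) y hgσ hker N hIN
  have hkerψ : RingHom.ker ψ = idealOfVars (Fin d) (A ⧸ J) ^ N :=
    le_antisymm (ker_psi_le _ y N (qr_quot x hq N σ hσ)) (le_ker_psi _ y N hIN)
  let ψA : MvPolynomial (Fin d) (A ⧸ J) →ₐ[R] (A ⧸ J ^ N) :=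
    { ψ with
      commutes' := fun r => by
        show ψ (algebraMap R _ r) = _
        rw [IsScalarTower.algebraMap_apply R (A ⧸ J) (MvPolynomial (Fin d) (A ⧸ J)),
          MvPolynomial.algebraMap_eq, psi_C]
        exact σ.commutes r }
  let ψbar : (MvPolynomial (Fin d) (A ⧸ J) ⧸ idealOfVars (Fin d) (A ⧸ J) ^ N) →ₐ[R]
      (A ⧸ J ^ N) :=
    Ideal.Quotient.liftₐ _ ψA (fun F hF => by rw [← hkerψ] at hF; exact hF)
  have hbij : Function.Bijective ψbar := by
    constructor
    · rw [injective_iff_map_eq_zero]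
      intro z hz
      obtain ⟨F, rfl⟩ := Ideal.Quotient.mk_surjective z
      rw [Ideal.Quotient.eq_zero_iff_mem, ← hkerψ]
      exact hz
    · intro q
      obtain ⟨F, rfl⟩ := hsurj q
      exact ⟨Ideal.Quotient.mk _ F, rfl⟩
  refine ⟨(AlgEquiv.ofBijective ψbar hbij).symm, ?_, ?_⟩
  · intro i
    rw [AlgEquiv.symm_apply_eq]
    show _ = ψ (X i)
    rw [psi_X]
  · intro a
    obtain ⟨F, hF⟩ := Ideal.Quotient.mk_surjective
      ((AlgEquiv.ofBijective ψbar hbij).symm (Ideal.Quotient.mk _ a))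
    rw [← hF]
    have h1 : ψ F = Ideal.Quotient.mk _ a := by
      have : ψbar (Ideal.Quotient.mk _ F) = Ideal.Quotient.mk _ a := by
        rw [hF]
        exact (AlgEquiv.ofBijective ψbar hbij).apply_symm_apply _
      exact this
    have hgψ : (g : (A ⧸ J ^ N) →+* (A ⧸ J)).comp ψ = constantCoeff := by
      apply MvPolynomial.ringHom_ext
      · intro b
        show g (ψ (C b)) = _
        rw [psi_C, constantCoeff_C]
        exact hgσ b
      · intro i
        show g (ψ (X i)) = _
        rw [psi_X, constantCoeff_X]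
        show g (Ideal.Quotient.mk _ (x i)) = 0
        rw [hgmk, Ideal.Quotient.eq_zero_iff_mem]
        exact Ideal.subset_span (Set.mem_range_self i)
    have h2 : constantCoeff F = Ideal.Quotient.mk J a := by
      rw [← hgψ]
      show g (ψ F) = _
      rw [h1, hgmk]
    rw [← h2, ← map_sub]
    apply Ideal.mem_map_of_mem
    have : F - C (constantCoeff F) ∈ idealOfVars (Fin d) (A ⧸ J) ^ 1 := by
      rw [mem_pow_idealOfVars_iff']
      intro α hα
      have h0 : α = 0 := by rwa [Nat.lt_one_iff, Finsupp.degree_eq_zero_iff] at hα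
      subst h0
      simp [constantCoeff_eq]
    rwa [pow_one] at this

end Concrete

end Groth.Agent.Lib.Helper59.TruncPoly
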