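import Mathlib

/-!
# Unipotent actions of a product of subgroups (helper59)

If `H₂` normalizes `H₁` and the augmentation ideals of both act nilpotently, so does the
augmentation ideal of `H₁ ⊔ H₂`.
-/

set_option autoImplicit false

universe u v w

namespace Groth.Agent.Lib.Helper59.UnipProd

variable {K : Type u} [CommRing K] {A : Type v} [Ring A] [Algebra K A] {G : Type w} [Group G]
  (ρ : G →* A)

/-- the augmentation ideal (as a `K`-submodule of `A`). -/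
def J (H : Subgroup G) : Submodule K A := Submodule.span K {x | ∃ h ∈ H, x = ρ h - 1}

/-- the image of the group algebra. -/
def B (H : Subgroup G) : Submodule K A := Submodule.span K {x | ∃ h ∈ H, x = ρ h}

lemma mem_J {H : Subgroup G} {h : G} (hh : h ∈ H) : ρ h - 1 ∈ J (K := K) ρ H :=
  Submodule.subset_span ⟨h, hh, rfl⟩

lemma mem_B {H : Subgroup G} {h : G} (hh : h ∈ H) : ρ h ∈ B (K := K) ρ H :=
  Submodule.subset_span ⟨h, hh, rfl⟩

lemma one_mem_B (H : Subgroup G) : (1 : A) ∈ B (K := K) ρ H := by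
  have := mem_B (K := K) ρ (one_mem H)
  rwa [map_one] at this

lemma B_mul_B (H : Subgroup G) : B (K := K) ρ H * B ρ H ≤ B ρ H := by
  rw [B, Submodule.span_mul_span, Submodule.span_le]
  rintro _ ⟨_, ⟨g, hg, rfl⟩, _, ⟨h, hh, rfl⟩, rfl⟩
  dsimp only
  rw [← map_mul]
  exact mem_B ρ (mul_mem hg hh)

lemma J_le_B (H : Subgroup G) : J (K := K) ρ H ≤ B ρ H := by
  rw [J, Submodule.span_le]
  rintro _ ⟨h, hh, rfl⟩
  exact Submodule.sub_mem _ (mem_B ρ hh) (one_mem_B ρ H)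

lemma J_mono {H H' : Subgroup G} (h : H ≤ H') : J (K := K) ρ H ≤ J ρ H' :=
  Submodule.span_mono (fun _ ⟨g, hg, hx⟩ => ⟨g, h hg, hx⟩)

lemma B_pow_le (H : Subgroup G) (m : ℕ) : B (K := K) ρ H ^ m ≤ B ρ H := by
  induction m with
  | zero =>
    rw [pow_zero, Submodule.one_le]
    exact one_mem_B ρ H
  | succ m ih =>
    rw [pow_succ]
    exact (mul_le_mul' ih le_rfl).trans (B_mul_B ρ H)

/-- nilpotency of the augmentation ideal from vanishing of products. -/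
lemma J_pow_eq_bot (H : Subgroup G) (n : ℕ)
    (h : ∀ f : Fin n → ↥H, (List.ofFn fun i => ρ (f i : G) - 1).prod = 0) :
    J (K := K) ρ H ^ n = ⊥ := by
  rw [J, Submodule.span_pow, eq_bot_iff, Submodule.span_le]
  intro a ha
  obtain ⟨f, rfl⟩ := Set.mem_pow.mp ha
  have hf : ∀ i, ∃ g : ↥H, (f i : A) = ρ (g : G) - 1 := by
    intro i
    obtain ⟨g, hg, hx⟩ := (f i).2
    exact ⟨⟨g, hg⟩, hx⟩
  choose g hg using hf
  have : (fun i => (f i : A)) = fun i => ρ (g i : G) - 1 := funext hg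
  rw [this, h g]
  exact Submodule.zero_mem _

/-- products of augmentation elements lie in the power of the augmentation ideal. -/
lemma prod_mem_J_pow (H : Subgroup G) (n : ℕ) (f : Fin n → ↥H) :
    (List.ofFn fun i => ρ (f i : G) - 1).prod ∈ J (K := K) ρ H ^ n := by
  rw [J, Submodule.span_pow]
  apply Submodule.subset_span
  rw [Set.mem_pow]
  exact ⟨fun i => ⟨ρ (f i : G) - 1, (f i : G), (f i).2, rfl⟩, rfl⟩

variable {H₁ H₂ : Subgroup G}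

lemma conj_mem (hnorm : ∀ g ∈ H₂, ∀ h ∈ H₁, g * h * g⁻¹ ∈ H₁) :
    ∀ g ∈ H₁ ⊔ H₂, ∀ h ∈ H₁, g * h * g⁻¹ ∈ H₁ := by
  have h2 : H₂ ≤ Subgroup.normalizer (H₁ : Set G) := by
    intro g hg
    rw [Subgroup.mem_normalizer_iff]
    intro h
    constructor
    · exact hnorm g hg h
    · intro hh
      have := hnorm g⁻¹ (inv_mem hg) _ hh
      simpa [mul_assoc] using this
  have h3 : H₁ ⊔ H₂ ≤ Subgroup.normalizer (H₁ : Set G) := sup_le Subgroup.le_normalizer h2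
  intro g hg h hh
  exact (Subgroup.mem_normalizer_iff.mp (h3 hg) h).mp hh

lemma B_mul_J_le (hnorm : ∀ g ∈ H₂, ∀ h ∈ H₁, g * h * g⁻¹ ∈ H₁) :
    B (K := K) ρ (H₁ ⊔ H₂) * J ρ H₁ ≤ J ρ H₁ * B ρ (H₁ ⊔ H₂) := by
  rw [B, J, Submodule.span_mul_span, Submodule.span_le]
  rintro _ ⟨_, ⟨g, hg, rfl⟩, _, ⟨h, hh, rfl⟩, rfl⟩
  dsimp only
  have e : ρ g * (ρ h - 1) = (ρ (g * h * g⁻¹) - 1) * ρ g := by
    rw [sub_mul, one_mul, mul_sub, mul_one, ← map_mul, ← map_mul]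
    congr 2
    group
  rw [e]
  exact Submodule.mul_mem_mul (mem_J ρ (conj_mem hnorm g hg h hh)) (mem_B ρ hg)

/-- the ideal `N = J₁ B`. -/
lemma N_mul_B : (J (K := K) ρ H₁ * B ρ (H₁ ⊔ H₂)) * B ρ (H₁ ⊔ H₂) ≤
    J ρ H₁ * B ρ (H₁ ⊔ H₂) := by
  rw [mul_assoc]
  exact mul_le_mul' le_rfl (B_mul_B ρ _)

lemma B_mul_N (hnorm : ∀ g ∈ H₂, ∀ h ∈ H₁, g * h * g⁻¹ ∈ H₁) :
    B (K := K) ρ (H₁ ⊔ H₂) * (J ρ H₁ * B ρ (H₁ ⊔ H₂)) ≤ J ρ H₁ * B ρ (H₁ ⊔ H₂) := by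
  rw [← mul_assoc]
  refine (mul_le_mul' (B_mul_J_le ρ hnorm) le_rfl).trans ?_
  exact N_mul_B ρ

lemma N_le_B : J (K := K) ρ H₁ * B ρ (H₁ ⊔ H₂) ≤ B ρ (H₁ ⊔ H₂) :=
  (mul_le_mul' ((J_mono ρ le_sup_left).trans (J_le_B ρ _)) le_rfl).trans (B_mul_B ρ _)

lemma N_pow_le (hnorm : ∀ g ∈ H₂, ∀ h ∈ H₁, g * h * g⁻¹ ∈ H₁) (m : ℕ) :
    (J (K := K) ρ H₁ * B ρ (H₁ ⊔ H₂)) ^ m ≤ J ρ H₁ ^ m * B ρ (H₁ ⊔ H₂) := by
  induction m with
  | zero =>
    rw [pow_zero, pow_zero, one_mul, Submodule.one_le]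
    exact one_mem_B ρ _
  | succ m ih =>
    rw [pow_succ, pow_succ]
    calc (J (K := K) ρ H₁ * B ρ (H₁ ⊔ H₂)) ^ m * (J ρ H₁ * B ρ (H₁ ⊔ H₂))
        ≤ (J ρ H₁ ^ m * B ρ (H₁ ⊔ H₂)) * (J ρ H₁ * B ρ (H₁ ⊔ H₂)) :=
          mul_le_mul' ih le_rfl
      _ = J ρ H₁ ^ m * (B ρ (H₁ ⊔ H₂) * J ρ H₁) * B ρ (H₁ ⊔ H₂) := by
          simp only [mul_assoc]
      _ ≤ J ρ H₁ ^ m * (J ρ H₁ * B ρ (H₁ ⊔ H₂)) * B ρ (H₁ ⊔ H₂) :=
          mul_le_mul' (mul_le_mul' le_rfl (B_mul_J_le ρ hnorm)) le_rfl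
      _ = J ρ H₁ ^ m * J ρ H₁ * (B ρ (H₁ ⊔ H₂) * B ρ (H₁ ⊔ H₂)) := by
          simp only [mul_assoc]
      _ ≤ J ρ H₁ ^ m * J ρ H₁ * B ρ (H₁ ⊔ H₂) :=
          mul_le_mul' le_rfl (B_mul_B ρ _)

/-- `J ≤ N + J₂`. -/
lemma J_sup_le (hnorm : ∀ g ∈ H₂, ∀ h ∈ H₁, g * h * g⁻¹ ∈ H₁) :
    J (K := K) ρ (H₁ ⊔ H₂) ≤ J ρ H₁ * B ρ (H₁ ⊔ H₂) ⊔ J ρ H₂ := by
  set T : Submodule K A := J ρ H₁ * B ρ (H₁ ⊔ H₂) ⊔ J ρ H₂ with hT
  have hJ1 : J (K := K) ρ H₁ ≤ T := by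
    refine le_trans ?_ le_sup_left
    intro x hx
    have := Submodule.mul_mem_mul hx (one_mem_B (K := K) ρ (H₁ ⊔ H₂))
    rwa [mul_one] at this
  -- `T` is stable under right multiplication by generators
  have hstab : ∀ y ∈ (H₁ : Set G) ∪ H₂, ∀ t ∈ T, t * ρ y ∈ T := by
    intro y hy t ht
    have hyH : y ∈ H₁ ⊔ H₂ := by
      rcases hy with hy | hy
      · exact (le_sup_left : H₁ ≤ H₁ ⊔ H₂) hy
      · exact (le_sup_right : H₂ ≤ H₁ ⊔ H₂) hy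
    obtain ⟨a, ha, b, hb, rfl⟩ := Submodule.mem_sup.mp ht
    rw [add_mul]
    apply Submodule.add_mem
    · exact le_sup_left (α := Submodule K A)
        (N_mul_B ρ (Submodule.mul_mem_mul ha (mem_B ρ hyH)))
    · -- `b ∈ J₂`
      have hmap : (J (K := K) ρ H₂).map (LinearMap.mulRight K (ρ y)) ≤ T := by
        rw [J, Submodule.map_span, Submodule.span_le]
        rintro _ ⟨_, ⟨h, hh, rfl⟩, rfl⟩
        change (ρ h - 1) * ρ y ∈ T
        rcases hy with hy | hy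
        · -- y ∈ H₁
          have e : (ρ h - 1) * ρ y = (ρ h - 1) * (ρ y - 1) + (ρ h - 1) := by noncomm_ring
          rw [e]
          apply Submodule.add_mem
          · apply le_sup_left (α := Submodule K A)
            apply B_mul_J_le ρ hnorm
            exact Submodule.mul_mem_mul
              (J_le_B ρ _ (J_mono ρ le_sup_right (mem_J ρ hh))) (mem_J ρ hy)
          · exact le_sup_right (α := Submodule K A) (mem_J ρ hh)
        · -- y ∈ H₂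
          have e : (ρ h - 1) * ρ y = (ρ (h * y) - 1) - (ρ y - 1) := by
            rw [map_mul]; noncomm_ring
          rw [e]
          exact le_sup_right (α := Submodule K A)
            (Submodule.sub_mem _ (mem_J ρ (mul_mem hh hy)) (mem_J ρ hy))
      exact hmap (Submodule.mem_map_of_mem hb)
  rw [J, Submodule.span_le]
  rintro _ ⟨g, hg, rfl⟩
  rw [Subgroup.sup_eq_closure] at hg
  induction hg using Subgroup.closure_induction_right with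
  | one =>
    rw [map_one, sub_self]
    exact Submodule.zero_mem _
  | mul_right x hx y hy ih =>
    have e : ρ (x * y) - 1 = (ρ x - 1) * ρ y + (ρ y - 1) := by
      rw [map_mul]; noncomm_ring
    rw [SetLike.mem_coe, e]
    apply Submodule.add_mem
    · exact hstab y hy _ ih
    · rcases hy with hy | hy
      · exact hJ1 (mem_J ρ hy)
      · exact le_sup_right (α := Submodule K A) (mem_J ρ hy)
  | mul_inv_cancel x hx y hy ih =>
    have hy' : y⁻¹ ∈ (H₁ : Set G) ∪ H₂ := by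
      rcases hy with hy | hy
      · exact Or.inl (inv_mem hy)
      · exact Or.inr (inv_mem hy)
    have e : ρ (x * y⁻¹) - 1 = (ρ x - 1) * ρ y⁻¹ + (ρ y⁻¹ - 1) := by
      rw [map_mul]; noncomm_ring
    rw [SetLike.mem_coe, e]
    apply Submodule.add_mem
    · exact hstab y⁻¹ hy' _ ih
    · rcases hy' with hy' | hy'
      · exact hJ1 (mem_J ρ hy')
      · exact le_sup_right (α := Submodule K A) (mem_J ρ hy')

lemma sup_pow_le (hnorm : ∀ g ∈ H₂, ∀ h ∈ H₁, g * h * g⁻¹ ∈ H₁) (m : ℕ) :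
    (J (K := K) ρ H₁ * B ρ (H₁ ⊔ H₂) ⊔ J ρ H₂) ^ m ≤
      J ρ H₁ * B ρ (H₁ ⊔ H₂) ⊔ J ρ H₂ ^ m := by
  induction m with
  | zero =>
    rw [pow_zero, pow_zero]
    exact le_sup_right
  | succ m ih =>
    rw [pow_succ, pow_succ]
    refine (mul_le_mul' ih le_rfl).trans ?_
    rw [Submodule.sup_mul, Submodule.mul_sup, Submodule.mul_sup]
    have hJ2B : J (K := K) ρ H₂ ≤ B ρ (H₁ ⊔ H₂) := (J_mono ρ le_sup_right).trans (J_le_B ρ _)
    refine sup_le (sup_le ?_ ?_) (sup_le ?_ le_sup_right)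
    · exact le_trans ((mul_le_mul' le_rfl (N_le_B ρ)).trans (N_mul_B ρ)) le_sup_left
    · exact le_trans ((mul_le_mul' le_rfl hJ2B).trans (N_mul_B ρ)) le_sup_left
    · refine le_trans ?_ le_sup_left
      refine (mul_le_mul' ((pow_le_pow_left' hJ2B m).trans (B_pow_le ρ _ m)) le_rfl).trans ?_
      exact B_mul_N ρ hnorm

/-- Main algebraic statement. -/
theorem J_sup_pow_eq_bot (hnorm : ∀ g ∈ H₂, ∀ h ∈ H₁, g * h * g⁻¹ ∈ H₁) (n₁ n₂ : ℕ)
    (h₁ : J (K := K) ρ H₁ ^ n₁ = ⊥) (h₂ : J (K := K) ρ H₂ ^ n₂ = ⊥) :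
    J (K := K) ρ (H₁ ⊔ H₂) ^ (n₂ * n₁) = ⊥ := by
  rw [eq_bot_iff, pow_mul]
  have e1 : J (K := K) ρ (H₁ ⊔ H₂) ^ n₂ ≤ J ρ H₁ * B ρ (H₁ ⊔ H₂) := by
    refine (pow_le_pow_left' (J_sup_le ρ hnorm) n₂).trans ?_
    refine (sup_pow_le ρ hnorm n₂).trans ?_
    rw [h₂, sup_bot_eq]
  refine (pow_le_pow_left' e1 n₁).trans ?_
  refine (N_pow_le ρ hnorm n₁).trans ?_
  rw [h₁, Submodule.bot_mul]

end Groth.Agent.Lib.Helper59.UnipProd
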