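import Mathlib

/-!
# Unit roots of a monic polynomial over an ultrametric normed field

For a monic split polynomial with coefficients of norm `≤ 1` over an ultrametric normed field, the
number `m` of roots of norm `< 1` is the least index `j` with `‖a_j‖ = 1`.
-/

namespace Groth.Agent.Lib.Helper59.UnitRoots

open Polynomial

variable {L : Type*} [NormedField L] [IsUltrametricDist L]

theorem norm_root_le_one (f : L[X]) (hf : f.Monic) (hc : ∀ j, ‖f.coeff j‖ ≤ 1) (z : L)
    (hz : f.eval z = 0) : ‖z‖ ≤ 1 := by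
  by_contra hlt
  push Not at hlt
  have hn : f.natDegree ≠ 0 := by
    intro h0
    have : f = 1 := hf.natDegree_eq_zero.mp h0
    rw [this] at hz; simp at hz
  rw [eval_eq_sum_range, Finset.sum_range_succ, hf.coeff_natDegree, one_mul] at hz
  have h1 : z ^ f.natDegree = -∑ x ∈ Finset.range f.natDegree, f.coeff x * z ^ x :=
    eq_neg_of_add_eq_zero_right hz
  have h2 : ‖z ^ f.natDegree‖ ≤ ‖z‖ ^ (f.natDegree - 1) := by
    rw [h1, norm_neg]
    apply IsUltrametricDist.norm_sum_le_of_forall_le_of_nonneg (by positivity)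
    intro j hj
    rw [norm_mul, norm_pow]
    calc ‖f.coeff j‖ * ‖z‖ ^ j ≤ 1 * ‖z‖ ^ (f.natDegree - 1) := by
          apply mul_le_mul (hc j) _ (by positivity) (by norm_num)
          exact pow_le_pow_right₀ hlt.le (by have := Finset.mem_range.mp hj; omega)
      _ = _ := one_mul _
  rw [norm_pow] at h2
  have h3 : ‖z‖ ^ (f.natDegree - 1) < ‖z‖ ^ f.natDegree := pow_lt_pow_right₀ hlt (by omega)
  linarith

theorem coeff_zero_step (z : L) (Q : L[X]) : ((X - C z) * Q).coeff 0 = -(z * Q.coeff 0) := by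
  simp [mul_coeff_zero]

theorem coeff_succ_step (z : L) (Q : L[X]) (j : ℕ) :
    ((X - C z) * Q).coeff (j + 1) = Q.coeff j - z * Q.coeff (j + 1) := by
  rw [sub_mul, coeff_sub, coeff_X_mul, coeff_C_mul]

theorem norm_sub_lt_one {a b : L} (ha : ‖a‖ < 1) (hb : ‖b‖ < 1) : ‖a - b‖ < 1 := by
  rw [sub_eq_add_neg]
  refine lt_of_le_of_lt (IsUltrametricDist.norm_add_le_max _ _) ?_
  rw [norm_neg]; exact max_lt ha hb

theorem norm_sub_le_one {a b : L} (ha : ‖a‖ ≤ 1) (hb : ‖b‖ ≤ 1) : ‖a - b‖ ≤ 1 := by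
  rw [sub_eq_add_neg]
  refine le_trans (IsUltrametricDist.norm_add_le_max _ _) ?_
  rw [norm_neg]; exact max_le ha hb

theorem norm_sub_eq_one_left {a b : L} (ha : ‖a‖ = 1) (hb : ‖b‖ < 1) : ‖a - b‖ = 1 := by
  rw [sub_eq_add_neg]
  rw [IsUltrametricDist.norm_add_eq_max_of_norm_ne_norm (by rw [norm_neg]; linarith), norm_neg, ha]
  exact max_eq_left hb.le

theorem norm_sub_eq_one_right {a b : L} (ha : ‖a‖ < 1) (hb : ‖b‖ = 1) : ‖a - b‖ = 1 := by
  rw [← norm_neg, neg_sub]; exact norm_sub_eq_one_left hb ha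

theorem prod_coeff [DecidablePred fun z : L => ‖z‖ < 1] (s : Multiset L) (hs : ∀ z ∈ s, ‖z‖ ≤ 1) :
    (∀ j, ‖((s.map (fun z => X - C z)).prod).coeff j‖ ≤ 1) ∧
    (∀ j < Multiset.card (s.filter (fun z => ‖z‖ < 1)),
        ‖((s.map (fun z => X - C z)).prod).coeff j‖ < 1) ∧
    ‖((s.map (fun z => X - C z)).prod).coeff (Multiset.card (s.filter (fun z => ‖z‖ < 1)))‖
      = 1 := by
  induction s using Multiset.induction_on with
  | empty =>
    refine ⟨fun j => ?_, fun j hj => ?_, ?_⟩
    · simp only [Multiset.map_zero, Multiset.prod_zero, coeff_one]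
      split_ifs <;> simp
    · simp at hj
    · simp
  | cons z s ih =>
    have hz : ‖z‖ ≤ 1 := hs z (Multiset.mem_cons_self z s)
    obtain ⟨ih1, ih2, ih3⟩ := ih (fun w hw => hs w (Multiset.mem_cons_of_mem hw))
    set Q := (s.map (fun z => X - C z)).prod with hQ
    set m := Multiset.card (s.filter (fun z => ‖z‖ < 1)) with hm
    have hP : ((z ::ₘ s).map (fun z => X - C z)).prod = (X - C z) * Q := by
      rw [Multiset.map_cons, Multiset.prod_cons]
    rw [hP]
    have hall : ∀ j, ‖((X - C z) * Q).coeff j‖ ≤ 1 := by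
      intro j
      rcases j with _ | j
      · rw [coeff_zero_step, norm_neg, norm_mul]
        exact mul_le_one₀ hz (norm_nonneg _) (ih1 0)
      · rw [coeff_succ_step]
        apply norm_sub_le_one (ih1 j)
        rw [norm_mul]; exact mul_le_one₀ hz (norm_nonneg _) (ih1 _)
    refine ⟨hall, ?_⟩
    by_cases hz1 : ‖z‖ < 1
    · have hcard : Multiset.card ((z ::ₘ s).filter (fun z => ‖z‖ < 1)) = m + 1 := by
        rw [Multiset.filter_cons_of_pos s hz1, Multiset.card_cons]
      rw [hcard]
      have hzb : ∀ j, ‖z * Q.coeff j‖ < 1 := by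
        intro j
        rw [norm_mul]
        calc ‖z‖ * ‖Q.coeff j‖ ≤ ‖z‖ * 1 := mul_le_mul_of_nonneg_left (ih1 j) (norm_nonneg _)
          _ < 1 := by rw [mul_one]; exact hz1
      refine ⟨fun j hj => ?_, ?_⟩
      · rcases j with _ | j
        · rw [coeff_zero_step, norm_neg]; exact hzb 0
        · rw [coeff_succ_step]
          exact norm_sub_lt_one (ih2 j (by omega)) (hzb _)
      · rw [coeff_succ_step]
        exact norm_sub_eq_one_left ih3 (hzb _)
    · have hz1' : ‖z‖ = 1 := le_antisymm hz (not_lt.mp hz1)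
      have hcard : Multiset.card ((z ::ₘ s).filter (fun z => ‖z‖ < 1)) = m := by
        rw [Multiset.filter_cons_of_neg s hz1]
      rw [hcard]
      have hzb : ∀ j, ‖z * Q.coeff j‖ = ‖Q.coeff j‖ := by
        intro j; rw [norm_mul, hz1', one_mul]
      refine ⟨fun j hj => ?_, ?_⟩
      · rcases j with _ | j
        · rw [coeff_zero_step, norm_neg, hzb]; exact ih2 0 hj
        · rw [coeff_succ_step]
          exact norm_sub_lt_one (ih2 j (by omega)) (by rw [hzb]; exact ih2 _ hj)
      · rcases hm' : m with _ | m'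
        · rw [coeff_zero_step, norm_neg, hzb, ← hm']; exact ih3
        · rw [coeff_succ_step]
          refine norm_sub_eq_one_right (ih2 m' (by omega)) ?_
          rw [hzb, ← hm']; exact ih3

end Groth.Agent.Lib.Helper59.UnitRoots

namespace Groth.Agent.Lib.Helper59.UnitRoots

open Polynomial

theorem norm_intCast (p : ℕ) [Fact p.Prime] (k : ℤ) :
    ‖((k : ℤ) : PadicAlgCl p)‖ = ‖(k : ℚ_[p])‖ := by
  rw [← PadicAlgCl.norm_extends p (k : ℚ_[p])]
  congr 1

theorem main (p : ℕ) [Fact p.Prime] (P : ℤ[X]) (hP : P.Monic) (d : ℕ) (hn : P.natDegree = 2 * d)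
    (hsym : ∀ j < d, (p : ℤ) ∣ P.coeff j)
    [DecidablePred fun z : PadicAlgCl p => ‖z‖ = 1] :
    2 * Multiset.card ((P.aroots (PadicAlgCl p)).filter (fun z => ‖z‖ = 1)) = P.natDegree ↔
      ¬ (p : ℤ) ∣ P.coeff d := by
  classical
  set f : (PadicAlgCl p)[X] := P.map (algebraMap ℤ (PadicAlgCl p)) with hf
  have hfm : f.Monic := hP.map _
  have hcoeff : ∀ j, f.coeff j = ((P.coeff j : ℤ) : PadicAlgCl p) := by
    intro j; rw [hf, coeff_map]; rfl
  have hle : ∀ j, ‖f.coeff j‖ ≤ 1 := by
    intro j; rw [hcoeff, norm_intCast]; exact Padic.norm_int_le_one _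
  have hlt : ∀ j, ‖f.coeff j‖ < 1 ↔ (p : ℤ) ∣ P.coeff j := by
    intro j; rw [hcoeff, norm_intCast]; exact Padic.norm_intCast_lt_one_iff
  have hsplit : f.Splits := IsAlgClosed.splits f
  have hroots : ∀ z ∈ f.roots, ‖z‖ ≤ 1 := by
    intro z hz
    exact norm_root_le_one f hfm hle z (by
      have := (mem_roots hfm.ne_zero).mp hz
      exact this)
  have hprod : f = (f.roots.map (fun z => X - C z)).prod := hsplit.eq_prod_roots_of_monic hfm
  have hcard : Multiset.card f.roots = 2 * d := by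
    rw [← hsplit.natDegree_eq_card_roots, hf, hP.natDegree_map, hn]
  obtain ⟨_, h2, h3⟩ := prod_coeff f.roots hroots
  rw [← hprod] at h2 h3
  set m := Multiset.card (f.roots.filter (fun z => ‖z‖ < 1)) with hm
  have hUm : Multiset.card (f.roots.filter (fun z => ‖z‖ = 1)) + m = 2 * d := by
    rw [← hcard, hm, ← Multiset.card_add]
    congr 1
    have : f.roots.filter (fun z => ‖z‖ < 1) = f.roots.filter (fun z => ¬ ‖z‖ = 1) := by
      apply Multiset.filter_congr
      intro z hz
      constructor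
      · intro h; exact ne_of_lt h
      · intro h; exact lt_of_le_of_ne (hroots z hz) h
    rw [this]
    exact Multiset.filter_add_not _ _
  have hdm : d ≤ m := by
    by_contra hlt'
    push Not at hlt'
    have := (hlt m).mpr (hsym m hlt')
    linarith
  have haroots : P.aroots (PadicAlgCl p) = f.roots := rfl
  rw [haroots, hn]
  constructor
  · intro h hdvd
    have hmd : m = d := by omega
    have := (hlt d).mpr hdvd
    rw [hmd] at h3
    linarith
  · intro h
    have hnot : ¬ d < m := by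
      intro hdm'
      exact h ((hlt d).mp (h2 d hdm'))
    omega

end Groth.Agent.Lib.Helper59.UnitRoots
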