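/-
Helper library (helper59): over a field of characteristic p, the dual Hopf algebra D of a finite
commutative cocommutative Hopf algebra A is étale iff the Verschiebung comorphism v is bijective
(p-th powers span D ⇔ v injective; semilinear dimension count for surjectivity; Ω = 0 criterion).
-/
import Mathlib
import Groth.Prelude.Def_Versch

set_option linter.unusedSectionVars false
set_option linter.unusedSimpArgs false
universe u v
open TensorProduct WithConv

namespace Groth.Agent.Lib.Helper59.VerschEtale

section etale_of_span
variable (p : ℕ) [Fact p.Prime] (k : Type u) [Field k] [CharP k p]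
  (D : Type v) [CommRing D] [Algebra k D] [Module.Finite k D] [CharP D p]

/-- If the `p`-th powers span `D` over `k`, then `D` is étale over `k`. -/
theorem etale_of_span_pow (h : Submodule.span k (Set.range fun x : D => x ^ p) = ⊤) :
    Algebra.Etale k D := by
  have hder : ∀ y : D, KaehlerDifferential.D k D y = 0 := by
    intro y
    have hy : y ∈ Submodule.span k (Set.range fun x : D => x ^ p) := by rw [h]; trivial
    induction hy using Submodule.span_induction with
    | mem y hy =>
      obtain ⟨x, rfl⟩ := hy
      rw [Derivation.leibniz_pow]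
      have : (p : D) = 0 := CharP.cast_eq_zero D p
      rw [← Nat.cast_smul_eq_nsmul D, this, zero_smul]
    | zero => exact map_zero _
    | add y z _ _ hy hz => rw [map_add, hy, hz, add_zero]
    | smul t y _ hy => rw [Derivation.map_smul, hy, smul_zero]
  have hsub : Subsingleton (Ω[D⁄k]) := by
    have hspan := KaehlerDifferential.span_range_derivation k D
    have h0 : Set.range (KaehlerDifferential.D k D) ⊆ {0} := by
      rintro _ ⟨y, rfl⟩
      exact hder y
    have : (⊤ : Submodule D (Ω[D⁄k])) = ⊥ := by
      rw [← hspan, Submodule.span_eq_bot]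
      intro x hx
      exact h0 hx
    exact (Submodule.subsingleton_iff D).mp (subsingleton_of_bot_eq_top this.symm)
  haveI : Algebra.FormallyUnramified k D := ⟨hsub⟩
  haveI : Algebra.FormallyEtale k D := Algebra.FormallyEtale.of_formallyUnramified_of_field k D
  exact ⟨inferInstance, Algebra.FinitePresentation.of_finiteType.mp inferInstance⟩


/-- In an étale algebra over a field of characteristic `p`, the `p`-th powers span. -/
theorem span_pow_of_etale [Algebra.Etale k D] :
    Submodule.span k (Set.range fun x : D => x ^ p) = ⊤ := by
  classical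
  obtain ⟨I, _, Ai, _, _, e, H⟩ := (Algebra.Etale.iff_exists_algEquiv_prod k D).mp inferInstance
  haveI : ExpChar k p := ExpChar.prime (Fact.out : p.Prime)
  haveI := Fintype.ofFinite I
  -- the statement for the product
  have hprod : Submodule.span k (Set.range fun x : (∀ i, Ai i) => x ^ p) = ⊤ := by
    rw [eq_top_iff]
    intro y _
    have hy : y = ∑ i, Pi.single i (y i) := by
      ext j
      simp [Finset.sum_apply, Pi.single_apply]
    rw [hy]
    apply Submodule.sum_mem
    intro i _
    haveI := (H i).2
    have hi : Submodule.span k (Set.range fun z : Ai i => z ^ p) = ⊤ := by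
      have := Field.span_map_pow_expChar_pow_eq_top_of_isSeparable (F := k) (E := Ai i) p 1
        (v := fun z : Ai i => z) (by
          rw [eq_top_iff]
          intro z _
          exact Submodule.subset_span ⟨z, rfl⟩)
      simpa using this
    have hyi : y i ∈ Submodule.span k (Set.range fun z : Ai i => z ^ p) := by rw [hi]; trivial
    have hmap : (Submodule.span k (Set.range fun z : Ai i => z ^ p)).map
        (LinearMap.single k Ai i) ≤
        Submodule.span k (Set.range fun x : (∀ i, Ai i) => x ^ p) := by
      rw [Submodule.map_span]
      apply Submodule.span_mono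
      rintro _ ⟨_, ⟨z, rfl⟩, rfl⟩
      refine ⟨Pi.single i z, ?_⟩
      simp only [LinearMap.coe_single]
      ext j
      by_cases hj : j = i
      · subst hj
        simp
      · simp [Pi.single_eq_of_ne hj, (Fact.out : p.Prime).ne_zero]
    exact hmap ⟨y i, hyi, rfl⟩
  rw [eq_top_iff]
  intro y _
  have h1 : e y ∈ Submodule.span k (Set.range fun x : (∀ i, Ai i) => x ^ p) := by
    rw [hprod]; trivial
  have h2 : (Submodule.span k (Set.range fun x : (∀ i, Ai i) => x ^ p)).map
      e.symm.toLinearMap ≤ Submodule.span k (Set.range fun x : D => x ^ p) := by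
    rw [Submodule.map_span]
    apply Submodule.span_mono
    rintro _ ⟨_, ⟨z, rfl⟩, rfl⟩
    exact ⟨e.symm z, by simp⟩
  have h3 := h2 ⟨e y, h1, rfl⟩
  simpa using h3

end etale_of_span

section versch
variable (p : ℕ) [Fact p.Prime] (k : Type u) [Field k] [CharP k p]
  (A : Type v) [CommRing A] [HopfAlgebra k A] [Coalgebra.IsCocomm k A] [Module.Finite k A]
  (v : A →+* FrobAlg.BaseChange p k A) (hv : Versch.IsVerschiebung p k A v)

include hv

lemma span_pow_of_injective (hinj : Function.Injective v) :
    Submodule.span k (Set.range fun x : CartDual.D k A => x ^ p) = ⊤ := by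
  by_contra hne
  have hlt := lt_top_iff_ne_top.mpr hne
  obtain ⟨f, hf0, hf⟩ := Submodule.exists_dual_map_eq_bot_of_lt_top hlt inferInstance
  -- `f` is evaluation at some `a`
  set g : Module.Dual k (Module.Dual k A) := f ∘ₗ (CartDual.toDual k A).symm.toLinearMap with hg
  set a : A := (Module.evalEquiv k A).symm g with ha
  have hfa : ∀ y : CartDual.D k A, f y = y a := by
    intro y
    have h1 : Module.evalEquiv k A a = g := LinearEquiv.apply_symm_apply _ _
    have h2 := LinearMap.congr_fun h1 (CartDual.toDual k A y)
    rw [Module.evalEquiv_apply, Module.Dual.eval_apply] at h2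
    rw [hg, LinearMap.comp_apply, LinearEquiv.coe_coe, LinearEquiv.symm_apply_apply] at h2
    exact h2.symm
  have hva : v a = 0 := by
    apply Versch.evTw_injective p k A
    intro x
    rw [(Versch.isVerschiebung_iff p k A v).mp hv a x, map_zero]
    have h3 : f (x ^ p) = 0 := by
      have : f (x ^ p) ∈ (Submodule.span k (Set.range fun x : CartDual.D k A => x ^ p)).map f :=
        ⟨x ^ p, Submodule.subset_span ⟨x, rfl⟩, rfl⟩
      rw [hf] at this
      exact (Submodule.mem_bot k).mp this
    rw [← hfa, h3, map_zero]
  have ha0 : a = 0 := hinj (hva.trans (map_zero v).symm)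
  apply hf0
  ext y
  rw [hfa, ha0]
  simp

lemma injective_of_span_pow
    (h : Submodule.span k (Set.range fun x : CartDual.D k A => x ^ p) = ⊤) :
    Function.Injective v := by
  rw [injective_iff_map_eq_zero]
  intro a hva
  have h1 : ∀ x : CartDual.D k A, (x ^ p) a = 0 := by
    intro x
    have := (Versch.isVerschiebung_iff p k A v).mp hv a x
    rw [hva, map_zero] at this
    exact ((FrobAlg.toTwist p k).injective (this.symm.trans (map_zero _).symm))
  have h2 : ∀ y : CartDual.D k A, y a = 0 := by
    intro y
    have hy : y ∈ Submodule.span k (Set.range fun x : CartDual.D k A => x ^ p) := by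
      rw [h]; trivial
    induction hy using Submodule.span_induction with
    | mem y hy => obtain ⟨x, rfl⟩ := hy; exact h1 x
    | zero => rfl
    | add y z _ _ hy hz =>
      rw [CartDual.coe_apply, WithConv.ofConv_add, LinearMap.add_apply]
      rw [CartDual.coe_apply] at hy hz
      rw [hy, hz, add_zero]
    | smul t y _ hy =>
      rw [CartDual.coe_apply, WithConv.ofConv_smul, LinearMap.smul_apply]
      rw [CartDual.coe_apply] at hy
      rw [hy, smul_zero]
  rw [← Module.forall_dual_apply_eq_zero_iff k a]
  intro φ
  exact h2 (toConv φ)


lemma pow_apply_one' (x : CartDual.D k A) (n : ℕ) : (x ^ n) 1 = (x 1) ^ n := by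
  have h := map_pow (Bialgebra.counitAlgHom k (CartDual.D k A)) x n
  exact h

lemma versch_algebraMap' (r : k) :
    v (algebraMap k A r) = (1 : A) ⊗ₜ[k] FrobAlg.toTwist p k r := by
  apply Versch.evTw_injective p k A
  intro x
  rw [(Versch.isVerschiebung_iff p k A v).mp hv _ x, Versch.evTw_tmul', ← pow_apply_one' p k A v hv,
    ← map_mul, Algebra.algebraMap_eq_smul_one]
  congr 1
  rw [CartDual.coe_apply, CartDual.coe_apply, map_smul, smul_eq_mul, mul_comm]

lemma surjective_of_injective (hinj : Function.Injective v) : Function.Surjective v := by
  classical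
  set n := Module.finrank k A with hn
  let b : Module.Basis (Fin n) k A := Module.finBasis k A
  let E := TensorProduct.equivFinsuppOfBasisLeft (N := FrobAlg.Twist p k) b
  have hE : ∀ (t : FrobAlg.Twist p k) (z : FrobAlg.BaseChange p k A) (i : Fin n),
      E (((1 : A) ⊗ₜ[k] t) * z) i = t * E z i := by
    intro t z i
    induction z using TensorProduct.induction_on with
    | zero => simp
    | tmul a s =>
      rw [Algebra.TensorProduct.tmul_mul_tmul, one_mul,
        TensorProduct.equivFinsuppOfBasisLeft_apply_tmul_apply,
        TensorProduct.equivFinsuppOfBasisLeft_apply_tmul_apply, mul_smul_comm]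
    | add z z' hz hz' =>
      rw [mul_add, map_add, map_add, Finsupp.add_apply, Finsupp.add_apply, hz, hz', mul_add]
  let c : A →ₗ[k] (Fin n → k) :=
    { toFun := fun a i => (FrobAlg.toTwist p k).symm (E (v a) i)
      map_add' := fun a a' => by
        funext i
        simp only [map_add, Finsupp.add_apply, Pi.add_apply]
      map_smul' := fun r a => by
        funext i
        simp only [RingHom.id_apply, Pi.smul_apply, smul_eq_mul]
        rw [Algebra.smul_def, map_mul, versch_algebraMap' p k A v hv, hE, map_mul,
          RingEquiv.symm_apply_apply] }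
  have hc_inj : Function.Injective c := by
    rw [← LinearMap.ker_eq_bot, LinearMap.ker_eq_bot']
    intro a ha
    apply hinj
    rw [map_zero]
    apply E.injective
    rw [map_zero]
    ext i
    have := congrFun ha i
    simp only [c, LinearMap.coe_mk, AddHom.coe_mk, Pi.zero_apply] at this
    rw [Finsupp.zero_apply]
    exact (FrobAlg.toTwist p k).symm.injective (this.trans (map_zero _).symm)
  have hc_surj : Function.Surjective c :=
    (LinearMap.injective_iff_surjective_of_finrank_eq_finrank (by simp [hn])).mp hc_inj
  intro z
  obtain ⟨a, ha⟩ := hc_surj (fun i => (FrobAlg.toTwist p k).symm (E z i))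
  refine ⟨a, ?_⟩
  apply E.injective
  ext i
  have := congrFun ha i
  simp only [c, LinearMap.coe_mk, AddHom.coe_mk] at this
  exact (FrobAlg.toTwist p k).symm.injective this

theorem etale_iff_bijective :
    Algebra.Etale k (CartDual.D k A) ↔ Function.Bijective v := by
  constructor
  · intro h
    have hs := span_pow_of_etale p k (CartDual.D k A)
    have hi := injective_of_span_pow p k A v hv hs
    exact ⟨hi, surjective_of_injective p k A v hv hi⟩
  · intro h
    exact etale_of_span_pow p k (CartDual.D k A) (span_pow_of_injective p k A v hv h.1)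

end versch

end Groth.Agent.Lib.Helper59.VerschEtale
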