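/-
Helper library (helper59): Verschiebung of a finite locally free commutative group scheme via a
dual basis: `v a = ∑ e_i ⊗ (ε_i ^ p) a`, `[p] a = ∑ e_i ^ p * (ε_i ^ p) a` (Frobenius additivity in
the commutative convolution rings), hence `F ∘ V = [p]`.
-/
import Mathlib
import Groth.Prelude.Def_Versch
import Groth.Prelude.Def_SGA3b

set_option linter.unusedSectionVars false
set_option linter.unusedSimpArgs false
universe u
open TensorProduct WithConv

namespace Groth.Agent.Lib.Helper59.VerschLib

section dualbasis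
variable (R : Type u) [CommRing R] (A : Type u) [AddCommGroup A] [Module R A]
  [Module.Finite R A] [Module.Projective R A]

lemma exists_dual_basis :
    ∃ (n : ℕ) (e : Fin n → A) (ε : Fin n → (A →ₗ[R] R)), ∀ a, a = ∑ i, ε i a • e i := by
  classical
  obtain ⟨n, f, hf⟩ := Module.Finite.exists_fin' R A
  obtain ⟨s, hs⟩ := Module.projective_lifting_property f LinearMap.id hf
  refine ⟨n, fun i => f (Pi.single i 1), fun i => LinearMap.proj i ∘ₗ s, fun a => ?_⟩
  have h1 : a = f (s a) := (LinearMap.congr_fun hs a).symm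
  conv_lhs => rw [h1, LinearMap.pi_apply_eq_sum_univ f (s a)]
  apply Finset.sum_congr rfl
  intro i _
  congr 1
  congr 1
  funext j
  simp [Pi.single_apply, eq_comm]

end dualbasis

section conv
variable (p : ℕ) [Fact p.Prime] (R : Type u) [CommRing R] [CharP R p]
  (A : Type u) [CommRing A] [HopfAlgebra R A] [Coalgebra.IsCocomm R A] [CharP A p]

/-- The convolution ring of endomorphisms has characteristic `p`. -/
instance : CharP (WithConv (A →ₗ[R] A)) p := by
  apply charP_of_injective_algebraMap (R := A) _ p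
  intro b b' h
  have := congrArg (fun f : WithConv (A →ₗ[R] A) => f 1) h
  simpa [Algebra.smul_def] using this

/-- Linear forms as endomorphisms: `x ↦ (a ↦ x a • 1)`, multiplicative for convolution. -/
noncomputable def iota : CartDual.D R A →* WithConv (A →ₗ[R] A) where
  toFun x := toConv ((Algebra.linearMap R A) ∘ₗ x.ofConv)
  map_one' := by
    ext a
    simp
  map_mul' x y := by
    have := LinearMap.algHom_comp_convMul_distrib (Algebra.ofId R A) x y
    apply WithConv.ofConv_injective
    exact this

lemma iota_apply (x : CartDual.D R A) (a : A) : iota R A x a = algebraMap R A (x a) := rfl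


/-- `[p] a = ∑ e_i ^ p * (ε_i ^ p) a` for a dual basis. -/
lemma powConv_apply_eq (n : ℕ) (e : Fin n → A) (ε : Fin n → (A →ₗ[R] R))
    (h : ∀ a, a = ∑ i, ε i a • e i) (a : A) :
    SGA3b.powConv R A p a =
      ∑ i, e i ^ p * algebraMap R A (((toConv (ε i) : CartDual.D R A) ^ p) a) := by
  have h1 : (toConv (LinearMap.id : A →ₗ[R] A) : WithConv (A →ₗ[R] A)) =
      ∑ i, e i • iota R A (toConv (ε i)) := by
    ext a
    simp only [WithConv.ofConv_toConv, LinearMap.id_coe, id_eq, WithConv.ofConv_sum,
      LinearMap.coe_sum, Finset.sum_apply, WithConv.ofConv_smul, LinearMap.smul_apply]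
    conv_lhs => rw [h a]
    apply Finset.sum_congr rfl
    intro i _
    change _ = e i • algebraMap R A (ε i a)
    rw [Algebra.smul_def, smul_eq_mul, mul_comm]
  have h2 : SGA3b.powConv R A p a =
      ((toConv (LinearMap.id : A →ₗ[R] A) : WithConv (A →ₗ[R] A)) ^ p) a := by
    have := AlgHom.toLinearMap_convPow (R := R) (toConv (AlgHom.id R A)) p
    exact LinearMap.congr_fun (congrArg WithConv.ofConv this) a
  rw [h2, h1, sum_pow_char]
  simp only [smul_pow, ← map_pow]
  simp only [WithConv.ofConv_sum, LinearMap.coe_sum, Finset.sum_apply, WithConv.ofConv_smul,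
    LinearMap.smul_apply]
  apply Finset.sum_congr rfl
  intro i _
  rw [smul_eq_mul]
  rfl


variable [Module.Finite R A] [Module.Projective R A]

lemma relFrob_tmul (b : A) (s : FrobAlg.Twist p R) :
    FrobAlg.relFrob p R A (b ⊗ₜ s) = b ^ p * algebraMap R A ((FrobAlg.toTwist p R).symm s) := by
  simp [FrobAlg.relFrob, FrobAlg.frobHom, FrobAlg.inclHom, Algebra.TensorProduct.lift_tmul]
  rfl

lemma pow_eq_sum (n : ℕ) (e : Fin n → A) (ε : Fin n → (A →ₗ[R] R))
    (h : ∀ a, a = ∑ i, ε i a • e i) (x : CartDual.D R A) :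
    x ^ p = ∑ i, (x (e i)) ^ p • (toConv (ε i) : CartDual.D R A) ^ p := by
  have h1 : x = ∑ i, x (e i) • (toConv (ε i) : CartDual.D R A) := by
    ext a
    simp only [WithConv.ofConv_sum, LinearMap.coe_sum, Finset.sum_apply, WithConv.ofConv_smul,
      LinearMap.smul_apply, WithConv.ofConv_toConv, smul_eq_mul]
    conv_lhs => rw [h a, map_sum]
    apply Finset.sum_congr rfl
    intro i _
    rw [map_smul, smul_eq_mul, mul_comm]
  conv_lhs => rw [h1]
  rw [sum_pow_char]
  simp only [smul_pow]

lemma versch_apply (v : A →+* FrobAlg.BaseChange p R A) (hv : Versch.IsVerschiebung p R A v)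
    (n : ℕ) (e : Fin n → A) (ε : Fin n → (A →ₗ[R] R))
    (h : ∀ a, a = ∑ i, ε i a • e i) (a : A) :
    v a = ∑ i, e i ⊗ₜ[R] FrobAlg.toTwist p R (((toConv (ε i) : CartDual.D R A) ^ p) a) := by
  apply Versch.evTw_injective p R A
  intro x
  rw [(Versch.isVerschiebung_iff p R A v).mp hv a x, map_sum]
  simp only [Versch.evTw_tmul']
  rw [pow_eq_sum p R A n e ε h x]
  simp only [WithConv.ofConv_sum, LinearMap.coe_sum, Finset.sum_apply, WithConv.ofConv_smul,
    LinearMap.smul_apply, smul_eq_mul, map_sum, map_mul, CartDual.coe_apply]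

theorem relFrob_comp_versch (v : A →+* FrobAlg.BaseChange p R A)
    (hv : Versch.IsVerschiebung p R A v) :
    (FrobAlg.relFrob p R A).comp v = (SGA3b.powConv R A p).toRingHom := by
  obtain ⟨n, e, ε, h⟩ := exists_dual_basis R A
  ext a
  rw [RingHom.comp_apply, versch_apply p R A v hv n e ε h a, map_sum]
  change _ = SGA3b.powConv R A p a
  rw [powConv_apply_eq p R A n e ε h a]
  apply Finset.sum_congr rfl
  intro i _
  rw [relFrob_tmul, RingEquiv.symm_apply_apply]

end conv

end Groth.Agent.Lib.Helper59.VerschLib
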