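/-
Helper library (helper59): base change of convolution powers, and F ∘ V = [p] on the Frobenius twist.
-/
import Groth.Agent.Lib.Helper59.VerschLib

set_option linter.unusedSectionVars false
set_option linter.unusedSimpArgs false
universe u
open TensorProduct WithConv

namespace Groth.Agent.Lib.Helper59.VerschLib

section basechange
variable (R : Type u) [CommRing R] (T : Type u) [CommRing T] [Algebra R T]
  (A : Type u) [CommRing A] [HopfAlgebra R A]

/-- Base change of linear endomorphisms is multiplicative for convolution. -/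
lemma baseChange_convMul (f g : WithConv (A →ₗ[R] A)) :
    (toConv (f.ofConv.baseChange T) * toConv (g.ofConv.baseChange T) :
      WithConv (T ⊗[R] A →ₗ[T] T ⊗[R] A)) = toConv ((f * g).ofConv.baseChange T) := by
  apply WithConv.ofConv_injective
  apply TensorProduct.AlgebraTensorModule.curry_injective
  ext a
  simp only [AlgebraTensorModule.curry_apply, LinearMap.restrictScalars_self, curry_apply,
    LinearMap.coe_restrictScalars, WithConv.ofConv_toConv, LinearMap.baseChange_tmul]
  rw [LinearMap.convMul_apply, LinearMap.convMul_apply, TensorProduct.comul_tmul]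
  have key : ∀ z : A ⊗[R] A,
      LinearMap.mul' T (T ⊗[R] A) (TensorProduct.map (f.ofConv.baseChange T) (g.ofConv.baseChange T)
        (AlgebraTensorModule.tensorTensorTensorComm R T R T T T A A
          ((1 : T) ⊗ₜ[T] (1 : T) ⊗ₜ[R] z))) =
      (1 : T) ⊗ₜ[R] LinearMap.mul' R A (TensorProduct.map f.ofConv g.ofConv z) := by
    intro z
    induction z using TensorProduct.induction_on with
    | zero => simp
    | tmul a₁ a₂ =>
      simp [AlgebraTensorModule.tensorTensorTensorComm_tmul]
    | add z z' hz hz' =>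
      simp only [tmul_add, map_add, hz, hz']
  exact key _


lemma baseChange_convOne :
    (1 : WithConv (T ⊗[R] A →ₗ[T] T ⊗[R] A)) =
      toConv ((1 : WithConv (A →ₗ[R] A)).ofConv.baseChange T) := by
  apply WithConv.ofConv_injective
  apply TensorProduct.AlgebraTensorModule.curry_injective
  ext a
  simp only [AlgebraTensorModule.curry_apply, LinearMap.restrictScalars_self, curry_apply,
    LinearMap.coe_restrictScalars, WithConv.ofConv_toConv, LinearMap.baseChange_tmul]
  change algebraMap T (T ⊗[R] A) (Coalgebra.counit ((1 : T) ⊗ₜ[R] a)) =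
    (1 : T) ⊗ₜ[R] algebraMap R A (Coalgebra.counit a)
  rw [TensorProduct.counit_tmul, Algebra.TensorProduct.algebraMap_apply,
    Algebra.algebraMap_eq_smul_one (Coalgebra.counit a : R), TensorProduct.tmul_smul,
    TensorProduct.smul_tmul']
  rfl

lemma baseChange_convPow (f : WithConv (A →ₗ[R] A)) (n : ℕ) :
    (toConv (f.ofConv.baseChange T) : WithConv (T ⊗[R] A →ₗ[T] T ⊗[R] A)) ^ n =
      toConv ((f ^ n).ofConv.baseChange T) := by
  induction n with
  | zero => rw [pow_zero, pow_zero, baseChange_convOne]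
  | succ n ih => rw [pow_succ, pow_succ, ih, baseChange_convMul]

lemma powConv_baseChange_tmul (n : ℕ) (s : T) (b : A) :
    SGA3b.powConv T (T ⊗[R] A) n (s ⊗ₜ[R] b) = s ⊗ₜ[R] SGA3b.powConv R A n b := by
  have h1 := AlgHom.toLinearMap_convPow (R := T) (toConv (AlgHom.id T (T ⊗[R] A))) n
  have h2 := AlgHom.toLinearMap_convPow (R := R) (toConv (AlgHom.id R A)) n
  have h3 : SGA3b.powConv T (T ⊗[R] A) n (s ⊗ₜ[R] b) =
      ((toConv (LinearMap.id : T ⊗[R] A →ₗ[T] T ⊗[R] A) :
        WithConv (T ⊗[R] A →ₗ[T] T ⊗[R] A)) ^ n) (s ⊗ₜ[R] b) :=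
    LinearMap.congr_fun (congrArg WithConv.ofConv h1) _
  have h4 : ∀ b, SGA3b.powConv R A n b =
      ((toConv (LinearMap.id : A →ₗ[R] A) : WithConv (A →ₗ[R] A)) ^ n) b :=
    fun b => LinearMap.congr_fun (congrArg WithConv.ofConv h2) b
  rw [h3, h4]
  have h5 : (toConv (LinearMap.id : T ⊗[R] A →ₗ[T] T ⊗[R] A) :
      WithConv (T ⊗[R] A →ₗ[T] T ⊗[R] A)) =
      toConv ((toConv (LinearMap.id : A →ₗ[R] A) : WithConv (A →ₗ[R] A)).ofConv.baseChange T) := by
    rw [WithConv.ofConv_toConv, LinearMap.baseChange_id]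
  rw [h5, baseChange_convPow]
  rfl

end basechange

section final
variable (p : ℕ) [Fact p.Prime] (R : Type u) [CommRing R] [CharP R p]
  (A : Type u) [CommRing A] [HopfAlgebra R A] [Coalgebra.IsCocomm R A] [CharP A p]
  [Module.Finite R A] [Module.Projective R A]

instance instCharPBaseChange : CharP (FrobAlg.BaseChange p R A) p := by
  constructor
  intro n
  constructor
  · intro h
    have := congrArg (FrobAlg.relFrob p R A) h
    rw [map_natCast, map_zero] at this
    exact (CharP.cast_eq_zero_iff A p n).mp this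
  · rintro ⟨k, rfl⟩
    have h0 : ((p : ℕ) : FrobAlg.BaseChange p R A) = 0 := by
      rw [Algebra.TensorProduct.natCast_def, CharP.cast_eq_zero, zero_tmul]
    rw [Nat.cast_mul, h0, zero_mul]

lemma pow_apply_one (x : CartDual.D R A) (n : ℕ) : (x ^ n) 1 = (x 1) ^ n := by
  have h := map_pow (Bialgebra.counitAlgHom R (CartDual.D R A)) x n
  exact h

lemma versch_algebraMap (v : A →+* FrobAlg.BaseChange p R A) (hv : Versch.IsVerschiebung p R A v)
    (r : R) : v (algebraMap R A r) = (1 : A) ⊗ₜ[R] FrobAlg.toTwist p R r := by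
  apply Versch.evTw_injective p R A
  intro x
  rw [(Versch.isVerschiebung_iff p R A v).mp hv _ x, Versch.evTw_tmul', ← pow_apply_one,
    ← map_mul, Algebra.algebraMap_eq_smul_one]
  congr 1
  rw [CartDual.coe_apply, CartDual.coe_apply, map_smul, smul_eq_mul, mul_comm]

theorem versch_comp_relFrob_tmul (v : A →+* FrobAlg.BaseChange p R A)
    (hv : Versch.IsVerschiebung p R A v) (b : A) (s : FrobAlg.Twist p R) :
    v (FrobAlg.relFrob p R A (b ⊗ₜ s)) = SGA3b.powConv R A p b ⊗ₜ[R] s := by
  obtain ⟨n, e, ε, h⟩ := exists_dual_basis R A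
  rw [relFrob_tmul, map_mul, map_pow, versch_algebraMap p R A v hv, RingEquiv.apply_symm_apply,
    versch_apply p R A v hv n e ε h b, sum_pow_char, powConv_apply_eq p R A n e ε h b,
    TensorProduct.sum_tmul, Finset.sum_mul]
  apply Finset.sum_congr rfl
  intro i _
  rw [Algebra.TensorProduct.tmul_pow, Algebra.TensorProduct.tmul_mul_tmul, mul_one, ← map_pow,
    ← FrobAlg.algebraMap_twist, Algebra.algebraMap_eq_smul_one, smul_mul_assoc, one_mul,
    TensorProduct.tmul_smul, TensorProduct.smul_tmul', Algebra.smul_def, mul_comm]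

end final

end Groth.Agent.Lib.Helper59.VerschLib
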