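/-
Helper library (helper59): [m]∘[n] = [nm] for convolution powers, and V bijective + [p^n] trivial ⇒
a^(p^n) = 0 on the augmentation ideal.
-/
import Groth.Agent.Lib.Helper59.VerschLib2

set_option linter.unusedSectionVars false
set_option linter.unusedSimpArgs false
universe u
open TensorProduct WithConv

namespace Groth.Agent.Lib.Helper59.VerschLib

section powmul
variable (R : Type u) [CommRing R] (A : Type u) [CommRing A] [HopfAlgebra R A]
  [Coalgebra.IsCocomm R A]

lemma conv_pow_comp_coalgHom (f : WithConv (A →ₗ[R] A)) (h : A →ₗc[R] A) (m : ℕ) :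
    (f ^ m).ofConv ∘ₗ h.toLinearMap = ((toConv (f.ofConv ∘ₗ h.toLinearMap) :
      WithConv (A →ₗ[R] A)) ^ m).ofConv := by
  induction m with
  | zero =>
    rw [pow_zero, pow_zero]
    ext a
    simp
  | succ m ih =>
    rw [pow_succ, pow_succ, LinearMap.convMul_comp_coalgHom_distrib, ih]

lemma powConv_apply_eq_pow (n : ℕ) (a : A) :
    SGA3b.powConv R A n a = ((toConv (LinearMap.id : A →ₗ[R] A) : WithConv (A →ₗ[R] A)) ^ n) a := by
  have := AlgHom.toLinearMap_convPow (R := R) (toConv (AlgHom.id R A)) n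
  exact LinearMap.congr_fun (congrArg WithConv.ofConv this) a

lemma powConv_mul (m n : ℕ) (a : A) :
    SGA3b.powConv R A (n * m) a = SGA3b.powConv R A m (SGA3b.powConv R A n a) := by
  set B : A →ₐc[R] A := ((toConv (BialgHom.id R A) : WithConv (A →ₐc[R] A)) ^ n).ofConv with hB
  have hBlin : (toConv (B : A →ₗc[R] A).toLinearMap : WithConv (A →ₗ[R] A)) =
      (toConv (LinearMap.id : A →ₗ[R] A)) ^ n :=
    BialgHom.toLinearMap_convPow (R := R) (toConv (BialgHom.id R A)) n
  have h1 : ∀ a, SGA3b.powConv R A n a = (B : A →ₗc[R] A).toLinearMap a := by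
    intro a
    rw [powConv_apply_eq_pow, ← hBlin]
  rw [h1 a, powConv_apply_eq_pow, powConv_apply_eq_pow]
  have h2 := conv_pow_comp_coalgHom R A (toConv (LinearMap.id : A →ₗ[R] A)) (B : A →ₗc[R] A) m
  have h3 := LinearMap.congr_fun h2 a
  rw [LinearMap.comp_apply] at h3
  rw [pow_mul, ← hBlin]
  exact h3.symm

end powmul

section infinitesimal
variable (p : ℕ) [Fact p.Prime] (R : Type u) [CommRing R] [CharP R p]
  (A : Type u) [CommRing A] [HopfAlgebra R A] [Coalgebra.IsCocomm R A] [CharP A p]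
  [Module.Finite R A] [Module.Projective R A]

lemma counit_of_versch_eq (v : A →+* FrobAlg.BaseChange p R A)
    (hv : Versch.IsVerschiebung p R A v) (a' a'' : A)
    (ha' : Coalgebra.counit (R := R) a' = 0) (h : v a'' = a' ⊗ₜ[R] (1 : FrobAlg.Twist p R)) :
    Coalgebra.counit (R := R) a'' = 0 := by
  have h1 := (Versch.isVerschiebung_iff p R A v).mp hv a'' 1
  rw [h, Versch.evTw_tmul', one_pow, mul_one] at h1
  have h2 : ((1 : CartDual.D R A) a') = Coalgebra.counit (R := R) a' := rfl
  have h3 : ((1 : CartDual.D R A) a'') = Coalgebra.counit (R := R) a'' := rfl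
  rw [h2, h3, ha', zero_pow (Fact.out : p.Prime).ne_zero] at h1
  exact ((FrobAlg.toTwist p R).injective (h1.symm.trans (map_zero _).symm))

lemma exists_pow_eq_powConv (v : A →+* FrobAlg.BaseChange p R A)
    (hv : Versch.IsVerschiebung p R A v) (hsurj : Function.Surjective v) (m : ℕ) :
    ∀ a : A, Coalgebra.counit (R := R) a = 0 →
      ∃ a' : A, Coalgebra.counit (R := R) a' = 0 ∧ a ^ (p ^ m) = SGA3b.powConv R A (p ^ m) a' := by
  induction m with
  | zero =>
    intro a ha
    refine ⟨a, ha, ?_⟩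
    rw [pow_zero, pow_one, powConv_apply_eq_pow, pow_one]
    rfl
  | succ m ih =>
    intro a ha
    obtain ⟨a', ha', h1⟩ := ih a ha
    obtain ⟨a'', ha''⟩ := hsurj (a' ⊗ₜ[R] (1 : FrobAlg.Twist p R))
    refine ⟨a'', counit_of_versch_eq p R A v hv a' a'' ha' ha'', ?_⟩
    have h2 : a' ^ p = SGA3b.powConv R A p a'' := by
      have h3 := RingHom.congr_fun (relFrob_comp_versch p R A v hv) a''
      rw [RingHom.comp_apply, ha'', relFrob_tmul, map_one, map_one, mul_one] at h3
      exact h3
    rw [pow_succ, pow_mul, h1, ← map_pow, h2, ← powConv_mul, mul_comm]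

theorem pow_eq_zero_of_counit_eq_zero (v : A →+* FrobAlg.BaseChange p R A)
    (hv : Versch.IsVerschiebung p R A v) (hsurj : Function.Surjective v) (n : ℕ)
    (hn : SGA3b.powConv R A (p ^ n) = (Algebra.ofId R A).comp (Bialgebra.counitAlgHom R A))
    (a : A) (ha : Coalgebra.counit (R := R) a = 0) : a ^ (p ^ n) = 0 := by
  obtain ⟨a', ha', h1⟩ := exists_pow_eq_powConv p R A v hv hsurj n a ha
  rw [h1, hn]
  change algebraMap R A (Coalgebra.counit (R := R) a') = 0
  rw [ha', map_zero]

end infinitesimal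

end Groth.Agent.Lib.Helper59.VerschLib
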