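import Mathlib

/-!
# Witt addition is coordinatewise modulo terms of degree `≥ p` in the lower variables

`WittVector.wittAdd p n - X (0,n) - X (1,n)` only involves monomials of degree `≥ p` in the variables
`X (j, i)`, `i < n`.  Consequently, over a ring of characteristic `p` whose elements are totally
ordered by divisibility (e.g. a quotient of a valuation ring), Witt vectors killed by Frobenius
add coordinatewise.
-/

set_option autoImplicit false
universe u
open MvPolynomial

namespace Groth.Agent.Lib.Helper59.WittLow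

abbrev σ := Fin 2 × ℕ

/-- the finite set of low variables -/
def L (n : ℕ) : Finset σ := Finset.univ ×ˢ Finset.range n

/-- degree in the low variables -/
def lowdeg (n : ℕ) (d : σ →₀ ℕ) : ℕ := ∑ v ∈ L n, d v

lemma lowdeg_add (n : ℕ) (d d' : σ →₀ ℕ) : lowdeg n (d + d') = lowdeg n d + lowdeg n d' := by
  simp [lowdeg, Finset.sum_add_distrib]

lemma L_mono {i n : ℕ} (h : i ≤ n) : L i ⊆ L n := by
  intro v hv
  simp only [L, Finset.mem_product, Finset.mem_univ, Finset.mem_range, true_and] at hv ⊢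
  omega

lemma lowdeg_mono {i n : ℕ} (h : i ≤ n) (d : σ →₀ ℕ) : lowdeg i d ≤ lowdeg n d :=
  Finset.sum_le_sum_of_subset (L_mono h)

/-- polynomials all of whose monomials have low degree `≥ a` -/
noncomputable def Fil (n a : ℕ) : Submodule ℤ (MvPolynomial σ ℤ) :=
  MvPolynomial.restrictSupport ℤ {d | a ≤ lowdeg n d}

lemma mem_Fil {n a : ℕ} {f : MvPolynomial σ ℤ} :
    f ∈ Fil n a ↔ ∀ d ∈ f.support, a ≤ lowdeg n d := by
  unfold Fil
  rw [MvPolynomial.mem_restrictSupport_iff]
  rfl

lemma Fil_anti {n a b : ℕ} (h : a ≤ b) : Fil n b ≤ Fil n a := by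
  intro f hf
  rw [mem_Fil] at hf ⊢
  exact fun d hd => h.trans (hf d hd)

lemma Fil_mono {i n a : ℕ} (h : i ≤ n) : Fil i a ≤ Fil n a := by
  intro f hf
  rw [mem_Fil] at hf ⊢
  exact fun d hd => (hf d hd).trans (lowdeg_mono h d)

lemma Fil_mul {n a b : ℕ} {f g : MvPolynomial σ ℤ} (hf : f ∈ Fil n a) (hg : g ∈ Fil n b) :
    f * g ∈ Fil n (a + b) := by
  classical
  rw [mem_Fil] at hf hg ⊢
  intro d hd
  have := MvPolynomial.support_mul f g hd
  rw [Finset.mem_add] at this
  obtain ⟨d1, h1, d2, h2, rfl⟩ := this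
  rw [lowdeg_add]
  exact Nat.add_le_add (hf d1 h1) (hg d2 h2)

lemma one_mem_Fil (n : ℕ) : (1 : MvPolynomial σ ℤ) ∈ Fil n 0 := by
  rw [mem_Fil]
  intro d _
  exact Nat.zero_le _

lemma Fil_pow {n : ℕ} {f : MvPolynomial σ ℤ} (hf : f ∈ Fil n 1) (q : ℕ) : f ^ q ∈ Fil n q := by
  induction q with
  | zero => simpa using one_mem_Fil n
  | succ q ih =>
    rw [pow_succ]
    exact Fil_mul ih hf

lemma X_mem_Fil {n : ℕ} {v : σ} (hv : v.2 < n) : (X v : MvPolynomial σ ℤ) ∈ Fil n 1 := by
  classical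
  rw [mem_Fil]
  intro d hd
  rw [MvPolynomial.support_X, Finset.mem_singleton] at hd
  subst hd
  unfold lowdeg
  have hvL : v ∈ L n := by
    simp only [L, Finset.mem_product, Finset.mem_univ, Finset.mem_range, true_and]
    exact hv
  calc 1 = (Finsupp.single v 1 : σ →₀ ℕ) v := by simp
    _ ≤ ∑ w ∈ L n, (Finsupp.single v 1 : σ →₀ ℕ) w :=
      Finset.single_le_sum (f := fun w => (Finsupp.single v 1 : σ →₀ ℕ) w)
        (fun _ _ => Nat.zero_le _) hvL

lemma C_mul_mem_Fil {n a : ℕ} (c : ℤ) {f : MvPolynomial σ ℤ} (hf : f ∈ Fil n a) :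
    C c * f ∈ Fil n a := by
  rw [MvPolynomial.C_mul']
  exact Submodule.smul_mem _ _ hf

lemma Fil_saturated {n a : ℕ} {c : ℤ} (hc : c ≠ 0) {f : MvPolynomial σ ℤ}
    (hf : C c * f ∈ Fil n a) : f ∈ Fil n a := by
  rw [MvPolynomial.C_mul'] at hf
  rw [mem_Fil] at hf ⊢
  rwa [MvPolynomial.support_smul_eq hc] at hf

variable (p : ℕ) [hp : Fact p.Prime]

/-- the defining identity of the Witt addition polynomials -/
lemma wittAdd_identity (n : ℕ) :
    ∑ i ∈ Finset.range (n + 1), C ((p : ℤ) ^ i) * (WittVector.wittAdd p i) ^ p ^ (n - i) =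
      ∑ i ∈ Finset.range (n + 1), C ((p : ℤ) ^ i) * (X ((0 : Fin 2), i)) ^ p ^ (n - i) +
        ∑ i ∈ Finset.range (n + 1), C ((p : ℤ) ^ i) * (X ((1 : Fin 2), i)) ^ p ^ (n - i) := by
  have h := wittStructureInt_prop p (X (0 : Fin 2) + X 1 : MvPolynomial (Fin 2) ℤ) n
  rw [wittPolynomial_eq_sum_C_mul_X_pow] at h
  simp only [map_sum, map_mul, map_pow, bind₁_X_right, bind₁_C_right, map_add, rename_X,
    algHom_C, algebraMap_int_eq, map_natCast] at h
  simp only [map_pow, map_natCast]
  exact h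

lemma pow_ge (n i : ℕ) (h : i < n) : p ≤ p ^ (n - i) := by
  have h1 : 1 ≤ n - i := by omega
  calc p = p ^ 1 := (pow_one p).symm
    _ ≤ p ^ (n - i) := Nat.pow_le_pow_right hp.out.pos h1

/-- key statement: the Witt sum polynomial minus the naive sum lies in `Fil n p` -/
theorem wittAdd_sub_mem (n : ℕ) :
    WittVector.wittAdd p n - X ((0 : Fin 2), n) - X ((1 : Fin 2), n) ∈ Fil n p := by
  induction n using Nat.strong_induction_on with
  | _ n ih =>
    have hS : ∀ i, i < n → WittVector.wittAdd p i ∈ Fil n 1 := by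
      intro i hi
      have h1 := Fil_anti hp.out.one_le (Fil_mono hi.le (ih i hi))
      have h2 : WittVector.wittAdd p i = (WittVector.wittAdd p i - X ((0 : Fin 2), i) - X ((1 : Fin 2), i)) +
          X ((0 : Fin 2), i) + X ((1 : Fin 2), i) := by ring
      rw [h2]
      exact Submodule.add_mem _ (Submodule.add_mem _ h1 (X_mem_Fil hi)) (X_mem_Fil hi)
    have hid := wittAdd_identity p n
    rw [Finset.sum_range_succ, Finset.sum_range_succ, Finset.sum_range_succ, Nat.sub_self,
      pow_zero, pow_one, pow_one, pow_one] at hid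
    have key : C ((p : ℤ) ^ n) * (WittVector.wittAdd p n - X ((0 : Fin 2), n) - X ((1 : Fin 2), n)) =
        ∑ i ∈ Finset.range n, C ((p : ℤ) ^ i) *
          ((X ((0 : Fin 2), i)) ^ p ^ (n - i) + (X ((1 : Fin 2), i)) ^ p ^ (n - i) -
            (WittVector.wittAdd p i) ^ p ^ (n - i)) := by
      have : ∑ i ∈ Finset.range n, C ((p : ℤ) ^ i) *
          ((X ((0 : Fin 2), i)) ^ p ^ (n - i) + (X ((1 : Fin 2), i)) ^ p ^ (n - i) -
            (WittVector.wittAdd p i) ^ p ^ (n - i)) =
          ∑ i ∈ Finset.range n, C ((p : ℤ) ^ i) * (X ((0 : Fin 2), i)) ^ p ^ (n - i) +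
            ∑ i ∈ Finset.range n, C ((p : ℤ) ^ i) * (X ((1 : Fin 2), i)) ^ p ^ (n - i) -
              ∑ i ∈ Finset.range n, C ((p : ℤ) ^ i) * (WittVector.wittAdd p i) ^ p ^ (n - i) := by
        rw [← Finset.sum_add_distrib, ← Finset.sum_sub_distrib]
        refine Finset.sum_congr rfl fun i _ => ?_
        ring
      rw [this]
      linear_combination hid
    apply Fil_saturated (c := (p : ℤ) ^ n) (pow_ne_zero _ (by exact_mod_cast hp.out.ne_zero))
    rw [key]
    refine Submodule.sum_mem _ fun i hi => ?_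
    rw [Finset.mem_range] at hi
    apply C_mul_mem_Fil
    have hq := pow_ge p n i hi
    refine Submodule.sub_mem _ (Submodule.add_mem _ ?_ ?_) ?_
    · exact Fil_anti hq (Fil_pow (X_mem_Fil hi) _)
    · exact Fil_anti hq (Fil_pow (X_mem_Fil hi) _)
    · exact Fil_anti hq (Fil_pow (hS i hi) _)

/-! ### evaluation -/

section eval
variable {A : Type u} [CommRing A]

/-- in a ring whose elements are totally ordered by divisibility, a finite nonempty family has a
member dividing all the others -/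
lemma exists_dvd_all (hchain : ∀ x y : A, x ∣ y ∨ y ∣ x) {ι : Type*} (x : ι → A)
    (s : Finset ι) (hs : s.Nonempty) : ∃ i₀ ∈ s, ∀ i ∈ s, x i₀ ∣ x i := by
  induction hs using Finset.Nonempty.cons_induction with
  | singleton a => exact ⟨a, Finset.mem_singleton_self a, fun i hi => by
      rw [Finset.mem_singleton] at hi; rw [hi]⟩
  | cons a s ha hs ih =>
    obtain ⟨i₀, hi₀, h⟩ := ih
    rcases hchain (x a) (x i₀) with h1 | h1
    · refine ⟨a, Finset.mem_cons_self a s, fun i hi => ?_⟩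
      rw [Finset.mem_cons] at hi
      rcases hi with rfl | hi
      · exact dvd_rfl
      · exact h1.trans (h i hi)
    · refine ⟨i₀, Finset.mem_cons_of_mem hi₀, fun i hi => ?_⟩
      rw [Finset.mem_cons] at hi
      rcases hi with rfl | hi
      · exact h1
      · exact h i hi

lemma prod_pow_eq_zero (hchain : ∀ x y : A, x ∣ y ∨ y ∣ x) {ι : Type*} [DecidableEq ι]
    (x : ι → A) (e : ι → ℕ) (s : Finset ι) (q : ℕ) (hq : 1 ≤ q)
    (hx : ∀ i ∈ s, x i ^ q = 0) (hsum : q ≤ ∑ i ∈ s, e i) : ∏ i ∈ s, x i ^ e i = 0 := by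
  set s' := s.filter (fun i => 0 < e i) with hs'
  have hsum' : ∑ i ∈ s', e i = ∑ i ∈ s, e i := by
    rw [hs', Finset.sum_filter]
    refine Finset.sum_congr rfl fun i _ => ?_
    split_ifs with h
    · rfl
    · omega
  have hprod' : ∏ i ∈ s', x i ^ e i = ∏ i ∈ s, x i ^ e i := by
    rw [hs', Finset.prod_filter]
    refine Finset.prod_congr rfl fun i _ => ?_
    split_ifs with h
    · rfl
    · have : e i = 0 := by omega
      rw [this, pow_zero]
  have hne : s'.Nonempty := by
    by_contra h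
    rw [Finset.not_nonempty_iff_eq_empty] at h
    rw [h, Finset.sum_empty] at hsum'
    omega
  obtain ⟨i₀, hi₀, hdiv⟩ := exists_dvd_all hchain x s' hne
  choose! r hr using hdiv
  rw [← hprod']
  have : ∏ i ∈ s', x i ^ e i = x i₀ ^ (∑ i ∈ s', e i) * ∏ i ∈ s', r i ^ e i := by
    rw [← Finset.prod_pow_eq_pow_sum, ← Finset.prod_mul_distrib]
    refine Finset.prod_congr rfl fun i hi => ?_
    rw [← mul_pow, ← hr i hi]
  rw [this]
  have hi₀s : i₀ ∈ s := (Finset.mem_filter.1 hi₀).1
  have : x i₀ ^ (∑ i ∈ s', e i) = 0 := by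
    rw [hsum']
    obtain ⟨c, hc⟩ := Nat.exists_eq_add_of_le hsum
    rw [hc, pow_add, hx i₀ hi₀s, zero_mul]
  rw [this, zero_mul]

/-- evaluation kills `Fil n q` when the low variables go to elements with vanishing `q`-th power -/
lemma aeval_eq_zero (hchain : ∀ x y : A, x ∣ y ∨ y ∣ x) (n q : ℕ) (hq : 1 ≤ q) (φ : σ → A)
    (hφ : ∀ v : σ, v.2 < n → φ v ^ q = 0) {f : MvPolynomial σ ℤ} (hf : f ∈ Fil n q) :
    aeval φ f = 0 := by
  classical
  rw [aeval_def, eval₂_eq]
  refine Finset.sum_eq_zero fun d hd => ?_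
  rw [mem_Fil] at hf
  have hdeg := hf d hd
  have h1 : ∏ i ∈ d.support, φ i ^ d i = ∏ i ∈ d.support ∪ L n, φ i ^ d i := by
    refine Finset.prod_subset Finset.subset_union_left fun i _ hi => ?_
    rw [Finsupp.notMem_support_iff] at hi
    rw [hi, pow_zero]
  have h2 := Finset.prod_sdiff (f := fun i => φ i ^ d i)
    (Finset.subset_union_right : L n ⊆ d.support ∪ L n)
  have h3 : ∏ i ∈ L n, φ i ^ d i = 0 := by
    refine prod_pow_eq_zero hchain φ d (L n) q hq ?_ hdeg
    intro v hv
    simp only [L, Finset.mem_product, Finset.mem_univ, Finset.mem_range, true_and] at hv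
    exact hφ v hv
  rw [h1, ← h2, h3, mul_zero, mul_zero]

variable [CharP A p]

/-- Witt vectors killed by Frobenius add coordinatewise in a chain ring of characteristic `p` -/
theorem add_coeff_of_frobenius_eq_zero (hchain : ∀ x y : A, x ∣ y ∨ y ∣ x)
    (a b : WittVector p A) (ha : WittVector.frobenius a = 0) (hb : WittVector.frobenius b = 0)
    (n : ℕ) : (a + b).coeff n = a.coeff n + b.coeff n := by
  have ha' : ∀ i, a.coeff i ^ p = 0 := by
    intro i
    rw [← WittVector.coeff_frobenius_charP, ha, WittVector.zero_coeff]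
  have hb' : ∀ i, b.coeff i ^ p = 0 := by
    intro i
    rw [← WittVector.coeff_frobenius_charP, hb, WittVector.zero_coeff]
  rw [WittVector.add_coeff, WittVector.peval]
  set φ : σ → A := Function.uncurry ![a.coeff, b.coeff] with hφ
  have hφp : ∀ v : σ, φ v ^ p = 0 := by
    rintro ⟨j, i⟩
    fin_cases j
    · exact ha' i
    · exact hb' i
  have hdecomp : WittVector.wittAdd p n = (WittVector.wittAdd p n - X ((0 : Fin 2), n) - X ((1 : Fin 2), n)) +
      X ((0 : Fin 2), n) + X ((1 : Fin 2), n) := by ring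
  rw [hdecomp, map_add, map_add,
    aeval_eq_zero hchain n p hp.out.one_le φ (fun v _ => hφp v) (wittAdd_sub_mem p n), zero_add,
    aeval_X, aeval_X]
  rfl

end eval

end Groth.Agent.Lib.Helper59.WittLow
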